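import Cfsg.Statements.S2477
import Cfsg.Agent.Lib.Spec.AltSpectrum

set_option autoImplicit false
open Cfsg

namespace Cfsg.Agent.S2477

/-- pairs (lcm, parity) of the cycle types of total length at most `k` -/
def table : List (List (ℕ × ℕ)) :=
  [[(1, 0)],
   [(1, 0)],
   [(1, 0), (2, 1)],
   [(1, 0), (2, 1), (3, 0)],
   [(1, 0), (2, 0), (2, 1), (3, 0), (4, 1)],
   [(1, 0), (2, 0), (2, 1), (3, 0), (4, 1), (5, 0), (6, 1)],
   [(1, 0), (2, 0), (2, 1), (3, 0), (4, 0), (4, 1), (5, 0), (6, 1)],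
   [(1, 0), (2, 0), (2, 1), (3, 0), (4, 0), (4, 1), (5, 0), (6, 0), (6, 1), (7, 0), (10, 1), (12, 1)],
   [(1, 0), (2, 0), (2, 1), (3, 0), (4, 0), (4, 1), (5, 0), (6, 0), (6, 1), (7, 0), (8, 1), (10, 1), (12, 1), (15, 0)],
   [(1, 0), (2, 0), (2, 1), (3, 0), (4, 0), (4, 1), (5, 0), (6, 0), (6, 1), (7, 0), (8, 1), (9, 0), (10, 0), (10, 1), (12, 0), (12, 1), (14, 1), (15, 0), (20, 1)],
   [(1, 0), (2, 0), (2, 1), (3, 0), (4, 0), (4, 1), (5, 0), (6, 0), (6, 1), (7, 0), (8, 0), (8, 1), (9, 0), (10, 0), (10, 1), (12, 0), (12, 1), (14, 1), (15, 0), (20, 1), (21, 0), (30, 1)]]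


/-- The set of element orders of the alternating group of degree 10 is {1, 2, 3, 4, 5, 6, 7, 8, 9, 10, 12, 15, 21}. -/
theorem result : Set.range (orderOf : alternatingGroup (Fin 10) → ℕ) = {1, 2, 3, 4, 5, 6, 7, 8, 9, 10, 12, 15, 21} := by
  ext k
  rw [CfsgLib.Spec.mem_spectrum_alt_iff]
  constructor
  · rintro ⟨m, h1, h2, h3, rfl⟩
    have h := CfsgLib.Spec.mem_table_of_closed 10 (fun k => table.getD k []) (by decide +kernel) (by decide +kernel)
      m h2 10 le_rfl h1
    rw [Nat.even_iff.1 h3] at h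
    have key : ∀ x ∈ table.getD 10 [], x.2 = 0 →
        x.1 ∈ ({1, 2, 3, 4, 5, 6, 7, 8, 9, 10, 12, 15, 21} : Finset ℕ) := by decide +kernel
    have := key _ h rfl
    simpa using this
  · intro hk
    simp only [Set.mem_insert_iff, Set.mem_singleton_iff] at hk
    rcases hk with rfl | rfl | rfl | rfl | rfl | rfl | rfl | rfl | rfl | rfl | rfl | rfl | rfl
    · exact ⟨(0 : Multiset ℕ), by decide, by decide, by decide, by decide⟩
    · exact ⟨({2, 2} : Multiset ℕ), by decide, by decide, by decide, by decide⟩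
    · exact ⟨({3} : Multiset ℕ), by decide, by decide, by decide, by decide⟩
    · exact ⟨({4, 2} : Multiset ℕ), by decide, by decide, by decide, by decide⟩
    · exact ⟨({5} : Multiset ℕ), by decide, by decide, by decide, by decide⟩
    · exact ⟨({3, 2, 2} : Multiset ℕ), by decide, by decide, by decide, by decide⟩
    · exact ⟨({7} : Multiset ℕ), by decide, by decide, by decide, by decide⟩
    · exact ⟨({8, 2} : Multiset ℕ), by decide, by decide, by decide, by decide⟩
    · exact ⟨({9} : Multiset ℕ), by decide, by decide, by decide, by decide⟩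
    · exact ⟨({5, 2, 2} : Multiset ℕ), by decide, by decide, by decide, by decide⟩
    · exact ⟨({4, 3, 2} : Multiset ℕ), by decide, by decide, by decide, by decide⟩
    · exact ⟨({5, 3} : Multiset ℕ), by decide, by decide, by decide, by decide⟩
    · exact ⟨({7, 3} : Multiset ℕ), by decide, by decide, by decide, by decide⟩

end Cfsg.Agent.S2477
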