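import Cfsg.Statements.S0447
import Mathlib
import Cfsg.Agent.Lib.AltCover.Mult
import Cfsg.Agent.Lib.AltCover.Spin

set_option autoImplicit false
open Cfsg

namespace Cfsg.Agent.S0447

open CfsgLib.AltCover CfsgLib.Schur Equiv Equiv.Perm

theorem sq_four {G : Type*} [Group G] [HasDistribNeg G] {a b c d : G} (ha : a * a = 1)
    (hb : b * b = 1) (hc : c * c = 1) (hd : d * d = 1) (h1 : a * b = -(b * a))
    (h2 : a * c = -(c * a)) (h3 : a * d = -(d * a)) (h4 : b * c = -(c * b))
    (h5 : b * d = -(d * b)) (h6 : c * d = -(d * c)) : (a * b * (c * d)) ^ 2 = 1 := by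
  have e : ∀ {x : G}, x * c = -(c * x) → x * d = -(d * x) → Commute x (c * d) := by
    intro x h h'
    show x * (c * d) = c * d * x
    rw [← mul_assoc, h, neg_mul, mul_assoc, h', mul_neg, neg_neg, mul_assoc]
  have f : ∀ {x y : G}, x * x = 1 → y * y = 1 → x * y = -(y * x) → (x * y) ^ 2 = -1 := by
    intro x y hx hy h
    rw [sq]
    nth_rewrite 1 [h]
    rw [neg_mul, mul_assoc, ← mul_assoc x, hx, one_mul, hy]
  rw [((e h2 h3).mul_left (e h4 h5)).mul_pow, f ha hb h1, f hc hd h6]
  simp

theorem cycleType_eq {α : Type*} [Fintype α] [DecidableEq α] (h : Fintype.card α ≤ 7) {t : Perm α}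
    (h2 : t ^ 2 = 1) (h1 : t ≠ 1) (hs : sign t = 1) :
    4 ≤ Fintype.card α ∧ t.cycleType = {2, 2} := by
  have ho : orderOf t = 2 := orderOf_eq_prime h2 h1
  obtain ⟨k, hk⟩ := cycleType_prime_order (by rw [ho]; exact Nat.prime_two)
  rw [ho] at hk
  have h3 := sum_cycleType_le t
  rw [sign_of_cycleType] at hs
  rw [hk] at h3 hs
  simp only [Multiset.sum_replicate, smul_eq_mul, Multiset.card_replicate] at h3 hs
  have hk1 : k = 1 := by
    have : k ≤ 2 := by omega
    interval_cases k
    · exfalso; revert hs; decide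
    · rfl
    · exfalso; revert hs; decide
  subst hk1
  exact ⟨by omega, hk⟩

theorem exists_conj_X {m : ℕ} (hm : 3 ≤ m) (t : alternatingGroup (Fin (m + 1)))
    (h : (t : Perm (Fin (m + 1))).cycleType = {2, 2}) : ∃ g, g * t * g⁻¹ = X m 2 := by
  have hc : (s m 0 * s m 2).cycleType = {2, 2} := by
    rw [Disjoint.cycleType_mul, s, s,
      (isSwap_iff_cycleType.1 (swap_isSwap_iff.2 (P_ne (by omega) (by omega) (by omega)))),
      (isSwap_iff_cycleType.1 (swap_isSwap_iff.2 (P_ne (by omega) (by omega) (by omega))))]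
    · rfl
    · apply disjoint_swap_swap
      simp only [List.nodup_cons, List.mem_cons, List.not_mem_nil, or_false, not_or,
        not_false_eq_true, List.nodup_nil, and_true]
      refine ⟨⟨?_, ?_, ?_⟩, ⟨?_, ?_⟩, ?_⟩ <;> exact P_ne (by omega) (by omega) (by omega)
  obtain ⟨g, hg⟩ := isConj_iff.1 (isConj_of_cycleType_eq (h.trans hc.symm))
  rcases Int.units_eq_one_or (sign g) with h1 | h1
  · exact ⟨⟨g, h1⟩, Subtype.ext (hg.trans (coe_X (by omega)).symm)⟩
  · refine ⟨⟨s m 0 * g, by rw [mem_alternatingGroup, map_mul, h1, sign_s (by omega)]; simp⟩,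
      Subtype.ext ?_⟩
    rw [coe_X (by omega)]
    show s m 0 * g * t * (s m 0 * g)⁻¹ = _
    rw [show s m 0 * g * t * (s m 0 * g)⁻¹ = s m 0 * (g * t * g⁻¹) * (s m 0)⁻¹ by group, hg,
      (s_comm (i := 0) (j := 2) (by omega) (by omega)).eq, ← mul_assoc, mul_inv_cancel_right,
      (s_comm (i := 0) (j := 2) (by omega) (by omega)).eq]


/-- Involutions in double covers of alternating groups: for n ≤ 7, a finite non-split double cover of the alternating group of degree n has exactly one element of order 2 (the central one); for degree 8 there is a non-split double cover with two distinct involutions. -/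
theorem result : (∀ (n : ℕ) (H : Type) (_ : Group H) (_ : Finite H), n ≤ 7 → Cfsg.IsNonsplitDoubleCover H (alternatingGroup (Fin n)) → ∀ x y : H, orderOf x = 2 → orderOf y = 2 → x = y) ∧ ∃ (H : Type) (_ : Group H) (_ : Finite H), Cfsg.IsNonsplitDoubleCover H (alternatingGroup (Fin 8)) ∧ ∃ x y : H, x ≠ y ∧ orderOf x = 2 ∧ orderOf y = 2 := by
  constructor
  · intro n H _ _ hn ⟨hZ, ⟨e⟩, hns⟩
    let σ : H →* alternatingGroup (Fin n) := e.toMonoidHom.comp (QuotientGroup.mk' _)
    have hk : σ.ker = Subgroup.center H := by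
      rw [← MonoidHom.comap_ker, MonoidHom.ker_eq_bot _ e.injective, MonoidHom.comap_bot,
        QuotientGroup.ker_mk']
    have hσ : IsCentralExt σ := ⟨e.surjective.comp (QuotientGroup.mk'_surjective _), hk.le⟩
    have hZ2 : ∀ z, σ z = 1 → z ^ 2 = 1 := fun z hz => by
      have : (⟨z, hk.le hz⟩ : Subgroup.center H) ^ 2 = 1 := by rw [← hZ, pow_card_eq_one']
      exact congrArg Subtype.val this
    have key : ∀ x : H, orderOf x = 2 → x ∈ Subgroup.center H := by
      intro x hx
      rw [← hk]
      by_contra hne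
      have hx2 : x ^ 2 = 1 := hx ▸ pow_orderOf_eq_one x
      have ht : ((σ x : Perm (Fin n))) ^ 2 = 1 := by
        rw [← Subgroup.coe_pow, ← map_pow, hx2, map_one]; rfl
      have ht1 : (σ x : Perm (Fin n)) ≠ 1 := fun h => hne (Subtype.ext h)
      obtain ⟨h4, hc⟩ := cycleType_eq (by simpa using hn) ht ht1 (σ x).2
      obtain ⟨m, rfl⟩ : ∃ m, n = m + 1 := ⟨n - 1, by simp at h4; omega⟩
      have hm : 3 ≤ m := by simpa using h4
      have hZ3 : NoTors σ 3 := fun z hz h =>
        eq_one_of_prim (p := 2) (q := 3) (k := 1) (l := 1) (by norm_num) (hZ2 z hz) h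
      obtain ⟨u, v, hu, hv⟩ := exists_isV_pair hm hσ hZ3
      obtain ⟨g, hg⟩ := exists_conj_X hm (σ x) hc
      obtain ⟨g, rfl⟩ := hσ.surj g
      have h1 : σ ((u⁻¹ * v * u⁻¹)⁻¹ * (g * x * g⁻¹)) = 1 := by
        rw [map_mul, map_inv, hu.word_X le_rfl (by omega) hv, map_mul, map_mul, map_inv, hg,
          inv_mul_cancel]
      have h2 := (show Commute (u⁻¹ * v * u⁻¹) _ from hσ.comm h1 _).mul_pow 2
      rw [mul_inv_cancel_left, conj_pow, hx2, hZ2 _ h1, hu.word_sq hσ hm hv] at h2
      obtain ⟨s, hs⟩ := exists_section_three hm hσ hZ3 hu hv (by simpa using h2.symm)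
      apply hns s.range
      have hs' : ∀ y, σ (s y) = y := fun y => DFunLike.congr_fun hs y
      rw [← hk]
      apply Subgroup.isComplement'_of_disjoint_and_mul_eq_univ
      · rw [Subgroup.disjoint_def]
        rintro _ h ⟨y, rfl⟩
        rw [show y = 1 from (hs' y).symm.trans h, map_one]
      · rw [Set.eq_univ_iff_forall]
        intro y
        refine ⟨y * (s (σ y))⁻¹, ?_, s (σ y), ⟨_, rfl⟩, by simp⟩
        show σ _ = 1
        rw [map_mul, map_inv, hs', mul_inv_cancel]
    intro x y hx hy
    obtain ⟨w, -, hw⟩ := (Nat.card_eq_two_iff' (1 : Subgroup.center H)).1 hZ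
    have h1 := hw ⟨x, key x hx⟩ (fun h => by
      rw [show x = 1 from congrArg Subtype.val h] at hx; simp at hx)
    have h2 := hw ⟨y, key y hy⟩ (fun h => by
      rw [show y = 1 from congrArg Subtype.val h] at hy; simp at hy)
    exact congrArg Subtype.val (h1.trans h2.symm)
  · have hc : (spinMap (Fin 8)).ker = Subgroup.center (Spin (Fin 8)) := by
      refine le_antisymm spin_central.central fun x hx => ?_
      have : spinMap (Fin 8) x ∈ Subgroup.center (alternatingGroup (Fin 8)) := by
        rw [Subgroup.mem_center_iff]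
        intro g
        obtain ⟨g, rfl⟩ := spin_central.surj g
        rw [← map_mul, ← map_mul, Subgroup.mem_center_iff.1 hx]
      rwa [alternatingGroup.center_eq_bot (by simp)] at this
    have hz : spinZ (Fin 8) ∈ Subgroup.center (Spin (Fin 8)) := by
      rw [← hc, spin_ker]; exact Subgroup.mem_zpowers _
    have hz1 : spinZ (Fin 8) ≠ 1 := fun h => by
      have := orderOf_spinZ (α := Fin 8)
      rw [h] at this; simp at this
    refine ⟨Spin (Fin 8), inferInstance, inferInstance, ⟨by rw [← hc, card_spin_ker],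
      ⟨(QuotientGroup.quotientMulEquivOfEq hc.symm).trans
        (QuotientGroup.quotientKerEquivOfSurjective _ spin_central.surj)⟩, fun L hL => ?_⟩,
      spinZ _, el (i := 0) (j := 1) (k := 2) (l := 3) (by decide) (by decide) *
        el (i := 4) (j := 5) (k := 6) (l := 7) (by decide) (by decide), ?_, orderOf_spinZ, ?_⟩
    · have h1 := commutator_eq_of_sup_center (H := L) (fun x => by
        obtain ⟨⟨a, b⟩, h, -⟩ := hL.symm.existsUnique x
        exact ⟨a, a.2, by rw [← h, inv_mul_cancel_left]; exact b.2⟩)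
      have h2 := (spin_stem (α := Fin 8) (by simp)).2.2 (hc ▸ hz)
      rw [h1] at h2
      exact hz1 (Subgroup.disjoint_def.1 hL.disjoint hz (Subgroup.commutator_le_self L h2))
    · intro h
      have : (1 : Perm (Fin 8)) = swap 0 1 * swap 2 3 * (swap 4 5 * swap 6 7) :=
        congrArg (fun x => (spinMap (Fin 8) x : Perm (Fin 8))) h
      revert this; decide
    · apply orderOf_eq_prime
      · apply eq_of_snd
        · apply Subtype.ext
          show (swap (0 : Fin 8) 1 * swap 2 3 * (swap 4 5 * swap 6 7)) ^ 2 = 1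
          decide
        · exact sq_four (U_mul_self _ _) (U_mul_self _ _) (U_mul_self _ _) (U_mul_self _ _)
            (U_anti (by decide) (by decide) (by decide) (by decide) (by decide) (by decide))
            (U_anti (by decide) (by decide) (by decide) (by decide) (by decide) (by decide))
            (U_anti (by decide) (by decide) (by decide) (by decide) (by decide) (by decide))
            (U_anti (by decide) (by decide) (by decide) (by decide) (by decide) (by decide))
            (U_anti (by decide) (by decide) (by decide) (by decide) (by decide) (by decide))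
            (U_anti (by decide) (by decide) (by decide) (by decide) (by decide) (by decide))
      · intro h
        have : swap 0 1 * swap 2 3 * (swap 4 5 * swap 6 7) = (1 : Perm (Fin 8)) :=
          congrArg (fun x => (spinMap (Fin 8) x : Perm (Fin 8))) h
        revert this; decide

end Cfsg.Agent.S0447
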