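import Cfsg.Statements.S2470
import Cfsg.Agent.Lib.Spec.Adj

set_option autoImplicit false
open Cfsg

namespace Cfsg.Agent.S2470

open CfsgLib.Spec


/-- Adjacency of an odd prime and the characteristic in the prime graph of PSL(n,q): let F be a finite field of characteristic p with q elements, n ≥ 2 with PSL(n,F) simple, and let r ≠ p be an odd prime dividing the order of PSL(n,F), with k the multiplicative order of q modulo r. Then PSL(n,F) has NO element of order r·p if and only if either k > n − 2, or n = 3, r = 3 and 3 divides q − 1 exactly once. -/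
theorem result {F : Type*} [Field F] [Fintype F] (p : ℕ) [Fact p.Prime] [CharP F p] (n : ℕ) (hn : 2 ≤ n) (hsmall : n = 2 → 4 ≤ Fintype.card F)
    (r : ℕ) (hr : r.Prime) (hr2 : r ≠ 2) (hrp : r ≠ p) (hrG : r ∣ Nat.card (Matrix.ProjectiveSpecialLinearGroup (Fin n) F))
    (k : ℕ) (hk : k = orderOf ((Fintype.card F : ℕ) : ZMod r)) :
    (r * p ∉ Set.range (orderOf : Matrix.ProjectiveSpecialLinearGroup (Fin n) F → ℕ)) ↔
      (n - 2 < k ∨ (n = 3 ∧ r = 3 ∧ 3 ∣ Fintype.card F - 1 ∧ ¬ 9 ∣ Fintype.card F - 1)) := by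
  classical
  have hp : p.Prime := Fact.out
  let K := AlgebraicClosure F
  haveI : CharP K p := charP_of_injective_algebraMap (algebraMap F K).injective p
  have hpq := char_dvd_card F p
  have hq0 : Fintype.card F ≠ 0 := Fintype.card_ne_zero
  have hφ : Function.Injective fun a : K => a ^ ((Fintype.card F : ℕ) : ℤ) := zfrob_injective
  have he : (p : ℤ) ∣ (Fintype.card F : ℕ) := Int.natCast_dvd_natCast.2 hpq
  have hL := spectrum_psl_eq K p (F := F) n
  have hcop : Nat.Coprime r p := (Nat.coprime_primes hr hp).2 hrp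
  have hkr := (zmod_orderOf_dvd_iff hq0 r k).1 (hk ▸ dvd_rfl)
  have hk0 : 0 < k := hk ▸ orderOf_zmod_pos hr (not_dvd_card p hr hrp)
  have hq1 : 1 ≤ Fintype.card F := Fintype.card_pos
  have hp1 : ¬ p ∣ 1 := by simpa using hp.one_lt.ne'
  have hn1 : ∀ k, k ≠ 0 → ¬ p ∣ Fintype.card F ^ k - 1 := fun k hk => not_dvd_pow_sub_one hp hpq hq0 hk
  constructor
  · intro h
    by_contra hcon
    apply h
    rw [not_or, not_lt] at hcon
    obtain ⟨h1, h2⟩ := hcon
    by_cases h3 : 2 ≤ k
    · obtain ⟨S, e1, e2, e3, e4⟩ := exists_block (K := K) p he hφ h3 hkr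
        (isCoprime_of_two_le_orderOf hq0 hr (hk ▸ h3))
      obtain ⟨N, hN, hN1, hN'⟩ := exists_mem_omegaLU_pad (p := p) hφ (n := n) (by omega) e2 e3 (j := 1)
        (Or.inr (by simp; omega))
      exact mem_spectrum_of_dvd (hL ▸ hN) (hcop.mul_dvd_of_dvd_of_dvd (e4 N hN'.left) (by simpa using hN1))
    obtain rfl : k = 1 := by omega
    have h4 : r ∣ Fintype.card F - 1 := by simpa using (orderOf_zmod_dvd_iff hq0 r 1).1 (hk ▸ dvd_rfl)
    by_cases h5 : n = 3
    · subst h5
      rw [spectrum_psl_three p]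
      refine Or.inr (Or.inr (Or.inr (Or.inl ?_)))
      rw [Nat.mul_div_assoc _ (Nat.gcd_dvd_right _ _), mul_comm]
      apply Nat.mul_dvd_mul_left
      rw [Nat.dvd_div_iff_mul_dvd (Nat.gcd_dvd_right _ _)]
      by_cases h6 : r = 3
      · subst h6
        have h7 : 9 ∣ Fintype.card F - 1 := by tauto
        exact (Nat.mul_dvd_mul_right (Nat.gcd_dvd_left _ _) 3).trans h7
      · refine Nat.Coprime.mul_dvd_of_dvd_of_dvd ?_ (Nat.gcd_dvd_right _ _) h4
        exact Nat.Coprime.coprime_dvd_left (Nat.gcd_dvd_left _ _)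
          ((Nat.coprime_primes Nat.prime_three hr).2 (Ne.symm h6))
    · obtain ⟨ζ, hζ, hζ'⟩ := exists_zeta (K := K) he hr (by simpa using hkr)
      have hζ0 : ζ ≠ 0 := ne_zero_of_orderOf_pos (hζ ▸ hr.pos)
      have hζ1 : ζ ^ ((Fintype.card F : ℕ) : ℤ) = ζ := by simpa using hζ' 1 1
      obtain ⟨N, hN, hN1, hN'⟩ := exists_mem_omegaLU_pad (p := p) hφ (n := n)
        (S := Multiset.replicate 1 ζ + Multiset.replicate 1 ζ⁻¹) (by simp; omega)
        ((stab_replicate hφ hζ1 1).add (stab_replicate hφ (by simp only [inv_zpow, hζ1]) 1)) (by simp [hζ0])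
        (j := 1) (Or.inr (by simp; omega))
      refine mem_spectrum_of_dvd (hL ▸ hN) (hcop.mul_dvd_of_dvd_of_dvd ?_ (by simpa using hN1))
      have h6 := hN' ζ (by simp) 1 (Multiset.mem_add.2 (Or.inr (Multiset.mem_replicate.2 ⟨by simp; omega, rfl⟩)))
      rw [one_pow] at h6
      exact hζ ▸ orderOf_dvd_of_pow_eq_one h6
  · rintro (h1 | ⟨rfl, rfl, h1, h2⟩) h
    · by_cases h2 : n = 2
      · subst h2
        rw [spectrum_psl_two p] at h
        rcases h with h | h | h
        · have := Nat.le_of_dvd hp.pos h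
          have := hr.two_le
          have := hp.pos
          nlinarith
        · exact hn1 1 one_ne_zero (by
            simpa using ((dvd_mul_left p r).trans h).trans (Nat.div_dvd_of_dvd (Nat.gcd_dvd_right _ _)))
        · have h4 : Nat.gcd 2 (Fintype.card F - 1) ∣ Fintype.card F + 1 := by
            rw [show Fintype.card F + 1 = Fintype.card F - 1 + 2 by omega]
            exact dvd_add (Nat.gcd_dvd_right _ _) (Nat.gcd_dvd_left _ _)
          exact hp1 ((Nat.dvd_add_right hpq).1 (((dvd_mul_left p r).trans h).trans (Nat.div_dvd_of_dvd h4)))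
      · obtain ⟨d, hd, h3, h4⟩ := omegaLU_prime_char hφ (hL ▸ h) (mul_ne_zero hr.ne_zero hp.ne_zero) hr hrp
          (dvd_mul_right _ _) (dvd_mul_left _ _)
        have h6 := Nat.le_of_dvd hd (hk ▸ (zmod_orderOf_dvd_iff hq0 r d).2 h4)
        omega
    · rw [spectrum_psl_three p, Nat.gcd_eq_left h1] at h
      obtain ⟨t, ht⟩ := h1
      rcases h with h | h | h | h | ⟨rfl, h⟩
      · have h4 : 3 ∣ Fintype.card F ^ 2 + Fintype.card F + 1 :=
          ⟨3 * t ^ 2 + 3 * t + 1, by rw [show Fintype.card F = 3 * t + 1 by omega]; ring⟩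
        have h5 := ((dvd_mul_left p 3).trans h).trans (Nat.div_dvd_of_dvd h4)
        exact hp1 ((Nat.dvd_add_right (dvd_add (dvd_pow hpq two_ne_zero) hpq)).1 h5)
      · have h4 : 3 ∣ Fintype.card F ^ 2 - 1 :=
          (Dvd.intro _ ht.symm).trans (by simpa using Nat.sub_dvd_pow_sub_pow (Fintype.card F) 1 2)
        exact hn1 2 two_ne_zero (((dvd_mul_left p 3).trans h).trans (Nat.div_dvd_of_dvd h4))
      · exact hn1 1 one_ne_zero (by simpa using (dvd_mul_left p 3).trans h)
      · rw [ht, mul_left_comm, Nat.mul_div_cancel_left _ (by norm_num), mul_comm 3,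
          Nat.mul_dvd_mul_iff_left hp.pos] at h
        exact h2 (ht ▸ Nat.mul_dvd_mul_left 3 h)
      · norm_num at h

end Cfsg.Agent.S2470
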