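import Mathlib
import Cfsg.Statements.S0496
import Cfsg.Agent.Lib.SmallSimple.Check
-- import your own Cfsg.Agent.* helpers here

set_option autoImplicit false
open Cfsg

namespace Cfsg.Agent.S0496

/-- A non-abelian finite simple group of order at most 1092 has order 60, 168, 360, 504, 660 or 1092. -/
theorem result {G : Type*} [Group G] [Finite G] [IsSimpleGroup G]
    (hG : ¬ IsMulCommutative G) (h : Nat.card G ≤ 1092) :
    Nat.card G = 60 ∨ Nat.card G = 168 ∨ Nat.card G = 360 ∨ Nat.card G = 504 ∨ Nat.card G = 660 ∨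
      Nat.card G = 1092 := by
  simpa using CfsgLib.SmallSimple.mem_of_tsts hG (S := 33) (ex := [60, 168, 360, 504, 660, 1092])
    (i := 1) (cs :=
    [(3, 0), (3, 0), (3, 0), (3, 0), (5, 0), (3, 0), (7, 0), (3, 0), (3, 0), (5, 0), (11, 0), (3, 
    0), (13, 0), (7, 0), (0, 0), (3, 0), (17, 0), (3, 0), (19, 0), (5, 0), (3, 0), (11, 0), (23, 
    0), (3, 0), (5, 0), (13, 0), (3, 0), (7, 0), (29, 0), (3, 0), (31, 0), (3, 0), (11, 0), (17, 
    0), (7, 0), (3, 0), (37, 0), (19, 0), (3, 0), (5, 0), (41, 0), (0, 0), (43, 0), (11, 0), (5, 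
    0), (23, 0), (47, 0), (3, 0), (7, 0), (5, 0), (3, 0), (13, 0), (53, 0), (3, 0), (11, 0), (7, 
    0), (3, 0), (29, 0), (59, 0), (5, 0), (61, 0), (31, 0), (7, 0), (3, 0), (13, 0), (11, 0), (67, 
    0), (17, 0), (23, 0), (7, 0), (71, 0), (3, 0), (73, 0), (37, 0), (3, 0), (19, 0), (11, 0), (3, 
    0), (79, 0), (5, 0), (3, 0), (41, 0), (83, 0), (7, 0), (5, 0), (43, 0), (3, 0), (11, 0), (89, 
    0), (0, 0), (7, 0), (23, 0), (3, 0), (47, 0), (19, 0), (3, 0), (97, 0), (7, 0), (11, 0), (5, 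
    0), (101, 0), (3, 0), (103, 0), (13, 0), (7, 0), (53, 0), (107, 0), (3, 0), (109, 0), (11, 0), 
    (3, 0), (7, 0), (113, 0), (19, 0), (23, 0), (29, 0), (13, 0), (59, 0), (7, 0), (5, 0), (11, 0), 
    (61, 0), (3, 0), (31, 0), (5, 0), (0, 0), (127, 0), (3, 0), (3, 0), (13, 0), (131, 0), (11, 0), 
    (7, 0), (67, 0), (5, 0), (17, 0), (137, 0), (23, 0), (139, 0), (7, 0), (3, 0), (71, 0), (11, 
    0), (3, 0), (5, 0), (73, 0), (3, 0), (37, 0), (149, 0), (3, 0), (151, 0), (19, 0), (17, 0), 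
    (11, 0), (31, 0), (3, 0), (157, 0), (79, 0), (3, 0), (5, 0), (7, 0), (3, 0), (163, 0), (41, 0), 
    (0, 0), (83, 0), (167, 0), (7, 0), (13, 0), (5, 0), (19, 0), (43, 0), (173, 0), (29, 0), (7, 
    0), (11, 0), (3, 0), (89, 0), (179, 0), (5, 0), (181, 0), (7, 0), (3, 0), (23, 0), (5, 0), (31, 
    0), (11, 0), (47, 0), (7, 0), (19, 0), (191, 0), (3, 0), (193, 0), (97, 0), (5, 0), (7, 0), 
    (197, 0), (11, 0), (199, 0), (5, 0), (3, 0), (101, 0), (7, 0), (17, 0), (5, 0), (103, 0), (23, 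
    0), (13, 0), (11, 0), (7, 0), (211, 0), (53, 0), (3, 0), (107, 0), (43, 0), (3, 0), (7, 0), 
    (109, 0), (3, 0), (11, 0), (13, 0), (3, 0), (223, 0), (7, 0), (5, 2), (113, 0), (227, 0), (19, 
    0), (229, 0), (23, 0), (11, 0), (29, 0), (233, 0), (13, 0), (5, 0), (59, 0), (3, 0), (7, 0), 
    (239, 0), (5, 0), (241, 0), (11, 0), (3, 0), (61, 0), (5, 0), (3, 0), (19, 0), (31, 0), (3, 0), 
    (5, 0), (251, 0), (7, 0), (11, 0), (127, 0), (17, 0), (3, 0), (257, 0), (43, 0), (7, 0), (13, 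
    0), (29, 0), (131, 0), (263, 0), (11, 0), (5, 0), (7, 0), (3, 0), (67, 0), (269, 0), (5, 0), 
    (271, 0), (17, 0), (0, 0)])
    (by decide +kernel) (by have := Nat.card_pos (α := G); omega) (h.trans_lt (by decide +kernel))

end Cfsg.Agent.S0496
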