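import Cfsg.Statements.S4345
import Cfsg.Agent.Lib.Fgs.SylowNumber

set_option autoImplicit false
open Cfsg

namespace Cfsg.Agent.S4345

/-- Let G be a finite solvable group and p, ℓ primes. Then the largest power of ℓ dividing the number of Sylow p-subgroups of G is congruent to 1 modulo p. -/
theorem result {G : Type*} [Group G] [Finite G]
    (hG : Group.IsSolvable G) (p ℓ : ℕ) [Fact p.Prime] (hℓ : ℓ.Prime) :
    ℓ ^ (Nat.card (Sylow p G)).factorization ℓ ≡ 1 [MOD p] := by
  refine CfsgLib.Fgs.card_sylow_induction p (fun X _ => Group.IsSolvable X)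
    (fun X _ H _ => inferInstance) (fun X _ H _ _ => inferInstance)
    (fun n => ℓ ^ n.factorization ℓ ≡ 1 [MOD p]) (by simp [Nat.ModEq]) ?_
    (fun n _ h => h ℓ hℓ) ?_ G hG
  · intro a b ha hb h1 h2
    rw [Nat.factorization_mul ha hb, Finsupp.add_apply, pow_add]
    simpa using h1.mul h2
  · intro S _ _ hS hs
    have hc := IsSimpleGroup.comm_iff_isSolvable.2 hs
    let P : Sylow p S := default
    have : (P : Subgroup S).Normal := ⟨fun n hn g => by rwa [hc g n, mul_inv_cancel_right]⟩
    have := P.unique_of_normal this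
    rw [Nat.card_unique]
    simp [Nat.ModEq]

end Cfsg.Agent.S4345
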