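import Mathlib
import Cfsg.Statements.S3669
import Cfsg.Agent.S0493
import Cfsg.Agent.S0494
import Cfsg.Agent.S0253
import Cfsg.Agent.S4345
import Cfsg.Agent.Lib.SL2.PSL
import Cfsg.Agent.Lib.Char.Monomial

set_option autoImplicit false
open Cfsg

namespace Cfsg.Agent.S3669

theorem solv.{u} (n : ℕ) : ∀ (H : Type u) [Group H] [Finite H], Nat.card H = n →
    (n < 60 ∨ n = 60 ∧ ¬ IsSimpleGroup H) → Group.IsSolvable H := by
  induction n using Nat.strong_induction_on with
  | _ n ih =>
  intro H _ _ hn h
  cases subsingleton_or_nontrivial H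
  · infer_instance
  by_cases hs : IsSimpleGroup H
  · have h1 : IsCyclic H := by
      by_contra hc
      have := Cfsg.Agent.S0493.result hc (by omega)
      rcases h with h | h
      exacts [by omega, h.2 hs]
    exact Group.isSolvable_of_comm (IsCyclic.commGroup (α := H)).mul_comm
  · obtain ⟨N, hN, h1, h2⟩ : ∃ N : Subgroup H, N.Normal ∧ N ≠ ⊥ ∧ N ≠ ⊤ := by
      by_contra! hc
      exact hs ⟨fun N hN => or_iff_not_imp_left.2 (hc N hN)⟩
    have h3 := N.card_mul_index
    have h4 := (Subgroup.one_lt_card_iff_ne_bot N).2 h1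
    have h5 := Subgroup.one_lt_index_of_ne_top h2
    have h6 : Nat.card N < n := by nlinarith
    have h7 : N.index < n := by nlinarith
    have := ih _ h6 N rfl (.inl (by omega))
    have := ih _ h7 (H ⧸ N) rfl (.inl (by omega))
    exact Group.isSolvable_of_ker_le_range N.subtype (QuotientGroup.mk' N) (by simp)


/-- The character degree graph of a finite group has as vertices the primes dividing some irreducible complex character degree, two distinct primes being joined when their product divides some irreducible character degree; two groups have the same character degree graph when they have the same vertices and the same joined pairs. A finite group of order 60 with the same character degree graph as the alternating group A₅ (whose character degrees are 1, 3, 4, 5, so the graph has vertices 2, 3, 5 and no edges) is isomorphic to A₅. -/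
theorem result {G : Type*} [Group G] [Finite G] (hcard : Nat.card G = 60)
    (hΓ : Cfsg.degreePrimes G = Cfsg.degreePrimes (alternatingGroup (Fin 5)) ∧ Cfsg.degreeGraph G = Cfsg.degreeGraph (alternatingGroup (Fin 5))) : Nonempty (G ≃* alternatingGroup (Fin 5)) := by
  by_cases hs : IsSimpleGroup G
  · exact Cfsg.Agent.S0494.result hcard
  have : Fact (Nat.Prime 5) := ⟨by norm_num⟩
  obtain ⟨e⟩ := Cfsg.Agent.S0253.result (F := ZMod 5) (ZMod.card 5)
  obtain ⟨-, d, ⟨χ, rfl⟩, hd⟩ : 5 ∈ Cfsg.degreePrimes G := hΓ.1.ge ⟨this.out, _,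
    (CfsgLib.SL2.charDegrees_congr e).le CfsgLib.SL2.card_mem_charDegrees_psl, by rw [ZMod.card]⟩
  obtain ⟨P⟩ : Nonempty (Sylow 5 G) := inferInstance
  have h1 : Nat.card P = 5 := by
    rw [P.card_eq_multiplicity, hcard, show (60 : ℕ).factorization 5 = 1 by
      rw [← Nat.primeFactorsList_count_eq]; simp [Nat.primeFactorsList_ofNat], pow_one]
  have h2 : (P : Subgroup G).index = 12 := by
    have := (P : Subgroup G).card_mul_index
    rw [h1] at this
    omega
  have h3 := P.card_dvd_index
  have h4 := card_sylow_modEq_one 5 G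
  have h5 := Cfsg.Agent.S4345.result (solv _ G hcard (.inr ⟨rfl, hs⟩)) 5 2 Nat.prime_two
  have h6 : Nat.card (Sylow 5 G) = 1 := by
    rw [h2] at h3
    have h7 := Nat.le_of_dvd (by norm_num) h3
    generalize Nat.card (Sylow 5 G) = n at h3 h4 h5 h7
    have h8 : (6 : ℕ).factorization 2 = 1 := by
      rw [← Nat.primeFactorsList_count_eq]; simp [Nat.primeFactorsList_ofNat]
    interval_cases n <;> simp_all [Nat.ModEq]
  have := (Nat.card_eq_one_iff_unique.1 h6).1
  have := P.normal_of_subsingleton
  have := isCyclic_of_prime_card h1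
  obtain ⟨n, ρ, -, hρ⟩ := id χ.2
  have h7 : χ.1 1 = n := by rw [← hρ, Representation.char_one]; simp
  have h8 := CfsgLib.Char.ito_degree χ.2 P (fun a ha b hb => congrArg Subtype.val
    ((IsCyclic.commGroup (α := P)).mul_comm ⟨a, ha⟩ ⟨b, hb⟩)) h7
  rw [Cfsg.charDegree, h7, Complex.natCast_re, Nat.floor_natCast] at hd
  exact absurd (h2 ▸ hd.trans h8) (by norm_num)

end Cfsg.Agent.S3669
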