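import Cfsg.Statements.S1603
import Cfsg.Agent.Lib.MOrb.Iso

set_option autoImplicit false
open scoped Pointwise
open Cfsg

namespace Cfsg.Agent.S1603

open CfsgLib.MOrb CfsgLib.Golay
open CfsgLib.Mathieu (idc inM24 comp)

set_option maxRecDepth 100000

/-- the standard involution -/
def x0 : ℕ := 970499966350631336865513127433832480

/-- hash function for the class of involutions -/
def hc (x : ℕ) : ℕ := chd 211 53 0x2000000110002001300180000000f00010005000d0003000000010000000a000a0000000c0003000f00010003000100020000000700000000000500030002000900030003000e0000000000030031000500090005000c000b00010008001700020005000000040001 x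

/-- stabiliser chain of the centraliser -/
def ch : List (ℕ × List ℕ) := [(4, [716146062361566097043008109225804864]), (6, [735500604421669808992593446508235808, 233233386906768391987032901617288256])]

/-- the points attached to the vectors -/
def f (v : Fin 2 → ZMod 3) : ℕ := [0, 4, 12, 6, 13, 16, 9, 8, 18].getD ((v 0).val + 3 * (v 1).val) 0

/-- the centraliser -/
noncomputable abbrev C0 : Subgroup M24 := FixG [2 ^ 0, D0] ⊓ MulAction.stabilizer M24 (Cj.of (mk x0))

theorem x0_ok : inM24 x0 = true := by decide +kernel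

theorem ch_mem : ∀ p ∈ cgens ch, okP p = true ∧ mk p ∈ C0 := by
  intro p hp
  have h1 := okG_FixG (F := [2 ^ 0, D0]) (gens := cgens ch) (by decide +kernel) p hp
  have h2 : ∀ p ∈ cgens ch, cj p x0 = x0 := by decide +kernel
  refine ⟨h1.1, h1.2, ?_⟩
  change Cj.of (mk p * mk x0 * (mk p)⁻¹) = Cj.of (mk x0)
  rw [cj_mk h1.1 x0_ok, h2 p hp]

theorem ch_ok : chkChain ch 48 = true := by decide +kernel

theorem gDa_mem : ∀ p ∈ gDa, okP p = true ∧ mk p ∈ FixG [2 ^ 0, D0] := okG_FixG (by decide +kernel)

theorem card_le : Nat.card C0 ≤ 48 := by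
  have h1 := CfsgLib.Mathieu.card_eq_orbit_mul (FixG [2 ^ 0, D0]) (Cj.of (mk x0))
  have h2 : 165 ≤ (MulAction.orbit (FixG [2 ^ 0, D0]) (Cj.of (mk x0))).ncard :=
    Model.le_orbitS (M := cjModel hc) (m := x0) (N := 211) gDa_mem (by decide +kernel)
  rw [card_Da] at h1
  by_contra hc
  have := Nat.mul_le_mul h2 (show 49 ≤ Nat.card C0 by omega)
  change 7920 = _ * Nat.card C0 at h1
  omega

theorem std : Nonempty (C0 ≃* GL (Fin 2) (ZMod 3)) := by
  have hf : ∀ y, f y < 24 := by decide +kernel
  obtain ⟨φ, h1, -⟩ := exists_hom_of_chain (MonoidHom.id (GL (Fin 2) (ZMod 3))) (fun y => pt (f y))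
    ch_mem ch_ok card_le (match_pt hf ch_mem
      (ks := [⟨!![1, 0; 0, 2], !![1, 0; 0, 2], by decide, by decide⟩, ⟨!![1, 2; 2, 0], !![0, 2; 2, 2], by decide, by decide⟩, ⟨!![1, 1; 0, 2], !![1, 1; 0, 2], by decide, by decide⟩]) (by decide +kernel)) (fun k hk => gl_eq_one fun y => by
      have h : ∀ a b, f a = f b → a = b := by decide +kernel
      exact h _ _ ((pt_inj (hf _) (hf _)).1 (hk y)))
  refine equiv_of_injective φ ?_ ?_
  · rw [injective_iff_map_eq_one]
    intro g hg
    obtain ⟨k, h2, h3⟩ := h1 g
    rw [hg] at h2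
    rw [← show 1 = k from h2] at h3
    have h4 : ∀ y, ap (cd g) (f y) = f y := fun y =>
      ap_eq_of_smul (hf y) (hf y) (by simpa only [one_smul] using h3 y)
    have := forall_eltS (hash := chd 61 19 0x40000000c000400020010000000040003000200130007001c00010000000a000000000004) (N := 61) (n := 48)
      (f := fun a => or (Nat.beq a idc) (not (and (Nat.beq (ap a (f ![1, 0])) (f ![1, 0]))
        (Nat.beq (ap a (f ![0, 1])) (f ![0, 1]))))) ch_mem (by decide +kernel) card_le g.2
    rw [h4, h4] at this
    exact Subtype.ext (cd_eq_idc.1 (by simpa using this))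
  · rw [le_antisymm card_le (card_ge_of_chain ch_mem ch_ok), card_GL23]

theorem conj10 {x : M24} (hx : x ∈ FixG [2 ^ 1, 2 ^ 0, D0]) (h2 : x * x = 1) (h1 : x ≠ 1) :
    ∃ k ∈ FixG [2 ^ 0, D0], k * mk x0 * k⁻¹ = x := by
  have key : frc ((cjModel hc).tblS gDa [x0] 211) (fun S =>
      (grpModel (chd 853 223 0x5000300010007000b001000000002000000050008000100040003000600060000000300130047000000050004001400000000004700090001003200010000000c0002001b0019001a00200000000900030004000200000008004d000200010000000000190003001e00020000001a0003000b00240000000300000000000000090008000000060000006c000600080013000a0002001100000004000d000b00090003000a0035000500230002000300010000000f0080000d0031000400150001000300010000000100000002000000030000001c002c001d00130004000e008900010007001b000400060018001000070002000f001000000000002300030007001500130000000e00040017001700000006003300120003000a002f00050000000000040012001500090000000a0000000200110000000c000d0003000000000007001a002900010059000600180000000f00000002000c0003000300060001000b0013000100000016000100030018000c003300020011000b00160000000100000003000c0002000a000000160006001100080010000600070017000000010000000000330003002b00020004000c000100010032000800090009)).reachAllS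 gDab [idc] 853 720 fun a =>
        or (Nat.beq a idc) (or (not (Nat.beq (comp a a) idc)) (has 120 hc S a))) = true := by
    decide +kernel
  rw [frc_eq] at key
  have h3 := forall_eltS (okG_FixG (by decide +kernel)) key card_Dab.le hx
  rw [← cd_mul, h2, cd_one] at h3
  simp only [Bool.or_eq_true, Nat.beq_eq, cd_eq_idc, h1, false_or, Nat.beq_refl, Bool.not_true,
    Bool.false_eq_true] at h3
  have h0 : cd x ≠ 0 := by
    intro e
    have := okB_cd x
    rw [e] at this
    revert this; decide +kernel
  obtain ⟨-, m, hm, k, hk, e⟩ := (Model.tbl_invS (M := cjModel hc) gDa_mem (ms := [x0])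
    (by decide +kernel) 211).of_has h0 h3
  rw [List.mem_singleton.1 hm] at e
  exact ⟨k, hk, (Cj.of_injective e).trans (mk_cd x)⟩

theorem exists_fixed {d : Finset GolayPt} (hd : d.card = 12) {p : GolayPt} (hp : p ∈ d) {x : M24}
    (h1 : x • d = d) (h2 : x • p = p) (h3 : x * x = 1) : ∃ q ∈ d, p ≠ q ∧ x • q = q := by
  by_contra hc
  push Not at hc
  have := Finset.sum_involution (s := d.erase p) (f := fun _ => (1 : ZMod 2)) (fun a _ => x • a)
    (fun _ _ => rfl) (fun a ha _ => hc a (Finset.mem_of_mem_erase ha) (Finset.ne_of_mem_erase ha).symm)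
    (fun a ha => Finset.mem_erase.2 ⟨fun e => Finset.ne_of_mem_erase ha
      (MulAction.injective x (e.trans h2.symm)),
      (smul_mem_iff_of_stab h1 a).2 (Finset.mem_of_mem_erase ha)⟩)
    (fun a _ => by rw [← mul_smul, h3, one_smul])
  rw [Finset.sum_const, Finset.card_erase_of_mem hp, hd] at this
  revert this; decide


/-- Involution centralisers in the smallest Mathieu group are isomorphic to GL(2, 3). -/
theorem result (d : Finset Cfsg.GolayPt) (hd : d ∈ Cfsg.dodecads) (p : Cfsg.GolayPt) (hp : p ∈ d) (x : ↥(MulAction.stabilizer Cfsg.M24 d ⊓ MulAction.stabilizer Cfsg.M24 p)) (hx : orderOf x = 2) : Nonempty (↥(Subgroup.centralizer ({x} : Set ↥(MulAction.stabilizer Cfsg.M24 d ⊓ MulAction.stabilizer Cfsg.M24 p))) ≃* GL (Fin 2) (ZMod 3)) := by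
  have h2 : (x : M24) * x = 1 := by
    have := pow_orderOf_eq_one x
    rw [hx, pow_two] at this
    exact congrArg Subtype.val this
  have h1 : (x : M24) ≠ 1 := by
    intro e
    rw [show x = 1 from Subtype.ext e, orderOf_one] at hx
    omega
  obtain ⟨q, hq, hpq, hxq⟩ := exists_fixed hd.2 hp x.2.1 x.2.2 h2
  obtain ⟨g, e1, e2, e3⟩ := trans_dod_in2 hd hp hq hpq
  have m1 : ∀ g k : M24, k ∈ MulAction.stabilizer M24 (g • ofMask D0) ⊓
      MulAction.stabilizer M24 (g • pt 0) ↔ g⁻¹ * k * g ∈ FixG [2 ^ 0, D0] := by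
    intro g k
    simp only [FixG_cons_pt (show 0 < 24 by norm_num), FixG_single, Subgroup.mem_inf, mem_stabilizer_smul]
  obtain ⟨k, hk, e⟩ := conj10 (x := g⁻¹ * x * g) (by
      rw [FixG_cons_pt (show 1 < 24 by norm_num)]
      exact ⟨(m1 g x).1 (by rw [e1, e2]; exact x.2), (mem_stabilizer_smul g (pt 1) x).1 (by
        rw [e3]; exact hxq)⟩)
    (by rw [show g⁻¹ * x * g * (g⁻¹ * x * g) = g⁻¹ * (x * x) * g by group, h2]; group)
    (by rw [Ne, mul_assoc, inv_mul_eq_one, eq_comm, mul_eq_right]; exact h1)
  have e4 : (g * k) • ofMask D0 = d := by rw [Fix.mul_smul_mask hk g (by simp), e1]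
  have e5 : (g * k) • pt 0 = p := by rw [Fix.mul_smul_pt hk g (by norm_num) (by simp), e2]
  have e6 : (g * k) • Cj.of (mk x0) = Cj.of x := by
    rw [mul_smul, Cj.smul_of, e, Cj.smul_of]
    congr 1; group
  have e7 : Subgroup.centralizer ({x} : Set ↥(MulAction.stabilizer M24 d ⊓ MulAction.stabilizer M24 p)) =
      (MulAction.stabilizer M24 d ⊓ MulAction.stabilizer M24 p ⊓
        MulAction.stabilizer M24 (Cj.of x)).subgroupOf _ := by
    ext y
    rw [Subgroup.mem_centralizer_singleton_iff, Subgroup.mem_subgroupOf, Subgroup.mem_inf,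
      Cj.mem_stabilizer, and_iff_right y.2, Subtype.ext_iff]
    rfl
  obtain ⟨e8⟩ := std
  refine ⟨(MulEquiv.subgroupCongr e7).trans ((Subgroup.subgroupOfEquivOfLe inf_le_left).trans
    ((conjEquiv (g * k) fun y => ?_).trans e8))⟩
  rw [← e6, ← e4, ← e5, Subgroup.mem_inf, m1, mem_stabilizer_smul, Subgroup.mem_inf]

end Cfsg.Agent.S1603
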