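import Mathlib
-- Template for statement S1173 (row 1173; see /opt/grader/pristine/manifest.json for weights).
-- Copy to Cfsg/Agent/S1173.lean and replace the sorry. The statement below is byte-identical to the frozen
-- statement Cfsg.CfsgFrozen.S1173 (Cfsg/Statements/S1173.lean; the theorem Cfsg.strongly_closed_centralizer_residual_normal);
-- the grader kernel-checks Cfsg.Agent.S1173.result against that frozen type. Keep the theorem IN THIS FILE
-- (a `result` declared elsewhere and merely imported here is not credited); helpers may live anywhere
-- under Cfsg/Agent/.
import Cfsg.Statements.S1173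
import Cfsg.Agent.Lib.Gold.PC2
import Cfsg.Agent.Lib.Gold.All
-- import your own Cfsg.Agent.* helpers here

set_option autoImplicit false
open Cfsg

namespace Cfsg.Agent.S1173



/-- Let G be a finite group with no nontrivial normal subgroup of odd order, S a Sylow 2-subgroup and T a subgroup of S strongly closed in S. Then the intersection of the derived series of C_G(T) (its perfect core), viewed in G, is a normal subgroup of G. -/
theorem result {G : Type*} [Group G] [Finite G] (hO : Cfsg.oddCore G = ⊥) (S : Sylow 2 G) (T : Subgroup G) (hT : Cfsg.IsStronglyClosed T (S : Subgroup G)) : ((⨅ n : ℕ, derivedSeries ↥(Subgroup.centralizer (T : Set G)) n).map (Subgroup.centralizer (T : Set G)).subtype).Normal := by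
  exact CfsgLib.Gold.s1173 CfsgLib.Gold.inputs hO S T hT

end Cfsg.Agent.S1173
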