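import Cfsg.Statements.S2037
import Cfsg.Agent.Lib.MultC.M23.Link
import Cfsg.Agent.Lib.MultC.M23.P2
import Cfsg.Agent.Lib.MultC.M23.P3

set_option autoImplicit false
open Cfsg

namespace Cfsg.Agent.S2037

/-- The Schur multiplier of the Mathieu group M₂₃ (the stabiliser of a point in the automorphism group of the length-24 binary code) is trivial; here the Schur multiplier is described through stem extensions, as in the definitions: surjective homomorphisms onto the group from a finite group, whose kernel is central in that finite group and contained in that finite group's commutator subgroup. -/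
theorem result : Cfsg.HasCyclicSchurMultiplier ↥Cfsg.Spor.M23 1 := by
  have hG := CfsgLib.Mathieu.card_M23
  refine CfsgLib.MultC.trivial_of_pBound fun p hp hd => ?_
  by_cases h2 : p = 2
  · exact h2 ▸ CfsgLib.MultC.M23.P2.pb CfsgLib.MultC.M23.model CfsgLib.MultC.M23.real0 hG
  by_cases h3 : p = 3
  · exact h3 ▸ CfsgLib.MultC.M23.P3.pb CfsgLib.MultC.M23.model CfsgLib.MultC.M23.real0 hG
  exact CfsgLib.MultC.pBound_of_not_mem hG [2, 3] [5, 7, 11, 23] 7 (by decide +kernel) (by simp; norm_num)
    (by decide +kernel) hp hd (by simp [h2, h3])

end Cfsg.Agent.S2037
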