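import Cfsg.Statements.S2050
import Cfsg.Agent.Lib.MultC.Ly.Cent
import Cfsg.Agent.S2100

set_option autoImplicit false
open Cfsg

namespace Cfsg.Agent.S2050

/-- The Schur multiplier of the Lyons group (the finitely presented group of the definitions) is trivial; here the Schur multiplier is described through stem extensions, as in the definitions: surjective homomorphisms onto the group from a finite group, whose kernel is central in that finite group and contained in that finite group's commutator subgroup. -/
theorem result : Cfsg.HasCyclicSchurMultiplier Cfsg.Spor.Ly 1 := by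
  have hc := CfsgLib.Ly.card_eq
  have hi : ∀ (U : Subgroup Cfsg.Spor.Ly) {n m : ℕ}, Nat.card U = n → n * m = 51765179004000000 →
      U.index = m := fun U n m h1 h2 => by
    have := U.card_mul_index
    rw [h1, hc, ← h2] at this
    exact Nat.eq_of_mul_eq_mul_left (Nat.pos_of_ne_zero (by rintro rfl; simp at h2)) this
  refine CfsgLib.MultC.trivial_of_pBound fun p hp hd => ?_
  by_cases h2 : p = 2
  · subst h2
    exact CfsgLib.MultC.Ly.pBound_of_sub hp _ (by
      rw [hi _ (m := 1296826875) CfsgLib.MultC.Ly.card_cent_t (by norm_num)]; norm_num)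
      CfsgLib.MultC.Ly.mult_t
  by_cases h3 : p = 3
  · subst h3
    exact CfsgLib.MultC.Ly.pBound_of_sub hp _ (by
      rw [hi _ (m := 19212250) CfsgLib.MultC.Ly.card_cent_x (by norm_num)]; norm_num)
      CfsgLib.MultC.Ly.mult_x
  by_cases h5 : p = 5
  · subst h5
    exact CfsgLib.MultC.Ly.pBound_of_sub hp _ (by rw [CfsgLib.Ly.index_eq]; norm_num)
      (CfsgLib.Schur.mult_congr_left (Cfsg.Agent.S2100.result (F := ZMod 5) (by simp))
        (CfsgLib.Ly.ψ.ofInjective CfsgLib.Ly.psi_inj))
  exact CfsgLib.MultC.pBound_of_not_mem hc [2, 3, 5] [7, 11, 31, 37, 67] 8 (by norm_num)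
    (by simp; norm_num) (by simp) hp hd (by simp [h2, h3, h5])

end Cfsg.Agent.S2050
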