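import Cfsg.Statements.S2101
import Cfsg.Agent.Lib.LieModel.G23.Iso
import Cfsg.Agent.Lib.MultC.G23.Link
import Cfsg.Agent.Lib.MultC.G23.Ub
import Cfsg.Agent.Lib.MultC.G23.Cov

set_option autoImplicit false
open Cfsg

namespace Cfsg.Agent.S2101

/-- Exceptional Schur multiplier: over the field with 3 elements the Chevalley group of type G₂ has Schur multiplier cyclic of order 3 (here the Schur multiplier is described through stem extensions, as in the definitions). -/
theorem result {F : Type*} [Field F] [Fintype F] (hF : Fintype.card F = 3) : Cfsg.HasCyclicSchurMultiplier ↥(Cfsg.Lie.chevG2.group F) 3 := by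
  obtain ⟨e⟩ := CfsgLib.LieModel.G23.iso hF
  exact CfsgLib.Schur.mult_congr_left (CfsgLib.MultC.G23.Cov.low.cyclic (by norm_num)
    (CfsgLib.MultC.G23.P3.pb CfsgLib.MultC.G23.model CfsgLib.MultC.G23.real0 CfsgLib.MultC.G23.card)
    (CfsgLib.MultC.G23.others CfsgLib.MultC.G23.model CfsgLib.MultC.G23.real0 CfsgLib.MultC.G23.card)) e.symm

end Cfsg.Agent.S2101
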