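import Mathlib
import Cfsg.Statements.S5620
import Cfsg.Agent.Lib.M24E.Tools
import Cfsg.Prelude.Def_Spor_Mathieu

set_option autoImplicit false
open scoped Pointwise
open Cfsg

namespace Cfsg.Agent.S5620

open CfsgLib.M24E CfsgLib.Golay
open scoped Pointwise

theorem sq_eq : Cfsg.Spor.squareDodecad = ofMask 340831 := support₂_qrWord 0

theorem mem12 {x : P24} : x ∈ Cfsg.Spor.M12 ↔ x ∈ Cfsg.M24 ∧ x • ofMask 340831 = ofMask 340831 := by
  simp only [Cfsg.Spor.M12, Subgroup.mem_inf, MulAction.mem_stabilizer_iff, sq_eq]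

theorem mem11 {x : P24} : x ∈ Cfsg.Spor.M11 ↔ x ∈ Cfsg.Spor.M12 ∧ x (some 0) = some 0 := by
  simp only [Cfsg.Spor.M11, Subgroup.mem_inf, MulAction.mem_stabilizer_iff]
  rfl

def qg : ℕ := 0x5883388a1c8f5140b46cd317aed7
def qx : ℕ := 0xbc5f42c1499b98db2c623a2a691001

theorem mg : isM qg = true := by decide +kernel
theorem mx : isM qx = true := by decide +kernel

theorem g1 : pm qg • ofMask 340831 = (ofMask 340831)ᶜ := by
  rw [← ofMask_compl, (pm_rp mg).smul_eq_iff _ (by decide)]; decide +kernel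

theorem g2 : pm qg (some 0) = none :=
  ((pm_rp mg).pt_eq_iff (x := 0) (y := 23) (by norm_num) (by norm_num)).2 (by decide +kernel)

theorem conj_eq : MulAut.conj (pm qg) • Cfsg.Spor.M11 =
    Cfsg.Spor.M12 ⊓ MulAction.stabilizer (Equiv.Perm Cfsg.GolayPt) (none : Cfsg.GolayPt) := by
  ext x
  rw [Subgroup.mem_pointwise_smul_iff_inv_smul_mem, ← map_inv, MulAut.smul_def, MulAut.conj_apply, inv_inv,
    mem11, mem12, Subgroup.mem_inf, mem12, MulAction.mem_stabilizer_iff (a := (none : Cfsg.GolayPt)),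
    conj_smul_iff, g1, smul_compl',
    compl_inj_iff, Equiv.Perm.mul_apply, Equiv.Perm.mul_apply, Equiv.Perm.inv_eq_iff_eq, g2]
  refine and_congr_left fun _ => and_congr_left fun _ => ⟨fun h => ?_, conj_mem (pm_mem mg)⟩
  simpa [mul_assoc] using conj_mem (inv_mem (pm_mem mg)) h


/-- Inside the stabiliser of the dodecad of squares (a Mathieu group of degree 12), the stabiliser of the residue 0 (a point of the dodecad) and the stabiliser of the extra point (a point outside the dodecad) are isomorphic but not conjugate; conjugation by a suitable element of the code's group that maps the dodecad of squares onto its complement carries the first onto the second. -/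
theorem result : Nonempty (↥(Cfsg.Spor.M12 ⊓ MulAction.stabilizer (Equiv.Perm Cfsg.GolayPt) (none : Cfsg.GolayPt)) ≃* ↥Cfsg.Spor.M11) ∧ (¬ ∃ k ∈ Cfsg.Spor.M12, MulAut.conj k • Cfsg.Spor.M11 = Cfsg.Spor.M12 ⊓ MulAction.stabilizer (Equiv.Perm Cfsg.GolayPt) (none : Cfsg.GolayPt)) ∧ ∃ g ∈ Cfsg.M24, g • Cfsg.Spor.squareDodecad = Finset.univ \ Cfsg.Spor.squareDodecad ∧ MulAut.conj g • Cfsg.Spor.M11 = Cfsg.Spor.M12 ⊓ MulAction.stabilizer (Equiv.Perm Cfsg.GolayPt) (none : Cfsg.GolayPt) := by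
  refine ⟨⟨?_⟩, ?_, pm qg, pm_mem mg, by rw [sq_eq, g1, Finset.compl_eq_univ_sdiff], conj_eq⟩
  · rw [← conj_eq]; exact (Subgroup.equivSMul _ _).symm
  · rintro ⟨k, hk, h⟩
    have h1 : pm qx ∈ MulAut.conj k • Cfsg.Spor.M11 := by
      rw [h]
      refine ⟨mem12.2 ⟨pm_mem mx, ((pm_rp mx).setFix_iff _).1 (by decide +kernel)⟩, ?_⟩
      exact ((pm_rp mx).pt_eq_iff (x := 23) (y := 23) (by norm_num) (by norm_num)).2 (by decide +kernel)
    rw [Subgroup.mem_pointwise_smul_iff_inv_smul_mem, ← map_inv, MulAut.smul_def, MulAut.conj_apply, inv_inv,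
      mem11, Equiv.Perm.mul_apply, Equiv.Perm.mul_apply, Equiv.Perm.inv_eq_iff_eq] at h1
    have h2 : k (some 0) ∈ ofMask 340831 := by
      rw [← (mem12.1 hk).2, smul_mem_smul', mem_ofMask]; decide
    have h3 : k (some 0) ∈ fixS (pm qx) ∩ ofMask 340831 := Finset.mem_inter.2 ⟨mem_fixS.2 h1.2, h2⟩
    rw [← (pm_rp mx).ofMask_fixM, ← ofMask_land,
      show fixM (ap qx) &&& 340831 = 0 by decide +kernel, ofMask_zero] at h3
    exact absurd h3 (Finset.notMem_empty _)

end Cfsg.Agent.S5620
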