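import Cfsg.Statements.S1243
import Cfsg.Agent.Lib.SylTools.Basic

set_option autoImplicit false
open Cfsg

namespace Cfsg.Agent.S1243

open CfsgLib.SylTools


/-- Let T be a Sylow p-subgroup of the finite group G and W ≤ T a subgroup weakly closed in T. If d and g d g⁻¹ both centralize W, then g d g⁻¹ = h d h⁻¹ for some h ∈ N_G(W). -/
theorem result {G : Type*} [Group G] [Finite G] {p : ℕ} [Fact p.Prime] (T : Sylow p G) (W : Subgroup G) (hW : Cfsg.IsWeaklyClosed W (T : Subgroup G)) (d g : G) (hd : d ∈ Subgroup.centralizer (W : Set G)) (hgd : g * d * g⁻¹ ∈ Subgroup.centralizer (W : Set G)) : ∃ h ∈ Subgroup.normalizer (W : Set G), h * d * h⁻¹ = g * d * g⁻¹ := by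
  have hWp : IsPGroup p W := T.isPGroup'.to_le hW.1
  set e := g * d * g⁻¹ with he
  have h1 : W ≤ Subgroup.centralizer ({e} : Set G) := by
    intro w hw
    rw [Subgroup.mem_centralizer_iff]
    rintro _ rfl
    exact (hgd w hw).symm
  have h2 : W.map (MulAut.conj g).toMonoidHom ≤ Subgroup.centralizer ({e} : Set G) := by
    rw [map_conj_le_iff]
    intro w hw
    rw [Subgroup.mem_centralizer_iff]
    rintro _ rfl
    have := hd w hw
    rw [he]
    calc g * d * g⁻¹ * (g * w * g⁻¹) = g * (d * w) * g⁻¹ := by group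
      _ = g * (w * d) * g⁻¹ := by rw [this]
      _ = _ := by group
  obtain ⟨c, hc, R, hR, hWR, -, -, hcR⟩ :=
    exists_conj_le_common hWp h1 (isPGroup_map_conj hWp g) h2
  obtain ⟨k, hk⟩ := exists_conj_le_sylow hR T
  have hk1 : W.map (MulAut.conj k).toMonoidHom = W :=
    hW.2 k (map_conj_le_iff.2 fun x hx => hk x (hWR hx))
  have hk2 : W.map (MulAut.conj (k * c * g)).toMonoidHom = W := by
    apply hW.2
    rw [map_conj_le_iff]
    intro x hx
    have := hk _ (hcR _ (conj_mem_map_conj (g := g) hx))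
    simpa [mul_assoc] using this
  rw [map_conj_eq_self_iff] at hk1 hk2
  refine ⟨c * g, ?_, ?_⟩
  · have := Subgroup.mul_mem _ (Subgroup.inv_mem _ hk1) hk2
    simpa [mul_assoc] using this
  · have hc' : e * c = c * e := (Subgroup.mem_centralizer_iff.1 hc) e rfl
    calc c * g * d * (c * g)⁻¹ = c * e * c⁻¹ := by rw [he]; group
      _ = e := by rw [← hc']; group

end Cfsg.Agent.S1243
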