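import Cfsg.Statements.S1769
import Cfsg.Agent.Lib.LnS.Two
import Cfsg.Agent.Lib.LnS.Wrap

set_option autoImplicit false
open Cfsg

namespace Cfsg.Agent.S1769

/-- Let G be a finite simple group containing an elementary abelian subgroup of order 8, whose Sylow 2-subgroups are isomorphic to a Sylow 2-subgroup of the projective special linear group of dimension m ≥ 3 over a field F with 2^r elements, r ≥ 2. Then G is isomorphic to that projective special linear group. -/
theorem result {G : Type*} [Group G] [Finite G] [IsSimpleGroup G]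
    (h3 : ¬ Cfsg.PRankLE 2 2 G) {F : Type*} [Field F] [Fintype F] (r : ℕ) (hr : 2 ≤ r) (hF : Fintype.card F = 2 ^ r)
    (m : ℕ) (hm : 3 ≤ m) (S : Sylow 2 G) (P : Sylow 2 (Matrix.ProjectiveSpecialLinearGroup (Fin m) F))
    (hS : Nonempty (↥(S : Subgroup G) ≃* ↥(P : Subgroup (Matrix.ProjectiveSpecialLinearGroup (Fin m) F)))) :
    Nonempty (G ≃* Matrix.ProjectiveSpecialLinearGroup (Fin m) F) := by
  obtain ⟨e⟩ := hS
  obtain ⟨k, rfl⟩ : ∃ k, m = k + 2 := ⟨m - 2, by omega⟩
  rcases (show k = 1 ∨ 2 ≤ k by omega) with rfl | hk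
  · exact CfsgLib.LnS.three h3 hF S P e
  · obtain ⟨Q⟩ := CfsgLib.LnS.exists_fr hr hF hk S P e
    exact Q.iso

end Cfsg.Agent.S1769
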