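import Cfsg.Statements.S4381
import Cfsg.Agent.Lib.Solv.AutQuot
import Cfsg.Agent.Lib.BG.S1_2
import Cfsg.Agent.Lib.SolvStruct.HallMisc
import Cfsg.Agent.Lib.Core.Frattini

set_option autoImplicit false
open Pointwise
open Cfsg

namespace Cfsg.Agent.S4381

open Subgroup CfsgLib.Coprime CfsgLib.Solv Pointwise

theorem aut_maschke {A V : Type*} [Group A] [Finite A] [Group V] [Finite V] (φ : A →* MulAut V)
    {p : ℕ} (hp : p.Prime) (hc : IsMulCommutative V) (he : ∀ x : V, x ^ p = 1)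
    (hA : ¬ p ∣ Nat.card A) {U : Subgroup V} (hU : AutInv φ U) :
    ∃ W : Subgroup V, AutInv φ W ∧ U ⊔ W = ⊤ ∧ U ⊓ W = ⊥ := by
  have := finite_sd (φ := φ)
  have hV : IsElementaryAbelian p (sdL φ ⊤) := by
    refine ⟨⟨⟨?_⟩⟩, ?_⟩
    · rintro ⟨_, a, -, rfl⟩ ⟨_, b, -, rfl⟩
      apply Subtype.ext
      change SemidirectProduct.inl a * SemidirectProduct.inl b =
        SemidirectProduct.inl b * SemidirectProduct.inl a
      rw [← map_mul, ← map_mul]
      exact congrArg _ (hc.is_comm.comm a b)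
    · rintro _ ⟨a, -, rfl⟩
      rw [← map_pow, he, map_one]
  obtain ⟨W, ⟨h1, h2, -⟩, h3⟩ := CfsgLib.BG.Maschke_abelem hp (A := sdR φ ⊤) (U := sdL φ U) hV
    ((CfsgLib.BG.p'group_iff hp).2 (by rwa [card_sdR, card_top])) (sdL_le_sdL.2 le_top)
    (sdR_top_le_normalizer_iff.2 autInv_top) (sdR_top_le_normalizer_iff.2 hU)
  obtain ⟨W, rfl⟩ := exists_sdL_eq (le_sup_right.trans h1.le)
  refine ⟨W, sdR_top_le_normalizer_iff.1 h3, ?_, ?_⟩
  · rwa [← sdL_sup, sdL_inj] at h1
  · rwa [← sdL_inf, ← sdL_bot, sdL_inj] at h2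

theorem frattini_le_of_max {A G : Type*} [Group A] [Group G] [Finite G] {φ : A →* MulAut G}
    {M : Subgroup G} (h1 : M ≠ ⊤) (h2 : AutInv φ M)
    (h3 : ∀ L : Subgroup G, M < L → AutInv φ L → L = ⊤) : frattini G ≤ M := by
  by_contra h
  apply h1
  apply frattini_nongenerating
  exact h3 _ (left_lt_sup.2 h) (h2.sup (autInv_of_characteristic _))

/-- Let the finite group A act by automorphisms on the finite group G with the orders of A and G coprime, and assume that A or G is solvable. Call a proper A-invariant subgroup of G maximal A-invariant when no A-invariant subgroup lies strictly between it and G. Then all maximal A-invariant subgroups of G are conjugate under elements of the fixed-point subgroup C_G(A) if and only if G is a p-group for some prime p and A leaves invariant no subgroup strictly between the Frattini subgroup of G and G. In that case, if G is nontrivial, the Frattini subgroup is the only maximal A-invariant subgroup (a trivial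 G has none). -/
theorem result {A G : Type*} [Group A] [Finite A]
    [Group G] [Finite G] [MulDistribMulAction A G] (hcop : (Nat.card A).Coprime (Nat.card G)) (hsol : Group.IsSolvable A ∨ Group.IsSolvable G) :
    ((∀ M N : Subgroup G, (M ≠ ⊤ ∧ (∀ a : A, ∀ x ∈ M, a • x ∈ M) ∧ ∀ L : Subgroup G, M < L → (∀ a : A, ∀ x ∈ L, a • x ∈ L) → L = ⊤) → (N ≠ ⊤ ∧ (∀ a : A, ∀ x ∈ N, a • x ∈ N) ∧ ∀ L : Subgroup G, N < L → (∀ a : A, ∀ x ∈ L, a • x ∈ L) → L = ⊤) →
        ∃ c : G, (∀ a : A, a • c = c) ∧ N = MulAut.conj c • M) ↔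
      ((∃ p : ℕ, p.Prime ∧ IsPGroup p G) ∧ ∀ L : Subgroup G, frattini G < L → (∀ a : A, ∀ x ∈ L, a • x ∈ L) → L = ⊤)) ∧
    (((∃ p : ℕ, p.Prime ∧ IsPGroup p G) ∧ ∀ L : Subgroup G, frattini G < L → (∀ a : A, ∀ x ∈ L, a • x ∈ L) → L = ⊤) →
      ∀ M : Subgroup G, (M ≠ ⊤ ∧ (∀ a : A, ∀ x ∈ M, a • x ∈ M) ∧ ∀ L : Subgroup G, M < L → (∀ a : A, ∀ x ∈ L, a • x ∈ L) → L = ⊤) ↔ (M = frattini G ∧ M ≠ ⊤)) := by
  let φ : A →* MulAut G := MulDistribMulAction.toMulAut A G
  have second : (∀ L : Subgroup G, frattini G < L → AutInv φ L → L = ⊤) →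
      ∀ M : Subgroup G, (M ≠ ⊤ ∧ AutInv φ M ∧ ∀ L : Subgroup G, M < L → AutInv φ L → L = ⊤) ↔
        (M = frattini G ∧ M ≠ ⊤) := by
    intro h M
    constructor
    · rintro ⟨h1, h2, h3⟩
      refine ⟨?_, h1⟩
      by_contra h4
      exact h1 (h M (lt_of_le_of_ne (frattini_le_of_max h1 h2 h3) (Ne.symm h4)) h2)
    · rintro ⟨rfl, h1⟩
      exact ⟨h1, autInv_of_characteristic _, h⟩
  refine ⟨⟨fun h => ?_, ?_⟩, fun h => second h.2⟩
  · have hidx : ∀ M N : Subgroup G,
        (M ≠ ⊤ ∧ AutInv φ M ∧ ∀ L : Subgroup G, M < L → AutInv φ L → L = ⊤) →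
        (N ≠ ⊤ ∧ AutInv φ N ∧ ∀ L : Subgroup G, N < L → AutInv φ L → L = ⊤) →
        ∃ c : G, N = MulAut.conj c • M := fun M N hM hN => (h M N hM hN).imp fun _ h => h.2
    rcases subsingleton_or_nontrivial G with hG | hG
    · exact ⟨⟨2, Nat.prime_two, IsPGroup.of_subsingleton _ _⟩, fun L _ _ => Subsingleton.elim _ _⟩
    obtain ⟨M, -, hM⟩ := exists_maximal_autInv (φ := φ) autInv_bot bot_ne_top
    obtain ⟨p, hp, hpd⟩ := Nat.exists_prime_and_dvd (mt index_eq_one.1 hM.1)
    have := Fact.mk hp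
    obtain ⟨P, hP⟩ := aut_exists_invariant_sylow (φ := φ) p hcop hsol
    have hPt : (P : Subgroup G) = ⊤ := by
      by_contra hne
      obtain ⟨N, hPN, hN⟩ := exists_maximal_autInv hP hne
      obtain ⟨c, rfl⟩ := hidx M N hM hN
      apply P.not_dvd_index (dvd_trans _ (index_dvd_of_le hPN))
      rwa [CfsgLib.SolvStruct.index_conj_smul]
    have hG : IsPGroup p G := (hPt ▸ P.isPGroup').of_equiv topEquiv
    refine ⟨⟨p, hp, hG⟩, fun L hL hLi => ?_⟩
    have hΦ := frattini_le_of_max hM.1 hM.2.1 hM.2.2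
    have hMn : M.Normal :=
      Normal.of_commutator_le _ ((CfsgLib.Core.commutator_le_frattini_of_isPGroup hG).trans hΦ)
    have huniq : ∀ K : Subgroup G, AutInv φ K → K ≠ ⊤ → K ≤ M := by
      intro K hK hne
      obtain ⟨N, hKN, hN⟩ := exists_maximal_autInv hK hne
      obtain ⟨c, rfl⟩ := hidx M N hM hN
      rwa [hMn.conj_smul_eq_self] at hKN
    have hΦi : AutInv φ (frattini G) := autInv_of_characteristic _
    obtain ⟨W, h1, h2, h3⟩ := aut_maschke (quotAut φ (frattini G) hΦi) hp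
      (CfsgLib.Core.isMulCommutative_quotient_frattini hG)
      (CfsgLib.Core.pow_eq_one_quotient_frattini hG)
      (fun h => hp.one_lt.ne' (Nat.eq_one_of_dvd_coprimes hcop h (hpd.trans (index_dvd_card M))))
      (autInv_map_quot hΦi hM.2.1)
    by_contra hne
    have h4 : W = ⊤ := by
      by_contra h5
      have h6 : W ≤ M.map (QuotientGroup.mk' _) := by
        rw [← CfsgLib.SolvStruct.map_comap_mk' _ W]
        refine map_mono (huniq _ (autInv_comap_quot h1) fun h => h5 ?_)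
        rw [← CfsgLib.SolvStruct.map_comap_mk' _ W, h]
        exact map_top_of_surjective _ (QuotientGroup.mk'_surjective _)
      rw [sup_eq_left.2 h6] at h2
      apply hM.1
      rw [← CfsgLib.SolvStruct.comap_map_mk'_of_le _ hΦ, h2, comap_top]
    rw [h4, inf_top_eq, CfsgLib.SolvStruct.map_mk'_eq_bot_iff] at h3
    exact hL.not_ge ((huniq L hLi hne).trans h3)
  · rintro ⟨-, h⟩ M N hM hN
    refine ⟨1, fun a => smul_one a, ?_⟩
    rw [map_one, one_smul, ((second h M).1 hM).1, ((second h N).1 hN).1]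

end Cfsg.Agent.S4381
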