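import Cfsg.Statements.S5392
import Cfsg.Agent.Lib.Leech.Mono

set_option autoImplicit false
open Cfsg

namespace Cfsg.Agent.S5392

open CfsgLib.Leech

/-- The Leech lattice modulo twice itself is a faithful irreducible module for the first Conway group: an automorphism of the rank-24 lattice built from the length-24 code that moves every lattice vector only by twice a lattice vector lies in the centre of the automorphism group (the centre consists of ±1, which act trivially there, so the kernel is exactly the centre), and an additive subgroup lying between twice the lattice and the lattice that is invariant under all lattice automorphisms is one of the two. -/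
theorem result : (∀ g : ↥Cfsg.Co0, (∀ v : ↥Cfsg.leechLattice, ∃ w : ↥Cfsg.leechLattice, ((g • v : ↥Cfsg.leechLattice) : Cfsg.GolayPt → ℤ) - (v : Cfsg.GolayPt → ℤ) = 2 • (w : Cfsg.GolayPt → ℤ)) → g ∈ Subgroup.center ↥Cfsg.Co0) ∧ ∀ M : AddSubgroup (Cfsg.GolayPt → ℤ), (∀ v ∈ Cfsg.leechLattice, (2 : ℤ) • v ∈ M) → M ≤ Cfsg.leechLattice → (∀ g : ↥Cfsg.Co0, ∀ v : ↥Cfsg.leechLattice, (v : Cfsg.GolayPt → ℤ) ∈ M → ((g • v : ↥Cfsg.leechLattice) : Cfsg.GolayPt → ℤ) ∈ M) → (∀ x ∈ M, ∃ w ∈ Cfsg.leechLattice, x = (2 : ℤ) • w) ∨ M = Cfsg.leechLattice := by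
  constructor
  · intro g hg
    have h1 : ∀ v : Cfsg.leechLattice, sqNorm v.1 = 32 → g • v = v ∨ g • v = -v := by
      intro v hv
      obtain ⟨w, hw⟩ := hg v
      have := congr_short (x := v) (y := g • v) (z := -w) (by omega) (by rw [sqNorm_smul]; omega)
        (Subtype.ext (by
          rw [AddSubgroup.coe_sub, ← neg_sub, hw]; simp [two_smul]))
      rcases this with h | h | h
      · exact Or.inl h
      · exact Or.inr h
      · omega
    let u : Cfsg.leechLattice := ⟨oddMin none, oddMin_mem _⟩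
    let v : Cfsg.GolayPt → Cfsg.GolayPt → Cfsg.leechLattice := fun a b =>
      ⟨_, single_four_add_mem a b⟩
    have hv : ∀ a b, a ≠ b → sqNorm (v a b).1 = 32 ∧ dotInt (v a b).1 u.1 ≠ 0 := by
      decide +kernel
    have he : ∀ a, ∃ b c, a ≠ b ∧ a ≠ c ∧ b ≠ c ∧ e8 a = v a b + v a c - v b c := by
      intro a
      obtain ⟨b, c, -, hb, hc, -, h, -, -⟩ := exists_three_notMem {a} (by simp)
      refine ⟨b, c, by simpa [eq_comm] using hb, by simpa [eq_comm] using hc, h, Subtype.ext ?_⟩
      have : (Pi.single a 8 : Cfsg.GolayPt → ℤ) = Pi.single a 4 + Pi.single a 4 := by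
        rw [← Pi.single_add]; rfl
      simp only [v, coe_e8, AddSubgroup.coe_sub, AddSubgroup.coe_add, this]
      abel
    rw [mem_center_iff]
    refine (h1 u (by decide +kernel)).imp (fun e => ?_) (fun e => ?_)
    · have h2 : ∀ a b, a ≠ b → g • v a b = v a b := by
        intro a b hab
        refine (h1 _ (hv a b hab).1).resolve_right fun h => (hv a b hab).2 ?_
        have := dotInt_smul g (v a b) u
        rw [h, e, AddSubgroup.coe_neg, CfsgLib.Leech.dotInt_neg_left] at this
        omega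
      apply co0_ext_e8
      intro a
      obtain ⟨b, c, h3, h4, h5, h6⟩ := he a
      rw [one_smul, h6, smul_sub, smul_add, h2 _ _ h3, h2 _ _ h4, h2 _ _ h5]
    · have h2 : ∀ a b, a ≠ b → g • v a b = -v a b := by
        intro a b hab
        refine (h1 _ (hv a b hab).1).resolve_left fun h => (hv a b hab).2 ?_
        have := dotInt_smul g (v a b) u
        rw [h, e, AddSubgroup.coe_neg, dotInt_neg_right] at this
        omega
      apply co0_ext_e8
      intro a
      obtain ⟨b, c, h3, h4, h5, h6⟩ := he a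
      rw [negAut_smul, h6, smul_sub, smul_add, h2 _ _ h3, h2 _ _ h4, h2 _ _ h5]
      abel
  · intro M h2 hle hinv
    by_contra hcon
    push Not at hcon
    obtain ⟨⟨x, hx, hx2⟩, hne⟩ := hcon
    obtain ⟨y, z, hy, hz⟩ := exists_short ⟨x, hle hx⟩
    have hz' : x - y.1 = (2 : ℤ) • z.1 := congrArg Subtype.val hz
    have hyM : y.1 ∈ M := by
      have := sub_mem hx (h2 z z.2)
      rwa [← hz', sub_sub_cancel] at this
    have hy0 : y.1 ≠ 0 := fun h => hx2 z z.2 (by rw [← hz', h, sub_zero])
    have hall : ∀ w : Cfsg.leechLattice, sqNorm w.1 = sqNorm y.1 → w.1 ∈ M := by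
      intro w hw
      obtain ⟨g, rfl⟩ := exists_smul_eq_of_sqNorm y w hw.symm hy
      exact hinv g y hyM
    have hmin : ∃ w : Cfsg.leechLattice, sqNorm w.1 = 32 ∧ w.1 ∈ M := by
      have h3 := min_norm y.2 hy0
      have h4 := sqNorm_mod y.2
      have h5 : sqNorm y.1 = 32 ∨ sqNorm y.1 = 48 ∨ sqNorm y.1 = 64 := by omega
      rcases h5 with h5 | h5 | h5
      · exact ⟨y, h5, hyM⟩
      · let a : Cfsg.leechLattice := ⟨vec [1, 1, 1, 1, 1, 1, 1, 1, 1, 1, 1, 1, 1, 1, 1, 1, 1, 1, 1,
          1, 1, 1, 1, 5], mem_of_chk (by decide +kernel)⟩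
        let b : Cfsg.leechLattice := ⟨vec [5, 1, 1, 1, 1, 1, 1, 1, 1, 1, 1, 1, 1, 1, 1, 1, 1, 1, 1,
          1, 1, 1, 1, 1], mem_of_chk (by decide +kernel)⟩
        refine ⟨a - b, by decide +kernel, sub_mem (hall a ?_) (hall b ?_)⟩ <;>
        · rw [h5]; decide +kernel
      · let a : Cfsg.leechLattice := ⟨vec [4, 4, 4, 4, 0], mem_of_chk (by decide +kernel)⟩
        let b : Cfsg.leechLattice := ⟨vec [4, 4, 4, 0, 4], mem_of_chk (by decide +kernel)⟩
        refine ⟨a - b, by decide +kernel, sub_mem (hall a ?_) (hall b ?_)⟩ <;>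
        · rw [h5]; decide +kernel
    obtain ⟨w, hw, hwM⟩ := hmin
    refine hne (le_antisymm hle (le_of_min M fun t ht htn => ?_))
    obtain ⟨g, hg⟩ := exists_smul_eq_of_sqNorm w ⟨t, ht⟩ (by rw [hw, htn]) (by omega)
    have := hinv g w hwM
    rwa [hg] at this

end Cfsg.Agent.S5392
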