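import Cfsg.Statements.S0898
import Cfsg.Agent.Lib.Glaub.Cong
import Cfsg.Agent.Lib.Frob.FPF
import Cfsg.Agent.Lib.InvChar.SylowBasic
import Cfsg.Agent.Lib.Core.Basic
import Cfsg.Agent.Lib.Char.Kernel

set_option autoImplicit false
open Cfsg

namespace Cfsg.Agent.S0898

open CfsgLib.Char CfsgLib.Glaub CfsgLib.InvChar Finset
open scoped ComplexConjugate

theorem sum_ti_lt {G : Type*} [Group G] [Fintype G] (N : Subgroup G) (S : G → Prop)
    [DecidablePred S] (hS1 : ¬ S 1) (hTI : ∀ g a, S g → S (a * g * a⁻¹) → a ∈ N) {χ : G → ℂ}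
    (hχ : IsIrrCharacter G χ) : ∑ g with S g, ‖χ g‖ ^ 2 < Nat.card N := by
  classical
  have hG : (0 : ℝ) < Nat.card G := by exact_mod_cast Nat.card_pos
  have hN : (0 : ℝ) < Nat.card N := by exact_mod_cast Nat.card_pos
  have h1 : ∑ g, ‖χ g‖ ^ 2 = Nat.card G := by
    have := classInner_self_re χ
    rw [classInner_irr_self hχ, Complex.one_re] at this
    field_simp at this
    exact this.symm
  have h2 : (Nat.card G : ℝ) * ∑ g with S g, ‖χ g‖ ^ 2 =
      ∑ y, ((univ.filter fun a => S (a * y * a⁻¹)).card : ℝ) * ‖χ y‖ ^ 2 := by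
    simp only [card_filter, Nat.cast_sum, sum_mul]
    rw [sum_comm, Nat.card_eq_fintype_card, ← nsmul_eq_mul, ← card_univ, ← sum_const]
    refine sum_congr rfl fun a _ => ?_
    rw [sum_filter]
    refine (Fintype.sum_equiv (MulAut.conj a).toEquiv _ _ fun y => ?_).symm
    simp only [MulEquiv.toEquiv_eq_coe, EquivLike.coe_coe, MulAut.conj_apply,
      isClassFunction_of_isIrr hχ y a]
    split_ifs <;> simp
  have h3 : ∀ y, (univ.filter fun a => S (a * y * a⁻¹)).card ≤ Nat.card N := by
    intro y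
    rcases (univ.filter fun a => S (a * y * a⁻¹)).eq_empty_or_nonempty with h | ⟨b, hb⟩
    · simp [h]
    · rw [Nat.card_eq_fintype_card, Fintype.card_subtype]
      refine card_le_card_of_injOn (fun a => a * b⁻¹) (fun a ha => ?_)
        (fun _ _ _ _ h => by simpa using h)
      simp only [coe_filter, mem_univ, true_and, Set.mem_setOf_eq, mem_filter] at ha hb ⊢
      exact hTI _ _ hb (by simpa [mul_assoc] using ha)
  apply lt_of_mul_lt_mul_left _ hG.le
  rw [h2, mul_comm (Nat.card G : ℝ), ← h1, mul_sum]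
  refine sum_lt_sum (fun y _ => by gcongr; exact_mod_cast h3 y) ⟨1, mem_univ _, ?_⟩
  simp only [mul_one, mul_inv_cancel, hS1, filter_false, card_empty, Nat.cast_zero, zero_mul]
  exact mul_pos hN (pow_pos (norm_pos_iff.mpr (irr_one_ne_zero hχ)) 2)

theorem part_a {G : Type*} [Group G] [Fintype G] (H : Subgroup G) [Fintype H]
    (hab : ∀ a ∈ H, ∀ b ∈ H, a * b = b * a) (hZ : H ⊓ Subgroup.center G = ⊥)
    (hone : ∀ g : G, g ∉ Subgroup.center G → ∀ a b : G,
      Subgroup.centralizer ({g} : Set G) ⊓ H.map (MulAut.conj a).toMonoidHom ≠ ⊥ →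
      Subgroup.centralizer ({g} : Set G) ⊓ H.map (MulAut.conj b).toMonoidHom ≠ ⊥ →
      H.map (MulAut.conj a).toMonoidHom = H.map (MulAut.conj b).toMonoidHom)
    {χ : G → ℂ} (hχ : IsIrrCharacter G χ) (hker : ∃ h ∈ H, χ h ≠ χ 1) {n c : ℕ} (hn : χ 1 = n)
    (hc : classInner (fun h : H => χ h) (fun _ => 1) = c) : Nat.card H * c ^ 2 < n ^ 2 := by
  classical
  set N := Subgroup.normalizer (H : Set G) with hN
  set Z := Subgroup.center G with hZdef
  let S : G → Prop := fun g => g ∉ Z ∧ ∃ h ∈ H, h ≠ 1 ∧ h * g = g * h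
  have hχc := isCharacter_of_isIrr hχ
  have hcl := isClassFunction_of_isIrr hχ
  have hTI : ∀ g a, S g → S (a * g * a⁻¹) → a ∈ N := by
    rintro g a ⟨hg, h, hh, hh1, hhg⟩ ⟨hg', k, hk, hk1, hkg⟩
    rw [← map_conj_eq_iff_mem_normalizer, hone _ hg' a 1]
    · ext x
      simp [mem_map_conj_iff]
    · rw [Subgroup.ne_bot_iff_exists_ne_one]
      refine ⟨⟨a * h * a⁻¹, Subgroup.mem_centralizer_singleton_iff.mpr ?_, conj_mem_map_conj a hh⟩,
        fun h' => hh1 (by simpa using congrArg Subtype.val h')⟩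
      simp [mul_assoc, ← mul_assoc h, hhg]
    · rw [Subgroup.ne_bot_iff_exists_ne_one]
      exact ⟨⟨k, Subgroup.mem_centralizer_singleton_iff.mpr hkg, by simpa [mem_map_conj_iff]⟩,
        fun h' => hk1 (by simpa using congrArg Subtype.val h')⟩
  have hSN : ∀ g, S g → g ∈ N := fun g hg => hTI g g hg (by simpa using hg)
  have h4 := sum_ti_lt N S (fun h => h.1 Z.one_mem) hTI hχ
  have hHN : H ≤ N := Subgroup.le_normalizer
  have hZN : Z ≤ N := Subgroup.center_le_normalizer _
  set H' := H.subgroupOf N with hH'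
  have hH'n : H'.Normal := Subgroup.normal_in_normalizer
  let e := Subgroup.subgroupOfEquivOfLe hHN
  set χN : N → ℂ := fun x => χ x with hχN
  have hχNc : IsCharacter N χN := isCharacter_restrict N hχc
  set α := avg H' χN with hα
  have hαc : IsCharacter N α := isCharacter_avg H' hχNc
  have hα1 : α 1 = c := by
    rw [hα, avg_one, ← hc]
    exact classInner_comp_mulEquiv e (fun h : H => χ h) (fun _ => 1)
  have horth : classInner χN α = classInner α α := by
    rw [classInner_def, classInner_def, ← sum_avg H']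
    congr 1
    refine sum_congr rfl fun x _ => ?_
    rw [avg_apply, hα, avg_apply H' χN x, mul_assoc, sum_mul]
    congr 1
    exact sum_congr rfl fun h _ => by rw [avg_mul_left H' χN h.2, avg_apply]
  have hβ : (Nat.card N : ℝ) ≤ ∑ x : N, (‖χ x‖ ^ 2 - ‖α x‖ ^ 2) := by
    obtain ⟨m, hm⟩ := exists_classInner_self_eq_nat (isGenChar_sub (isGenChar_of_isCharacter hχNc)
      (isGenChar_of_isCharacter hαc))
    have hm0 : m ≠ 0 := by
      rintro rfl
      rw [Nat.cast_zero, classInner_self_eq_zero, sub_eq_zero] at hm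
      obtain ⟨h, hh, hh'⟩ := hker
      have := avg_mul_left H' χN (n := ⟨h, hHN hh⟩) hh 1
      rw [← hα, ← hm, mul_one] at this
      exact hh' this
    rw [classInner_sub_left, classInner_sub_right, classInner_sub_right,
      classInner_comm_char hαc hχNc, horth, sub_self, sub_zero] at hm
    have h1 := congrArg Complex.re hm
    rw [Complex.sub_re, classInner_self_re, classInner_self_re, ← mul_sub, ← sum_sub_distrib,
      Complex.natCast_re] at h1
    have hN0 : (0 : ℝ) < Nat.card N := by exact_mod_cast Nat.card_pos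
    rw [inv_mul_eq_iff_eq_mul₀ hN0.ne'] at h1
    rw [h1]
    exact le_mul_of_one_le_right hN0.le (by exact_mod_cast Nat.one_le_iff_ne_zero.mpr hm0)
  have hW : ∀ x : N, (x : G) ∈ H ⊔ Z → ‖α x‖ = c := by
    intro x hx
    obtain ⟨h, hh, z, hz, hx'⟩ := Subgroup.mem_sup_of_normal_right.mp hx
    have : x = ⟨h, hHN hh⟩ * ⟨z, hZN hz⟩ := Subtype.ext hx'.symm
    rw [this, hα, avg_mul_left H' χN hh]
    have h1 : avg H' χN ⟨z, hZN hz⟩ = χ z / χ 1 * α 1 := by
      rw [hα, avg_apply, avg_apply, mul_left_comm, mul_sum (a := χ z / χ 1)]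
      congr 1
      refine sum_congr rfl fun k _ => ?_
      simp only [hχN, mul_one, Subgroup.coe_mul]
      rw [Subgroup.mem_center_iff.mp hz, char_mul_of_norm_eq hχc (norm_irr_of_mem_center hχ hz)]
    rw [h1, norm_mul, norm_div, norm_irr_of_mem_center hχ hz,
      div_self (norm_ne_zero_iff.mpr (irr_one_ne_zero hχ)), one_mul, hα1, Complex.norm_natCast]
  have hT : ∀ x : N, ¬ S x → (x : G) ∉ Z → α x = χ x := by
    intro x hxS hxZ
    have : ∀ k : H', χN (k * x) = χ x := by
      intro k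
      obtain ⟨y, -, hy⟩ := CfsgLib.Frob.exists_commutator_eq_of_fpf x.2
        (CfsgLib.Frob.fpf_iff.mpr fun h hh hhx => by
          by_contra hh1
          exact hxS ⟨hxZ, h, hh, hh1, hhx⟩) k.2
      change χ (((k : N) : G) * x) = _
      have hy' : ((k : N) : G) = _ := hy
      rw [hy', inv_mul_cancel_right, hcl]
    rw [hα, avg_apply, sum_congr rfl fun k _ => this k, sum_const, card_univ, nsmul_eq_mul,
      ← Nat.card_eq_fintype_card, ← mul_assoc, inv_mul_cancel₀ natCard_ne_zero, one_mul]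
  have hpt : ∀ x : N, ‖χ x‖ ^ 2 - ‖α x‖ ^ 2 ≤ (if S x then ‖χ x‖ ^ 2 else 0) +
      (if (x : G) ∈ Z then (n : ℝ) ^ 2 else 0) - (if (x : G) ∈ H ⊔ Z then (c : ℝ) ^ 2 else 0) := by
    intro x
    by_cases hxZ : (x : G) ∈ Z
    · have h1 : (x : G) ∈ H ⊔ Z := Subgroup.mem_sup_right hxZ
      rw [if_neg (fun h => h.1 hxZ), if_pos hxZ, if_pos h1, hW x h1, norm_irr_of_mem_center hχ hxZ,
        hn, Complex.norm_natCast, zero_add]
    · rw [if_neg hxZ, add_zero]
      by_cases hxS : S x
      · rw [if_pos hxS]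
        split_ifs with h
        · rw [hW x h]
        · simp
      · rw [if_neg hxS, hT x hxS hxZ, sub_self, if_neg, sub_self]
        intro hx
        obtain ⟨h, hh, z, hz, hx'⟩ := Subgroup.mem_sup_of_normal_right.mp hx
        refine hxS ⟨hxZ, h, hh, ?_, ?_⟩
        · rintro rfl
          exact hxZ (by rwa [← hx', one_mul])
        · rw [← hx', mul_assoc h z, ← Subgroup.mem_center_iff.mp hz h]
  have h5 := hβ.trans (sum_le_sum fun x _ => hpt x)
  have hcardZ : (univ.filter fun x : N => (x : G) ∈ Z).card = Nat.card Z := by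
    rw [← Nat.card_congr (Subgroup.subgroupOfEquivOfLe hZN).toEquiv, Nat.card_eq_fintype_card,
      Fintype.card_subtype]
    congr 1; ext x; simp [Subgroup.mem_subgroupOf]
  have hcardW : (univ.filter fun x : N => (x : G) ∈ H ⊔ Z).card = Nat.card H * Nat.card Z := by
    have := CfsgLib.Core.card_sup_mul_card_inf_of_normal H Z
    rw [hZ, Subgroup.card_bot, mul_one] at this
    rw [← this, ← Nat.card_congr (Subgroup.subgroupOfEquivOfLe (sup_le hHN hZN)).toEquiv,
      Nat.card_eq_fintype_card, Fintype.card_subtype]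
    congr 1
  have hsumS : ∑ x : N, (if S x then ‖χ x‖ ^ 2 else 0) = ∑ g with S g, ‖χ g‖ ^ 2 := by
    rw [← sum_filter]
    refine sum_bij (fun x _ => (x : G)) (fun x hx => by simpa using hx)
      (fun _ _ _ _ h => Subtype.ext h) (fun g hg => ?_) (fun _ _ => rfl)
    have hg' := (mem_filter.mp hg).2
    exact ⟨⟨g, hSN g hg'⟩, mem_filter.mpr ⟨mem_univ _, hg'⟩, rfl⟩
  rw [sum_sub_distrib, sum_add_distrib, hsumS, ← sum_filter, ← sum_filter, sum_const, sum_const,
    hcardZ, hcardW, nsmul_eq_mul, nsmul_eq_mul] at h5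
  have hZ0 : (0 : ℝ) < Nat.card Z := by exact_mod_cast Nat.card_pos
  have h6 : (Nat.card Z : ℝ) * (Nat.card H * c ^ 2) < Nat.card Z * n ^ 2 := by
    push_cast at h5
    linarith
  exact_mod_cast lt_of_mul_lt_mul_left h6 hZ0.le

/-- Let H be an abelian subgroup of the finite group G meeting the centre of G trivially, such that for every non-central g the centralizer of g has nontrivial intersection with at most one conjugate of H. Let χ be an irreducible character of G with χ h ≠ χ 1 for some h in H, and let c be the inner product of the restriction of χ to H with the principal character. Then χ(1)² > (order of H)·c²; and if in addition χ 1 ≠ 1 and no proper normal subgroup of G contains H, then (1 + χ 1)² > order of H (both sides read as real numbers). -/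
theorem result {G : Type*} [Group G] [Fintype G] (H : Subgroup G) [Fintype H] (hab : ∀ a ∈ H, ∀ b ∈ H, a * b = b * a) (hZ : H ⊓ Subgroup.center G = ⊥) (hone : ∀ g : G, g ∉ Subgroup.center G → ∀ a b : G, Subgroup.centralizer ({g} : Set G) ⊓ H.map (MulAut.conj a).toMonoidHom ≠ ⊥ → Subgroup.centralizer ({g} : Set G) ⊓ H.map (MulAut.conj b).toMonoidHom ≠ ⊥ → H.map (MulAut.conj a).toMonoidHom = H.map (MulAut.conj b).toMonoidHom) (χ : G → ℂ) (hχ : Cfsg.IsIrrCharacter G χ) (hker : ∃ h ∈ H, χ h ≠ χ 1) : (χ 1).re ^ 2 > (Nat.card H : ℝ) * (Cfsg.classInner (fun h : H => χ h) (fun _ => 1)).re ^ 2 ∧ (χ 1 ≠ 1 → (∀ M : Subgroup G, M.Normal → H ≤ M → M = ⊤) → (1 + (χ 1).re) ^ 2 > (Nat.card H : ℝ)) := by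
  classical
  have hχc := isCharacter_of_isIrr hχ
  obtain ⟨n, hn0, hn⟩ := exists_irr_one_eq_nat hχ
  obtain ⟨c, hc⟩ := exists_classInner_eq_nat (isCharacter_restrict H hχc) isCharacter_one
  refine ⟨?_, fun hne hM => ?_⟩
  · rw [hn, hc]
    simp only [Complex.natCast_re]
    exact_mod_cast part_a H hab hZ hone hχ hker hn hc
  have hn2 : 2 ≤ n := by
    by_contra h
    exact hne (by rw [hn, show n = 1 by omega, Nat.cast_one])
  -- decompose `χ * conj χ`
  have hΘ := isCharacter_mul hχc (isCharacter_conj hχc)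
  obtain ⟨m, hm, hΘ'⟩ := exists_char_eq_sum_nat hΘ
  choose d hd0 hd using fun ψ : IrrCharacter G => exists_irr_one_eq_nat ψ.2
  choose e he using fun ψ : IrrCharacter G =>
    exists_classInner_eq_nat (isCharacter_restrict H (irr_isCharacter ψ)) isCharacter_one
  have hm1 : m (irrOne G) = 1 := by
    have := (hm (irrOne G)).symm.trans ((classInner_mul_conj_one χ χ).trans (classInner_irr_self hχ))
    exact_mod_cast this
  have hd1 : d (irrOne G) = 1 := by
    have := hd (irrOne G)
    rw [irrOne_apply] at this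
    exact_mod_cast this.symm
  have he1 : e (irrOne G) = 1 := by exact_mod_cast (he (irrOne G)).symm.trans classInner_one_one
  have h1 : ∑ ψ, m ψ * d ψ = n ^ 2 := by
    have := congrFun hΘ' 1
    simp only [Pi.mul_apply, hn, map_natCast, Finset.sum_apply, Pi.smul_apply, smul_eq_mul,
      hd] at this
    rw [pow_two]
    exact_mod_cast this.symm
  have h2 : n ≤ ∑ ψ, m ψ * e ψ := by
    have hH : IsMulCommutative H := ⟨⟨fun a b => Subtype.ext (hab a a.2 b b.2)⟩⟩
    obtain ⟨k, hk, hk'⟩ := exists_char_eq_sum_nat (isCharacter_restrict H hχc)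
    have h3 : ∑ l, k l = n := by
      have := congrFun hk' 1
      simp only [OneMemClass.coe_one, hn, Finset.sum_apply, Pi.smul_apply, smul_eq_mul,
        irr_one_eq_one_of_comm (Subtype.prop _), mul_one] at this
      exact_mod_cast this.symm
    have h4 : ∑ l, k l * k l = ∑ ψ, m ψ * e ψ := by
      have h5 := classInner_eq_sum_irr (isClassFunction_restrict H
        (isClassFunction_of_isIrr hχ)) (fun h : H => χ h)
      have h6 : (fun h : H => χ h * conj (χ h)) =
          ∑ ψ : IrrCharacter G, (m ψ : ℂ) • fun h : H => (ψ : G → ℂ) h := by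
        funext h
        simpa using congrFun hΘ' h
      rw [← classInner_mul_conj_one, h6, classInner_sum_left] at h5
      simp only [classInner_smul_left, he, hk, map_natCast] at h5
      exact_mod_cast h5.symm
    rw [← h3, ← h4]
    exact sum_le_sum fun l _ => Nat.le_mul_self _
  set s := Real.sqrt (Nat.card H) with hs
  have hs0 : 0 ≤ s := Real.sqrt_nonneg _
  have h3 : ∀ ψ : IrrCharacter G, ψ ≠ irrOne G → s * e ψ < d ψ := by
    intro ψ hψ
    have := part_a H hab hZ hone ψ.2 (by
      by_contra h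
      push Not at h
      exact hψ (Subtype.ext (irr_eq_one_of_charKer_eq_top ψ.2 (hM _
        (charKer_normal (irr_isClassFunction ψ))
        fun x hx => (mem_charKer (irr_isCharacter ψ)).mpr (h x hx))))) (hd ψ) (he ψ)
    refine lt_of_pow_lt_pow_left₀ 2 (Nat.cast_nonneg _) ?_
    rw [mul_pow, hs, Real.sq_sqrt (Nat.cast_nonneg _)]
    exact_mod_cast this
  rw [← add_sum_erase _ _ (mem_univ (irrOne G)), hm1, one_mul] at h1 h2
  rw [hd1] at h1
  rw [he1] at h2
  have h4 : s * ∑ ψ ∈ univ.erase (irrOne G), (m ψ * e ψ : ℝ) <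
      ∑ ψ ∈ univ.erase (irrOne G), (m ψ * d ψ : ℝ) := by
    rw [mul_sum]
    obtain ⟨ψ, hψ, hψ'⟩ : ∃ ψ ∈ univ.erase (irrOne G), m ψ ≠ 0 := by
      by_contra h
      push Not at h
      rw [sum_eq_zero fun ψ hψ => by rw [h ψ hψ, zero_mul]] at h2
      omega
    refine sum_lt_sum (fun ψ hψ => ?_) ⟨ψ, hψ, ?_⟩
    · rw [mul_left_comm]
      exact mul_le_mul_of_nonneg_left (h3 ψ (mem_erase.mp hψ).1).le (Nat.cast_nonneg _)
    · rw [mul_left_comm]
      exact mul_lt_mul_of_pos_left (h3 ψ (mem_erase.mp hψ).1)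
        (by exact_mod_cast Nat.pos_of_ne_zero hψ')
  have h1' : (1 : ℝ) + ∑ ψ ∈ univ.erase (irrOne G), (m ψ * d ψ : ℝ) = n ^ 2 := by exact_mod_cast h1
  have h2' : (n : ℝ) ≤ 1 + ∑ ψ ∈ univ.erase (irrOne G), (m ψ * e ψ : ℝ) := by exact_mod_cast h2
  have hn2' : (2 : ℝ) ≤ n := by exact_mod_cast hn2
  have h5 : s < 1 + n := by
    by_contra h
    push Not at h
    nlinarith
  rw [hn, Complex.natCast_re, gt_iff_lt, ← Real.sq_sqrt (Nat.cast_nonneg (Nat.card H))]
  exact pow_lt_pow_left₀ h5 hs0 two_ne_zero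

end Cfsg.Agent.S0898
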