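import Cfsg.Statements.S0899
import Cfsg.Agent.S0898
import Cfsg.Agent.S0185
import Cfsg.Agent.Lib.Glaub.PGroup
import Cfsg.Agent.Lib.CharDeep.ProjFin
import Cfsg.Agent.Lib.Transfer.Abelian
import Cfsg.Agent.Lib.Transfer.Focal

set_option autoImplicit false
open Cfsg

namespace Cfsg.Agent.S0899

open CfsgLib.Char CfsgLib.Glaub CfsgLib.InvChar Finset
open scoped commutatorElement

/-- A constituent of small degree of a group with a normal `p`-complement has the Sylow
subgroup in its centre. -/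
theorem mem_charCenter_of_complement {G : Type*} [Group G] [Finite G] {p : ℕ} [hp : Fact p.Prime]
    (K P : Subgroup G) [K.Normal] (hK : ¬ p ∣ Nat.card K) (hP : IsPGroup p P)
    (hKP : K.index = Nat.card P) {ψ : G → ℂ} (hψ : IsIrrCharacter G ψ) {d : ℕ} (hd : ψ 1 = d)
    (hdp : d + 1 < p) : P ≤ charCenter ψ := by
  classical
  have := Fintype.ofFinite G
  have hψc := isCharacter_of_isIrr hψ
  have hKirr : IsIrrCharacter K (fun k => ψ k) := by
    obtain ⟨θ, hθ, h⟩ := exists_irr_inner_ne_zero (isClassFunction_restrict K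
      (isClassFunction_of_isIrr hψ)) (fun h => irr_one_ne_zero hψ (by simpa using congrFun h 1))
    obtain ⟨e, he, he'⟩ := CfsgLib.CharDeep.exists_degree_eq_mul K hθ hψ h
    obtain ⟨k, hk⟩ := IsPGroup.iff_card.mp hP
    obtain ⟨j, -, rfl⟩ := (Nat.dvd_prime_pow hp.out).mp (hk ▸ hKP ▸ he)
    obtain ⟨t, ht0, ht⟩ := exists_irr_one_eq_nat hθ
    have hj : j = 0 := by
      by_contra hj
      rw [hd, ht] at he'
      have h1 : d = p ^ j * t := by exact_mod_cast he'
      have := Nat.le_mul_of_pos_right (p ^ j) ht0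
      have := Nat.le_self_pow hj p
      omega
    have := char_eq_zero_of_one_eq_zero
      (isCharacter_sub_of_inner_ne_zero (isCharacter_restrict K hψc) hθ h) (by simp [he', hj])
    rw [sub_eq_zero] at this
    rwa [this]
  let φ := conjAut P K fun s _ g hg => ‹K.Normal›.conj_mem g hg s
  obtain ⟨e, he⟩ := glauberman_pgroup hP φ hK (fixSub φ).subtype Subtype.val_injective
    (fun g => by simp [mem_fixSub])
  let θ : InvIrr φ := ⟨⟨_, hKirr⟩, fun a g => isClassFunction_of_isIrr hψ _ _⟩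
  choose b hb0 hb using fun β : IrrCharacter (fixSub φ) => exists_irr_one_eq_nat β.2
  have hsum := fun c => res_eq_sum_mult (fixSub φ).subtype (isCharacter_of_isIrr hKirr) c
  have hle : ∀ β : IrrCharacter (fixSub φ), mult (fixSub φ).subtype θ.1 β ≤ d := by
    intro β
    have h1 := hsum 1
    simp only [map_one, OneMemClass.coe_one, hd, hb] at h1
    have h2 : d = ∑ β : IrrCharacter (fixSub φ), mult (fixSub φ).subtype θ.1 β * b β := by
      exact_mod_cast h1
    rw [h2]
    exact (Nat.le_mul_of_pos_right _ (hb0 β)).trans (single_le_sum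
      (f := fun β : IrrCharacter (fixSub φ) => mult (fixSub φ).subtype θ.1 β * b β)
      (fun _ _ => Nat.zero_le _) (mem_univ β))
  have hC : (fun c : fixSub φ => ψ (c : K)) = (e θ : fixSub φ → ℂ) := by
    funext c
    refine (hsum c).trans ?_
    rw [sum_eq_single (e θ)]
    · have h1 : mult (fixSub φ).subtype θ.1 (e θ) = 1 := by
        have h2 := hle (e θ)
        rcases (he θ _).1 rfl with h | h
        · rw [← Nat.cast_one (R := ZMod p), ZMod.natCast_eq_natCast_iff'] at h
          rwa [Nat.mod_eq_of_lt (by omega), Nat.mod_eq_of_lt (by omega)] at h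
        · rw [eq_neg_iff_add_eq_zero, ← Nat.cast_add_one, ZMod.natCast_eq_zero_iff] at h
          have := Nat.le_of_dvd (by omega) h
          omega
      erw [h1]
      simp
    · intro β _ hβ
      have h1 : mult (fixSub φ).subtype θ.1 β = 0 :=
        Nat.eq_zero_of_dvd_of_lt (by_contra fun h => hβ ((he θ β).2.mpr h))
          (by have := hle β; omega)
      erw [h1]
      simp
    · simp
  intro g hg
  rw [mem_charCenter hψc]
  obtain ⟨n, ρ, hρ, rfl⟩ := hψ
  let σ : Representation ℂ (fixSub φ) _ := ρ.comp (K.subtype.comp (fixSub φ).subtype)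
  have : σ.IsIrreducible := isIrreducible_of_isIrr_character σ (by
    change IsIrrCharacter _ fun c : fixSub φ => ρ.character (c : K)
    rw [hC]; exact (e θ).2)
  obtain ⟨c, hc⟩ := exists_eq_smul_of_comm σ (ρ g) fun c => by
    change ρ g * ρ (c : K) = ρ (c : K) * ρ g
    have : g * (c : K) * g⁻¹ = (c : K) := congrArg Subtype.val (c.2 ⟨g, hg⟩)
    rw [← map_mul, ← map_mul, mul_inv_eq_iff_eq_mul.mp this]
  rw [(norm_char_eq_iff_smul ρ g).mpr ⟨c, hc⟩, Representation.char_one, Complex.norm_natCast]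

theorem normal_of_equiv {A B : Type*} [Group A] [Group B] [Finite A] {p : ℕ} [Fact p.Prime]
    (e : A ≃* B) (h : ∀ Q : Sylow p A, (Q : Subgroup A).Normal) (Q : Sylow p B) :
    (Q : Subgroup B).Normal := by
  obtain ⟨Q', rfl⟩ := Sylow.mapSurjective_surjective (f := e.toMonoidHom) e.surjective p Q
  exact (h Q').map _ e.surjective

universe u

theorem aux (n p : ℕ) [hp : Fact p.Prime] (hn : n + 1 < p) (m : ℕ) : ∀ (G : Type u) [Group G]
    [Finite G], Nat.card G = m → ∀ ρ : Representation ℂ G (Fin n → ℂ), Function.Injective ρ →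
    ((n + 1) ^ 2 ≤ p ∨ ∀ K : Subgroup G, ¬ p ^ 2 ∣ Nat.card K → ∀ Q : Sylow p K,
      (Q : Subgroup K).Normal) → ∀ P : Sylow p G, (P : Subgroup G).Normal := by
  induction m using Nat.strong_induction_on with
  | _ m ih =>
  intro G _ _ hm ρ hρ h P
  classical
  have := Fintype.ofFinite G
  by_contra hPn
  have hsub : ∀ H : Subgroup G, H ≠ ⊤ → ∀ Q : Sylow p H, (Q : Subgroup H).Normal := by
    intro H hH
    refine ih _ (hm ▸ lt_of_le_of_ne H.card_le_card_group
      fun h => hH (H.eq_top_of_card_eq h)) H rfl (ρ.comp H.subtype)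
      (hρ.comp Subtype.val_injective) (h.imp_right fun h L hL => ?_)
    exact normal_of_equiv (L.equivMapOfInjective _ H.subtype_injective).symm
      (h _ (by rwa [Subgroup.card_map_of_injective H.subtype_injective]))
  have hab : ∀ Q : Sylow p G, ∀ a ∈ (Q : Subgroup G), ∀ b ∈ (Q : Subgroup G), a * b = b * a := by
    intro Q a ha b hb
    refine congrArg Subtype.val (Cfsg.Agent.S0185.result (ρ.comp (Q : Subgroup G).subtype)
      (hρ.comp Subtype.val_injective) (fun q hq hqd => ?_) ⟨a, ha⟩ ⟨b, hb⟩)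
    obtain ⟨k, hk⟩ := IsPGroup.iff_card.mp Q.2
    rw [(Nat.prime_dvd_prime_iff_eq hq hp.out).mp (hq.dvd_of_dvd_pow (hk ▸ hqd))]
    simp only [Module.finrank_fin_fun]
    omega
  have hB : ∀ H : Subgroup G, H ≠ ⊤ → ∀ Q R : Sylow p G, (Q : Subgroup G) ≤ H →
      (R : Subgroup G) ≤ H → Q = R := by
    intro H hH Q R hQ hR
    have := Sylow.unique_of_normal _ (hsub H hH (Q.subtype hQ))
    exact Sylow.subtype_injective (Subsingleton.elim (Q.subtype hQ) (R.subtype hR))
  have hA : ∀ Q R : Sylow p G, ∀ x ∈ (Q : Subgroup G), x ∈ (R : Subgroup G) →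
      x ∉ Subgroup.center G → Q = R := fun Q R x hQ hR hx =>
    hB (Subgroup.centralizer {x}) (fun h => hx (Subgroup.mem_center_iff.mpr fun g =>
      Subgroup.mem_centralizer_singleton_iff.mp (h ▸ Subgroup.mem_top g))) Q R
      (fun g hg => Subgroup.mem_centralizer_singleton_iff.mpr (hab Q _ hg _ hQ))
      (fun g hg => Subgroup.mem_centralizer_singleton_iff.mpr (hab R _ hg _ hR))
  have hC : ∀ H : Subgroup G, H ≠ ⊤ → ∀ Q R : Sylow p G, ∀ x ∈ H, ∀ y ∈ H, x ∈ (Q : Subgroup G) →
      y ∈ (R : Subgroup G) → x ∉ Subgroup.center G → y ∉ Subgroup.center G → Q = R := by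
    intro H hH Q R x hx y hy hxQ hyR hxZ hyZ
    obtain ⟨S⟩ : Nonempty (Sylow p H) := inferInstance
    have := Sylow.unique_of_normal _ (hsub H hH S)
    obtain ⟨T, hT⟩ := (S.2.map H.subtype).exists_le_sylow
    have key : ∀ U : Sylow p G, ∀ z ∈ H, z ∈ (U : Subgroup G) → z ∈ (T : Subgroup G) := by
      intro U z hz hzU
      obtain ⟨S', hS'⟩ := (U.2.comap_subtype (K := H)).exists_le_sylow
      rw [Subsingleton.elim S' S] at hS'
      exact hT ⟨⟨z, hz⟩, hS' hzU, rfl⟩
    rw [hA Q T x hxQ (key Q x hx hxQ) hxZ, hA R T y hyR (key R y hy hyR) hyZ]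
  have hconj : ∀ a x : G, a * x * a⁻¹ ∈ Subgroup.center G → a * x * a⁻¹ = x := fun a x hx => by
    have := Subgroup.mem_center_iff.mp hx a⁻¹
    rw [← mul_assoc, ← mul_assoc, inv_mul_cancel, one_mul, mul_left_inj] at this
    exact this.symm
  have hnorm : (∀ g : G, g • P = P) → False := fun h =>
    hPn (Subgroup.normalizer_eq_top_iff.mp (eq_top_iff.mpr fun g _ =>
      Sylow.smul_eq_iff_mem_normalizer.mp (h g)))
  have hPc : IsMulCommutative P := ⟨⟨fun a b => Subtype.ext (hab P a a.2 b b.2)⟩⟩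
  have hD : (P : Subgroup G) ⊓ commutator G ⊓ Subgroup.center G = ⊥ := by
    refine le_bot_iff.mp ((CfsgLib.Transfer.inf_commutator_inf_center_le_of_hall
      P.card_coprime_index).trans ?_)
    rw [Subgroup.commutator_le]
    exact fun a ha b hb => commutatorElement_eq_one_iff_mul_comm.mpr (hab P a ha b hb)
  obtain ⟨k, hk, hk'⟩ := exists_char_eq_sum_nat (isCharacter_of_rep ρ)
  choose d hd0 hd using fun ψ : IrrCharacter G => exists_irr_one_eq_nat ψ.2
  have hdn : ∀ ψ, k ψ ≠ 0 → d ψ ≤ n := by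
    intro ψ hψ
    have h1 := congrFun hk' 1
    simp only [Representation.char_one, Module.finrank_fin_fun, Finset.sum_apply, Pi.smul_apply,
      hd, smul_eq_mul] at h1
    have h2 : n = ∑ ψ, k ψ * d ψ := by exact_mod_cast h1
    rw [h2]
    exact (Nat.le_mul_of_pos_left _ (Nat.pos_of_ne_zero hψ)).trans
      (single_le_sum (f := fun ψ => k ψ * d ψ) (fun _ _ => Nat.zero_le _) (mem_univ ψ))
  have hker : ∀ g : G, (∀ ψ : IrrCharacter G, k ψ ≠ 0 → (ψ : G → ℂ) g = (ψ : G → ℂ) 1) →
      g = 1 := by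
    intro g hg
    apply hρ
    rw [map_one, ← MonoidHom.mem_ker, ← char_eq_one_iff_mem_ker, hk']
    simp only [Finset.sum_apply, Pi.smul_apply, smul_eq_mul]
    refine sum_congr rfl fun ψ _ => ?_
    by_cases hψ : k ψ = 0
    · simp [hψ]
    · rw [hg ψ hψ]
  by_cases hG' : commutator G = ⊤
  · rw [hG', inf_top_eq] at hD
    have hZ : ∀ a : G, ∀ x ∈ (P : Subgroup G).map (MulAut.conj a).toMonoidHom, x ≠ 1 →
        x ∉ Subgroup.center G := by
      rintro a _ ⟨x, hx, rfl⟩ hx1 hxZ
      have h1 := hconj a x hxZ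
      change a * x * a⁻¹ ∈ _ at hxZ
      rw [h1] at hxZ
      exact hx1 (by rw [Subgroup.mem_bot.mp (hD ▸ ⟨hx, hxZ⟩ : x ∈ (⊥ : Subgroup G)), map_one])
    have hP1 : (P : Subgroup G) ≠ ⊥ := fun h => hPn (h ▸ inferInstance)
    obtain ⟨⟨x, hx⟩, hx1⟩ := Subgroup.ne_bot_iff_exists_ne_one.mp hP1
    obtain ⟨ψ, hψ, hψx⟩ : ∃ ψ : IrrCharacter G, k ψ ≠ 0 ∧ (ψ : G → ℂ) x ≠ (ψ : G → ℂ) 1 := by
      by_contra h
      push Not at h
      exact hx1 (Subtype.ext (hker x h))
    have h1 := (Cfsg.Agent.S0898.result (P : Subgroup G) (hab P) hD (fun g hg a b ha hb => by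
      obtain ⟨⟨x, hx, hxa⟩, hx1⟩ := Subgroup.ne_bot_iff_exists_ne_one.mp ha
      obtain ⟨⟨y, hy, hyb⟩, hy1⟩ := Subgroup.ne_bot_iff_exists_ne_one.mp hb
      exact congrArg (fun Q : Sylow p G => (Q : Subgroup G)) (hC (Subgroup.centralizer {g})
        (fun h => hg (Subgroup.mem_center_iff.mpr fun g =>
          Subgroup.mem_centralizer_singleton_iff.mp (h ▸ Subgroup.mem_top g))) (a • P) (b • P)
        x hx y hy hxa hyb (hZ a x hxa fun h => hx1 (Subtype.ext h))
        (hZ b y hyb fun h => hy1 (Subtype.ext h)))) ψ ψ.2 ⟨x, hx, hψx⟩).2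
      (fun h => hψx ((mem_charKer (irr_isCharacter ψ)).mp
        ((irr_one_eq_one_iff ψ.2).mp h (hG' ▸ Subgroup.mem_top x))))
      (fun M hM hPM => by
        by_contra hM'
        exact hnorm fun g => hB M hM' _ _ (map_conj_le_iff.mpr fun x hx => hM.conj_mem x (hPM hx) g)
          hPM)
    rw [hd, Complex.natCast_re] at h1
    have h2 : Nat.card P < (1 + d ψ) ^ 2 := by exact_mod_cast h1
    have h3 : Nat.card P < (n + 1) ^ 2 :=
      h2.trans_le (Nat.pow_le_pow_left (by have := hdn ψ hψ; omega) 2)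
    rcases h with h | h
    · exact absurd (Nat.le_of_dvd Nat.card_pos (P.2.card_eq_or_dvd.resolve_left
        fun h => hP1 (Subgroup.card_eq_one.mp h))) (by omega)
    · refine hPn (normal_of_equiv Subgroup.topEquiv (h ⊤ fun h2 => ?_) P)
      rw [Subgroup.card_top] at h2
      have h4 := Nat.le_of_dvd Nat.card_pos (P.pow_dvd_card_of_pow_dvd_card h2)
      have := Nat.pow_le_pow_left hn.le 2
      omega
  · have h1 : commutator G ⊓ P = ⊥ := by
      rw [eq_bot_iff, ← hD]
      rintro x ⟨hx, hxP⟩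
      refine ⟨⟨hxP, hx⟩, by_contra fun hxZ => hnorm fun g => ?_⟩
      exact hC _ hG' _ _ _ (Subgroup.Normal.conj_mem inferInstance x hx g) x hx
        (conj_mem_map_conj g hxP) hxP (fun h => hxZ (hconj g x h ▸ h)) hxZ
    rw [CfsgLib.Transfer.commutator_inf_eq_of_abelian_sylow P hPc, Subgroup.commutator_comm,
      Subgroup.commutator_eq_bot_iff_le_centralizer] at h1
    refine hPn ⟨fun x hx g => ?_⟩
    have : ⁅x, g⁆ = 1 := hker _ fun ψ hψ => (mem_charKer (irr_isCharacter ψ)).mp
      (commutator_mem_charKer (irr_isClassFunction ψ) (mem_charCenter_of_complement _ _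
        (MonoidHom.not_dvd_card_ker_transferSylow P h1) P.2
        (MonoidHom.ker_transferSylow_isComplement' P h1).symm.index_eq_card ψ.2 (hd ψ)
        (by have := hdn ψ hψ; omega) hx) g)
    rwa [← commutatorElement_eq_one_iff_mul_comm.mp this, mul_inv_cancel_right]

/-- Let G be a finite group with a faithful complex representation of degree n (on Fin n → ℂ) and p a prime. Suppose either that (n + 1) ^ 2 ≤ p, or that n + 1 < p and every subgroup of G whose order is not divisible by p ^ 2 has a normal Sylow p-subgroup. Then every Sylow p-subgroup of G is normal. -/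
theorem result {G : Type*} [Group G] [Finite G] (n : ℕ) (ρ : Representation ℂ G (Fin n → ℂ)) (hρ : Function.Injective ρ) (p : ℕ) [Fact p.Prime] (h : (n + 1) ^ 2 ≤ p ∨ (n + 1 < p ∧ ∀ K : Subgroup G, ¬ p ^ 2 ∣ Nat.card K → ∀ Q : Sylow p K, (Q : Subgroup K).Normal)) (P : Sylow p G) : (P : Subgroup G).Normal := by
  rcases Nat.eq_zero_or_pos n with rfl | hn
  · have : Subsingleton G := hρ.subsingleton
    exact ⟨fun x hx g => by rwa [Subsingleton.elim (g * x * g⁻¹) x]⟩
  refine aux n p ?_ _ G rfl ρ hρ (h.imp_right And.right) P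
  rcases h with h | h
  · nlinarith
  · exact h.1

end Cfsg.Agent.S0899
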