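import Mathlib
-- Template for statement S0336 (row 336; see /opt/grader/pristine/manifest.json for weights).
-- Copy to Cfsg/Agent/S0336.lean and replace the sorry. The statement below is byte-identical to the frozen
-- statement Cfsg.CfsgFrozen.S0336 (Cfsg/Statements/S0336.lean; the theorem Cfsg.simple_order_coprime_three_is_suzuki);
-- the grader kernel-checks Cfsg.Agent.S0336.result against that frozen type. Keep the theorem IN THIS FILE
-- (a `result` declared elsewhere and merely imported here is not credited); helpers may live anywhere
-- under Cfsg/Agent/.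
import Cfsg.Statements.S0336
import Cfsg.Agent.Lib.Gold.All
import Cfsg.Agent.Lib.Gold.Cor1

set_option autoImplicit false
open Cfsg

namespace Cfsg.Agent.S0336

/-- A finite non-abelian simple group of order prime to `3` has the order of a Suzuki
group `q²(q²+1)(q-1)`, `q = 2^(2m+1)`, `m ≥ 1` (stated with the order-level predicate `IsSuzuki`). -/
theorem result {G : Type*} [Group G] [Finite G] [IsSimpleGroup G]
    (hG : ∃ a b : G, a * b ≠ b * a) (h3 : ¬ 3 ∣ Nat.card G) : Cfsg.IsSuzuki G := by
  exact CfsgLib.Gold.Cor.s0336 CfsgLib.Gold.all hG h3

end Cfsg.Agent.S0336
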