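import Cfsg.Statements.S3216
import Cfsg.Agent.Lib.TL2.Main
import Cfsg.Agent.Lib.WCor.In
import Cfsg.Agent.Lib.Abel2.Main
import Cfsg.Agent.Lib.Core.Cores

set_option autoImplicit false
open Cfsg

namespace Cfsg.Agent.S3216

open Subgroup CfsgLib CfsgLib.Tech CfsgLib.TL2

/-- Let G be a finite non-abelian simple group and t an involution of G; write C = C_G(t) and C̄ = C/O(C). If the subgroup of C̄ generated by its 2-elements (the smallest normal subgroup of C̄ of odd index) is isomorphic to Z₂ × PSL₂(q) for some prime power q > 3, then the Sylow 2-subgroups of G are elementary abelian of order 8. -/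
theorem result {G : Type*} [Group G] [Finite G] [IsSimpleGroup G]
    (hG : ¬ IsMulCommutative G) (t : G) (ht : orderOf t = 2) {F : Type*} [Field F] [Fintype F] (hF : 3 < Fintype.card F)
    (hL : Nonempty (↥(Subgroup.closure {x : (↥(Subgroup.centralizer ({t} : Set G)) ⧸ Cfsg.oddCore ↥(Subgroup.centralizer ({t} : Set G))) | ∃ k : ℕ, orderOf x = 2 ^ k}) ≃*
      (Multiplicative (ZMod 2) × Matrix.ProjectiveSpecialLinearGroup (Fin 2) F))) (S : Sylow 2 G) :
    Nat.card ↥(S : Subgroup G) = 8 ∧ ∀ x ∈ (S : Subgroup G), x ^ 2 = 1 := by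
  obtain ⟨e⟩ := hL
  obtain ⟨Kb, hKb⟩ : ∃ Kb : Subgroup (centralizer ({t} : Set G) ⧸ oddCore (centralizer ({t} : Set G))),
    Kb = Subgroup.closure {x | ∃ k : ℕ, orderOf x = 2 ^ k} := ⟨_, rfl⟩
  rw [← hKb] at e
  have nb : Kb.Normal := ⟨fun x hx g => by
    have : Kb ≤ comap (MulAut.conj g).toMonoidHom Kb := hKb.le.trans ((closure_le _).2 fun y hy =>
      hKb.ge (Subgroup.subset_closure (hy.imp fun k hk => (orderOf_conj_eq g y).trans hk)))
    exact this hx⟩
  let q := QuotientGroup.mk' (oddCore (centralizer ({t} : Set G)))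
  let f := ((Kb.comap q).equivMapOfInjective _ (centralizer ({t} : Set G)).subtype_injective).symm
  have hs : IsSimpleGroup (Matrix.ProjectiveSpecialLinearGroup (Fin 2) F) :=
    CfsgLib.Classical.psl_fin_isSimpleGroup 2 le_rfl fun _ => hF
  have nc := Abel2.psl_not_comm (F := F) hF
  have h : Hyp t _ (e.toMonoidHom.comp ((q.subgroupComap Kb).comp f.toMonoidHom)) :=
    { ord := ht
      le := map_subtype_le _
      norm := fun g hg => mem_normalizer_of_forall (by
        rintro _ ⟨x, hx, rfl⟩
        exact ⟨_, (nb.comap q).conj_mem x hx ⟨g, hg⟩, rfl⟩)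
      two := fun x k hx h2 => by
        refine ⟨⟨x, mem_centralizer_singleton_iff.2 hx⟩, hKb ▸ Subgroup.subset_closure ?_, rfl⟩
        obtain ⟨i, -, hi⟩ := (Nat.dvd_prime_pow Nat.prime_two).1 (orderOf_dvd_of_pow_eq_one
          (x := q ⟨x, mem_centralizer_singleton_iff.2 hx⟩) (n := 2 ^ k) (by
            rw [← map_pow, ← map_one q]; exact congrArg q (Subtype.ext h2)))
        exact ⟨i, hi⟩
      surj := e.surjective.comp ((q.subgroupComap_surjective_of_surjective Kb (QuotientGroup.mk'_surjective _)).comp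
        f.surjective)
      odd := fun x hx => by
        have h1 : (f x).1 ∈ oddCore (centralizer ({t} : Set G)) :=
          (QuotientGroup.eq_one_iff _).1 (congrArg Subtype.val (e.map_eq_one_iff.1 hx))
        rw [← f.orderOf_eq, ← orderOf_coe]
        exact Nat.coprime_two_right.1 ((Core.coprime_card_pPrimeCore 2 _).of_dvd_left
          (orderOf_dvd_natCard _ h1))
      cen := fun z hz => by
        refine mem_bot.1 (((hs.eq_bot_or_eq_top_of_normal (center _) inferInstance).resolve_right fun c => nc ?_) ▸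
          mem_center_iff.2 hz)
        exact ⟨⟨fun a b => mem_center_iff.1 (c ▸ mem_top b) a⟩⟩
      fus := (psl_facts hF).1
      syl := (psl_facts hF).2 }
  have hp : commutator G = ⊤ := (‹IsSimpleGroup G›.eq_bot_or_eq_top_of_normal _ inferInstance).resolve_left
    fun c => hG ⟨⟨fun a b => commutatorElement_eq_one_iff_mul_comm.1
      (mem_bot.1 (c ▸ commutator_mem_commutator (mem_top a) (mem_top b)))⟩⟩
  have hab : Abel2.Ab2 G := fun P => ⟨⟨fun x y => Subtype.ext (by
    have sq := (h.sylow hp P).1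
    have := inv_eq_of_mul_eq_one_right (sq _ (mul_mem x.2 y.2))
    rw [mul_inv_rev, inv_eq_of_mul_eq_one_right (sq x x.2), inv_eq_of_mul_eq_one_right (sq y y.2)] at this
    exact this.symm)⟩⟩
  refine ⟨?_, fun x hx => by rw [pow_two, (h.sylow hp S).1 x hx]⟩
  rcases Abel2.classify WCor.inputs ‹_› hG hab with ⟨E, _, _, _, -, ⟨g⟩⟩ | ⟨E, _, _, h1, h2, ⟨g⟩⟩ | hJ
  · refine (nc ⟨⟨fun a b => ?_⟩⟩).elim
    obtain ⟨x, hx⟩ := h.surj (1, a)
    obtain ⟨y, hy⟩ := h.surj (1, b)
    have c : ∀ z ∈ centralizer ({t} : Set G), g z ∈ centralizer {g t} := fun z hz => by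
      rw [mem_centralizer_singleton_iff] at hz ⊢
      rw [← map_mul, hz, map_mul]
    have := (Abel2.even_cent (v := g t) (n := 1) (by simpa using ne_one_of_orderOf_two ht)
      (by rw [← map_pow, pow_one, pow_two, mul_self_of_orderOf_two ht, map_one]) _ (c x (h.le x.2))).2 _ (c y (h.le y.2))
    rw [← map_mul, ← map_mul, g.apply_eq_iff_eq] at this
    have := congrArg (fun z => (e.toMonoidHom.comp ((q.subgroupComap Kb).comp f.toMonoidHom) z).2)
      (show x * y = y * x from Subtype.ext this)
    simpa only [map_mul, hx, hy, Prod.snd_mul] using this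
  · have := (Abel2.card_sylow_of_psl h1 h2 ⊤ (topEquiv.trans g) (by
      rw [coe_top, centralizer_univ]
      exact (‹IsSimpleGroup G›.eq_bot_or_eq_top_of_normal _ inferInstance).resolve_right fun c =>
        hG ⟨⟨fun a b => mem_center_iff.1 (c ▸ mem_top b) a⟩⟩) hab S).2
    have := (h.sylow hp S).2
    omega
  · exact hJ.card_sylow S

end Cfsg.Agent.S3216
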