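import Cfsg.Statements.S4888
import Cfsg.Agent.Lib.Cover.PRat
import Cfsg.Agent.Lib.Blk.BF
import Cfsg.Agent.Lib.Block.Real
import Cfsg.Agent.Lib.Block.Principal
import Cfsg.Agent.Lib.Transfer.NormalComplement

set_option autoImplicit false
open Cfsg

namespace Cfsg.Agent.S4888

open CfsgLib CfsgLib.Blk CfsgLib.Block CfsgLib.Char CfsgLib.Cover

theorem card_wt {S : Type*} [Fintype S] (w : S → ℕ) :
    Nat.card {x : S × ℕ // x.2 < w x.1} = ∑ x, w x := by
  have e : {x : S × ℕ // x.2 < w x.1} ≃ Σ x : S, Fin (w x) :=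
    ⟨fun x => ⟨x.1.1, x.1.2, x.2⟩, fun x => ⟨(x.1, x.2), x.2.2⟩, fun _ => rfl, fun _ => rfl⟩
  rw [Nat.card_congr e, Nat.card_eq_fintype_card]
  simp

theorem wt_modEq {P S : Type*} [Group P] [MulAction P S] [Fintype S] {p : ℕ} [Fact p.Prime]
    (hP : IsPGroup p P) (w v : S → ℕ) (hw : ∀ (g : P) x, w (g • x) = w x)
    (h1 : ∀ x, (∀ g : P, g • x = x) → v x = w x) (h2 : ∀ x, (¬ ∀ g : P, g • x = x) → v x = 0) :
    ∑ x, w x ≡ ∑ x, v x [MOD p] := by
  let act : MulAction P {x : S × ℕ // x.2 < w x.1} :=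
    { smul := fun g x => ⟨(g • x.1.1, x.1.2), by rw [hw]; exact x.2⟩
      one_smul := fun x => Subtype.ext (Prod.ext (one_smul P x.1.1) rfl)
      mul_smul := fun g h x => Subtype.ext (Prod.ext (mul_smul g h x.1.1) rfl) }
  have : Finite {x : S × ℕ // x.2 < w x.1} := Finite.of_injective
    (β := S × Fin (∑ x, w x)) (fun x => (x.1.1, ⟨x.1.2, x.2.trans_le
      (Finset.single_le_sum (fun _ _ => Nat.zero_le _) (Finset.mem_univ _))⟩))
    fun x y h => Subtype.ext (Prod.ext (congrArg (fun z => z.1) h :)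
      (congrArg (fun z => z.2.1) h :))
  have h := hP.card_modEq_card_fixedPoints {x : S × ℕ // x.2 < w x.1}
  rw [card_wt] at h
  rw [← card_wt v]
  refine h.trans (by
    rw [Nat.card_congr (β := {x : S × ℕ // x.2 < v x.1})
      ⟨fun x => ⟨x.1.1, by
        rw [h1 _ fun g => congrArg (fun z => z.1.1) (x.2 g)]; exact x.1.2⟩,
      fun x => ⟨⟨x.1, by
        rw [← h1 _ (by_contra fun h => absurd (h2 _ h ▸ x.2) (Nat.not_lt_zero _))]; exact x.2⟩,
        fun g => Subtype.ext (Prod.ext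
          (by_contra fun h => absurd (h2 _ (fun h' => h (h' g)) ▸ x.2) (Nat.not_lt_zero _)) rfl)⟩,
      fun _ => rfl, fun _ => rfl⟩])

variable {G : Type*} [Group G] [Finite G] {M : Ideal AlgInt} {p : ℕ}

theorem height_zero_iff (hM : IsPModular p M) {χ : IrrCharacter G}
    (hχ : χ ∈ principalBlock M G) :
    blockHeight p (principalBlock M G) (χ : G → ℂ) = 0 ↔ ¬ p ∣ charDegree (χ : G → ℂ) := by
  have := Fintype.ofFinite G
  have h0 := minv_le (p := p) (irrOne_mem_principalBlock (G := G) hM)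
  have h1 := minv_add_height (p := p) hχ
  have h2 : charDegree (irrOne G : G → ℂ) = 1 := by simp [charDegree, irrOne_apply]
  rw [h2, Nat.factorization_one] at h0
  rw [hM.1.dvd_iff_one_le_factorization (charDegree_ne_zero χ.2)]
  simp only [Finsupp.coe_zero, Pi.zero_apply] at h0
  omega

theorem hom_eq_one [Fact p.Prime] (h : pResidual p G = ⊤) (μ : G →* ℂˣ) {e : ℕ}
    (he : ∀ x, μ x ^ p ^ e = 1) (x : G) : μ x = 1 :=
  congrArg Subtype.val (Transfer.map_eq_one_of_pResidual_eq_top h (H := μ.range) (by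
    rintro ⟨_, y, rfl⟩
    exact ⟨e, Subtype.ext (he y)⟩) μ.rangeRestrict x)

theorem not_dvd_detOrder [Fact p.Prime] (h : pResidual p G = ⊤) (θ : IrrCharacter G) :
    ¬ p ∣ detOrder (θ : G → ℂ) := by
  intro hθ
  obtain ⟨μ, hμ⟩ := CharDeep.exists_hom_detChar (θ : G → ℂ)
  obtain ⟨e, m, hm, he⟩ := Nat.exists_eq_pow_mul_and_not_dvd (Nat.card_pos (α := G)).ne' p
    (Fact.out : p.Prime).ne_one
  apply hm
  refine hθ.trans (detOrder_dvd_iff.2 fun x => ?_)
  have e2 : μ x ^ m = 1 := hom_eq_one h (μ ^ m) (e := e) (fun y => by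
    rw [MonoidHom.pow_apply, ← pow_mul, mul_comm, ← he, ← map_pow, pow_card_eq_one', map_one]) x
  rw [hμ, ← Units.val_pow_eq_pow_val, e2, Units.val_one]

/-- The invariant linear characters in the principal block of a normal subgroup. -/
def linB (hM : IsPModular p M) (K : Subgroup G) [K.Normal] : Subgroup (K →* ℂˣ) where
  carrier := {μ | (∀ (g : G) x, μ (MulAut.conjNormal g x) = μ x) ∧ ∀ x : K, MemLocalIdeal M
    ((Subgroup.centralizer ({x} : Set K)).index * ((μ x : ℂ) - 1))}
  one_mem' := ⟨fun _ _ => rfl, fun x => by simpa using li_zero hM⟩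
  mul_mem' := fun {μ ν} hμ hν => ⟨fun g x => by simp [hμ.1, hν.1], fun x => by
    have := li_add hM (li_mul_right hM (hμ.2 x)
      (lr_char hM (isCharacter_of_isIrr (isIrr_unitsHom ν)) x)) (hν.2 x)
    convert this using 1
    simp only [MonoidHom.mul_apply, Units.val_mul]
    ring⟩
  inv_mem' := fun {μ} hμ => ⟨fun g x => by simp [hμ.1], fun x => by
    have := li_neg (li_mul_right hM (hμ.2 x)
      (lr_char hM (isCharacter_of_isIrr (isIrr_unitsHom μ⁻¹)) x))
    convert this using 1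
    simp only [MonoidHom.inv_apply, Units.val_inv_eq_inv_val]
    field_simp
    ring⟩

theorem card_linB (hM : IsPModular p M) (K : Subgroup G) [K.Normal] :
    Nat.card (linB hM K) = Nat.card {θ : IrrCharacter K // (∀ g : G, conjIrr K g θ = θ) ∧
      θ ∈ principalBlock M K ∧ charDegree (θ : K → ℂ) = 1} := by
  have key : ∀ μ : K →* ℂˣ, (⟨_, isIrr_unitsHom μ⟩ : IrrCharacter K) ∈ principalBlock M K ↔
      ∀ x : K, MemLocalIdeal M
        ((Subgroup.centralizer ({x} : Set K)).index * ((μ x : ℂ) - 1)) := fun μ => by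
    rw [mem_principalBlock_iff]
    refine forall_congr' fun x => ?_
    simp [centralChar, mul_sub]
  refine Nat.card_congr (Equiv.ofBijective (fun μ => ⟨⟨_, isIrr_unitsHom μ.1⟩,
    fun g => Subtype.ext (funext fun x => congrArg Units.val (μ.2.1 g x)), (key _).2 μ.2.2,
    ChDeg.deg_eq_of_eq (by simp)⟩) ⟨fun μ ν h => Subtype.ext (MonoidHom.ext fun x =>
      Units.ext (congrFun (congrArg (fun z => z.1.1) h) x)), fun θ => ?_⟩)
  obtain ⟨⟨θ, hθ⟩, h1, h2, h3⟩ := θ
  obtain ⟨μ, rfl⟩ := exists_unitsHom_of_one_eq_one (isCharacter_of_isIrr hθ)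
    ((ChDeg.deg_eq_one_iff (isCharacter_of_isIrr hθ)).1 h3)
  exact ⟨⟨μ, fun g x => Units.ext (congrFun (congrArg Subtype.val (h1 g)) x), (key _).1 h2⟩, rfl⟩

/-- Let G be a finite group, p a prime and M a maximal ideal of the algebraic integers containing p. Then all height-zero irreducible characters of the principal p-block of G (equivalently, all its characters of degree prime to p) have the same degree if and only if G has a normal p-complement. -/
theorem result {G : Type*} [Group G] [Finite G] (p : ℕ) [Fact p.Prime] (M : Ideal Cfsg.AlgInt) (hM : Cfsg.IsPModular p M) : (∃ d : ℕ, ∀ χ : Cfsg.IrrCharacter G, χ ∈ (Cfsg.principalBlock M G) → Cfsg.blockHeight p (Cfsg.principalBlock M G) (χ : G → ℂ) = 0 → Cfsg.charDegree (χ : G → ℂ) = d) ↔ Cfsg.HasNormalPComplement p G := by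
  classical
  have hp : p.Prime := Fact.out
  set K := pResidual p G with hK
  have hKn : K.Normal := Transfer.pResidual_normal p G
  obtain ⟨a, ha⟩ : ∃ a, K.index = p ^ a := Transfer.exists_index_pResidual
  refine ⟨fun ⟨d, h⟩ => ?_, fun h => ⟨1, fun χ hχ h0 => ?_⟩⟩
  swap
  · have hker : K ≤ ChDeg.cker (χ : G → ℂ) := fun x hx => by
      rw [ChDeg.mem_cker (isCharacter_of_isIrr χ.2)]
      simpa using principal_mul_of_mem_pPrimeCore hM hχ
        (Transfer.pResidual_eq_pPrimeCore h ▸ hx) 1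
    have h1 := ChDeg.deg_dvd_card (ChDeg.isIrr_defl χ.2 hker)
    rw [ChDeg.deg_defl (isCharacter_of_isIrr χ.2) hker, ← K.index_eq_card, ha] at h1
    exact Nat.Coprime.eq_one_of_dvd ((hp.coprime_iff_not_dvd.2
      ((height_zero_iff hM hχ).1 h0)).symm.pow_right a) h1
  have h11 : charDegree (irrOne G : G → ℂ) = 1 := by simp [charDegree, irrOne_apply]
  obtain rfl : 1 = d := h11.symm.trans (h _ (irrOne_mem_principalBlock hM)
    ((height_zero_iff hM (irrOne_mem_principalBlock hM)).2 (h11 ▸ hp.not_dvd_one)))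
  rw [Transfer.hasNormalPComplement_iff_not_dvd]
  intro h2
  have := Fintype.ofFinite K
  have hB : IsPBlock M (principalBlock M K) := isPBlock_principalBlock
  have h3 : p ∣ ∑ θ : IrrCharacter K,
      if θ ∈ principalBlock M K then charDegree (θ : K → ℂ) ^ 2 else 0 := by
    obtain ⟨v, -, hv⟩ := exists_sum_rdeg_sq hM hB
    have h1 := sum_deg_sq_eq (p := p) hp (principalBlock M K)
    have hd : blockDefect p (principalBlock M K) ≠ 0 := by
      rw [blockDefect_principalBlock hM]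
      exact (hp.factorization_pos_of_dvd Nat.card_pos.ne' h2).ne'
    rw [hv, bf, Finset.sum_filter] at h1
    have h4 := ((dvd_pow_self p hd).mul_right v).mul_left (p ^ (2 * minv p (principalBlock M K)))
    rw [← h1] at h4
    convert h4
  have hSc : ∀ g : G, ∀ θ ∈ principalBlock M K, conjIrr K g θ ∈ principalBlock M K :=
    fun g θ hθ => by
      have := sameBlock_conjIrr K g (sameBlock_of_mem hM isPBlock_principalBlock
        (irrOne_mem_principalBlock hM) hθ)
      rw [conjIrr_irrOne] at this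
      exact mem_of_sameBlock hM isPBlock_principalBlock (irrOne_mem_principalBlock hM) this
  obtain ⟨P⟩ : Nonempty (Sylow p G) := inferInstance
  let act : MulAction (P : Subgroup G) (IrrCharacter K) :=
    { smul := fun g θ => conjIrr K (g : G)⁻¹ θ
      one_smul := fun θ => by
        change conjIrr K ((1 : (P : Subgroup G)) : G)⁻¹ θ = θ
        simp [conjIrr_one]
      mul_smul := fun g h θ => by
        change conjIrr K ((g * h : (P : Subgroup G)) : G)⁻¹ θ =
          conjIrr K (g : G)⁻¹ (conjIrr K (h : G)⁻¹ θ)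
        simp [conjIrr_conjIrr] }
  have hfix : ∀ θ : IrrCharacter K, (∀ g : (P : Subgroup G), g • θ = θ) ↔
      ∀ g : G, conjIrr K g θ = θ := fun θ => ⟨fun hθ g => by
    have hg : g ∈ K ⊔ (P : Subgroup G) := by
      rw [hK, Transfer.pResidual_sup_sylow]; trivial
    obtain ⟨n, hn, y, hy, rfl⟩ := Subgroup.mem_sup_of_normal_left.1 hg
    rw [← conjIrr_conjIrr, conjIrr_of_mem K hn]
    have := hθ ⟨y⁻¹, (P : Subgroup G).inv_mem hy⟩
    change conjIrr K (y⁻¹)⁻¹ _ = _ at this
    rwa [inv_inv] at this, fun hθ g => hθ _⟩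
  have h4 := wt_modEq P.isPGroup' (fun θ : IrrCharacter K =>
      if θ ∈ principalBlock M K then charDegree (θ : K → ℂ) ^ 2 else 0)
    (fun θ => if (∀ g : G, conjIrr K g θ = θ) ∧ θ ∈ principalBlock M K then
      charDegree (θ : K → ℂ) ^ 2 else 0) (fun g θ => by
        change (if conjIrr K (g : G)⁻¹ θ ∈ _ then charDegree (conjIrr K (g : G)⁻¹ θ : K → ℂ) ^ 2
          else 0) = _
        rw [ChDeg.deg_congr (conjIrr_apply_one K _ θ)]
        exact if_congr ⟨fun h => by simpa [conjIrr_conjIrr, conjIrr_one] using hSc g _ h,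
          hSc _ _⟩ rfl rfl)
    (fun θ hθ => if_congr (and_iff_right ((hfix θ).1 hθ)) rfl rfl)
    (fun θ hθ => if_neg fun h => hθ ((hfix θ).2 h.1))
  have hdet := not_dvd_detOrder (G := K) (p := p) Transfer.pResidual_pResidual
  have h5 : ∀ θ : IrrCharacter K, (∀ g : G, conjIrr K g θ = θ) → θ ∈ principalBlock M K →
      ¬ p ∣ charDegree (θ : K → ℂ) → charDegree (θ : K → ℂ) = 1 := fun θ hθG hθB hθ => by
    obtain ⟨χ, ⟨hχ, hχθ, -⟩, -⟩ := CharDeep.exists_canonical_extension K θ.2
      (fun g n => congrFun (congrArg Subtype.val (hθG g)) n) (ChDeg.irr_deg_cast θ).symm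
      (ha ▸ (hp.coprime_iff_not_dvd.2 fun h => (hp.dvd_mul.1 h).elim (hdet θ) hθ).pow_left a)
    have hdeg : charDegree χ = charDegree (θ : K → ℂ) := ChDeg.deg_congr (hχθ 1)
    have hχB : (⟨χ, hχ⟩ : IrrCharacter G) ∈ principalBlock M G := by
      have e := mem_principal_of_over_of_pow hM (H := ⊤) (N := K) le_top (top_le_Nz K)
        (fun t _ => Transfer.exists_pow_mem_pResidual t)
        (η := ⟨fun g => χ g, isIrr_comp_mulEquiv Subgroup.topEquiv hχ⟩) hθB (by
          change classInner (fun n : K => χ n) _ ≠ 0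
          rw [funext hχθ, classInner_irr_self θ.2]
          exact one_ne_zero)
      exact irrMap_mem_principal hM Subgroup.topEquiv e
    exact hdeg ▸ h ⟨χ, hχ⟩ hχB ((height_zero_iff hM hχB).2 (hdeg ▸ hθ))
  have h6 : (∑ θ : IrrCharacter K, if (∀ g : G, conjIrr K g θ = θ) ∧ θ ∈ principalBlock M K then
      charDegree (θ : K → ℂ) ^ 2 else 0) ≡ Nat.card (linB hM K) [MOD p] := by
    rw [card_linB, Nat.card_eq_fintype_card, Fintype.card_subtype, Finset.card_filter]
    refine Nat.ModEq.sum fun θ _ => ?_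
    by_cases h7 : (∀ g : G, conjIrr K g θ = θ) ∧ θ ∈ principalBlock M K
    · rw [if_pos h7]
      by_cases h8 : p ∣ charDegree (θ : K → ℂ)
      · rw [if_neg fun h => hp.not_dvd_one (by rwa [h.2.2] at h8)]
        exact (Nat.modEq_zero_iff_dvd).2 (h8.trans (dvd_pow_self _ two_ne_zero))
      · rw [if_pos ⟨h7.1, h7.2, h5 θ h7.1 h7.2 h8⟩, h5 θ h7.1 h7.2 h8, one_pow]
    · rw [if_neg h7, if_neg fun h => h7 ⟨h.1, h.2.1⟩]
  have h7 : p ∣ Nat.card (linB hM K) := ((h4.trans h6).dvd_iff dvd_rfl).1 h3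
  have : Finite (linB hM K) := Nat.finite_of_card_ne_zero (by
    rw [card_linB]
    have : Nonempty {θ : IrrCharacter K // (∀ g : G, conjIrr K g θ = θ) ∧
      θ ∈ principalBlock M K ∧ charDegree (θ : K → ℂ) = 1} := ⟨⟨irrOne K, fun _ => rfl,
        irrOne_mem_principalBlock hM, by simp [charDegree, irrOne_apply]⟩⟩
    exact Nat.card_pos.ne')
  obtain ⟨μ, hμ⟩ := exists_prime_orderOf_dvd_card' p h7
  have h8 : μ = 1 := Subtype.ext (MonoidHom.ext (hom_eq_one (G := K) (p := p)
    Transfer.pResidual_pResidual μ.1 (e := 1) fun x => by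
      rw [pow_one, ← MonoidHom.pow_apply, ← Subgroup.coe_pow, orderOf_dvd_iff_pow_eq_one.1 hμ.dvd]
      rfl))
  rw [h8, orderOf_one] at hμ
  exact hp.one_lt.ne hμ

end Cfsg.Agent.S4888
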