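import Cfsg.Statements.S0806
import Cfsg.Agent.Lib.Dickson.Class

set_option autoImplicit false
open Cfsg

namespace Cfsg.Agent.S0806

open CfsgLib.Dickson


/-- Minimal index (Galois): if q ∉ {2, 3, 5, 7, 9, 11} then every proper subgroup of PSL_2(q) has index ≥ q + 1, and some subgroup has index exactly q + 1. -/
theorem result {F : Type*} [Field F] [Fintype F] {q : ℕ} (hF : Fintype.card F = q) (hq : q ∉ ({2, 3, 5, 7, 9, 11} : Finset ℕ)) : (∀ H : Subgroup (Matrix.ProjectiveSpecialLinearGroup (Fin 2) F), H ≠ ⊤ → q + 1 ≤ H.index) ∧ ∃ H : Subgroup (Matrix.ProjectiveSpecialLinearGroup (Fin 2) F), H.index = q + 1 := by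
  subst hF
  rw [← Nat.card_eq_fintype_card] at hq ⊢
  obtain ⟨p, hchar⟩ := CharP.exists F
  have hp : Fact p.Prime := ⟨CharP.char_is_prime F p⟩
  have h1 : 1 < Nat.card F := Finite.one_lt_card
  simp only [Finset.mem_insert, Finset.mem_singleton, not_or] at hq
  have hc : ∀ H : Subgroup (Matrix.ProjectiveSpecialLinearGroup (Fin 2) F),
      Nat.card (H.map (pslPGL F)) * (pslPGL F).range.index * H.index =
        (Nat.card F + 1) * (Nat.card F * (Nat.card F - 1)) := by
    intro H
    rw [card_map_pslPGL, mul_right_comm, H.card_mul_index, ← card_range_pslPGL, card_mul_index_eq]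
  have hpos : 0 < Nat.card F * (Nat.card F - 1) := Nat.mul_pos (by omega) (by omega)
  constructor
  · intro H hH
    have hle : H.map (pslPGL F) ≤ (pslPGL F).range := Subgroup.map_le_range _ _
    have hne : ¬ (pslPGL F).range ≤ H.map (pslPGL F) := fun e => hH (by
      rw [eq_top_iff, ← Subgroup.map_le_map_iff_of_injective pslPGL_injective]
      exact MonoidHom.range_eq_map (pslPGL F) ▸ e)
    suffices Nat.card (H.map (pslPGL F)) * (pslPGL F).range.index ≤ Nat.card F * (Nat.card F - 1) by
      have h2 := hc H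
      by_contra h3
      nlinarith
    have key : ∀ M : Subgroup (Matrix.ProjGenLinGroup (Fin 2) F), H.map (pslPGL F) ≤ M →
        Nat.card M * (pslPGL F).range.index ≤ Nat.card F * (Nat.card F - 1) →
        Nat.card (H.map (pslPGL F)) * (pslPGL F).range.index ≤ Nat.card F * (Nat.card F - 1) :=
      fun M h1 h2 => (Nat.mul_le_mul_right _ (Subgroup.card_le_of_le h1)).trans h2
    have ht : (pslPGL F).range.index ≤ 2 := by rcases index_cases (F := F) le_rfl with e | e <;> omega
    have small : p ≠ 2 → Nat.card (H.map (pslPGL F)) ≤ 60 →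
        Nat.card (H.map (pslPGL F)) * (pslPGL F).range.index ≤ Nat.card F * (Nat.card F - 1) := by
      intro h2 h3
      have := FiniteField.odd_card_of_char_ne_two (F := F) (by rwa [ringChar.eq F p])
      rw [← Nat.card_eq_fintype_card] at this
      have h4 : 12 ≤ Nat.card F - 1 := by omega
      calc _ ≤ 60 * 2 := Nat.mul_le_mul h3 ht
        _ ≤ 13 * 12 := by norm_num
        _ ≤ _ := Nat.mul_le_mul (by omega) h4
    obtain ⟨n, hn⟩ : ∃ n, Nat.card F = n + 4 := ⟨Nat.card F - 4, by omega⟩
    rcases dickson_fin p (H.map (pslPGL F)) with ⟨x, h⟩ | ⟨x, y, hxy, h⟩ | ⟨x, y, hxy, h⟩ | h | h | h |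
      ⟨K, k, hK, h⟩
    · exact key _ (le_stab_of_le h hle) (card_stab_emb le_rfl x).le
    · refine key _ (le_pairStab_of_le h hle) ?_
      rw [card_pairStab_emb le_rfl hxy]
      exact Nat.mul_le_mul_right _ (by omega)
    · refine key _ (le_pairStab_of_le h hle) ?_
      rw [hxy.card_pairStab le_rfl (by omega), hn, show n + 4 - 1 = n + 3 from rfl]
      nlinarith
    · exact small h.1 (by rw [card_of_equiv h.2.2, card_A4]; norm_num)
    · exact small h.1 (by rw [card_of_equiv h.2.2, card_S4]; norm_num)
    · exact small h.1 (by rw [card_of_equiv h.2.2, card_A5])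
    · have hK' : K ≠ ⊤ := by
        rintro rfl
        rcases h with h | ⟨-, h⟩
        · exact hne (by rw [h, pglSub_top]; exact le_top)
        · exact hne (by rw [h, pslSub_top])
      refine key (pglSub K k) (h.elim (fun e => e.le) fun e => e.2.le.trans (pslSub_le_pglSub K k)) ?_
      have h2 := card_sq_le_of_ne_top hK'
      rw [card_pglSub, mul_right_comm]
      exact Nat.mul_le_mul (by nlinarith) (by omega)
  · refine ⟨(stab (pslPGL F).range (emb P1.inf)).comap (pslPGL F), ?_⟩
    have h2 := hc ((stab (pslPGL F).range (emb P1.inf)).comap (pslPGL F))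
    rw [Subgroup.map_comap_eq_self (stab_le _ _), card_stab_emb le_rfl, mul_comm] at h2
    exact Nat.eq_of_mul_eq_mul_right hpos h2

end Cfsg.Agent.S0806
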