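import Cfsg.Statements.S2300
import Cfsg.Agent.Lib.SL2.Unip

set_option autoImplicit false
open Cfsg

namespace Cfsg.Agent.S2300

open CfsgLib.SL2 CfsgLib.Char

/-- Over a finite field F with q elements, q even, every irreducible complex character of SL₂ has degree 1, q − 1, q or q + 1; and when q ≥ 4 (so that these four numbers are distinct) there are exactly one irreducible character of degree 1, one of degree q, (q − 2)/2 of degree q + 1 and q/2 of degree q − 1. -/
theorem result {F : Type*} [Field F] [Fintype F] [CharP F 2] :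
    (∀ χ : Matrix.SpecialLinearGroup (Fin 2) F → ℂ, Cfsg.IsIrrCharacter (Matrix.SpecialLinearGroup (Fin 2) F) χ →
      χ 1 = 1 ∨ χ 1 = (Fintype.card F : ℂ) - 1 ∨ χ 1 = (Fintype.card F : ℂ) ∨ χ 1 = (Fintype.card F : ℂ) + 1) ∧
    (4 ≤ Fintype.card F →
      Nat.card {χ : Cfsg.IrrCharacter (Matrix.SpecialLinearGroup (Fin 2) F) // (χ : Matrix.SpecialLinearGroup (Fin 2) F → ℂ) 1 = 1} = 1 ∧
      Nat.card {χ : Cfsg.IrrCharacter (Matrix.SpecialLinearGroup (Fin 2) F) // (χ : Matrix.SpecialLinearGroup (Fin 2) F → ℂ) 1 = (Fintype.card F : ℂ)} = 1 ∧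
      Nat.card {χ : Cfsg.IrrCharacter (Matrix.SpecialLinearGroup (Fin 2) F) // (χ : Matrix.SpecialLinearGroup (Fin 2) F → ℂ) 1 = (Fintype.card F : ℂ) + 1} = (Fintype.card F - 2) / 2 ∧
      Nat.card {χ : Cfsg.IrrCharacter (Matrix.SpecialLinearGroup (Fin 2) F) // (χ : Matrix.SpecialLinearGroup (Fin 2) F → ℂ) 1 = (Fintype.card F : ℂ) - 1} = Fintype.card F / 2) := by
  classical
  obtain ⟨d, hd⟩ := exists_noEig (F := F)
  have hev : Even (Fintype.card F) :=
    Nat.even_iff.2 (FiniteField.even_card_iff_char_two.1 (ringChar.eq F 2))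
  refine ⟨fun χ hχ => ?_, fun hq => ?_⟩
  · obtain ⟨i, hi⟩ := exists_kind hd hχ
    rw [hi.deg hd]
    fin_cases i
    · simp [kindDeg]
    · simp [kindDeg]
    · simp [kindDeg]
    · simp [kindDeg]
    · exact absurd hi (not_kind_four_even hev χ)
    · exact absurd hi (not_kind_five_even hd hev χ)
  · have key : ∀ j : Fin 6, ¬ (j = 4 ∨ j = 5) →
        Nat.card {χ : IrrCharacter (Matrix.SpecialLinearGroup (Fin 2) F) //
        (χ : Matrix.SpecialLinearGroup (Fin 2) F → ℂ) 1 = kindDeg (Fintype.card F) j} =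
        Nat.card {χ : IrrCharacter (Matrix.SpecialLinearGroup (Fin 2) F) // Kind d j χ} :=
      fun j hj => Nat.card_congr (Equiv.subtypeEquivRight fun χ =>
        ⟨kind_of_deg hd hq χ.2 j fun h => absurd h hj, fun h => h.deg hd⟩)
    exact ⟨(key 0 (by decide)).trans card_kind_zero, (key 1 (by decide)).trans card_kind_one,
      (key 2 (by decide)).trans (card_kind_two_even hev),
      (key 3 (by decide)).trans (card_kind_three_even hd hev)⟩

end Cfsg.Agent.S2300
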