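import Cfsg.Statements.S3410
import Cfsg.Agent.Lib.Perm.GeomPSL
import Cfsg.Agent.Lib.Comp.Primitive

set_option autoImplicit false
open Cfsg

namespace Cfsg.Agent.S3410


/-- Let a finite group G act faithfully and 2-transitively on a finite set X, and let N be an abelian normal subgroup of the stabilizer of a point x which is not semiregular on the remaining points (some non-identity element of N fixes a second point). Then the generalized Fitting subgroup of G is isomorphic to PSL_n(F) for some n ≥ 3 and some finite field F. -/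
theorem result {G X : Type*} [Group G] [Finite G] [Fintype X]
    [MulAction G X] [FaithfulSMul G X] (h2 : MulAction.IsMultiplyPretransitive G X 2) (x : X)
    (N : Subgroup G) (hNle : N ≤ MulAction.stabilizer G x)
    (hNnormal : ∀ g ∈ MulAction.stabilizer G x, ∀ n ∈ N, g * n * g⁻¹ ∈ N) (hNab : IsMulCommutative N)
    (hnsr : ∃ n ∈ N, n ≠ 1 ∧ ∃ y : X, y ≠ x ∧ n • y = y) :
    ∃ (F : Type) (_ : Field F) (_ : Fintype F) (n : ℕ), 3 ≤ n ∧
      Nonempty (↥(Cfsg.generalizedFittingSubgroup G) ≃* Matrix.ProjectiveSpecialLinearGroup (Fin n) F) := by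
  obtain ⟨F, _, _, n, hn, -, L, hL, hc, ⟨e⟩⟩ := (CfsgLib.Perm.onan_abelian h2 hNle hNnormal
    (fun a ha b hb => setLike_mul_comm (s := N) ha hb) hnsr).main
  have : IsSimpleGroup (Matrix.ProjectiveSpecialLinearGroup (Fin n) F) :=
    CfsgLib.Classical.psl_isSimpleGroup (by simpa using hn)
  have hs : IsSimpleGroup L := e.isSimpleGroup
  have hna : ¬ IsMulCommutative L := fun hm => by
    have : L ≤ Subgroup.centralizer (L : Set G) := Subgroup.le_centralizer L
    rw [hc, le_bot_iff] at this
    exact (Subgroup.nontrivial_iff_ne_bot L).1 inferInstance this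
  have hcomp : Cfsg.IsComponent L := ⟨Subgroup.Normal.isSubnormal hL,
    CfsgLib.Comp.qs_of_isSimpleGroup hna⟩
  have h1 : CfsgLib.Comp.fstarOf L = L := by
    rw [CfsgLib.Comp.fstarOf, CfsgLib.Comp.fstar_eq_top_of_isSubnormal_of_le hcomp.1
      ((CfsgLib.Comp.comp_le_layer hcomp).trans CfsgLib.Comp.layer_le_fstar)]
    exact (MonoidHom.range_eq_map _).symm.trans L.range_subtype
  have h3 := (CfsgLib.Comp.fstar_eq_of_centralizer_eq_bot (N := L) (by rw [h1, hc])).2.1
  exact ⟨F, inferInstance, inferInstance, n, hn, ⟨(MulEquiv.subgroupCongr (h3.symm.trans h1)).trans e⟩⟩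

end Cfsg.Agent.S3410
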