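import Cfsg.Statements.S2343
import Cfsg.Agent.Lib.Ree.Four
import Cfsg.Agent.Lib.Ree.Twisted
import Cfsg.Agent.Lib.LS.Siegel

set_option autoImplicit false
open Cfsg

namespace Cfsg.Agent.S2343

open CfsgLib.Ree CfsgLib.LS Module

theorem four_dvd {W : Type*} [AddCommGroup W] [Module ℂ W] [FiniteDimensional ℂ W] {S T : End ℂ W}
    (hS : S * S = 1) (hT : T * T = 1) (h : Commute S T) (h1 : LinearMap.trace ℂ W S = 0)
    (h2 : LinearMap.trace ℂ W T = 0) (h3 : LinearMap.trace ℂ W (S * T) = 0) : 4 ∣ finrank ℂ W := by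
  have id : ∀ T : End ℂ W, T * T = 1 → IsIdempotentElem ((1 / 2 : ℂ) • (1 + T)) := fun T h => by
    show _ * _ = _
    rw [smul_mul_smul_comm, mul_add, add_mul, add_mul, h]
    simp only [one_mul, mul_one]
    module
  have h5 := ((LinearMap.isProj_range_iff_isIdempotentElem _).2 (((id _ hS).mul_of_commute
    (((Commute.one_left _).add_left ((Commute.one_right _).add_right h)).smul_left _ |>.smul_right _))
    (id _ hT))).trace
  obtain ⟨d, h5⟩ : ∃ d : ℕ, LinearMap.trace ℂ W ((1 / 2 : ℂ) • (1 + S) * (1 / 2 : ℂ) • (1 + T)) = d := ⟨_, h5⟩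
  rw [smul_mul_smul_comm, mul_add, add_mul, add_mul] at h5
  simp only [one_mul, mul_one, map_smul, map_add, LinearMap.trace_one, h1, h2, h3, add_zero, smul_eq_mul] at h5
  exact ⟨d, by exact_mod_cast (by linear_combination 4 * h5 : (finrank ℂ W : ℂ) = 4 * d)⟩

theorem bound {K : Type*} [Field K] [CharP K 3] {φ : K →+* K} [Finite K] {G : Type*} [Group G] (M : Model G K φ)
    (hφ : IsTits φ) {W : Type*} [AddCommGroup W] [Module ℂ W] [FiniteDimensional ℂ W] (ρ : G →* End ℂ W)
    (hρ : ρ (M.u 0 0 1) ≠ 1) : Nat.card K * (Nat.card K - 1) + 1 ≤ finrank ℂ W := by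
  classical
  have := Fintype.ofFinite K
  let π : K × K → End ℂ W := fun p => ρ (M.u 0 p.1 p.2)
  have hmul : ∀ b c y z, M.u 0 (b + y) (c + z) = M.u 0 b c * M.u 0 y z := fun b c y z => by rw [M.u_mul hφ]; simp
  have hc : ∀ a b, Commute (π a) (π b) := fun a b => by
    show ρ _ * ρ _ = ρ _ * ρ _
    rw [← map_mul, ← map_mul, ← hmul, ← hmul, add_comm a.1, add_comm a.2]
  have hp : ∀ a, π a ^ 3 = 1 := fun a => by
    show ρ _ ^ 3 = 1
    rw [← map_pow, M.u_pow_three hφ]; simp [M.u_zero]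
  obtain ⟨l, hl, h1⟩ := exists_weight_ne_one π hc (N := 3) (by norm_num) hp (a := (0, 1)) hρ
  obtain ⟨v, hv0, hv⟩ := mem_wts_one.1 hl
  have ladd : ∀ b c y z, l (b + y, c + z) = l (b, c) * l (y, z) := fun b c y z =>
    weight_mul hv0 hv (by show ρ _ = ρ _ * ρ _; rw [hmul, map_mul])
  have l0 : l (0, 0) = 1 := weight_one hv0 hv (by show ρ _ = 1; rw [M.u_zero, map_one])
  have key : ∀ c d : K, (∀ t, l (0, t * c) = l (0, t * d)) → c = d := fun c d h =>
    eq_of_char_mul_eq (ψ := fun t => l (0, t)) (fun s t => by rw [← ladd, add_zero]) l0 h1 h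
  let f : K × Kˣ → K × K → ℂ := fun q => l ∘ fun p => (φ q.2 / q.2 * p.1, q.2 * p.2 + φ q.2 / q.2 * p.1 * q.1)
  have hf : ∀ q, f q ∈ wts π 1 := fun q => mem_wts_conj ρ (fun p : K × K => M.u 0 p.1 p.2) hl
    (M.u q.1 0 0 * M.h q.2) _ fun p => by
      rw [show M.u q.1 0 0 * M.h q.2 * M.u 0 p.1 p.2 * (M.u q.1 0 0 * M.h q.2)⁻¹ =
        M.u q.1 0 0 * (M.h q.2 * M.u 0 p.1 p.2 * (M.h q.2)⁻¹) * (M.u q.1 0 0)⁻¹ by group, M.h_conj hφ,
        mul_inv_eq_iff_eq_mul, M.u_mul hφ, M.u_mul hφ]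
      simp
  have hinj : Function.Injective f := by
    rintro ⟨x, t⟩ ⟨x', t'⟩ h
    obtain rfl : t = t' := Units.ext (key _ _ fun s => by simpa [f, mul_comm] using congrFun h (0, s))
    have hne : φ t / t ≠ 0 := div_ne_zero ((map_ne_zero φ).2 t.ne_zero) t.ne_zero
    rw [mul_left_cancel₀ hne (key (φ t / t * x) (φ t / t * x') fun s => ?_)]
    have h2 := congrFun h (s, 0)
    have h3 : l (φ t / t * s, 0) ≠ 0 := fun e => by
      have := ladd (φ t / t * s) 0 (-(φ t / t * s)) 0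
      rw [e, zero_mul, add_neg_cancel, add_zero, l0] at this
      exact one_ne_zero this
    have h4 := fun y => ladd (φ t / t * s) 0 0 (φ t / t * s * y)
    simp only [f, Function.comp_apply, mul_zero, zero_add, add_zero] at h2 h4
    rw [h4, h4 x'] at h2
    rw [← mul_assoc, ← mul_assoc, mul_comm s]
    exact mul_left_cancel₀ h3 h2
  by_cases hS : ∑ c, π (0, c) = 0
  · have hle := card_mul_le π 1 f hinj hf
    rw [Nat.card_prod, Nat.card_units, mul_one] at hle
    have cj : ∀ x : G, x ≠ 1 → x * x = 1 → LinearMap.trace ℂ W (ρ x) = LinearMap.trace ℂ W (ρ M.z) := fun x h h' => by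
      obtain ⟨g, rfl⟩ := isConj_iff.1 (M.isConj_z hφ hφ.sq h h')
      rw [map_mul, LinearMap.trace_mul_comm, ← map_mul, inv_mul_cancel_left]
    have hz : LinearMap.trace ℂ W (ρ M.z) = 0 := by
      have h2 := congrArg (fun T => LinearMap.trace ℂ W (T * ρ M.z)) hS
      simp only [Finset.sum_mul, map_sum, zero_mul, map_zero, π, ← map_mul] at h2
      rw [Finset.sum_congr rfl fun c _ => cj _ (fun e => ?_) ?_] at h2
      · simpa using h2
      · rw [Model.z, ← M.h_one, ← one_mul (M.h 1), ← M.u_zero] at e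
        exact neg_one_ne_one' K (congrArg Units.val (M.u_h_inj e).2.2.2)
      · rw [mul_assoc, ← mul_assoc M.z, M.z_mul_u hφ, mul_assoc, M.z_mul_z, mul_one, neg_zero, ← hmul]
        simp [M.u_zero]
    obtain ⟨d, h6⟩ := four_dvd (S := ρ M.z) (T := ρ M.n) (by rw [← map_mul, M.z_mul_z, map_one])
      (by rw [← map_mul, M.n_mul_n, map_one]) (by show _ * _ = _ * _; rw [← map_mul, ← map_mul, M.n_mul_z]) hz
      (by rw [cj _ (M.n_ne_one hφ) M.n_mul_n, hz]) (by rw [← map_mul, cj _ (M.zn_ne_one hφ) M.zn_mul_zn, hz])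
    have h8 := hφ.card_mod_eight
    refine lt_of_le_of_ne hle fun e => ?_
    obtain ⟨r, hr⟩ : ∃ r, Nat.card K = 8 * r + 3 := ⟨Nat.card K / 8, by omega⟩
    rw [hr, h6, show (8 * r + 3) * (8 * r + 3 - 1) = 4 * (16 * r ^ 2 + 10 * r + 1) + 2 by
      rw [show 8 * r + 3 - 1 = 8 * r + 2 from rfl]; ring] at e
    omega
  · obtain ⟨l', hl', h'⟩ : ∃ l' ∈ wts π 1, ∀ c, l' (0, c) = 1 := by
      by_contra hc'
      push Not at hc'
      apply hS
      refine LinearMap.ext fun w => ?_
      have hw : w ∈ ⨆ l, wsp π l := iSup_wsp_eq_top π hc (N := 3) (by norm_num) hp ▸ Submodule.mem_top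
      induction hw using Submodule.iSup_induction' with
      | mem l' x hx =>
        rcases eq_or_ne x 0 with rfl | hx0
        · simp
        obtain ⟨d, hd⟩ := hc' l' (mem_wts_one.2 ⟨x, hx0, hx⟩)
        have e : π (0, d) * ∑ c, π (0, c) = ∑ c, π (0, c) := by
          rw [Finset.mul_sum, ← Equiv.sum_comp (Equiv.addLeft d) fun c => π (0, c)]
          refine Finset.sum_congr rfl fun c _ => ?_
          show ρ _ * ρ _ = ρ _
          rw [← map_mul, ← hmul, add_zero]; rfl
        have e2 := LinearMap.congr_fun ((Commute.sum_right _ _ _ fun c _ => hc (0, d) (0, c)).eq.symm.trans e) x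
        rw [End.mul_apply, hx, map_smul, ← sub_eq_zero] at e2
        nth_rewrite 2 [← one_smul ℂ ((∑ c, π (0, c)) x)] at e2
        rw [← sub_smul] at e2
        exact (smul_eq_zero.1 e2).resolve_left (sub_ne_zero.2 hd)
      | zero => simp
      | add x y _ _ hx hy => rw [map_add, hx, hy, map_add]
    have hne : ∀ q, f q ≠ l' := fun q e => h1 (by simpa [f, h'] using congrFun e (0, (q.2⁻¹ : Kˣ)))
    have hle := card_mul_le π 1 (fun o : Option (K × Kˣ) => o.elim l' f) (by
      rintro (_ | a) (_ | b) e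
      exacts [rfl, absurd e.symm (hne b), absurd e (hne a), congrArg _ (hinj e)])
      (by rintro (_ | a); exacts [hl', hf a])
    rwa [Finite.card_option, Nat.card_prod, Nat.card_units, mul_one] at hle

/-- For the Ree group ²G₂(q), q = 3^(2m+1) with m ≥ 1 (realised over the field with q elements), every irreducible complex representation of degree at least 2 has degree at least q² − q + 1. -/
theorem result {K : Type*} [Field K] [Fintype K] (m : ℕ) (hm : 1 ≤ m) (hK : Fintype.card K = 3 ^ (2 * m + 1)) :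
    (∀ (k : ℕ) (ρ : Representation ℂ (Cfsg.Lie.twistedG2 K (3 ^ m)) (Fin k → ℂ)), ρ.IsIrreducible → 2 ≤ k → (3 ^ (2 * m + 1)) ^ 2 - 3 ^ (2 * m + 1) + 1 ≤ k) := by
  have := charP_three hK
  have hφ := isTits_tits hK
  have M := reeModel hK
  intro k ρ hρ hk
  have := M.isSimpleGroup hφ hφ.sq (by
    rw [natCard_eq hK]
    exact lt_of_lt_of_le (by norm_num) (Nat.pow_le_pow_right three_pos (show 2 ≤ 2 * m + 1 by omega)))
  have h := bound M hφ ρ fun e => one_ne_zero (M.u_eq_one (Subgroup.mem_bot.1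
    (((MonoidHom.normal_ker ρ).eq_bot_or_eq_top.resolve_right
      (ker_ne_top_of_irreducible ρ hρ (by simpa using hk))) ▸ MonoidHom.mem_ker.2 e))).2.2
  rwa [Module.finrank_fin_fun, natCard_eq hK, Nat.mul_sub_one, ← sq] at h

end Cfsg.Agent.S2343
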