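import Cfsg.Statements.S4034
import Mathlib
import Cfsg.Agent.Lib.Fgs.ClassSize
import Cfsg.Agent.Lib.Char.Integral
import Cfsg.Agent.Lib.Coprime.Hall
import Cfsg.Agent.Lib.Core.Fitting
import Cfsg.Agent.Lib.Core.SolvCriteria
import Cfsg.Agent.Lib.Coprime.Action

set_option autoImplicit false
open Cfsg

namespace Cfsg.Agent.S4034

open Subgroup CfsgLib CfsgLib.Core CfsgLib.Fgs

universe u

/-- Generic solvability induction. -/
theorem solvable_of_inherit (P : ∀ (G : Type u) [Group G], Prop)
    (hN : ∀ (G : Type u) [Group G] [Finite G] (N : Subgroup G) [N.Normal], P G → P N ∧ P (G ⧸ N))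
    (hS : ∀ (G : Type u) [Group G] [Finite G] [IsSimpleGroup G], P G → Group.IsSolvable G)
    (n : ℕ) : ∀ (G : Type u) [Group G] [Finite G], Nat.card G = n → P G → Group.IsSolvable G := by
  induction n using Nat.strong_induction_on with
  | _ n ih =>
  intro G _ _ hn hP
  rcases subsingleton_or_nontrivial G with h | h
  · infer_instance
  by_cases hs : IsSimpleGroup G
  · exact hS G hP
  have : ∃ N : Subgroup G, N.Normal ∧ N ≠ ⊥ ∧ N ≠ ⊤ := by
    by_contra hc
    push Not at hc
    exact hs ⟨fun N hN => by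
      by_cases h1 : N = ⊥
      · exact Or.inl h1
      · exact Or.inr (hc N hN h1)⟩
  obtain ⟨N, hNn, h1, h2⟩ := this
  obtain ⟨a, b⟩ := hN G N hP
  haveI := ih _ (hn ▸ card_lt_of_ne_top h2) N rfl a
  haveI := ih _ (hn ▸ card_quotient_lt_of_ne_bot h1) (G ⧸ N) rfl b
  exact Group.isSolvable_of_ker_le_range N.subtype (QuotientGroup.mk' N) (by simp)

def Hyp (p : ℕ) (G : Type u) [Group G] : Prop :=
  ∀ x : G, (orderOf x).Coprime p → ∃ k : ℕ, (centralizer ({x} : Set G)).index = p ^ k

theorem hyp_quot {p : ℕ} (hp : p.Prime) {G : Type u} [Group G] [Finite G] (N : Subgroup G)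
    [N.Normal] (h : Hyp p G) : Hyp p (G ⧸ N) := by
  haveI := Fact.mk hp
  intro y hy
  obtain ⟨x, rfl⟩ := QuotientGroup.mk_surjective y
  obtain ⟨a, b, -, -, hab, hc, ⟨k, hk⟩, hb⟩ := exists_p_part p x
  have hb' : (orderOf b).Coprime p := ((Nat.Prime.coprime_iff_not_dvd hp).2 hb).symm
  have ha1 : (a : G ⧸ N) = 1 := by
    have h1 : orderOf (a : G ⧸ N) ∣ p ^ k := hk ▸ orderOf_map_dvd (QuotientGroup.mk' N) a
    have h2 : orderOf (b : G ⧸ N) ∣ orderOf b := orderOf_map_dvd (QuotientGroup.mk' N) b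
    have hx : (a : G ⧸ N) = (x : G ⧸ N) * (b : G ⧸ N)⁻¹ := by
      rw [← hab]; simp
    have hcomm : Commute (x : G ⧸ N) (b : G ⧸ N)⁻¹ := by
      apply Commute.inv_right
      rw [← hab]
      exact ((hc.mul_left (Commute.refl b)).map (QuotientGroup.mk' N))
    have h3 : orderOf (a : G ⧸ N) ∣ orderOf (x : G ⧸ N) * orderOf b := by
      rw [hx]
      refine hcomm.orderOf_mul_dvd_mul_orderOf.trans (mul_dvd_mul_left _ ?_)
      rwa [orderOf_inv]
    have h4 : (orderOf (x : G ⧸ N) * orderOf b).Coprime (p ^ k) :=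
      (Nat.Coprime.mul_left hy hb').pow_right k
    exact orderOf_eq_one_iff.1 (Nat.eq_one_of_dvd_coprimes h4 h3 h1)
  have hxb : (x : G ⧸ N) = (b : G ⧸ N) := by
    rw [← hab, QuotientGroup.mk_mul, ha1, one_mul]
  obtain ⟨j, hj⟩ := h b hb'
  have := index_cent_quotient_dvd N b
  rw [hj, ← hxb] at this
  obtain ⟨i, -, hi⟩ := (Nat.dvd_prime_pow hp).1 this
  exact ⟨i, hi⟩

theorem hyp_solvable {p : ℕ} (hp : p.Prime) {G : Type u} [Group G] [Finite G] (h : Hyp p G) :
    Group.IsSolvable G := by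
  haveI := Fact.mk hp
  refine solvable_of_inherit (fun G _ => Hyp p G) ?_ ?_ _ G rfl h
  · intro G _ _ N _ h
    refine ⟨fun x hx => ?_, hyp_quot hp N h⟩
    obtain ⟨j, hj⟩ := h x (by rwa [Subgroup.orderOf_coe])
    have := index_cent_normal_dvd N x
    rw [hj] at this
    obtain ⟨i, -, hi⟩ := (Nat.dvd_prime_pow hp).1 this
    exact ⟨i, hi⟩
  · intro G _ _ _ h
    by_cases hG : IsPGroup p G
    · exact Coprime.isSolvable_of_isPGroup hG
    have : ∃ x : G, x ≠ 1 ∧ (orderOf x).Coprime p := by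
      by_contra hc
      push Not at hc
      apply hG
      intro x
      obtain ⟨a, b, -, -, hab, -, ⟨k, hk⟩, hb⟩ := exists_p_part p x
      have hb1 : b = 1 := by
        by_contra hb1
        exact hc b hb1 ((Nat.Prime.coprime_iff_not_dvd hp).2 hb).symm
      refine ⟨k, ?_⟩
      rw [← hab, hb1, mul_one, ← hk, pow_orderOf_eq_one]
    obtain ⟨x, hx, hx'⟩ := this
    obtain ⟨k, hk⟩ := h x hx'
    haveI := Fact.mk (Char.prime_card_of_simple_of_prime_pow hx hp hk)
    haveI : IsCyclic G := isCyclic_of_prime_card rfl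
    exact Group.isSolvable_of_comm fun a b => (IsCyclic.commGroup (α := G)).mul_comm a b

def Hyp2 (p : ℕ) (G : Type u) [Group G] : Prop :=
  ∃ H : Subgroup G, IsMulCommutative H ∧ ∃ k : ℕ, H.index = p ^ k

theorem hyp2_solvable {p : ℕ} (hp : p.Prime) {G : Type u} [Group G] [Finite G] (h : Hyp2 p G) :
    Group.IsSolvable G := by
  haveI := Fact.mk hp
  refine solvable_of_inherit (fun G _ => Hyp2 p G) ?_ ?_ _ G rfl h
  · rintro G _ _ N _ ⟨H, hH, k, hk⟩
    constructor
    · refine ⟨H.subgroupOf N, inferInstance, ?_⟩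
      have := relIndex_dvd_index_of_normal_right H N
      rw [hk] at this
      obtain ⟨i, -, hi⟩ := (Nat.dvd_prime_pow hp).1 this
      exact ⟨i, hi⟩
    · refine ⟨H.map (QuotientGroup.mk' N), inferInstance, ?_⟩
      have := index_map_dvd H (QuotientGroup.mk'_surjective N)
      rw [hk] at this
      obtain ⟨i, -, hi⟩ := (Nat.dvd_prime_pow hp).1 this
      exact ⟨i, hi⟩
  · rintro G _ _ _ ⟨H, hH, k, hk⟩
    by_cases h1 : H = ⊥
    · rw [h1, index_bot] at hk
      exact Coprime.isSolvable_of_isPGroup (IsPGroup.of_card hk)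
    obtain ⟨x, hxH, hx⟩ := (Subgroup.bot_or_exists_ne_one H).resolve_left h1
    have hle : H ≤ centralizer ({x} : Set G) := fun y hy =>
      mem_cent_iff.2 (mul_comm_of_mem_isMulCommutative H hxH hy)
    have := index_dvd_of_le hle
    rw [hk] at this
    obtain ⟨i, -, hi⟩ := (Nat.dvd_prime_pow hp).1 this
    haveI := Fact.mk (Char.prime_card_of_simple_of_prime_pow hx hp hi)
    haveI : IsCyclic G := isCyclic_of_prime_card rfl
    exact Group.isSolvable_of_comm fun a b => (IsCyclic.commGroup (α := G)).mul_comm a b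

theorem commute_of_pCore_eq_bot {p : ℕ} (hp : p.Prime) {G : Type u} [Group G] [Finite G]
    (h : Hyp p G) (h0 : pCore p G = ⊥) {x y : G} (hx : (orderOf x).Coprime p)
    (hy : (orderOf y).Coprime p) : Commute x y := by
  haveI := hyp_solvable hp h
  haveI := fittingSubgroup_normal G
  have hF : (Nat.card (fittingSubgroup G)).Coprime p :=
    (coprime_card_pPrimeCore p G).coprime_dvd_left
      (card_dvd_of_le (fittingSubgroup_le_pPrimeCore_of_pCore_eq_bot hp h0))
  have key : ∀ z : G, (orderOf z).Coprime p →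
      fittingSubgroup G ≤ centralizer ({z} : Set G) := by
    intro z hz
    obtain ⟨k, hk⟩ := h z hz
    have h1 := relIndex_dvd_index_of_normal_right (centralizer ({z} : Set G)) (fittingSubgroup G)
    rw [hk] at h1
    have h2 : (centralizer ({z} : Set G)).relIndex (fittingSubgroup G) ∣
        Nat.card (fittingSubgroup G) := relIndex_dvd_card _ _
    exact relIndex_eq_one.1 (Nat.eq_one_of_dvd_coprimes (hF.pow_right k) h2 h1)
  have hyF : y ∈ fittingSubgroup G := by
    apply centralizer_fittingSubgroup_le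
    intro f hf
    exact (mem_cent_iff.1 (key y hy hf)).eq.symm
  exact mem_cent_iff.1 (key x hx hyF)


/-- Let G be a finite group and p a prime. Every conjugacy class of p-regular elements of G (elements of order prime to p) has p-power size if and only if G has an abelian p-complement, i.e. an abelian subgroup of order prime to p and p-power index. -/
theorem result {G : Type*} [Group G] [Finite G] {p : ℕ} (hp : p.Prime) :
    (∀ x : G, (orderOf x).Coprime p → ∃ k : ℕ, (ConjClasses.mk x).carrier.ncard = p ^ k) ↔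
    (∃ H : Subgroup G, IsMulCommutative H ∧ ¬ p ∣ Nat.card H ∧ ∃ k : ℕ, H.index = p ^ k) := by
  haveI := Fact.mk hp
  simp only [ncard_carrier_eq_index]
  constructor
  · intro h
    have h : Hyp p G := h
    haveI := hyp_solvable hp h
    obtain ⟨H, hH⟩ := Coprime.exists_isPiHall ({p}ᶜ : Set ℕ) G
    have hpH : ¬ p ∣ Nat.card H := fun hd => hH.1 p hp hd rfl
    have hcop : (Nat.card H).Coprime p := ((Nat.Prime.coprime_iff_not_dvd hp).2 hpH).symm
    refine ⟨H, ⟨⟨fun x y => ?_⟩⟩, hpH, _, index_eq_pow_factorization hp hpH fun q hq hd => ?_⟩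
    · haveI := (pCore_characteristic p G)
      have ho : ∀ z : H, (orderOf ((z : G) : G ⧸ pCore p G)).Coprime p := fun z =>
        hcop.coprime_dvd_left ((orderOf_map_dvd (QuotientGroup.mk' (pCore p G)) (z : G)).trans
          (by rw [Subgroup.orderOf_coe]; exact orderOf_dvd_natCard z))
      have hc := commute_of_pCore_eq_bot hp (hyp_quot hp (pCore p G) h) (pCore_quotient_pCore p G)
        (ho x) (ho y)
      have hmem : ((x * y * (y * x)⁻¹ : H) : G) ∈ pCore p G := by
        rw [← QuotientGroup.eq_one_iff]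
        simp only [Subgroup.coe_mul, InvMemClass.coe_inv, QuotientGroup.mk_mul,
          QuotientGroup.mk_inv]
        rw [hc.eq, mul_inv_cancel]
      have hbot : H ⊓ pCore p G = ⊥ := by
        obtain ⟨k, hk⟩ := IsPGroup.iff_card.1 (isPGroup_pCore p G)
        exact inf_eq_bot_of_coprime_card (hk ▸ hcop.pow_right k)
      have : ((x * y * (y * x)⁻¹ : H) : G) ∈ H ⊓ pCore p G := ⟨Subtype.property _, hmem⟩
      rw [hbot, mem_bot] at this
      exact mul_inv_eq_one.1 (Subtype.ext this)
    · by_contra hne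
      exact hH.2 q hq hne hd
  · rintro ⟨H, hH, hpH, k, hk⟩ x hx
    haveI := hyp2_solvable hp ⟨H, hH, k, hk⟩
    have hHall : IsPiHall ({p}ᶜ : Set ℕ) H := by
      refine ⟨fun q _ hd hq => hpH (by rw [Set.mem_singleton_iff.1 hq] at hd; exact hd),
        fun q hq hqp hd => hqp ?_⟩
      rw [hk] at hd
      exact (Nat.prime_dvd_prime_iff_eq hq hp).1 (hq.dvd_of_dvd_pow hd)
    obtain ⟨g, hg⟩ := Coprime.exists_le_conj_of_isPiHall (U := zpowers x) hHall
      ((Coprime.IsPiNum.compl_singleton_iff hp).2 (by rwa [Nat.card_zpowers]))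
    have hx' := Coprime.mem_conj_smul_iff.1 (hg (mem_zpowers x))
    have hle : H ≤ centralizer ({g⁻¹ * x * g⁻¹⁻¹} : Set G) := fun y hy =>
      mem_cent_iff.2 (by rw [inv_inv]; exact mul_comm_of_mem_isMulCommutative H hx' hy)
    have := index_dvd_of_le hle
    rw [hk, index_cent_conj] at this
    obtain ⟨i, -, hi⟩ := (Nat.dvd_prime_pow hp).1 this
    exact ⟨i, hi⟩

end Cfsg.Agent.S4034
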