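import Cfsg.Statements.S4033
import Cfsg.Agent.Lib.Ito.PReg

set_option autoImplicit false
open Cfsg

namespace Cfsg.Agent.S4033

open Subgroup CfsgLib CfsgLib.Ito CfsgLib.Fgs CfsgLib.Coprime


/-- Let G be a finite group and p a prime, and suppose the conjugacy classes of p-regular elements of G (elements of order prime to p) have exactly two distinct sizes. Then either G has an abelian p-complement (an abelian subgroup of order prime to p and p-power index), or there are a prime q ≠ p, a Sylow p-subgroup P, a Sylow q-subgroup Q and a central subgroup A such that PQ is a normal subgroup of order #P·#Q and G is the internal direct product PQ × A. -/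
theorem result {G : Type*} [Group G] [Finite G] {p : ℕ} (hp : p.Prime)
    (h2 : Set.ncard (Set.range fun x : {x : G // (orderOf x).Coprime p} => (ConjClasses.mk (x : G)).carrier.ncard) = 2) :
    (∃ H : Subgroup G, IsMulCommutative H ∧ ¬ p ∣ Nat.card H ∧ ∃ k : ℕ, H.index = p ^ k) ∨
    (∃ (q : ℕ) (_ : Fact q.Prime) (P : Sylow p G) (Q : Sylow q G) (A : Subgroup G), q ≠ p ∧
        A ≤ Subgroup.center G ∧ Nat.card ↥((P : Subgroup G) ⊔ (Q : Subgroup G)) = Nat.card P * Nat.card Q ∧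
        ((P : Subgroup G) ⊔ (Q : Subgroup G)).Normal ∧
        ((P : Subgroup G) ⊔ (Q : Subgroup G)) ⊓ A = ⊥ ∧ ((P : Subgroup G) ⊔ (Q : Subgroup G)) ⊔ A = ⊤) := by
  haveI := Fact.mk hp
  simp only [ncard_carrier_eq_index] at h2
  obtain ⟨n, hn⟩ : ∃ n, PR G p n := by
    obtain ⟨a, b, hab, e⟩ := Set.ncard_eq_two.1 h2
    have h1 : ∀ x : G, ¬ p ∣ orderOf x → ix x = a ∨ ix x = b := fun x hx =>
      e.le ⟨⟨x, (hp.coprime_iff_not_dvd.2 hx).symm⟩, rfl⟩
    have h3 := h1 1 (by simpa using hp.ne_one)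
    rw [ix, index_cent_eq_one_iff.2 (one_mem _)] at h3
    rcases h3 with rfl | rfl
    · exact ⟨b, fun x hx hZ => (h1 x hx).resolve_left fun e => hZ (index_cent_eq_one_iff.1 e)⟩
    · exact ⟨a, fun x hx hZ => (h1 x hx).resolve_right fun e => hZ (index_cent_eq_one_iff.1 e)⟩
  refine (hn.main hp).imp (exists_ab_compl hp) fun ⟨q, hq, hqp, _, h⟩ => ?_
  haveI := Fact.mk hq
  haveI := isSolvable_of_two hp hq h
  obtain ⟨H, hH⟩ := exists_isPiHall ({p, q} : Set ℕ) G
  obtain ⟨A, hA⟩ := exists_isPiHall ({p, q}ᶜ : Set ℕ) G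
  obtain ⟨P, hP⟩ := exists_sylow_le_of_not_dvd_index (hH.2 p hp (by simp))
  obtain ⟨Q, hQ⟩ := exists_sylow_le_of_not_dvd_index (hH.2 q hq (by simp))
  have hAZ : A ≤ center G := le_of_coprime_index (Nat.coprime_of_dvd fun r hr h1 h2 =>
    hA.1 r hr h1 (h r hr h2))
  have h3 : (P : Subgroup G) ⊔ Q = H := le_antisymm (sup_le hP hQ) (relIndex_eq_one.1 (by
    by_contra hc
    obtain ⟨r, hr, hd⟩ := Nat.exists_prime_and_dvd hc
    have h4 := hd.trans (relIndex_dvd_index_of_le (sup_le hP hQ))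
    rcases hH.1 r hr (hd.trans (relIndex_dvd_card _ _)) with rfl | rfl
    · exact not_dvd_index_of_sylow_le P le_sup_left h4
    · exact not_dvd_index_of_sylow_le Q le_sup_right h4))
  have h4 : H ⊔ A = ⊤ := Core.sup_eq_top_of_coprime_index (Nat.coprime_of_dvd fun r hr h1 h2 => by
    by_cases e : r ∈ ({p, q} : Set ℕ)
    exacts [hH.2 r hr e h1, hA.2 r hr e h2])
  refine ⟨q, inferInstance, P, Q, A, hqp, hAZ, ?_, ?_, ?_, h3 ▸ h4⟩ <;> rw [h3]
  · have h5 := Nat.eq_prime_pow_of_unique_prime_dvd (p := q) (n := (P : Subgroup G).relIndex H)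
      index_ne_zero_of_finite fun {r} hr hd => (hH.1 r hr (hd.trans (relIndex_dvd_card _ _))).resolve_left
        fun e => P.not_dvd_index ((e ▸ hd :).trans (relIndex_dvd_index_of_le hP))
    have h6 := Core.card_mul_relIndex_of_le hP
    rw [← h6]
    congr 1
    refine Nat.dvd_antisymm (h5 ▸ Q.pow_dvd_card_of_pow_dvd_card
      (h5 ▸ (relIndex_dvd_card _ _).trans (card_subgroup_dvd_card H))) ?_
    obtain ⟨a, ha⟩ := P.isPGroup'.exists_card_eq
    obtain ⟨b, hb⟩ := Q.isPGroup'.exists_card_eq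
    refine Nat.Coprime.dvd_of_dvd_mul_left (m := Nat.card P) ?_ (h6 ▸ card_dvd_of_le hQ)
    exact ha ▸ hb ▸ Nat.Coprime.pow _ _ ((Nat.coprime_primes hq hp).2 hqp)
  · rw [← normalizer_eq_top_iff, eq_top_iff, ← h4]
    exact sup_le le_normalizer (hAZ.trans (center_le_normalizer _))
  · exact Core.inf_eq_bot_of_coprime_card (Nat.coprime_of_dvd fun r hr h1 h2 =>
      hA.1 r hr h2 (hH.1 r hr h1))

end Cfsg.Agent.S4033
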