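import Cfsg.Statements.S4035
import Cfsg.Agent.Lib.Count.Subgroups
import Cfsg.Agent.Lib.Count.DirectFactor
import Cfsg.Agent.Lib.SylTools.Basic

set_option autoImplicit false
open Cfsg

namespace Cfsg.Agent.S4035


/-- Let G be a finite group and p a prime such that p divides the size of no conjugacy class of p-regular elements (elements of order prime to p). Then G is the internal direct product of a Sylow p-subgroup P and a normal subgroup H of order prime to p: P is normal, P ⊓ H = 1 and PH = G. -/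
theorem result {G : Type*} [Group G] [Finite G] {p : ℕ} [Fact p.Prime]
    (h : ∀ x : G, (orderOf x).Coprime p → ¬ p ∣ (ConjClasses.mk x).carrier.ncard) (P : Sylow p G) :
    (P : Subgroup G).Normal ∧ ∃ H : Subgroup G, H.Normal ∧ ¬ p ∣ Nat.card H ∧
      (P : Subgroup G) ⊓ H = ⊥ ∧ (P : Subgroup G) ⊔ H = ⊤ := by
  have hp : p.Prime := Fact.out
  have hN : (P : Subgroup G).Normal := by
    rw [← Subgroup.normalizer_eq_top_iff]
    apply CfsgLib.Count.eq_top_of_forall_exists_conj_mem
    intro x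
    obtain ⟨a, b, -, -, hab, hc, ⟨k, hk⟩, hb⟩ := CfsgLib.Fgs.exists_p_part p x
    have h1 := h b ((Nat.Prime.coprime_iff_not_dvd hp).mpr hb).symm
    rw [CfsgLib.Fgs.ncard_carrier_eq_index] at h1
    obtain ⟨Q, hQ⟩ := CfsgLib.Fgs.exists_sylow_le_of_not_dvd_index h1
    obtain ⟨c, hc1, hc2⟩ := CfsgLib.SylTools.exists_conj_mem_sylow_of_mem hk
      (CfsgLib.Fgs.mem_cent_iff.mpr hc.symm) Q hQ
    have h2 : c * x * c⁻¹ ∈ Subgroup.normalizer ((Q : Subgroup G) : Set G) := by
      have e : c * x * c⁻¹ = c * a * c⁻¹ * b := by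
        have := (CfsgLib.Fgs.mem_cent_iff.mp hc1).inv_right.eq
        rw [← hab, mul_assoc (c * a), ← this]
        group
      rw [e]
      refine Subgroup.mul_mem _ (Subgroup.le_normalizer hc2) ?_
      apply Subgroup.centralizer_le_normalizer
      intro q hq
      exact (CfsgLib.Fgs.mem_cent_iff.mp (hQ hq)).symm
    obtain ⟨g, rfl⟩ := MulAction.exists_smul_eq G Q P
    refine ⟨g * c, ?_⟩
    rw [Sylow.coe_coe, ← Sylow.smul_eq_iff_mem_normalizer] at h2 ⊢
    rw [show g * c * x * (g * c)⁻¹ = g * (c * x * c⁻¹) * g⁻¹ by group, mul_smul, mul_smul,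
      inv_smul_smul, h2]
  apply CfsgLib.Count.direct_factor_of_commute
  intro x hx y q b hq hqp hy
  have h1 := h y (by
    rw [hy]
    exact Nat.Coprime.pow_left _ ((Nat.coprime_primes hq hp).mpr hqp))
  rw [CfsgLib.Fgs.ncard_carrier_eq_index] at h1
  obtain ⟨Q, hQ⟩ := CfsgLib.Fgs.exists_sylow_le_of_not_dvd_index h1
  have := P.unique_of_normal hN
  rw [Subsingleton.elim Q P] at hQ
  exact (CfsgLib.Fgs.mem_cent_iff.mp (hQ hx)).symm

end Cfsg.Agent.S4035
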