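import Cfsg.Statements.S2202
import Cfsg.Agent.Lib.AbCent.Main

set_option autoImplicit false
open Cfsg

namespace Cfsg.Agent.S2202

/-- Finite groups in which the centralizer of every involution is abelian. Let G be a finite group of even order in which the centralizer of every element of order 2 is abelian. Then the Sylow 2-subgroups of G are cyclic, or a Sylow 2-subgroup of G is normal, or G is isomorphic to the direct product of SL₂(F) for a finite field F of characteristic two and an abelian group of odd order. -/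
theorem result {G : Type*} [Group G] [Finite G] (heven : Even (Nat.card G)) (h : ∀ t : G, orderOf t = 2 → IsMulCommutative ↥(Subgroup.centralizer ({t} : Set G))) :
    (∀ P : Sylow 2 G, IsCyclic ↥P) ∨ (∀ P : Sylow 2 G, (P : Subgroup G).Normal) ∨
    (∃ (F : Type) (_ : Field F) (_ : Fintype F) (A : Type) (_ : CommGroup A) (_ : Finite A), CharP F 2 ∧ Odd (Nat.card A) ∧ Nonempty (G ≃* Matrix.SpecialLinearGroup (Fin 2) F × A)) := by
  haveI : Fact (Nat.Prime 2) := ⟨Nat.prime_two⟩
  have hA : CfsgLib.AbCent.AC G := fun t ht a b ha hb => congrArg Subtype.val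
    ((h t ht).is_comm.comm ⟨a, Subgroup.mem_centralizer_singleton_iff.2 ha⟩
      ⟨b, Subgroup.mem_centralizer_singleton_iff.2 hb⟩)
  by_cases h1 : ∀ P : Sylow 2 G, IsCyclic P
  · exact Or.inl h1
  by_cases h2 : ∀ P : Sylow 2 G, (P : Subgroup G).Normal
  · exact Or.inr (Or.inl h2)
  push Not at h1 h2
  obtain ⟨P, hP⟩ := h1
  obtain ⟨Q, hQ⟩ := h2
  have hH := hA.hyp P hP fun hn => by
    haveI := Sylow.unique_of_normal P hn
    exact hQ (Subsingleton.elim P Q ▸ hn)
  obtain ⟨F, _, _, hF, -, ⟨e⟩⟩ := hH.exists_iso
  letI : CommGroup (Subgroup.center G) :=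
    { (inferInstance : Group (Subgroup.center G)) with mul_comm := mul_comm' }
  refine Or.inr (Or.inr ⟨F, inferInstance, inferInstance, Shrink.{0} (Subgroup.center G), inferInstance,
    Finite.of_equiv _ (equivShrink _), hF, ?_,
    ⟨e.trans ((MulEquiv.refl _).prodCongr Shrink.mulEquiv.symm)⟩⟩)
  rw [← Nat.card_congr (equivShrink _)]
  exact CfsgLib.StrEmb.odd_card_of_forall fun z hz h2 =>
    absurd (h2 ▸ hH.odd_of_mem_center hz) (by decide)

end Cfsg.Agent.S2202
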