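import Cfsg.Statements.S1011
import Cfsg.Agent.Lib.DefectOne.B43_Main
import Cfsg.Agent.Lib.DefectOne.Prin
import Cfsg.Agent.Lib.DefectOne.Wrap
import Cfsg.Agent.Lib.PSL2Rec.Fix2
import Cfsg.Agent.Lib.PSL2Rec.Prime
import Cfsg.Agent.S2202
import Cfsg.Agent.Lib.SL2.PSL
import Cfsg.Agent.Lib.Classical.SmallIso

set_option autoImplicit false
open Cfsg

namespace Cfsg.Agent.S1011


open CfsgLib.DefectOne CfsgLib.DefectOne.B43 CfsgLib.PSL2Rec CfsgLib.Char Subgroup MulAction

variable {G : Type*} [Group G] [Finite G] [IsSimpleGroup G]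

theorem perf (h : Nat.card G = 504) : _root_.commutator G = ⊤ := by
  refine (Normal.eq_bot_or_eq_top inferInstance).resolve_left fun h1 => ?_
  refine not_comm_of_simple (G := G) (by rw [h]; norm_num) ⟨⟨fun a b => ?_⟩⟩
  rw [← commutatorElement_eq_one_iff_mul_comm, ← mem_bot, ← h1]
  exact commutator_mem_commutator (mem_top a) (mem_top b)

theorem loc [Fact (Nat.Prime 7)] (h : Nat.card G = 504) {x : G} (hs : Syl 7 x) :
    Nat.card (CC x) = 7 ∧ ee x = 2 ∧ Nat.card (Sylow 7 G) = 36 := by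
  have h1 := card_NN x
  have h2 := ee_ne_one_of_perfect hs (perf h)
  have h3 := card_sylow_mul hs
  have h4 := card_sylow_mod (G := G) (p := 7)
  have h5 := ee_dvd hs
  have h6 := card_sylow_ne_one_of_perfect hs (perf h)
  obtain ⟨c, hc⟩ : 7 ∣ Nat.card (CC x) := hs.ord ▸ orderOf_dvd_natCard _ (self_mem_CC x)
  have h7 := card_sylow_dvd_of_eq (p := 7) (k := 1) (m := 72) h (by decide)
  rw [h, h1, hc] at h3
  have h8 : ee x = 2 ∨ ee x = 3 ∨ ee x = 6 :=
    (by decide : ∀ n ∈ Nat.divisors 6, n ≠ 1 → n = 2 ∨ n = 3 ∨ n = 6) _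
      (Nat.mem_divisors.2 ⟨h5, by norm_num⟩) h2
  rcases (by decide : ∀ n ∈ Nat.divisors 72, n % 7 = 1 → n ≠ 1 → n = 8 ∨ n = 36) _
    (Nat.mem_divisors.2 ⟨h7, by norm_num⟩) h4 h6 with h9 | h9
  · exfalso
    rw [h9] at h3
    obtain ⟨y, hy, hy'⟩ := exists_mem_orderOf_eq_prime (CC x) Nat.prime_three
      (by rcases h8 with h8 | h8 | h8 <;> rw [h8] at h3 <;> omega)
    have := Fact.mk Nat.prime_three
    have a1 := card_fixedBy_modEq (X := Sylow 7 G) (p := 3) (k := 1) (x := y)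
      (by rw [pow_one, ← hy', pow_orderOf_eq_one])
    have a2 := card_fixedBy_modEq_of_commute (X := Sylow 7 G) (p := 7) (k := 1) (z := x) (x := y)
      hs.pow_p (mem_CC.1 hy).symm
    have a3 := card_fixedBy_sylow_eq_one (card_sylow_eq_p hs) hs.ord
    have a4 : Nat.card {a : Sylow 7 G // y • a = a ∧ x • a = a} ≤ Nat.card (fixedBy (Sylow 7 G) x) :=
      Set.ncard_le_ncard (s := {a | y • a = a ∧ x • a = a}) fun a ha => ha.2
    have : Nontrivial (Sylow 7 G) := Finite.one_lt_card_iff_nontrivial.1 (by omega)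
    have a5 := card_fixedBy_lt (X := Sylow 7 G) (x := y) (by
      by_contra h
      push Not at h
      exact ne_one_of_orderOf_prime Nat.prime_three hy' (faithful_of_simple y h))
    unfold Nat.ModEq at a1 a2
    rw [h9] at a1 a5
    rw [a3] at a4
    generalize Nat.card (fixedBy (Sylow 7 G) y) = u at *
    generalize Nat.card {a : Sylow 7 G // y • a = a ∧ x • a = a} = v at *
    interval_cases u <;> omega
  · rw [h9] at h3
    rcases h8 with h8 | h8 | h8 <;> rw [h8] at h3 <;> omega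

theorem chars [Fact (Nat.Prime 7)] (h : Nat.card G = 504) : ∃ χ : G → ℂ, IsIrrCharacter G χ ∧
    χ 1 = 8 ∧ (∀ g, 7 ∣ orderOf g → χ g = 1) ∧ (∀ g, 2 ∣ orderOf g → χ g = 0) ∧
    ∀ g, ¬ 7 ∣ orderOf g → 3 ∣ orderOf g → χ g = -1 := by
  obtain ⟨x, hs⟩ := exists_syl' (G := G) (p := 7) (by rw [h]; decide) (by rw [h]; decide)
  obtain ⟨h1, h2, h3⟩ := loc h hs
  have hζ := Complex.isPrimitiveRoot_exp 7 (by norm_num)
  obtain ⟨D⟩ := exists_prinData hs.ord hs.nsq hζ
  obtain ⟨χ, hχ⟩ := Finset.card_eq_one.1 (show (Xs D).card = 1 by have := card_Xs D hs; omega)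
  obtain ⟨h4, h5⟩ := (mem_Xs D).1 (hχ ▸ Finset.mem_singleton_self χ)
  have h6 := deg_eq' D
  have h7 := z0_dvd D hζ hs
  have h8 := deg_X_dvd D hs h5
  have h9 := D.X_deg χ h5
  have h10 : charDegree (χ : G → ℂ) ≠ 1 := fun h' => h4 (eq_irrOne (perf h) h')
  rw [hχ, Finset.sum_singleton] at h6
  rw [h2, h3] at h7 h8
  have h11 : D.δ χ = 1 ∧ D.ε = 1 ∧ charDegree (χ : G → ℂ) = 8 ∧ z0 D = 9 := by
    have b1 := Nat.mem_divisors.2 ⟨h7, by norm_num⟩
    have b2 := Nat.mem_divisors.2 ⟨h8, by norm_num⟩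
    have b3 : ∀ n ∈ Nat.divisors (2 * 36), n = 1 ∨ n = 2 ∨ n = 3 ∨ n = 4 ∨ n = 6 ∨ n = 8 ∨ n = 9 ∨
      n = 12 ∨ n = 18 ∨ n = 24 ∨ n = 36 ∨ n = 72 := by decide
    replace b1 := b3 _ b1
    replace b2 := b3 _ b2
    unfold Int.ModEq at h9
    rcases D.δ_sign χ h5 with a | a <;> rcases D.ε_sign with b | b <;> rw [a, b] at h6 <;>
      rw [a] at h9 <;> omega
  obtain ⟨a1, a2, a3, a4⟩ := h11
  refine ⟨χ, χ.2, by rw [← CfsgLib.ChDeg.irr_deg_cast, a3]; simp,
    fun g hg => by rw [D.X_val χ h5 g hg, a1]; simp,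
    fun g hg => irr_eq_zero_of_not_dvd χ (c := 63) (d := 8) h Nat.prime_two (by decide) (by rw [a3]) hg,
    fun g hg hg' => ?_⟩
  have b1 := D.reg_eq 1 g hg
  rw [irr_eq_zero_of_not_dvd (D.Y 1) (c := 56) (d := 9) h Nat.prime_three (by decide)
    (by rw [deg_Y, a4]) hg', sum_X, hχ, Finset.sum_singleton, D.δ_one, a1, irrOne_apply] at b1
  push_cast at b1
  linear_combination -b1

theorem sq_eq_one (h : Nat.card G = 504) {t g : G} (ht : orderOf t = 2) (hg : g ∈ CC t) :
    g ^ 2 = 1 := by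
  classical
  have := Fact.mk (by norm_num : Nat.Prime 7)
  have := Fintype.ofFinite G
  obtain ⟨χ, h1, h2, h3, h4, h5⟩ := chars h
  have h6 : ∀ y ∈ CC t, ¬ 7 ∣ orderOf y ∧ ¬ 3 ∣ orderOf y := by
    have a1 : ∀ q : ℕ, q.Prime → q ≠ 2 → ∀ y ∈ CC t, q ∣ orderOf y → ∃ u : G, orderOf u = 2 * q := by
      intro q hq hq2 y hy hy'
      obtain ⟨z, hz, hz'⟩ := exists_mem_orderOf_eq_prime (CC t) hq
        (hy'.trans (orderOf_dvd_natCard _ hy))
      exact ⟨t * z, by rw [(mem_CC.1 hz).orderOf_mul_eq_mul_orderOf_of_coprime (by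
        rw [ht, hz']; exact (Nat.coprime_primes Nat.prime_two hq).2 hq2.symm), ht, hz']⟩
    refine fun y hy => ⟨fun h7 => ?_, fun h7 => ?_⟩
    · obtain ⟨u, hu⟩ := a1 7 (by norm_num) (by decide) y hy h7
      exact one_ne_zero ((h3 u (by rw [hu]; decide)).symm.trans (h4 u (by rw [hu]; decide)))
    · obtain ⟨u, hu⟩ := a1 3 (by norm_num) (by decide) y hy h7
      exact neg_ne_zero.2 one_ne_zero ((h5 u (by rw [hu]; decide) (by rw [hu]; decide)).symm.trans
        (h4 u (by rw [hu]; decide)))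
  have h7 : Nat.card (CC t) ≤ 8 := by
    have a1 : ∀ q : ℕ, q.Prime → q ∣ Nat.card (CC t) → ∃ y ∈ CC t, q ∣ orderOf y := fun q hq h' =>
      (exists_mem_orderOf_eq_prime _ hq h').imp fun y ⟨hy, hy'⟩ => ⟨hy, hy' ▸ dvd_rfl⟩
    refine (by decide +kernel : ∀ n ∈ Nat.divisors 504, ¬ 7 ∣ n → ¬ 3 ∣ n → n ≤ 8) _
      (Nat.mem_divisors.2 ⟨h ▸ card_subgroup_dvd_card _, by norm_num⟩) (fun h' => ?_) fun h' => ?_
    · obtain ⟨y, hy, hy'⟩ := a1 7 (by norm_num) h'
      exact (h6 y hy).1 hy'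
    · obtain ⟨y, hy, hy'⟩ := a1 3 (by norm_num) h'
      exact (h6 y hy).2 hy'
  obtain ⟨x, hs⟩ := exists_syl' (G := G) (p := 7) (by rw [h]; decide) (by rw [h]; decide)
  obtain ⟨b1, -, b3⟩ := loc h hs
  have hsc : SC 7 x := ⟨hs.prime, hs.ord,
    (eq_of_le_of_card_ge (zpowers_le_CC x) (by rw [b1, hs.card_zpowers])).symm⟩
  have h8 : (Finset.univ.filter fun g : G => 7 ∣ orderOf g).card = 216 := by
    have := card_orderOf_eq_prime (card_sylow_eq_p hs)
    rw [b3, Nat.card_eq_fintype_card, Fintype.card_subtype] at this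
    rw [← show _ = 216 from this]
    exact congrArg _ (Finset.filter_congr fun g _ => ⟨hsc.orderOf_eq, fun h => h ▸ dvd_rfl⟩)
  let A := Finset.univ.filter fun g : G => ¬ 7 ∣ orderOf g
  let B := A.filter fun g : G => ¬ 3 ∣ orderOf g
  have hB : (1 : G) ∈ B := by simp [A, B]
  have h9 := sum_irr_eq_zero h1 fun h' => by rw [h'] at h2; norm_num at h2
  rw [← Finset.sum_filter_add_sum_filter_not _ fun g => 7 ∣ orderOf g,
    ← Finset.sum_filter_add_sum_filter_not A fun g => 3 ∣ orderOf g, ← Finset.add_sum_erase B _ hB,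
    Finset.sum_congr rfl fun g hg => h3 g (Finset.mem_filter.1 hg).2,
    Finset.sum_congr rfl fun g hg => h5 g (Finset.mem_filter.1 (Finset.mem_filter.1 hg).1).2
      (Finset.mem_filter.1 hg).2, Finset.sum_eq_zero (s := B.erase 1) fun g hg => h4 g (by
        simp only [A, B, Finset.mem_erase, Finset.mem_filter] at hg
        exact (by decide +kernel : ∀ n ∈ Nat.divisors 504, n ≠ 1 → ¬ 7 ∣ n → ¬ 3 ∣ n → 2 ∣ n) _
          (Nat.mem_divisors.2 ⟨h ▸ _root_.orderOf_dvd_natCard g, by norm_num⟩)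
          (mt orderOf_eq_one_iff.1 hg.1) hg.2.1.2 hg.2.2), h2] at h9
  simp only [Finset.sum_const, h8, nsmul_eq_mul] at h9
  have h10 : (A.filter fun g : G => 3 ∣ orderOf g).card = 224 := by
    have : ((A.filter fun g : G => 3 ∣ orderOf g).card : ℂ) = 224 := by
      push_cast at h9
      linear_combination -h9
    exact_mod_cast this
  have h11 := Finset.card_filter_add_card_filter_not (s := Finset.univ) fun g : G => 7 ∣ orderOf g
  have h12 := Finset.card_filter_add_card_filter_not (s := A) fun g : G => 3 ∣ orderOf g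
  have h13 := Finset.card_erase_add_one hB
  rw [Finset.card_univ, ← Nat.card_eq_fintype_card, h, h8] at h11
  have h14 := card_class_mul_card_centralizer t
  rw [h, Nat.card_eq_fintype_card, Fintype.card_subtype] at h14
  have h15 : Finset.univ.filter (IsConj t) = B.erase 1 := by
    refine Finset.eq_of_subset_of_card_le (fun y hy => ?_) ?_
    · have := orderOf_eq_of_isConj (Finset.mem_filter.1 hy).2
      simp only [A, B, Finset.mem_erase, Finset.mem_filter, Finset.mem_univ, ← this, ht]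
      exact ⟨ne_one_of_orderOf_prime Nat.prime_two (this ▸ ht), by decide⟩
    · have : (B.erase 1).card = 63 := by simp only [A, B] at *; omega
      rw [this]
      nlinarith
  by_cases hg1 : g = 1
  · simp [hg1]
  have h16 : g ∈ B.erase 1 := by simpa [A, B, hg1] using h6 g hg
  rw [← h15] at h16
  rw [← ht, orderOf_eq_of_isConj (Finset.mem_filter.1 h16).2, pow_orderOf_eq_one]

/-- A simple group of order 504 is isomorphic to the projective special linear group of dimension 2 over the field with 8 elements. -/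
theorem result {G : Type*} [Group G] [Finite G] [IsSimpleGroup G] (h : Nat.card G = 504) {F : Type*} [Field F] [Fintype F] (hF : Fintype.card F = 8) : Nonempty (G ≃* Matrix.ProjectiveSpecialLinearGroup (Fin 2) F) := by
  have hc : ∀ t : G, orderOf t = 2 → IsMulCommutative (centralizer ({t} : Set G)) := fun t ht =>
    ⟨⟨fun a b => (Commute.of_orderOf_dvd_two (fun g => orderOf_dvd_of_pow_eq_one
      (Subtype.ext (sq_eq_one h ht g.2))) a b).eq⟩⟩
  obtain ⟨P⟩ : Nonempty (Sylow 2 G) := inferInstance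
  have hP := card_sylow_of_eq (k := 3) (m := 63) h (by decide) P
  rcases Cfsg.Agent.S2202.result (by rw [h]; decide) hc with h1 | h1 | ⟨K, _, _, A, _, _, _, h1, ⟨e⟩⟩
  · obtain ⟨g, hg⟩ := (h1 P).exists_ofOrder_eq_natCard
    have h2 : orderOf (g : G) = 8 := (Subgroup.orderOf_coe g).trans (hg.trans hP)
    have := orderOf_dvd_of_pow_eq_one (sq_eq_one h (t := g ^ 4) (g := g)
      (by rw [orderOf_pow, h2]; rfl) (mem_CC.2 ((Commute.refl _).pow_left 4)))
    rw [h2] at this
    omega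
  · rcases (h1 P).eq_bot_or_eq_top with h2 | h2 <;> rw [h2] at hP
    · simp at hP
    · rw [card_top, h] at hP; omega
  · have := e.symm.isSimpleGroup
    have h2 := Nat.card_congr e.toEquiv
    have h3 : Function.Injective (MonoidHom.fst (Matrix.SpecialLinearGroup (Fin 2) K) A) := by
      rw [← MonoidHom.ker_eq_bot_iff]
      refine (Normal.eq_bot_or_eq_top inferInstance).resolve_right fun h4 => ?_
      have h5 : Subsingleton (Matrix.SpecialLinearGroup (Fin 2) K) :=
        subsingleton_of_forall_eq 1 fun a => (h4.ge (mem_top (a, 1)) : (a, (1 : A)) ∈ _)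
      rw [h, Nat.card_prod, Nat.card_unique, one_mul] at h2
      rw [← h2] at h1
      exact absurd h1 (by decide)
    let e' := e.trans (MulEquiv.ofBijective _ ⟨h3, Prod.fst_surjective⟩)
    have h4 := Nat.card_congr e'.toEquiv
    rw [h, CfsgLib.SL2.card_SL2] at h4
    have h5 : Fintype.card K = 8 := by
      generalize Fintype.card K = q at h4
      by_cases h5 : q ≤ 8
      · interval_cases q <;> omega
      · have h6 : 80 ≤ q ^ 2 - 1 := by have : 81 ≤ q ^ 2 := by nlinarith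
                                       omega
        nlinarith
    exact ⟨(e'.trans (CfsgLib.SL2.pmEquiv CharTwo.two_eq_zero)).trans
      (CfsgLib.Classical.pslMapEquiv (FiniteField.ringEquivOfCardEq (by omega)))⟩

end Cfsg.Agent.S1011
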