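import Mathlib
import Cfsg.Statements.S3071
import Cfsg.Agent.Lib.ZJ.QdInvolve

set_option autoImplicit false
open Cfsg

namespace Cfsg.Agent.S3071

/-- Let p be an odd prime and S a Sylow p-subgroup of the finite group G such that, for every subgroup P with Z(S) ≤ P ≤ S, the normalizer N_G(P) has no section isomorphic to SL₂(p). Let J(S) be the subgroup generated by the abelian subgroups of S of largest order. Then two elements of S are conjugate in G if and only if they are conjugate in N_G(Z(J(S))). -/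
theorem result {G : Type*} [Group G] [Finite G] {p : ℕ} [Fact p.Prime]
    (hp : p ≠ 2) (S : Sylow p G)
    (hfree : ∀ P : Subgroup G, (S : Subgroup G) ⊓ Subgroup.centralizer ((S : Subgroup G) : Set G) ≤ P → P ≤ S →
      ¬ ∃ (H K : Subgroup G) (hK : (K.subgroupOf H).Normal), H ≤ Subgroup.normalizer (P : Set G) ∧
        Nonempty ((H ⧸ K.subgroupOf H) ≃* Matrix.SpecialLinearGroup (Fin 2) (ZMod p))) :
    ∀ x ∈ S, ∀ y ∈ S, (∃ g : G, g * x * g⁻¹ = y) ↔
      ∃ n ∈ Subgroup.normalizer (Cfsg.centerThompsonAOf (S : Subgroup G) : Set G), n * x * n⁻¹ = y := by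
  open CfsgLib.ZJ CfsgLib.CFun CfsgLib.Tech in
  have hS := IsSylowIn.of_sylow_top S
  have hW := isSubFunctor_zj (p := p) (e := 0) (Or.inl rfl)
  have key : FusGen 𝐍(zj 0 (S : Subgroup G)) ⊤ (S : Subgroup G) := by
    refine hW.fusGen_of_local hS (isStronglyClosed_self _)
      (fun T => (S : Subgroup G) ⊓ 𝐂((S : Subgroup G)) ≤ T) (fun T hT _ => ?_)
      (fun T hT _ h => le_trans (inf_le_inf_left _ (cent_anti hT)) h) (fun T hT hc hE => ?_)
    · refine le_trans ?_ (omegaOne_center_le_zj _)
      rw [omegaOne_zero]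
      exact le_inf (inf_le_inf_left _ ((cent_anti hT).trans (cent_le_norm T)))
        (inf_le_right.trans (cent_anti inf_le_left))
    · refine hW.fusGen_subtype hS.pgroup (fusGen_zj hp (Or.inl rfl) (fun X _ _ h =>
        quadStable_of_not_involves_qd hp fun h' => ?_) (isSylowIn_subgroupOf_top hE)
        (isStronglyClosed_self _))
      obtain ⟨K, f, hf⟩ := involves_iff.1 (involves_trans involves_SL2_qd (involves_trans h' h))
      obtain ⟨L, hL, -, e⟩ := CfsgLib.PLocal.exists_section_of_surjective (K := K.map (𝐍(T)).subtype)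
        (f.comp (K.equivMapOfInjective _ (𝐍(T)).subtype_injective).symm.toMonoidHom)
        (hf.comp (MulEquiv.surjective _))
      exact hfree T hc hT ⟨_, L, hL, Subgroup.map_subtype_le K, e⟩
  rw [zj_zero] at key
  intro x hx y hy
  refine ⟨fun ⟨g, hg⟩ => ?_, fun ⟨n, _, hn⟩ => ⟨n, hn⟩⟩
  obtain ⟨n, hn, h⟩ := fusGen_subgroup_iff.1 key {x} g (Subgroup.mem_top _) (by simpa using hx)
    (by simpa [hg] using hy)
  exact ⟨n, hn, (h x rfl).trans hg⟩

end Cfsg.Agent.S3071
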