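import Cfsg.Statements.S3549
import Cfsg.Agent.Lib.Recog.Derang

set_option autoImplicit false
open Cfsg

namespace Cfsg.Agent.S3549

open MulAction CfsgLib.Recog
open scoped Pointwise


/-- Let G act faithfully, transitively but imprimitively on a finite set with n points, and let D be the subgroup generated by the derangements. Then the index of D in G is at most √n − 1. -/
theorem result {G Ω : Type*} [Group G] [Finite G] [MulAction G Ω] [FaithfulSMul G Ω] [Finite Ω]
    (htrans : MulAction.IsPretransitive G Ω) (himp : ¬ MulAction.IsPreprimitive G Ω) :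
    ((Subgroup.closure {g : G | ∀ ω : Ω, g • ω ≠ ω}).index : ℝ) ≤ Real.sqrt (Nat.card Ω) - 1 := by
  classical
  change ((derSub G Ω).index : ℝ) ≤ _
  set k := (derSub G Ω).index with hk
  have : ∃ B : Set Ω, IsBlock G B ∧ ¬ IsTrivialBlock B := by
    by_contra h
    push Not at h
    exact himp { isTrivialBlock_of_isBlock := fun {B} hB => h B hB }
  obtain ⟨B, hB, hBt⟩ := this
  rw [IsTrivialBlock, not_or] at hBt
  obtain ⟨hB1, hB2⟩ := hBt
  have hBne : B.Nonempty := by
    rcases B.eq_empty_or_nonempty with rfl | h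
    · exact absurd Set.subsingleton_empty hB1
    · exact h
  have hmul := hB.ncard_block_mul_ncard_orbit_eq hBne
  obtain ⟨a, ha⟩ := hBne
  have hb2 : 2 ≤ B.ncard := by
    by_contra h
    exact hB1 ((Set.ncard_le_one_iff_subsingleton).1 (by omega))
  have h1 : k ∣ B.ncard - 1 := by
    apply index_derSub_dvd_ncard_sub_one B ha
    intro g hg x hx
    have := hB.stabilizer_le ha (show g ∈ stabilizer G a from hg)
    rw [mem_stabilizer_iff] at this
    rw [← this]
    exact Set.smul_mem_smul_set hx
  have hm2 : 2 ≤ (orbit G B).ncard := by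
    by_contra h
    have hle : (orbit G B).ncard ≤ 1 := by omega
    apply hB2
    apply Set.eq_of_subset_of_ncard_le (Set.subset_univ B)
    rw [Set.ncard_univ, ← hmul]
    nlinarith
  haveI : Nonempty (orbit G B) := ⟨⟨B, mem_orbit_self B⟩⟩
  have h2 : k ∣ (orbit G B).ncard - 1 := by
    have h3 := index_derSub_dvd_card_sub_one G (orbit G B)
    refine dvd_trans ?_ h3
    apply Subgroup.index_dvd_of_le
    apply Subgroup.closure_mono
    intro g hg ω hω
    obtain ⟨h, rfl⟩ := exists_smul_eq G a ω
    apply hg ⟨h • B, mem_orbit B h⟩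
    apply Subtype.ext
    change g • h • B = h • B
    rw [← mul_smul]
    apply hB.smul_eq_smul_of_nonempty
    refine ⟨h • a, ?_, Set.smul_mem_smul_set ha⟩
    rw [← hω, ← mul_smul]
    exact Set.smul_mem_smul_set ha
  have h4 : k ≤ B.ncard - 1 := Nat.le_of_dvd (by omega) h1
  have h5 : k ≤ (orbit G B).ncard - 1 := Nat.le_of_dvd (by omega) h2
  have h6 : (k + 1) ^ 2 ≤ Nat.card Ω := by
    rw [← hmul, sq]
    exact Nat.mul_le_mul (by omega) (by omega)
  rw [le_sub_iff_add_le]
  apply Real.le_sqrt_of_sq_le
  exact_mod_cast h6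

end Cfsg.Agent.S3549
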