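import Cfsg.Statements.S1614
import Cfsg.Agent.Lib.FTHM.Gen
import Cfsg.Agent.Lib.FTHM.Str5
import Cfsg.Agent.S0247

set_option autoImplicit false
open Cfsg

namespace Cfsg.Agent.S1614

open CfsgLib.ThreeTrans CfsgLib.FTHM

/-- If the commuting transpositions of one transposition generate a solvable group, a Fischer 3-transposition group is S5, S6, PSU(4, 2) or PSU(5, 2). -/
theorem result {G : Type*} [Group G] [Finite G] (hsol : ∀ N : Subgroup G, N.Normal → Group.IsSolvable ↥N → N = ⊥) (hperf : ⁅commutator G, commutator G⁆ = commutator G) {D : Set G} (hD : Cfsg.IsThreeTranspositionClass D) (x : G) (hx : x ∈ D) (hs : Group.IsSolvable ↥(Subgroup.closure {y : G | y ∈ D ∧ y ≠ x ∧ Commute x y})) : Nonempty (G ≃* Equiv.Perm (Fin 5)) ∨ Nonempty (G ≃* Equiv.Perm (Fin 6)) ∨ ∃ (F : Type) (_ : Field F) (_ : Fintype F), Fintype.card F = 4 ∧ (Nonempty (G ≃* Cfsg.PSU 4 F 2) ∨ Nonempty (G ≃* Cfsg.PSU 5 F 2)) := by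
  obtain ⟨hP, hZ⟩ := prim_of_fischer hsol hperf hD
  have hK := kprim_of_prim hP
  have h5 : ¬ Str5 D := fun h => h.not_solvable hK.tt hK.sconn hx hs
  by_cases hW : LocW D
  · obtain ⟨e, -⟩ := (a1 hK hW).ident hD.2.2
    exact Or.inl ⟨e⟩
  by_cases hV : LocV D
  swap
  · exact absurd ((gen' hK hV hW).str5 hV) h5
  rcases a2 hK hV with ⟨m, hm, T⟩ | ⟨n, hn, T⟩
  · obtain rfl : m = 2 := by
      by_contra hne
      exact h5 (T.str5 (by omega))
    obtain ⟨e, -⟩ := T.ident (by omega) hK.tt hD.2.2 hZ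
    obtain ⟨e'⟩ := Cfsg.Agent.S0247.result (F := ZMod 2) (ZMod.card 2)
    exact Or.inr (Or.inl ⟨e.trans e'⟩)
  · obtain ⟨e, -⟩ := T.ident hn hK.tt hD.2.2 hZ
    refine Or.inr (Or.inr ⟨_, inferInstance, inferInstance, CfsgLib.Classical.card_GF4, ?_⟩)
    have h6 : ¬ 6 ≤ n := fun h => h5 (T.str5 h)
    obtain rfl | rfl : n = 4 ∨ n = 5 := by omega
    · exact Or.inl ⟨e⟩
    · exact Or.inr ⟨e⟩

end Cfsg.Agent.S1614
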