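import Mathlib
import Cfsg.Statements.S5363
import Cfsg.Agent.Lib.ThreeTrans.Basic
import Cfsg.Agent.Lib.Invol.Dihedral

set_option autoImplicit false
open Cfsg

namespace Cfsg.Agent.S5363

open CfsgLib.ThreeTrans

/-- Let D be a conjugation-invariant set of involutions of a finite group G. Then every product of two members of D has odd order or order 2 if and only if, for every a in D and every b in D different from a and commuting with a, the members of D commuting with a b are exactly those commuting with both a and b. -/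
theorem result {G : Type*} [Group G] [Finite G] {D : Set G} (hinv : ∀ d ∈ D, orderOf d = 2) (hconj : ∀ g : G, ∀ d ∈ D, g * d * g⁻¹ ∈ D) : (∀ a ∈ D, ∀ b ∈ D, Odd (orderOf (a * b)) ∨ orderOf (a * b) = 2) ↔ ∀ a ∈ D, ∀ b ∈ D, b ≠ a → Commute a b → {y : G | y ∈ D ∧ Commute (a * b) y} = {y : G | y ∈ D ∧ Commute a y} ∩ {y : G | y ∈ D ∧ Commute b y} := by
  have sq' : ∀ x ∈ D, x * x = 1 := fun x hx => by
    have h := pow_orderOf_eq_one x
    rwa [hinv x hx, pow_two] at h
  have inv' : ∀ x ∈ D, x⁻¹ = x := fun x hx => inv_eq_of_mul_eq_one_right (sq' x hx)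
  constructor
  · intro h a ha b hb hba hab
    ext y
    simp only [Set.mem_inter_iff, Set.mem_ofPred_eq]
    constructor
    · rintro ⟨hy, hc⟩
      -- it suffices to show that `y` commutes with `a`
      have key : Commute a y := by
        by_contra hay
        have hby : ¬ Commute b y := by
          intro hby
          apply hay
          have : a = (a * b) * b := by rw [mul_assoc, sq' b hb, mul_one]
          rw [this]
          exact hc.mul_left hby
        have hodd : ∀ x ∈ D, ¬ Commute x y → Odd (orderOf (x * y)) := by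
          intro x hx hxy
          rcases h x hx y hy with h1 | h1
          · exact h1
          · exact absurd (commute_of_sq (sq' x hx) (sq' y hy) (h1 ▸ pow_orderOf_eq_one (x * y))) hxy
        have ht : (a * b) * (a * b) = 1 := by
          rw [← pow_two]; exact sq_of_commute (sq' a ha) (sq' b hb) hab
        have e1 : b * y = (a * b) * (a * y) := by
          rw [hab.eq, mul_assoc, ← mul_assoc a a, sq' a ha, one_mul]
        have hcm : Commute (a * b) (a * y) := ((Commute.refl a).mul_left hab.symm).mul_right hc
        obtain ⟨m, hm⟩ := hodd a ha hay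
        obtain ⟨n, hn⟩ := hodd b hb hby
        have e2 : (b * y) ^ ((2 * m + 1) * (2 * n + 1)) = 1 := by
          rw [mul_comm, pow_mul, ← hn, pow_orderOf_eq_one, one_pow]
        rw [e1, hcm.mul_pow, pow_mul (a * y), ← hm, pow_orderOf_eq_one, one_pow, mul_one, hm] at e2
        have e3 : (2 * m + 1) * (2 * n + 1) = 2 * (2 * m * n + m + n) + 1 := by ring
        rw [e3, pow_succ, pow_mul, pow_two, ht, one_pow, one_mul] at e2
        apply hba
        calc b = (a * a) * b := by rw [sq' a ha, one_mul]
          _ = a := by rw [mul_assoc, e2, mul_one]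
      refine ⟨⟨hy, key⟩, hy, ?_⟩
      have : b = a * (a * b) := by rw [← mul_assoc, sq' a ha, one_mul]
      rw [this]
      exact key.mul_left hc
    · rintro ⟨⟨hy, h1⟩, -, h2⟩
      exact ⟨hy, h1.mul_left h2⟩
  · intro h a ha b hb
    by_contra hc
    rw [not_or, Nat.not_odd_iff_even] at hc
    obtain ⟨heven, hne⟩ := hc
    obtain ⟨hz2, hza, hzb⟩ := CfsgLib.Invol.central_involution (sq' a ha) (sq' b hb) heven
    obtain ⟨m, hm⟩ := heven
    have hm' : orderOf (a * b) / 2 = m := by omega
    rw [hm'] at hz2 hza hzb
    set z := (a * b) ^ m with hz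
    have hzz : z * z = 1 := CfsgLib.Invol.mul_self_of_orderOf_two hz2
    have hz1 : z ≠ 1 := CfsgLib.Invol.ne_one_of_orderOf_two hz2
    have hinvt := CfsgLib.Invol.conj_mul_eq_inv (sq' a ha) (sq' b hb)
    have hab : ¬ Commute a b := by
      intro hab
      have h2 : orderOf (a * b) ∣ 2 :=
        orderOf_dvd_of_pow_eq_one (sq_of_commute (sq' a ha) (sq' b hb) hab)
      have hpos := orderOf_pos (a * b)
      have := Nat.le_of_dvd (by norm_num) h2
      omega
    -- `a * z` is conjugate to `a` or to `b`
    have haz : a * z ∈ D := by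
      rcases Nat.even_or_odd' m with ⟨k, hk | hk⟩
      · have h1 := CfsgLib.Invol.mul_zpow_conj_of_inverts (sq' a ha) hinvt (k : ℤ)
        have h2 := hconj (a * (a * b) ^ (k : ℤ)) a ha
        rw [h1] at h2
        have : (2 * (k : ℤ)) = ((m : ℕ) : ℤ) := by rw [hk]; push_cast; ring
        rwa [this, zpow_natCast] at h2
      · have h2 := hconj ((a * b) ^ k)⁻¹ b hb
        have h3 : ((a * b) ^ k)⁻¹ * b * ((a * b) ^ k)⁻¹⁻¹ = a * z := by
          rw [inv_inv, ← CfsgLib.Invol.conj_pow_of_inverts hinvt k, inv' a ha, hz, hk]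
          rw [show 2 * k + 1 = k + 1 + k by ring, pow_add, pow_succ]
          simp only [mul_assoc]
        rwa [h3] at h2
    have hne' : a * z ≠ a := by
      intro h1
      exact hz1 (mul_left_cancel (h1.trans (mul_one a).symm))
    have h1 := h a ha (a * z) haz hne' ((Commute.refl a).mul_right hza.symm)
    have h2 : b ∈ {y : G | y ∈ D ∧ Commute (a * (a * z)) y} := by
      refine ⟨hb, ?_⟩
      rw [← mul_assoc, sq' a ha, one_mul]
      exact hzb
    rw [h1] at h2
    exact hab h2.1.2

end Cfsg.Agent.S5363
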