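import Cfsg.Statements.S5914


set_option autoImplicit false
open Cfsg

namespace Cfsg.Agent.S5914

theorem aux_back {S : Type} [Group S] [IsSimpleGroup S] (n : ℕ) (H : Subgroup (Fin n → S))
    (hH : H.Characteristic) : H = ⊥ ∨ H = ⊤ := by
  classical
  by_cases hb : H = ⊥
  · exact Or.inl hb
  right
  have hN : H.Normal := inferInstance
  have hφ : ∀ (φ : (Fin n → S) ≃* (Fin n → S)) x, x ∈ H → φ x ∈ H := by
    intro φ x hx
    have := (Subgroup.characteristic_iff_le_comap.1 hH) φ hx
    exact this
  obtain ⟨⟨h, hh⟩, hne⟩ := Subgroup.ne_bot_iff_exists_ne_one.1 hb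
  have hne' : h ≠ 1 := fun e => hne (Subtype.ext e)
  obtain ⟨i, hi⟩ : ∃ i, h i ≠ 1 := by
    by_contra hc
    push Not at hc
    exact hne' (funext hc)
  have key : ∃ (j : Fin n) (s : S), s ≠ 1 ∧ Pi.mulSingle j s ∈ H := by
    by_cases hc : h i ∈ Subgroup.center S
    · have hZ : Subgroup.center S = ⊤ := by
        rcases (inferInstance : (Subgroup.center S).Normal).eq_bot_or_eq_top with h' | h'
        · rw [h', Subgroup.mem_bot] at hc
          exact absurd hc hi
        · exact h'
      have hcomm : ∀ a b : S, a * b = b * a := fun a b =>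
        Subgroup.mem_center_iff.1 (hZ ▸ Subgroup.mem_top b) a
      by_cases hj : ∃ j, j ≠ i
      · obtain ⟨j, hj⟩ := hj
        let φ : (Fin n → S) ≃* (Fin n → S) :=
          { toFun := fun x => x * Pi.mulSingle j (x i)
            invFun := fun x => x * Pi.mulSingle j (x i)⁻¹
            left_inv := by
              intro x
              funext k
              by_cases hk : k = j
              · subst hk; simp [hj.symm]
              · simp [hk]
            right_inv := by
              intro x
              funext k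
              by_cases hk : k = j
              · subst hk; simp [hj.symm]
              · simp [hk]
            map_mul' := by
              intro x y
              funext k
              by_cases hk : k = j
              · subst hk
                simp only [Pi.mul_apply, Pi.mulSingle_eq_same]
                rw [mul_assoc, mul_assoc, ← mul_assoc (y k), hcomm (y k) (x i), mul_assoc]
              · simp [hk] }
        refine ⟨j, h i, hi, ?_⟩
        have h1 : h⁻¹ * φ h ∈ H := H.mul_mem (H.inv_mem hh) (hφ φ h hh)
        have h2 : h⁻¹ * φ h = Pi.mulSingle j (h i) := by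
          show h⁻¹ * (h * Pi.mulSingle j (h i)) = _
          rw [inv_mul_cancel_left]
        rwa [h2] at h1
      · push Not at hj
        refine ⟨i, h i, hi, ?_⟩
        have : Pi.mulSingle i (h i) = h := by
          funext k
          rw [hj k]; simp
        rwa [this]
    · rw [Subgroup.mem_center_iff] at hc
      push Not at hc
      obtain ⟨g, hg⟩ := hc
      refine ⟨i, g * h i * g⁻¹ * (h i)⁻¹, ?_, ?_⟩
      · intro e
        rw [mul_inv_eq_one, mul_inv_eq_iff_eq_mul] at e
        exact hg e
      · have h1 : Pi.mulSingle i g * h * (Pi.mulSingle i g)⁻¹ * h⁻¹ ∈ H :=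
          H.mul_mem (hN.conj_mem h hh _) (H.inv_mem hh)
        have h2 : (Pi.mulSingle i g * h * (Pi.mulSingle i g)⁻¹ * h⁻¹ : Fin n → S) =
            Pi.mulSingle i (g * h i * g⁻¹ * (h i)⁻¹) := by
          funext j
          by_cases hj : j = i
          · subst hj; simp
          · simp [hj]
        rwa [h2] at h1
  obtain ⟨j, s, hs, hjs⟩ := key
  have hall : ∀ t : S, Pi.mulSingle j t ∈ H := by
    let M : Subgroup S := H.comap (MonoidHom.mulSingle (fun _ : Fin n => S) j)
    have hM : M.Normal := inferInstance
    rcases hM.eq_bot_or_eq_top with h | h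
    · have : s ∈ M := hjs
      rw [h, Subgroup.mem_bot] at this
      exact absurd this hs
    · intro t
      have : t ∈ M := h ▸ Subgroup.mem_top t
      exact this
  have hall' : ∀ (k : Fin n) (t : S), Pi.mulSingle k t ∈ H := by
    intro k t
    let φ : (Fin n → S) ≃* (Fin n → S) := MulEquiv.arrowCongr (Equiv.swap j k) (MulEquiv.refl S)
    have h1 := hφ φ _ (hall t)
    have h2 : φ (Pi.mulSingle j t) = Pi.mulSingle k t := by
      funext l
      show (Pi.mulSingle j t : Fin n → S) ((Equiv.swap j k).symm l) = _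
      by_cases hl : l = k
      · subst hl; simp
      · rw [Pi.mulSingle_eq_of_ne hl, Pi.mulSingle_eq_of_ne]
        rw [Equiv.symm_swap]
        intro e
        apply hl
        rw [Equiv.swap_apply_eq_iff] at e
        simpa using e
    rwa [h2] at h1
  rw [eq_top_iff]
  intro x _
  rw [← Finset.noncommProd_mulSingle x]
  exact H.noncommProd_mem _ fun i _ => hall' i _

theorem aux_fwd {G : Type*} [Group G] [Finite G] [Nontrivial G]
    (hG : ∀ H : Subgroup G, H.Characteristic → H = ⊥ ∨ H = ⊤) :
    ∃ (N : Subgroup G) (_ : IsSimpleGroup N) (n : ℕ), 1 ≤ n ∧ Nonempty (G ≃* (Fin n → N)) := by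
  classical
  have : Finite (Subgroup G) := inferInstance
  obtain ⟨N, ⟨hNn, hN0⟩, hNmin⟩ := Set.exists_min_image {N : Subgroup G | N.Normal ∧ N ≠ ⊥}
    (fun N => Nat.card N) (Set.toFinite _) ⟨⊤, inferInstance, top_ne_bot⟩
  obtain ⟨M, ⟨hMn, k, ψ, hψ, hψM⟩, hMmax⟩ := Set.exists_max_image
    {M : Subgroup G | M.Normal ∧ ∃ (k : ℕ) (ψ : (Fin k → N) →* G), Function.Injective ψ ∧ ψ.range = M}
    (fun M => Nat.card M) (Set.toFinite _)
    ⟨⊥, inferInstance, 0, 1, fun a b _ => Subsingleton.elim a b, by simp⟩
  have hle : ∀ φ : G ≃* G, N.map φ.toMonoidHom ≤ M := by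
    intro φ
    by_contra hc
    have hn' : (N.map φ.toMonoidHom).Normal := hNn.map _ φ.surjective
    have hcard : Nat.card (N.map φ.toMonoidHom) = Nat.card N :=
      Subgroup.card_map_of_injective φ.injective
    have hdis : N.map φ.toMonoidHom ⊓ M = ⊥ := by
      by_contra h0
      have h1 := hNmin (N.map φ.toMonoidHom ⊓ M) ⟨inferInstance, h0⟩
      have h2 : N.map φ.toMonoidHom ⊓ M = N.map φ.toMonoidHom :=
        Subgroup.eq_of_le_of_card_ge inf_le_left (by rw [hcard]; exact h1)
      exact hc (h2 ▸ inf_le_right)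
    have hd : Disjoint (N.map φ.toMonoidHom) M := disjoint_iff.2 hdis
    let α : N →* G := φ.toMonoidHom.comp N.subtype
    have hαr : α.range = N.map φ.toMonoidHom := by
      simp only [α, MonoidHom.range_comp, Subgroup.range_subtype]
    have hαi : Function.Injective α := φ.injective.comp Subtype.val_injective
    have hcm : ∀ a b, Commute (α a) (ψ b) := fun a b =>
      Subgroup.commute_of_normal_of_disjoint _ _ hn' hMn hd _ _
        (hαr ▸ MonoidHom.mem_range.2 ⟨a, rfl⟩) (hψM ▸ MonoidHom.mem_range.2 ⟨b, rfl⟩)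
    let β : N × (Fin k → N) →* G := α.noncommCoprod ψ hcm
    have hβi : Function.Injective β := by
      rw [MonoidHom.noncommCoprod_injective]
      exact ⟨hαi, hψ, by rw [hαr, hψM]; exact hd⟩
    have hβr : β.range = N.map φ.toMonoidHom ⊔ M := by
      rw [MonoidHom.noncommCoprod_range, hαr, hψM]
    let e : (Fin (k + 1) → N) ≃* N × (Fin k → N) :=
      { toFun := fun x => (x 0, Fin.tail x)
        invFun := fun y => Fin.cons y.1 y.2
        left_inv := fun x => by simp
        right_inv := fun y => by simp
        map_mul' := fun x y => rfl }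
    have h3 := hMmax (N.map φ.toMonoidHom ⊔ M) ⟨inferInstance, k + 1, β.comp e.toMonoidHom,
      hβi.comp e.injective, by
        rw [MonoidHom.range_comp, MonoidHom.range_eq_top.2 e.surjective, ← MonoidHom.range_eq_map, hβr]⟩
    have h4 : M = N.map φ.toMonoidHom ⊔ M := Subgroup.eq_of_le_of_card_ge le_sup_right h3
    exact hc (h4 ▸ le_sup_left)
  have hchar : (⨆ φ : G ≃* G, N.map φ.toMonoidHom).Characteristic := by
    rw [Subgroup.characteristic_iff_map_le]
    intro φ
    rw [Subgroup.map_iSup]
    refine iSup_le fun χ => ?_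
    rw [Subgroup.map_map]
    exact le_iSup (fun φ : G ≃* G => N.map φ.toMonoidHom) (χ.trans φ)
  have hMtop : M = ⊤ := by
    rcases hG _ hchar with h | h
    · exfalso
      apply hN0
      have := le_iSup (fun φ : G ≃* G => N.map φ.toMonoidHom) (MulEquiv.refl G)
      rw [h] at this
      simpa using this
    · rw [eq_top_iff, ← h]
      exact iSup_le hle
  have hψs : Function.Surjective ψ := MonoidHom.range_eq_top.1 (hψM.trans hMtop)
  let E : (Fin k → N) ≃* G := MulEquiv.ofBijective ψ ⟨hψ, hψs⟩
  have hk : 1 ≤ k := by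
    by_contra hk
    have hk0 : k = 0 := by omega
    subst hk0
    exact not_subsingleton G E.symm.injective.subsingleton
  have hNt : Nontrivial N := (Subgroup.nontrivial_iff_ne_bot N).2 hN0
  refine ⟨N, ⟨fun L hL => ?_⟩, k, hk, ⟨E.symm⟩⟩
  by_cases hL0 : L = ⊥
  · exact Or.inl hL0
  right
  let i : Fin k := ⟨0, hk⟩
  let ι : N →* (Fin k → N) := MonoidHom.mulSingle (fun _ : Fin k => N) i
  have hι : Function.Injective ι := fun a b h => by
    have := congrFun h i
    simpa [ι] using this
  have hn1 : (L.map ι).Normal := by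
    refine ⟨?_⟩
    rintro _ ⟨a, ha, rfl⟩ g
    refine ⟨g i * a * (g i)⁻¹, hL.conj_mem a ha _, ?_⟩
    funext j
    by_cases hj : j = i
    · subst hj; simp [ι]
    · simp [ι, hj]
  have hn2 : ((L.map ι).map ψ).Normal := hn1.map _ hψs
  have hc2 : Nat.card ((L.map ι).map ψ) = Nat.card L := by
    rw [Subgroup.card_map_of_injective hψ, Subgroup.card_map_of_injective hι]
  have h5 := hNmin ((L.map ι).map ψ) ⟨hn2, by
    rw [Ne, Subgroup.map_eq_bot_iff_of_injective _ hψ, Subgroup.map_eq_bot_iff_of_injective _ hι]
    exact hL0⟩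
  simp only [hc2] at h5
  exact Subgroup.eq_top_of_le_card L h5

/-- A non-trivial finite group G is characteristically simple (its only characteristic subgroups are 1 and G) if and only if G is isomorphic to a direct power S^n (n ≥ 1) of some simple group S (possibly cyclic of prime order). -/
theorem result {G : Type*} [Group G] [Finite G] [Nontrivial G] :
    (∀ H : Subgroup G, H.Characteristic → H = ⊥ ∨ H = ⊤) ↔
    ∃ (S : Type) (_ : Group S) (_ : IsSimpleGroup S) (n : ℕ), 1 ≤ n ∧ Nonempty (G ≃* (Fin n → S)) := by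
  constructor
  · intro hG
    obtain ⟨N, hN, n, hn, ⟨e⟩⟩ := aux_fwd hG
    let f : Shrink.{0} N ≃* N := Shrink.mulEquiv
    exact ⟨Shrink.{0} N, inferInstance, f.isSimpleGroup, n, hn,
      ⟨e.trans (MulEquiv.piCongrRight fun _ => f.symm)⟩⟩
  · rintro ⟨S, _, _, n, -, ⟨e⟩⟩ H hH
    have hc : (H.map e.toMonoidHom).Characteristic := by
      rw [Subgroup.characteristic_iff_map_le] at hH ⊢
      intro φ
      rintro _ ⟨_, ⟨x, hx, rfl⟩, rfl⟩
      refine ⟨e.symm (φ (e x)), hH (e.trans (φ.trans e.symm)) ⟨x, hx, rfl⟩, ?_⟩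
      simp
    rcases aux_back n _ hc with h | h
    · left
      exact (Subgroup.map_eq_bot_iff_of_injective _ e.injective).1 h
    · right
      have := congrArg (Subgroup.comap e.toMonoidHom) h
      rwa [Subgroup.comap_map_eq_self_of_injective e.injective, Subgroup.comap_top] at this

end Cfsg.Agent.S5914
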