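import Cfsg.Statements.S5913


set_option autoImplicit false
open Cfsg

namespace Cfsg.Agent.S5913

/-- Let S be a non-abelian simple group and n a natural number. Every normal subgroup N of the direct power S^n (functions Fin n → S) is a subproduct: there is a set T of coordinates such that N consists exactly of the elements whose coordinates outside T are trivial. In particular the minimal normal subgroups of S^n are its n factors. -/
theorem result {S : Type*} [Group S] [IsSimpleGroup S] (hS : ¬ IsMulCommutative S) (n : ℕ)
    (N : Subgroup (Fin n → S)) [N.Normal] :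
    ∃ T : Finset (Fin n), ∀ x : Fin n → S, x ∈ N ↔ ∀ i, i ∉ T → x i = 1 := by
  classical
  refine ⟨Finset.univ.filter fun i => ∃ x ∈ N, x i ≠ 1, fun x => ⟨fun hx i hi => ?_, fun hx => ?_⟩⟩
  · by_contra h
    exact hi (Finset.mem_filter.2 ⟨Finset.mem_univ _, x, hx, h⟩)
  · have key : ∀ i, (∃ y ∈ N, y i ≠ 1) → ∀ s : S, Pi.mulSingle i s ∈ N := by
      rintro i ⟨y, hy, hyi⟩
      let M : Subgroup S := N.comap (MonoidHom.mulSingle (fun _ : Fin n => S) i)
      have hM : M.Normal := inferInstance
      rcases hM.eq_bot_or_eq_top with h | h
      · exfalso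
        have hc : y i ∈ Subgroup.center S := by
          rw [Subgroup.mem_center_iff]
          intro g
          have h1 : Pi.mulSingle i g * y * (Pi.mulSingle i g)⁻¹ * y⁻¹ ∈ N :=
            N.mul_mem ((inferInstance : N.Normal).conj_mem y hy _) (N.inv_mem hy)
          have h2 : (Pi.mulSingle i g * y * (Pi.mulSingle i g)⁻¹ * y⁻¹ : Fin n → S) =
              Pi.mulSingle i (g * y i * g⁻¹ * (y i)⁻¹) := by
            funext j
            by_cases hj : j = i
            · subst hj; simp
            · simp [hj]
          rw [h2] at h1
          have h3 : g * y i * g⁻¹ * (y i)⁻¹ ∈ M := h1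
          rw [h, Subgroup.mem_bot, mul_inv_eq_one, mul_inv_eq_iff_eq_mul] at h3
          exact h3
        rcases (inferInstance : (Subgroup.center S).Normal).eq_bot_or_eq_top with h' | h'
        · rw [h', Subgroup.mem_bot] at hc
          exact hyi hc
        · apply hS
          refine ⟨⟨fun a b => ?_⟩⟩
          have : b ∈ Subgroup.center S := h' ▸ Subgroup.mem_top b
          exact Subgroup.mem_center_iff.1 this a
      · intro s
        have : s ∈ M := h ▸ Subgroup.mem_top s
        exact this
    have hall : ∀ i, Pi.mulSingle i (x i) ∈ N := by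
      intro i
      by_cases hi : ∃ y ∈ N, y i ≠ 1
      · exact key i hi _
      · rw [hx i (by simpa using hi)]
        simp
    rw [← Finset.noncommProd_mulSingle x]
    exact N.noncommProd_mem _ fun i _ => hall i

end Cfsg.Agent.S5913
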