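import Cfsg.Statements.S0723
import Cfsg.Agent.S0721
import Cfsg.Agent.S0722
import Cfsg.Agent.S5913

set_option autoImplicit false
open Cfsg

namespace Cfsg.Agent.S0723

theorem exists_aut {K T : Type*} [Group K] [Group T] (f g : K →* T) (hf : Function.Surjective f)
    (hg : Function.Surjective g) (h : f.ker = g.ker) : ∃ α : T ≃* T, ∀ k, α (f k) = g k :=
  ⟨(QuotientGroup.quotientKerEquivOfSurjective f hf).symm.trans
    ((QuotientGroup.quotientMulEquivOfEq h).trans (QuotientGroup.quotientKerEquivOfSurjective g hg)),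
    fun k => by
      have : (QuotientGroup.quotientKerEquivOfSurjective f hf).symm (f k) = (k : K ⧸ f.ker) :=
        (MulEquiv.symm_apply_eq _).2 rfl
      rw [MulEquiv.trans_apply, this]
      rfl⟩

section
variable {T : Type*} [Group T] [IsSimpleGroup T] (hT : ¬ IsMulCommutative T) {m : ℕ}
include hT

theorem exists_perm (ψ : MulAut (Fin m → T)) (i : Fin m) : ∃ j, ∀ x, ψ x j = 1 ↔ x i = 1 := by
  classical
  obtain ⟨t, ht⟩ := exists_ne (1 : T)
  obtain ⟨S, hS⟩ := Cfsg.Agent.S5913.result hT m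
    ((Pi.evalMonoidHom (fun _ => T) i).ker.comap ψ.symm.toMonoidHom)
  obtain ⟨j, hj⟩ : ∃ j, j ∉ S := by
    by_contra h
    have := (hS (ψ (Pi.mulSingle i t))).2 fun j hj => absurd ⟨j, hj⟩ h
    exact ht (by simpa using this)
  have h1 : ∀ x, x i = 1 → ψ x j = 1 := fun x hx => (hS _).1 (by simpa using hx) j hj
  obtain ⟨S', hS'⟩ := Cfsg.Agent.S5913.result hT m
    ((Pi.evalMonoidHom (fun _ => T) j).ker.comap ψ.toMonoidHom)
  refine ⟨j, fun x => ⟨fun hx => (hS' x).1 hx i fun hi => ?_, h1 x⟩⟩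
  have := (hS' (ψ.symm (Pi.mulSingle j t))).2 fun l hl => absurd ((hS' (Pi.mulSingle l t)).1
    (h1 _ (by rw [Pi.mulSingle_eq_of_ne fun e : i = l => hl (by rwa [← e])])) l hl) (by simpa using ht)
  exact ht (by simpa using this)

theorem scott {K : Type*} [Group K] [Finite K] (f : Fin m → K →* T) (hf : ∀ i, Function.Surjective (f i))
    (x : Fin m → T) (hx : ∀ i j, (f i).ker = (f j).ker → ∀ k, f i k = x i → f j k = x j) :
    ∃ k, ∀ i, f i k = x i := by
  classical
  have key : ∀ (j : Fin m) (S : Finset (Fin m)), (∀ i ∈ S, (f i).ker ≠ (f j).ker) →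
      ∀ t, ∃ k, (∀ i ∈ S, f i k = 1) ∧ f j k = t := fun j S => by
    induction S using Finset.induction_on with
    | empty => exact fun _ t => let ⟨k, hk⟩ := hf j t; ⟨k, by simp, hk⟩
    | insert i S _ ih =>
      intro h
      replace ih := ih fun l hl => h l (Finset.mem_insert_of_mem hl)
      have h1 : ((f i).ker.map (f j)) = ⊤ :=
        (Subgroup.Normal.eq_bot_or_eq_top (Subgroup.Normal.map inferInstance _ (hf j))).resolve_left
          fun e => h i (Finset.mem_insert_self _ _) (Subgroup.eq_of_le_of_card_ge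
            ((Subgroup.map_eq_bot_iff _).1 e) (le_of_eq (Nat.eq_of_mul_eq_mul_right
              (Nat.card_pos (α := K ⧸ (f i).ker)) (by
                conv_lhs => rw [Nat.card_congr (QuotientGroup.quotientKerEquivOfSurjective _ (hf i)).toEquiv,
                  ← Nat.card_congr (QuotientGroup.quotientKerEquivOfSurjective _ (hf j)).toEquiv]
                rw [mul_comm, ← Subgroup.card_eq_card_quotient_mul_card_subgroup, mul_comm,
                  ← Subgroup.card_eq_card_quotient_mul_card_subgroup]))))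
      let L : Subgroup K := ⨅ l ∈ insert i S, (f l).ker
      have h2 : L.Normal := Subgroup.normal_iInf_normal fun _ => Subgroup.normal_iInf_normal fun _ => inferInstance
      rcases (h2.map _ (hf j)).eq_bot_or_eq_top with e | e
      · refine absurd ⟨⟨fun a b => ?_⟩⟩ hT
        obtain ⟨a, ha, rfl⟩ := ih a
        obtain ⟨b, hb, rfl⟩ := h1.ge (Subgroup.mem_top b)
        have : a * b * a⁻¹ * b⁻¹ ∈ L := by
          simp only [L, Subgroup.mem_iInf, Finset.mem_insert, MonoidHom.mem_ker]
          rintro l (rfl | hl)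
          · simp [show f l b = 1 from hb]
          · simp [ha l hl]
        have := Subgroup.mem_bot.1 (e ▸ Subgroup.mem_map_of_mem (f j) this)
        simp only [map_mul, map_inv] at this
        exact commutatorElement_eq_one_iff_mul_comm.1 this
      · intro t
        obtain ⟨k, hk, rfl⟩ := e.ge (Subgroup.mem_top t)
        exact ⟨k, fun l hl => by simpa using Subgroup.mem_iInf.1 (Subgroup.mem_iInf.1 hk l) hl, rfl⟩
  suffices ∀ S : Finset (Fin m), ∃ k, ∀ i ∈ S, f i k = x i from
    let ⟨k, hk⟩ := this Finset.univ; ⟨k, fun i => hk i (Finset.mem_univ i)⟩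
  intro S
  induction S using Finset.induction_on with
  | empty => exact ⟨1, by simp⟩
  | insert j S _ ih =>
    obtain ⟨k, hk⟩ := ih
    by_cases h : ∃ i ∈ S, (f i).ker = (f j).ker
    · obtain ⟨i, hi, h⟩ := h
      exact ⟨k, Finset.forall_mem_insert _ _ _ |>.2 ⟨hx i j h k (hk i hi), hk⟩⟩
    · obtain ⟨l, h1, h2⟩ := key j S (fun i hi e => h ⟨i, hi, e⟩) ((f j k)⁻¹ * x j)
      exact ⟨k * l, Finset.forall_mem_insert _ _ _ |>.2 ⟨by simp [h2], fun i hi => by simp [h1 i hi, hk i hi]⟩⟩

end


/-- The core of the O'Nan–Scott Theorem. Let `H` be a primitive permutation group on a finite set whose unique minimal normal subgroup `N` is non-abelian, and `K` a point stabiliser. Then there are a non-abelian simple group `T` and an isomorphism `N ≃* T^m` (`m ≥ 1`) under which `K ⊓ N` becomes either a product `∏ K_i` of proper subgroups `K_i < T`, or the set of functions constant on each block of a partition of the index set into blocks of one common size `k ≥ 2`. -/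
theorem result {α : Type*} [Finite α] (H : Subgroup (Equiv.Perm α)) [MulAction.IsPreprimitive H α] (N : Subgroup H) [N.Normal] (hN : N ≠ ⊥) (hmin : ∀ M : Subgroup H, M.Normal → M ≤ N → M = ⊥ ∨ M = N) (huniq : ∀ L : Subgroup H, L.Normal → L ≠ ⊥ → (∀ M : Subgroup H, M.Normal → M ≤ L → M = ⊥ ∨ M = L) → L = N) (hnab : ¬ IsMulCommutative N) (a : α) : ∃ (T : Type) (_ : Group T) (m : ℕ) (e : N ≃* (Fin m → T)), IsSimpleGroup T ∧ ¬ IsMulCommutative T ∧ 0 < m ∧ ((∃ K : Fin m → Subgroup T, (∀ i, K i ≠ ⊤) ∧ ∀ n : N, (n : H) ∈ MulAction.stabilizer H a ↔ ∀ i, e n i ∈ K i) ∨ (∃ (k : ℕ) (c : Fin m → Fin m), 2 ≤ k ∧ (∀ j : Fin m, Nat.card {i : Fin m // c i = j} = k ∨ Nat.card {i : Fin m // c i = j} = 0) ∧ ∀ n : N, (n : H) ∈ MulAction.stabilizer H a ↔ ∀ i j : Fin m, c i = c j → e n i = e n j)) := by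
  classical
  obtain ⟨T, _, m, hT, hm, ⟨e⟩⟩ := Cfsg.Agent.S0721.result N hN hmin
  have hT' : ¬ IsMulCommutative T := fun _ => hnab ⟨⟨fun a b => e.injective (by
    rw [map_mul, map_mul, mul_comm'])⟩⟩
  obtain ⟨t, ht⟩ := exists_ne (1 : T)
  have htr : ∀ b, ∃ n : N, (n : H) • a = b := fun b => by
    have : MulAction.IsPretransitive N α := MulAction.IsQuasiPreprimitive.isPretransitive_of_normal fun h => hN
      (eq_bot_iff.2 fun x hx => Subtype.ext (Equiv.ext fun y => h.ge (Set.mem_univ y) ⟨x, hx⟩))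
    exact MulAction.exists_smul_eq N a b
  set K := (MulAction.stabilizer H a).subgroupOf N with hK
  have hno : ∀ j, ¬ ∀ s, e.symm (Pi.mulSingle j s) ∈ K := fun j h => ht <| by
    have h1 : e.symm (Pi.mulSingle j t) = 1 := Subtype.ext (Subtype.ext (Equiv.ext fun b => by
      obtain ⟨n, rfl⟩ := htr b
      have h2 : n⁻¹ * e.symm (Pi.mulSingle j t) * n = e.symm (Pi.mulSingle j ((e n j)⁻¹ * t * e n j)) :=
        e.injective (by
          ext l
          by_cases hl : l = j
          · simp [hl]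
          · simp [Pi.mulSingle_eq_of_ne hl])
      have h3 : ((n⁻¹ * e.symm (Pi.mulSingle j t) * n : N) : H) • a = a := h2 ▸ h _
      rwa [Subgroup.coe_mul, Subgroup.coe_mul, mul_smul, mul_smul, Subgroup.coe_inv, inv_smul_eq_iff] at h3))
    simpa using congrFun (congrArg e h1) j
  have hp := fun h : H => exists_perm hT' (e.symm.trans ((MulAut.conjNormal h).trans e))
  choose σ hσ using hp
  replace hσ : ∀ (h : H) i (x : N), e (MulAut.conjNormal h x) (σ h i) = 1 ↔ e x i = 1 := fun h i x => by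
    simpa using hσ h i (e x)
  have hσi : ∀ h, Function.Bijective (σ h) := fun h => Finite.injective_iff_bijective.1 fun i j hij => by
    by_contra hne
    have := (hσ h j (e.symm (Pi.mulSingle j t))).1 (hij ▸ (hσ h i _).2 (by simp [Pi.mulSingle_eq_of_ne hne]))
    exact ht (by simpa using this)
  have hKc : ∀ h ∈ MulAction.stabilizer H a, ∀ x ∈ K, MulAut.conjNormal h x ∈ K := fun h hh x hx =>
    Subgroup.mul_mem _ (Subgroup.mul_mem _ hh hx) (Subgroup.inv_mem _ hh)
  let f : Fin m → K →* T := fun i => ((Pi.evalMonoidHom (fun _ => T) i).comp e.toMonoidHom).comp K.subtype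
  by_cases hf : ∀ i, Function.Surjective (f i)
  · let r : Setoid (Fin m) := Setoid.ker fun i => (f i).ker
    let c : Fin m → Fin m := fun i => (Quotient.mk r i).out
    have hc : ∀ i j, c i = c j ↔ (f i).ker = (f j).ker := fun i j =>
      Quotient.out_inj.trans Quotient.eq
    choose β hβ using fun i => exists_aut (f i) (f (c i)) (hf i) (hf _) (Quotient.mk_out (s := r) i).symm
    have hmem : ∀ n : N, n ∈ K ↔ ∀ i j : Fin m, c i = c j → β i (e n i) = β j (e n j) := fun n =>
      ⟨fun hn i j hij => (hβ i ⟨n, hn⟩).trans (hij ▸ (hβ j ⟨n, hn⟩).symm), fun h => by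
        obtain ⟨k, hk⟩ := scott hT' f hf (e n) fun i j hij k hk => (β j).injective (by
          rw [← h i j ((hc i j).2 hij), ← hk, hβ, hβ, (hc i j).2 hij])
        exact (e.injective (funext hk) : k.1 = n) ▸ k.2⟩
    have hcard : ∀ i j, Nat.card {l // c l = c i} = Nat.card {l // c l = c j} := fun i j => by
      obtain ⟨h, hh, rfl⟩ : ∃ h ∈ MulAction.stabilizer H a, σ h i = j := by
        by_contra hcon
        let C : Subgroup H := (((Pi.evalMonoidHom (fun _ => T) i).comp e.toMonoidHom).ker.map N.subtype)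
        have h1 : ((e.symm (Pi.mulSingle j t) : N) : H) ∈ C.normalCore := fun g => by
          obtain ⟨n, hn⟩ := htr (g • a)
          have h2 : g⁻¹ * n ∈ MulAction.stabilizer H a := by
            rw [MulAction.mem_stabilizer_iff, mul_smul, hn, inv_smul_smul]
          have h3 := (hσ (g⁻¹ * n) i (n⁻¹ * MulAut.conjNormal g (e.symm (Pi.mulSingle j t)) * n)).1 (by
            rw [show MulAut.conjNormal (g⁻¹ * n) (n⁻¹ * MulAut.conjNormal g (e.symm (Pi.mulSingle j t)) * n)
              = e.symm (Pi.mulSingle j t) from Subtype.ext (by simp [mul_assoc])]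
            simp [Pi.mulSingle_eq_of_ne fun e => hcon ⟨_, h2, e⟩])
          exact ⟨MulAut.conjNormal g (e.symm (Pi.mulSingle j t)), show e _ i = 1 by
            simpa [mul_assoc, inv_mul_eq_one] using h3, rfl⟩
        rcases hmin C.normalCore inferInstance (C.normalCore_le.trans (Subgroup.map_subtype_le _)) with h | h
        · rw [h, Subgroup.mem_bot, OneMemClass.coe_eq_one] at h1
          exact ht (by simpa using congrFun (congrArg e h1) j)
        · obtain ⟨y, hy, hy'⟩ := C.normalCore_le (h.ge (e.symm (Pi.mulSingle i t)).2)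
          rw [show y = _ from Subtype.ext hy'] at hy
          exact ht (by simpa using hy)
      refine Nat.card_congr ((Equiv.ofBijective _ (hσi h)).subtypeEquiv fun l => ?_)
      rw [hc, hc]
      constructor
      · intro h1
        ext k
        have h2 := hKc _ (Subgroup.inv_mem _ hh) k.1 k.2
        have h3 : ∀ l, k ∈ (f (σ h l)).ker ↔ (⟨_, h2⟩ : K) ∈ (f l).ker := fun l => by
          have := hσ h l (MulAut.conjNormal h⁻¹ k.1)
          rwa [← MulAut.mul_apply, ← map_mul, mul_inv_cancel, map_one] at this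
        exact (h3 l).trans (h1 ▸ (h3 i).symm)
      · intro h1
        ext k
        have h3 : ∀ l, (⟨_, hKc _ hh k.1 k.2⟩ : K) ∈ (f (σ h l)).ker ↔ k ∈ (f l).ker := fun l => hσ h l k.1
        exact (h3 l).symm.trans (h1 ▸ h3 i)
    refine ⟨T, _, m, e.trans (MulEquiv.piCongrRight β), hT, hT', hm, Or.inr
      ⟨Nat.card {l // c l = c ⟨0, hm⟩}, c, ?_, fun j => ?_, hmem⟩⟩
    · by_contra hlt
      have := (Finite.card_le_one_iff_subsingleton (α := {l // c l = c ⟨0, hm⟩})).1 (by omega)
      refine hno ⟨0, hm⟩ fun s => (hmem _).2 fun i j hij => ?_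
      have h0 : ∀ l, c l = c ⟨0, hm⟩ → l = ⟨0, hm⟩ := fun l hl =>
        congrArg Subtype.val (this.elim ⟨l, hl⟩ ⟨_, rfl⟩)
      by_cases hi : i = ⟨0, hm⟩
      · rw [hi, h0 j (hi ▸ hij.symm)]
      · simp [Pi.mulSingle_eq_of_ne hi, Pi.mulSingle_eq_of_ne fun e : j = ⟨0, hm⟩ => hi (h0 i (e ▸ hij))]
    · by_cases hj : ∃ i, c i = j
      · obtain ⟨i, rfl⟩ := hj
        exact Or.inl (hcard _ _)
      · exact Or.inr (Nat.card_eq_zero.2 (Or.inl ⟨fun x => hj ⟨x.1, x.2⟩⟩))
  · let X : Subgroup N := ⨅ i, (f i).range.comap ((Pi.evalMonoidHom (fun _ => T) i).comp e.toMonoidHom)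
    have hX : ∀ n, n ∈ X ↔ ∀ i, e n i ∈ (f i).range := fun n => Subgroup.mem_iInf
    have hinv : ∀ h ∈ MulAction.stabilizer H a, ∀ x ∈ X, MulAut.conjNormal h x ∈ X := fun h hh x hx =>
      (hX _).2 fun j => by
        obtain ⟨i, rfl⟩ := (hσi h).2 j
        obtain ⟨k, hk⟩ := (hX x).1 hx i
        refine ⟨⟨_, hKc h hh k.1 k.2⟩, ?_⟩
        have := (hσ h i (k.1⁻¹ * x)).2 (by rw [map_mul, Pi.mul_apply, ← hk, map_inv]; exact inv_mul_cancel _)
        rw [map_mul, map_mul, map_inv, map_inv, Pi.mul_apply] at this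
        exact inv_mul_eq_one.1 this
    have hXK : ∀ n : N, n ∈ K ↔ ∀ i, e n i ∈ (f i).range := by
      rcases Cfsg.Agent.S0722.result H N hN hmin a (X.map N.subtype) (Subgroup.map_subtype_le _)
        (fun x hx => ⟨⟨x, hx.2⟩, (hX _).2 fun i => ⟨⟨⟨x, hx.2⟩, hx.1⟩, rfl⟩, rfl⟩)
        (fun h hh => Subgroup.mem_normalizer_fintype fun _ ⟨x, hx, e⟩ => e ▸ ⟨_, hinv h hh x hx, rfl⟩) with h | h
      · exact fun n => ⟨fun hn i => ⟨⟨n, hn⟩, rfl⟩, fun hn => (h.le ⟨n, (hX n).2 hn, rfl⟩).1⟩
      · refine absurd (fun i s => ?_) hf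
        obtain ⟨y, hy, hy'⟩ := h.ge (e.symm (Pi.mulSingle i s)).2
        rw [show y = _ from Subtype.ext hy'] at hy
        simpa using (hX _).1 hy i
    refine ⟨T, _, m, e, hT, hT', hm, Or.inl ⟨fun i => (f i).range, fun j hj => hno j fun s => (hXK _).2 fun i => ?_,
      hXK⟩⟩
    by_cases hi : i = j
    · subst hi; exact hj.ge trivial
    · simp [Pi.mulSingle_eq_of_ne hi]

end Cfsg.Agent.S0723
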