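import Cfsg.Statements.S2341
import Cfsg.Agent.Lib.MinDeg.Tab
import Cfsg.Agent.Lib.Twist.E6

set_option autoImplicit false
open Cfsg

namespace Cfsg.Agent.S2341

/-- heights -/
def tH : ℕ := 0x6f6e6d6c6b6c6b6a6a696869686766656b6a696968676867666568676665676665666565636362636261636261606362616061605f5f5e5d636261605f605f5e5e5d5c5d5c5b5a59

/-- witnesses -/
def tW : ℕ := 0x35252423261d1d0000002425222a1d0f220f00000000000000260f0f0f1d231d24232200000000000000000000000000000000000000000000000000000000000000000000000000000000000000000000000000000000000000000000000000000000000000000000000000000000000000000000000000000000000000000000000000000000000000000000000000000000000000000000000000000000000000000000000000000000000000000000000000000000000000000000000000000000000000000000000000000000000000000000000000000000000000000000000000000000000000000000000000000000000000000000000000000000003c4443444044430000003b3a3b3839423740000000000000002b3b3a392d292b252626000000000000000000000000000000000000000000000000000000000000000000000000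

open CfsgLib.MinDeg CfsgLib.Weyl CfsgLib.RGD CfsgLib.Twist CfsgLib.ChevAut CfsgLib.Chev Cfsg.Lie in
theorem aux {K : Type*} [Field K] [Fintype K] (q : ℕ) (hq : IsPrimePow q) (hK : Fintype.card K = q ^ 2) (k : ℕ)
    (ρ : Representation ℂ (twistedE6 K q) (Fin k → ℂ)) (hρ : ρ.IsIrreducible) (hk : 2 ≤ k) :
    ev q [0, 1, 0, 0, -1, 1, 0, 1, -1, 0, 0, 1] ≤ k := by
  obtain ⟨φ, hφ⟩ := exists_frob hq hK
  have hF : Tb.Fit ⟨tAE6, tSE6, tTE6, tH, actT tRhoE6 0, actT tPiE6 0, actT tOrbE6 0, actT tSwE6⟩ rtOKE6
    (twE6 φ).toSym := ⟨⟨_, tablesOKE6⟩, by decide +kernel, fun _ => rfl, fun _ => rfl, fun _ => rfl, swE6⟩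
  have := (simpleE6 hφ hK).1
  exact hF.final (hF.lt (k := 2) (isTwE6 hφ (frob2 hφ hK)) (hF.laced (by decide +kernel)) (fun _ => rfl)
    (by simp) hφ (by simp [hK]) (by decide +kernel))
    (hF.top (θ := ⟨71, by decide⟩) (i₀ := ⟨1, by decide⟩) (by decide +kernel)) (hF.down (by decide +kernel))
    (hF.bas tW (by decide +kernel)) id (by decide +kernel) (j₀ := ⟨3, by decide⟩) (n := 11) (r := 2)
    (C := 12) (by decide +kernel) ρ hρ hk

/-- For the twisted group ²E₆(q), realised over the field with q² elements (q a prime power), every irreducible complex representation of degree at least 2 has degree at least q(q⁶ − q³ + 1)(q⁴ + 1). -/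
theorem result {K : Type*} [Field K] [Fintype K] (q : ℕ) (hq : IsPrimePow q) (hK : Fintype.card K = q ^ 2) :
    (∀ (k : ℕ) (ρ : Representation ℂ (Cfsg.Lie.twistedE6 K q) (Fin k → ℂ)), ρ.IsIrreducible → 2 ≤ k → q * (q ^ 6 - q ^ 3 + 1) * (q ^ 4 + 1) ≤ k) := by
  intro k ρ hρ hk
  have := aux q hq hK k ρ hρ hk
  simp only [CfsgLib.MinDeg.ev] at this
  zify [Nat.pow_le_pow_right hq.pos (show 3 ≤ 6 by omega)]
  linarith

end Cfsg.Agent.S2341
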