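import Cfsg.Statements.S2902
import Cfsg.Agent.Lib.Holt.Wrap

set_option autoImplicit false
open Cfsg

namespace Cfsg.Agent.S2902

/-- Let L be a finite group with O(L) = 1 and P a subgroup of L whose generalized Fitting subgroup F*(P) is a non-abelian simple group not isomorphic to an alternating group. Let r ∈ F*(P) be a 2-central involution of P with C_L(r) ≤ P such that every L-conjugate of r lying in P is conjugate to r under F*(P). Then F*(L) = F*(P). -/
theorem result {L : Type*} [Group L] [Finite L] (hO : Cfsg.oddCore L = ⊥) (P : Subgroup L) (hFs : IsSimpleGroup ↥(Cfsg.generalizedFittingSubgroup ↥P)) (hFna : ¬ IsMulCommutative ↥(Cfsg.generalizedFittingSubgroup ↥P)) (hnotalt : ∀ n : ℕ, ¬ Nonempty (↥(Cfsg.generalizedFittingSubgroup ↥P) ≃* ↥(alternatingGroup (Fin n)))) (r : ↥P) (hrF : r ∈ Cfsg.generalizedFittingSubgroup ↥P) (hr : Cfsg.IsTwoCentralInvolution r) (hC : Subgroup.centralizer ({(r : L)} : Set L) ≤ P) (hfus : ∀ g : L, g * (r : L) * g⁻¹ ∈ P → ∃ h : ↥P,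 h ∈ Cfsg.generalizedFittingSubgroup ↥P ∧ (h : L) * (r : L) * (h : L)⁻¹ = g * (r : L) * g⁻¹) : (Cfsg.generalizedFittingSubgroup L) = ((Cfsg.generalizedFittingSubgroup ↥P).map P.subtype) := by
  have hf : ∃! a : L ⧸ P, (r : L) • a = a := CfsgLib.Holt.uf_quot r.2 hC fun g hg =>
    let ⟨h, _, e⟩ := hfus g hg; ⟨h, h.2, e⟩
  have hr' : IsTwoCentralInvolution (r : L) := CfsgLib.Holt.central_of_uf hr hf
  let e := Subgroup.equivMapOfInjective (generalizedFittingSubgroup P) P.subtype P.subtype_injective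
  have hP : P = ⊤ := by
    refine CfsgLib.Holt.eq_top_of_uf hO (Q := (generalizedFittingSubgroup P).map P.subtype)
      e.symm.isSimpleGroup (fun h => hFna ⟨⟨fun a b => e.injective (by
        rw [map_mul, map_mul, h.is_comm.comm])⟩⟩) (Subgroup.map_subtype_le _) ?_ ?_
      (fun n ⟨f⟩ => hnotalt n ⟨e.trans f⟩) (Subgroup.mem_map_of_mem _ hrF) hr' hf
    · intro x hx
      refine CfsgLib.Tech.mem_normalizer_of_forall ?_
      rintro _ ⟨y, hy, rfl⟩
      exact Subgroup.mem_map_of_mem P.subtype (CfsgLib.Comp.fstar_normal.conj_mem y hy ⟨x, hx⟩)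
    · intro x hx h
      refine Subgroup.mem_map_of_mem P.subtype (x := ⟨x, hx⟩) (CfsgLib.Comp.centralizer_fstar_le ?_)
      exact Subgroup.mem_centralizer_iff.2 fun y hy =>
        Subtype.ext (h y (Subgroup.mem_map_of_mem P.subtype hy)).symm
  subst hP
  exact (CfsgLib.Comp.fstar_map_equiv Subgroup.topEquiv).symm

end Cfsg.Agent.S2902
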