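import Cfsg.Statements.S4396
import Cfsg.Agent.Lib.Frob.Kernel
import Cfsg.Agent.Lib.Perm.PermModule
import Cfsg.Agent.Lib.Comp.FStar

set_option autoImplicit false
open Cfsg

namespace Cfsg.Agent.S4396

open Subgroup CfsgLib
open scoped commutatorElement

set_option linter.unusedSectionVars false

theorem field_det {L T : Type*} [Field L] [Group T] [Fintype T] [DecidableEq T]
    [MulSemiringAction T L] [FaithfulSMul T L] :
    ∃ θ : L, (Matrix.of fun t u : T => (t * u) • θ).det ≠ 0 := by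
  let K := FixedPoints.subfield T L
  let b := IsGalois.normalBasis K L
  refine ⟨b 1, fun h0 => ?_⟩
  obtain ⟨c, hc, hc0⟩ := Matrix.exists_vecMul_eq_zero_iff.2 h0
  let ψ : L →ₗ[K] L := ∑ t, c t • (MulSemiringAction.toAlgHom K L t).toLinearMap
  have hψ : ∀ x, ψ x = ∑ t, c t * t • x := fun x => by simp [ψ]
  have h1 : ψ = 0 := by
    refine b.ext fun e => ?_
    obtain ⟨u, rfl⟩ := FixedPoints.toAlgAut_surjective T L e
    rw [hψ, IsGalois.normalBasis_apply]
    have := congrFun hc0 u
    simpa [Matrix.vecMul, dotProduct, mul_smul] using this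
  have h2 := (linearIndependent_monoidHom L L).comp
    (fun t : T => (MulSemiringAction.toRingHom T L t : L →* L)) (fun s t hst =>
      eq_of_smul_eq_smul fun x : L => DFunLike.congr_fun hst x)
  refine hc (funext (Fintype.linearIndependent_iff.1 h2 c (funext fun x => ?_)))
  have := hψ x
  rw [h1] at this
  simpa using this.symm

theorem ring_det {R T : Type*} [CommRing R] [Group T] [Fintype T] [DecidableEq T]
    (m : Ideal R) [m.IsMaximal] (σ : T →* (R →+* R)) (h1 : ∀ t, ∀ r ∈ m, σ t r ∈ m)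
    (h2 : ∀ t, t ≠ 1 → ∃ r, σ t r - r ∉ m) :
    ∃ θ : R, (Matrix.of fun t u : T => σ (t * u) θ).det ∉ m := by
  let _ := Ideal.Quotient.field m
  let q : T → (R ⧸ m →+* R ⧸ m) := fun t => Ideal.quotientMap m (σ t) (h1 t)
  let _ : MulSemiringAction T (R ⧸ m) :=
    { smul := fun t x => q t x
      one_smul := fun x => by
        obtain ⟨x, rfl⟩ := Ideal.Quotient.mk_surjective x
        change Ideal.Quotient.mk m (σ 1 x) = _
        rw [map_one]; rfl
      mul_smul := fun s t x => by
        obtain ⟨x, rfl⟩ := Ideal.Quotient.mk_surjective x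
        change Ideal.Quotient.mk m (σ (s * t) x) = Ideal.Quotient.mk m (σ s (σ t x))
        rw [map_mul]; rfl
      smul_zero := fun t => map_zero (q t)
      smul_add := fun t => map_add (q t)
      smul_one := fun t => map_one (q t)
      smul_mul := fun t => map_mul (q t) }
  have hs : ∀ t r, t • Ideal.Quotient.mk m r = Ideal.Quotient.mk m (σ t r) := fun t r => rfl
  have : FaithfulSMul T (R ⧸ m) := ⟨fun {s t} h => by
    by_contra hne
    obtain ⟨r, hr⟩ := h2 (t⁻¹ * s) (fun e => hne (inv_mul_eq_one.1 e).symm)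
    apply hr
    rw [← Ideal.Quotient.eq, ← hs, mul_smul, h, inv_smul_smul]⟩
  obtain ⟨θ, hθ⟩ := field_det (L := R ⧸ m) (T := T)
  obtain ⟨θ, rfl⟩ := Ideal.Quotient.mk_surjective θ
  refine ⟨θ, fun h => hθ ?_⟩
  rw [← Ideal.Quotient.eq_zero_iff_mem, RingHom.map_det] at h
  exact h

section Free
variable {k V H : Type*} [Field k] [AddCommGroup V] [Module k V] [Group H] [Fintype H]

/-- the invariant subspace `X` is free -/
def FreeIn (ρ : H →* Module.End k V) (X : Submodule k V) : Prop :=
  ∃ W : Submodule k V, W ≤ X ∧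
    (∀ w : H → V, (∀ h, w h ∈ W) → ∑ h, ρ h (w h) = 0 → ∀ h, w h = 0) ∧ X ≤ ⨆ h, W.map (ρ h)

variable {ρ : H →* Module.End k V}

theorem freeIn_bot : FreeIn ρ ⊥ := ⟨⊥, le_rfl, fun _ hw _ h => hw h, bot_le⟩

theorem FreeIn.sup {X Y : Submodule k V} (hX : FreeIn ρ X) (hY : FreeIn ρ Y)
    (iX : ∀ h, ∀ v ∈ X, ρ h v ∈ X) (iY : ∀ h, ∀ v ∈ Y, ρ h v ∈ Y) (hd : Disjoint X Y) :
    FreeIn ρ (X ⊔ Y) := by
  obtain ⟨W, h1, h2, h3⟩ := hX
  obtain ⟨W', h1', h2', h3'⟩ := hY
  refine ⟨W ⊔ W', sup_le_sup h1 h1', fun w hw h0 h => ?_, sup_le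
    (h3.trans (iSup_mono fun h => Submodule.map_mono le_sup_left))
    (h3'.trans (iSup_mono fun h => Submodule.map_mono le_sup_right))⟩
  choose a ha b hb hab using fun h => Submodule.mem_sup.1 (hw h)
  have e : ∑ h, ρ h (a h) + ∑ h, ρ h (b h) = 0 := by
    rw [← Finset.sum_add_distrib, ← h0]
    exact Finset.sum_congr rfl fun h _ => by rw [← map_add, hab]
  have hA : ∑ h, ρ h (a h) ∈ X := X.sum_mem fun h _ => iX h _ (h1 (ha h))
  have hB : ∑ h, ρ h (b h) ∈ Y := Y.sum_mem fun h _ => iY h _ (h1' (hb h))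
  have e1 : ∑ h, ρ h (a h) = 0 := Submodule.disjoint_def.1 hd _ hA (by
    rw [eq_neg_of_add_eq_zero_left e]; exact Y.neg_mem hB)
  rw [e1, zero_add] at e
  rw [← hab h, h2 a ha e1 h, h2' b hb e h, add_zero]

theorem iSup_inv (W : Submodule k V) (g : H) {v : V} (hv : v ∈ ⨆ h, W.map (ρ h)) :
    ρ g v ∈ ⨆ h, W.map (ρ h) := by
  have : (⨆ h, W.map (ρ h)).map (ρ g) ≤ ⨆ h, W.map (ρ h) := by
    rw [Submodule.map_iSup]
    refine iSup_le fun h => le_trans ?_ (le_iSup _ (g * h))
    rw [map_mul, Module.End.mul_eq_comp, Submodule.map_comp]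
  exact this ⟨v, hv, rfl⟩

variable {R : Type*} [CommRing R] {a : R →+* Module.End k V} {σ : H →* (R →+* R)}

theorem a_mul (r s : R) (v : V) : a (r * s) v = a r (a s v) := by rw [map_mul]; rfl

theorem rho_mul (g h : H) (v : V) : ρ (g * h) v = ρ g (ρ h v) := by rw [map_mul]; rfl

theorem sigma_mul (g h : H) (r : R) : σ (g * h) r = σ g (σ h r) := by rw [map_mul]; rfl

theorem piece (hc : ∀ h r v, ρ h (a r v) = a (σ h r) (ρ h v)) {X : Submodule k V}
    (iX : ∀ h, ∀ v ∈ X, ρ h v ∈ X) (aX : ∀ r, ∀ v ∈ X, a r v ∈ X) (m : Ideal R) [m.IsMaximal]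
    {e : R} (hm : ∀ r, r ∈ m ↔ r * e = 0) (he : ∀ h, σ h e = e ∨ σ h e * e = 0)
    (hee : e * e = e) (hG : ∀ h, h ≠ 1 → ∃ r, σ h r - r ∉ m) :
    FreeIn ρ (X ⊓ LinearMap.ker (a (∏ h, (1 - σ h e)))) := by
  classical
  let T : Subgroup H :=
    { carrier := {h | σ h e = e}
      one_mem' := by change σ 1 e = e; rw [map_one]; rfl
      mul_mem' := fun {s t} hs ht => by
        change σ (s * t) e = e; rw [sigma_mul, (ht : σ t e = e), (hs : σ s e = e)]
      inv_mem' := fun {s} hs => by
        change σ s⁻¹ e = e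
        conv_lhs => rw [← (hs : σ s e = e), ← sigma_mul, inv_mul_cancel, map_one]
        rfl }
  have hT : ∀ t : T, σ t e = e := fun t => t.2
  obtain ⟨θ, hθ⟩ := ring_det m (σ.comp T.subtype)
    (fun t r hr => (hm _).2 (by
      change σ t r * e = 0
      rw [← hT t, ← map_mul, (hm r).1 hr, map_zero]))
    (fun t ht => hG t fun e => ht (Subtype.ext e))
  set M : Matrix T T R := Matrix.of fun t u : T => (σ.comp T.subtype) (t * u) θ with hM
  have hMa : ∀ t u : T, M t u = σ (t * u : H) θ := fun t u => rfl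
  obtain ⟨d, c, hc', hd⟩ := Ideal.IsMaximal.exists_inv inferInstance hθ
  have hde : d * M.det * e = e := by
    have := (hm c).1 hc'
    calc d * M.det * e = (d * M.det + c) * e := by rw [add_mul, this, add_zero]
      _ = e := by rw [hd, one_mul]
  have hdx : ∀ x, a e x = x → a (d * M.det) x = x := fun x hx => by
    rw [← hx, ← a_mul, hde]
  have hmat : ∀ (A B : Matrix T T R) (f : T → V) (s : T),
      ∑ t, a (A s t) (∑ u, a (B t u) (f u)) = ∑ u, a ((A * B) s u) (f u) := by
    intro A B f s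
    simp only [map_sum, Matrix.mul_apply, LinearMap.sum_apply, a_mul]
    exact Finset.sum_comm
  have hdiag : ∀ (f : T → V) (s : T), (∀ u, a e (f u) = f u) →
      ∑ u, a (((d * M.det) • (1 : Matrix T T R)) s u) (f u) = f s := by
    intro f s hf
    rw [Finset.sum_eq_single s (fun u _ hu => by simp [Matrix.one_apply_ne hu.symm]) (by simp)]
    simpa using hdx _ (hf s)
  have hNM : (d • M.adjugate) * M = (d * M.det) • (1 : Matrix T T R) := by
    rw [Matrix.smul_mul, Matrix.adjugate_mul, smul_smul]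
  have hMN : M * (d • M.adjugate) = (d * M.det) • (1 : Matrix T T R) := by
    rw [Matrix.mul_smul, Matrix.mul_adjugate, smul_smul]
  have huniq : ∀ f : T → V, (∀ u, a e (f u) = f u) → (∀ t, ∑ u, a (M t u) (f u) = 0) →
      ∀ s, f s = 0 := by
    intro f hf h0 s
    rw [← hdiag f s hf, ← hNM, ← hmat]
    simp [h0]
  have hrot : ∀ (r t : T) (f : T → V),
      ρ r (∑ u, a (M t u) (f u)) = ∑ u, a (M (r * t) u) (ρ r (f u)) := by
    intro r t f
    rw [map_sum]
    refine Finset.sum_congr rfl fun u _ => ?_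
    rw [hc, hMa, hMa, ← sigma_mul, coe_mul, mul_assoc]
  have heT : ∀ (t : T) x, a e x = x → a e (ρ t x) = ρ t x := fun t x hx => by
    conv_lhs => rw [← hT t, ← hc, hx]
  have hear : ∀ r x, a e x = x → a e (a r x) = a r x := fun r x hx => by
    rw [← a_mul, mul_comm, a_mul, hx]
  let V0 : Submodule k V :=
    { carrier := {v | v ∈ X ∧ a e v = v ∧ ∀ t : T, ρ t v = v}
      add_mem' := fun {x y} hx hy => ⟨X.add_mem hx.1 hy.1, by rw [map_add, hx.2.1, hy.2.1],
        fun t => by rw [map_add, hx.2.2, hy.2.2]⟩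
      zero_mem' := ⟨X.zero_mem, map_zero _, fun t => map_zero _⟩
      smul_mem' := fun c x hx => ⟨X.smul_mem c hx.1, by rw [map_smul, hx.2.1],
        fun t => by rw [map_smul, hx.2.2]⟩ }
  refine ⟨V0.map (a θ), ?_, ?_, ?_⟩
  · rintro _ ⟨v, hv, rfl⟩
    refine ⟨aX _ _ hv.1, ?_⟩
    change a _ (a θ v) = 0
    rw [← Finset.mul_prod_erase _ _ (Finset.mem_univ 1), ← hv.2.1, ← a_mul, ← a_mul]
    have : (1 - σ 1 e) * (∏ x ∈ Finset.univ.erase 1, (1 - σ x e)) * θ * e = 0 := by
      rw [show σ 1 e = e from hT 1]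
      linear_combination (-(∏ x ∈ Finset.univ.erase 1, (1 - σ x e)) * θ) * hee
    rw [this, map_zero]; rfl
  · intro w hw h0 h
    choose v hv hvw using hw
    have h1 : ∑ g, ρ g (w (h * g)) = 0 := by
      have := congrArg (ρ h⁻¹) h0
      rw [map_sum, map_zero] at this
      rw [← this]
      refine Fintype.sum_equiv (Equiv.mulLeft h) _ _ fun g => ?_
      rw [← rho_mul]; simp
    have h2 : ∑ u : T, a (M 1 u) (v (h * u)) = 0 := by
      have := congrArg (a e) h1
      rw [map_sum, map_zero, ← Finset.sum_filter_add_sum_filter_not Finset.univ (· ∈ T),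
        Finset.sum_eq_zero (s := Finset.univ.filter (¬ · ∈ T)), add_zero,
        Finset.sum_subtype (p := (· ∈ T)) (F := inferInstance) _ (by simp)] at this
      · rw [← this]
        refine Finset.sum_congr rfl fun u _ => ?_
        rw [← hvw, hc, (hv _).2.2 u, hear _ _ (hv _).2.1, hMa, OneMemClass.coe_one, one_mul]
      · intro g hg
        have h3 : σ g e * e = 0 := (he g).resolve_left (Finset.mem_filter.1 hg).2
        rw [← hvw, ← (hv _).2.1, hc, hc, ← a_mul, ← a_mul]
        have : e * σ g θ * σ g e = 0 := by linear_combination σ g θ * h3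
        rw [this, map_zero]; rfl
    have h3 := huniq (fun u => v (h * u)) (fun u => (hv _).2.1) (fun t => by
      have := congrArg (ρ t) h2
      rw [hrot, map_zero, mul_one] at this
      rw [← this]
      exact Finset.sum_congr rfl fun u _ => by rw [(hv _).2.2 t]) 1
    simp only [OneMemClass.coe_one, mul_one] at h3
    rw [← hvw, h3, map_zero]
  · have h1 : ∀ y ∈ X, a e y = y → y ∈ ⨆ h, (V0.map (a θ)).map (ρ h) := by
      intro y hy hye
      let f : T → V := fun u => ∑ s, a ((d • M.adjugate) u s) (ρ s y)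
      have hfe : ∀ u, a e (f u) = f u := fun u => by
        simp only [f, map_sum]
        exact Finset.sum_congr rfl fun s _ => hear _ _ (heT s y hye)
      have hf : ∀ t, ∑ u, a (M t u) (f u) = ρ t y := fun t => by
        rw [hmat, hMN]; exact hdiag (fun s => ρ s y) t fun s => heT s y hye
      have hfix : ∀ u (r : T), ρ r (f u) = f u := by
        intro u r
        refine sub_eq_zero.1 (huniq (fun u => ρ r (f u) - f u)
          (fun u => by rw [map_sub, heT r _ (hfe u), hfe]) (fun t => ?_) u)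
        have := hrot r (r⁻¹ * t) f
        rw [hf, mul_inv_cancel_left, ← rho_mul, ← coe_mul, mul_inv_cancel_left] at this
        simp only [map_sub, Finset.sum_sub_distrib]
        rw [← this, hf, sub_self]
      have h2 := hf 1
      rw [OneMemClass.coe_one, map_one, Module.End.one_apply] at h2
      rw [← h2]
      refine Submodule.sum_mem _ fun u _ => Submodule.mem_iSup_of_mem (u : H)
        ⟨a θ (f u), ⟨f u, ⟨X.sum_mem fun s _ => aX _ _ (iX _ _ hy), hfe u, hfix u⟩, rfl⟩, ?_⟩
      rw [hc, hfix, hMa, OneMemClass.coe_one, one_mul]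
    have h2 : ∀ g, ∀ y ∈ X, a (σ g e) y ∈ ⨆ h, (V0.map (a θ)).map (ρ h) := by
      intro g y hy
      have := iSup_inv _ g (h1 (a e (ρ g⁻¹ y)) (aX _ _ (iX _ _ hy)) (by rw [← a_mul, hee]))
      rwa [hc, ← rho_mul, mul_inv_cancel, map_one, Module.End.one_apply] at this
    have h3 : ∀ s : Finset H, ∀ y ∈ X,
        y - a (∏ g ∈ s, (1 - σ g e)) y ∈ ⨆ h, (V0.map (a θ)).map (ρ h) := by
      intro s
      induction s using Finset.induction_on with
      | empty => intro y _; simp
      | insert g s hg ih =>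
        intro y hy
        rw [Finset.prod_insert hg, a_mul, map_sub, map_one, LinearMap.sub_apply,
          Module.End.one_apply, ← sub_add]
        exact Submodule.add_mem _ (ih y hy) (h2 g _ (aX _ _ hy))
    rintro y ⟨hy, hy0⟩
    have := h3 Finset.univ y hy
    rwa [(hy0 : a _ y = 0), sub_zero] at this

theorem free_of_ring [FiniteDimensional k V] [IsSemisimpleRing R]
    (hc : ∀ h r v, ρ h (a r v) = a (σ h r) (ρ h v)) : ∀ (n : ℕ) (X : Submodule k V),
    Module.finrank k X = n → (∀ h, ∀ v ∈ X, ρ h v ∈ X) → (∀ r, ∀ v ∈ X, a r v ∈ X) →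
    (∀ v ∈ X, v ≠ 0 → ∀ h, h ≠ 1 → ∃ r, a (σ h r) v ≠ a r v) → FreeIn ρ X := by
  intro n
  induction n using Nat.strong_induction_on with
  | _ n ih =>
  intro X hn iX aX hG
  by_cases hX : X = ⊥
  · rw [hX]; exact freeIn_bot
  obtain ⟨v, hv, hv0⟩ := Submodule.exists_mem_ne_zero_of_ne_bot hX
  let I : Ideal R :=
    { carrier := {r | a r v = 0}
      add_mem' := fun {x y} hx hy => by
        change a (x + y) v = 0
        rw [map_add, LinearMap.add_apply, (hx : a x v = 0), (hy : a y v = 0), add_zero]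
      zero_mem' := by change a 0 v = 0; simp
      smul_mem' := fun c x hx => by
        change a (c * x) v = 0
        rw [a_mul, (hx : a x v = 0), map_zero] }
  have hI : I ≠ ⊤ := (Ideal.ne_top_iff_one I).2 fun h => hv0 (by
    have h' : a 1 v = 0 := h
    simpa using h')
  obtain ⟨m, hmax, hIm⟩ := I.exists_le_maximal hI
  obtain ⟨g, hg, hmg⟩ := IsSemisimpleRing.ideal_eq_span_idempotent m
  have hgg : g * g = g := hg
  set e := 1 - g with hedef
  have hee : e * e = e := by rw [hedef]; linear_combination hgg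
  have hm : ∀ r, r ∈ m ↔ r * e = 0 := fun r => by
    rw [hmg, Ideal.mem_span_singleton']
    constructor
    · rintro ⟨c, rfl⟩; rw [hedef]; linear_combination (-c) * hgg
    · intro h; exact ⟨r, by rw [hedef] at h; linear_combination -h⟩
  have hem : e ∉ m := fun h => hmax.ne_top ((Ideal.eq_top_iff_one m).2 (by
    have := m.add_mem h ((hm g).2 (by rw [hedef]; linear_combination -hgg))
    rwa [hedef, sub_add_cancel] at this))
  have he' : ∀ h, σ h e * e = e ∨ σ h e * e = 0 := fun h => by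
    have : σ h e * (σ h e - 1) ∈ m := by
      rw [mul_sub, ← map_mul, hee, mul_one, sub_self]; exact m.zero_mem
    rcases hmax.isPrime.mem_or_mem this with h1 | h1
    · exact Or.inr ((hm _).1 h1)
    · left; linear_combination (hm _).1 h1
  have he : ∀ h, σ h e = e ∨ σ h e * e = 0 := fun h => by
    refine (he' h).imp_left fun h1 => ?_
    have h2 : ∀ x, σ h (σ h⁻¹ x) = x := fun x => by
      rw [← sigma_mul, mul_inv_cancel, map_one]; rfl
    rcases he' h⁻¹ with h3 | h3
    · have := congrArg (σ h) h3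
      rw [map_mul, h2] at this
      rw [← this, mul_comm, h1]
    · have := congrArg (σ h) h3
      rw [map_mul, h2, mul_comm, h1, map_zero] at this
      exact absurd (this ▸ m.zero_mem) hem
  have hev : a e v ≠ 0 := fun h => hem (hIm h)
  have hp := piece hc iX aX m hm he hee fun h hh => by
    obtain ⟨r, hr⟩ := hG _ (aX e v hv) hev h hh
    refine ⟨r, fun h1 => hr ?_⟩
    have := (hm _).1 h1
    rw [← sub_eq_zero, ← LinearMap.sub_apply, ← map_sub, ← a_mul, this, map_zero]; rfl
  set f := ∏ h, (1 - σ h e) with hf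
  have hff : f * f = f := by
    rw [hf, ← Finset.prod_mul_distrib]
    refine Finset.prod_congr rfl fun h _ => ?_
    have : σ h e * σ h e = σ h e := by rw [← map_mul, hee]
    linear_combination this
  have hσf : ∀ h, σ h f = f := fun h => by
    rw [hf, map_prod]
    refine Fintype.prod_equiv (Equiv.mulLeft h) _ _ fun g => ?_
    rw [map_sub, map_one, ← sigma_mul]; rfl
  have hfe : f * e = 0 := by
    classical
    rw [hf, ← Finset.mul_prod_erase _ _ (Finset.mem_univ 1), map_one]
    change (1 - e) * _ * e = 0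
    linear_combination (-(∏ x ∈ Finset.univ.erase 1, (1 - σ x e))) * hee
  have inv : ∀ r, (∀ h, σ h r = r) → (∀ h, ∀ v ∈ X ⊓ LinearMap.ker (a r),
      ρ h v ∈ X ⊓ LinearMap.ker (a r)) ∧
      ∀ s, ∀ v ∈ X ⊓ LinearMap.ker (a r), a s v ∈ X ⊓ LinearMap.ker (a r) := by
    refine fun r hr => ⟨fun h y hy => ⟨iX h y hy.1, ?_⟩, fun s y hy => ⟨aX s y hy.1, ?_⟩⟩
    · change a r (ρ h y) = 0
      rw [← hr h, ← hc, (hy.2 : a r y = 0), map_zero]
    · change a r (a s y) = 0
      rw [← a_mul, mul_comm, a_mul, (hy.2 : a r y = 0), map_zero]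
  have hσf' : ∀ h, σ h (1 - f) = 1 - f := fun h => by rw [map_sub, map_one, hσf]
  have hlt : X ⊓ LinearMap.ker (a (1 - f)) < X := by
    refine lt_of_le_of_ne inf_le_left fun h => hev ?_
    have : a e v ∈ X ⊓ LinearMap.ker (a (1 - f)) := by rw [h]; exact aX e v hv
    have h2 : a (1 - f) (a e v) = 0 := this.2
    rwa [← a_mul, sub_mul, one_mul, hfe, sub_zero] at h2
  have hq := ih _ (hn ▸ Submodule.finrank_lt_finrank_of_lt hlt) _ rfl (inv _ hσf').1
    (inv _ hσf').2 fun y hy => hG y hy.1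
  have := hp.sup hq (inv _ hσf).1 (inv _ hσf').1 (Submodule.disjoint_def.2 fun y h1 h2 => by
    have h3 : a (1 - f) y = 0 := h2.2
    rwa [map_sub, map_one, LinearMap.sub_apply, (h1.2 : a f y = 0), sub_zero] at h3)
  convert this
  refine le_antisymm (fun y hy => ?_) (sup_le inf_le_left inf_le_left)
  refine Submodule.mem_sup.2 ⟨a (1 - f) y, ⟨aX _ _ hy, ?_⟩, a f y, ⟨aX _ _ hy, ?_⟩, by simp⟩
  · change a f (a (1 - f) y) = 0
    rw [← a_mul, mul_sub, mul_one, hff, sub_self, map_zero]; rfl
  · change a (1 - f) (a f y) = 0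
    rw [← a_mul, sub_mul, one_mul, hff, sub_self, map_zero]; rfl
end Free

section Main
variable {k A : Type*} [Field k] [Group A] [Finite A] {H : Subgroup A} [Fintype H]

theorem free_comm {V : Type*} [AddCommGroup V] [Module k V] [FiniteDimensional k V]
    (ρ : Representation k A V) {Z : Subgroup A} [hZ : Z.Normal] (hk : (Nat.card Z : k) ≠ 0)
    (hf : ∀ h ∈ H, h ≠ 1 → Z ⊓ centralizer {h} = ⊥)
    (hab : ∀ x ∈ Z, ∀ y ∈ Z, ρ x * ρ y = ρ y * ρ x) {X : Submodule k V}
    (iX : ∀ g, ∀ v ∈ X, ρ g v ∈ X) (h0 : ∀ v ∈ X, (∀ z ∈ Z, ρ z v = v) → v = 0) :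
    FreeIn (ρ.comp H.subtype) X := by
  let τ : Representation k Z V := ρ.comp Z.subtype
  let R := τ.asAlgebraHom.range
  have hind : ∀ P : Module.End k V → Prop, (∀ z : Z, P (ρ z)) → (∀ x y, P x → P y → P (x + y)) →
      (∀ (c : k) x, P x → P (c • x)) → ∀ x ∈ R, P x := by
    rintro P h1 h2 h3 _ ⟨x, rfl⟩
    induction x using MonoidAlgebra.induction_on with
    | of z => simpa [τ] using h1 z
    | add x y hx hy => simpa using h2 _ _ hx hy
    | smul c x hx => simpa using h3 c _ hx
  have hmem : ∀ z : Z, ρ z ∈ R := fun z => ⟨MonoidAlgebra.of k Z z, by simp [τ]⟩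
  have hcomm : ∀ x ∈ R, ∀ y ∈ R, x * y = y * x := by
    intro x hx
    refine hind _ (fun z => hind (fun x => x * ρ z = ρ z * x) (fun w => hab _ w.2 _ z.2) ?_ ?_ x hx)
      ?_ ?_
    · intro a b ha hb; rw [add_mul, mul_add, ha, hb]
    · intro c a ha; rw [smul_mul_assoc, mul_smul_comm, ha]
    · intro a b ha hb; rw [add_mul, mul_add, ha, hb]
    · intro c a ha; rw [smul_mul_assoc, mul_smul_comm, ha]
  let _ : CommRing R := { (inferInstance : Ring R) with
    mul_comm := fun x y => Subtype.ext (hcomm x x.2 y y.2) }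
  have : NeZero (Nat.card Z : k) := ⟨hk⟩
  have : IsSemisimpleRing R := RingHom.isSemisimpleRing_of_surjective
    (τ.asAlgebraHom.rangeRestrict : MonoidAlgebra k Z →+* R) τ.asAlgebraHom.rangeRestrict_surjective
  have hconj : ∀ g : A, ∀ x ∈ R, ρ g * x * ρ g⁻¹ ∈ R := by
    intro g
    refine hind _ (fun z => ?_) ?_ ?_
    · rw [← map_mul, ← map_mul]; exact hmem ⟨_, hZ.conj_mem z z.2 g⟩
    · intro a b ha hb; rw [mul_add, add_mul]; exact R.add_mem ha hb
    · intro c a ha; rw [mul_smul_comm, smul_mul_assoc]; exact R.smul_mem ha c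
  have hi : ∀ g : A, ρ g⁻¹ * ρ g = 1 := fun g => by rw [← map_mul, inv_mul_cancel, map_one]
  have hi' : ∀ g : A, ρ g * ρ g⁻¹ = 1 := fun g => by rw [← map_mul, mul_inv_cancel, map_one]
  let s : A → (R →+* R) := fun g =>
    { toFun := fun x => ⟨ρ g * x * ρ g⁻¹, hconj g x x.2⟩
      map_one' := Subtype.ext (by simp [hi'])
      map_mul' := fun x y => Subtype.ext (by
        change ρ g * (x * y) * ρ g⁻¹ = ρ g * x * ρ g⁻¹ * (ρ g * y * ρ g⁻¹)
        simp only [mul_assoc, ← mul_assoc (ρ g⁻¹) (ρ g), hi, one_mul])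
      map_zero' := Subtype.ext (by simp)
      map_add' := fun x y => Subtype.ext (by
        change ρ g * (x + y) * ρ g⁻¹ = ρ g * x * ρ g⁻¹ + ρ g * y * ρ g⁻¹
        rw [mul_add, add_mul]) }
  let σ : H →* (R →+* R) :=
    { toFun := fun h => s h
      map_one' := RingHom.ext fun x => Subtype.ext (by
        change ρ 1 * x * ρ 1⁻¹ = x
        simp)
      map_mul' := fun g h => RingHom.ext fun x => Subtype.ext (by
        change ρ (g * h) * x * ρ (g * h : A)⁻¹ = ρ g * (ρ h * x * ρ (h : A)⁻¹) * ρ (g : A)⁻¹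
        rw [mul_inv_rev, map_mul, map_mul]; simp only [mul_assoc]) }
  refine free_of_ring (a := R.val.toRingHom) (σ := σ) (fun h r v => ?_) _ X rfl
    (fun h => iX h) (fun r => hind (fun x => ∀ v ∈ X, x v ∈ X) (fun z => iX z)
      (fun a b ha hb v hv => X.add_mem (ha v hv) (hb v hv))
      (fun c a ha v hv => X.smul_mem c (ha v hv)) r r.2) fun v hv hv0 h hh => ?_
  · change (ρ h * r.1) v = (ρ h * r.1 * ρ (h : A)⁻¹ * ρ h) v
    rw [mul_assoc _ (ρ (h : A)⁻¹), hi, mul_one]
  by_contra hn
  push Not at hn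
  refine hv0 (h0 v hv fun z hz => ?_)
  let c : Z → Z := fun b => ⟨h * b * (h : A)⁻¹ * (b : A)⁻¹,
    Z.mul_mem (hZ.conj_mem b b.2 h) (Z.inv_mem b.2)⟩
  have hinj : Function.Injective c := by
    intro x y hxy
    have h1 : (h : A) * x * (h : A)⁻¹ * (x : A)⁻¹ = h * y * (h : A)⁻¹ * (y : A)⁻¹ :=
      congrArg Subtype.val hxy
    have h2 : (y : A)⁻¹ * x ∈ Z ⊓ centralizer {(h : A)} := by
      refine ⟨Z.mul_mem (Z.inv_mem y.2) x.2, mem_centralizer_singleton_iff.2 ?_⟩
      calc (y : A)⁻¹ * x * h = h * (y : A)⁻¹ * (h : A)⁻¹ * (h * y * (h : A)⁻¹ * (y : A)⁻¹) * x * h := by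
            group
        _ = h * ((y : A)⁻¹ * x) := by rw [← h1]; group
    rw [hf h h.2 (fun e => hh (Subtype.ext e)), mem_bot, inv_mul_eq_one] at h2
    exact (Subtype.ext h2).symm
  obtain ⟨b, hb⟩ := Finite.surjective_of_injective hinj ⟨z, hz⟩
  have h1 : z = h * b * (h : A)⁻¹ * (b : A)⁻¹ := (congrArg Subtype.val hb).symm
  have h2 : (ρ h * ρ b * ρ (h : A)⁻¹) v = ρ b v := hn ⟨ρ b, hmem b⟩
  rw [← map_mul, ← map_mul] at h2
  rw [h1, map_mul, hab _ (hZ.conj_mem b b.2 h) _ (Z.inv_mem b.2), Module.End.mul_apply, h2,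
    ← Module.End.mul_apply, hi, Module.End.one_apply]

universe u

theorem free_solv {F : Subgroup A} [F.Normal] [Group.IsSolvable F] (hk : (Nat.card F : k) ≠ 0)
    (hf : ∀ h ∈ H, h ≠ 1 → F ⊓ centralizer {h} = ⊥) : ∀ (n : ℕ) (V : Type u) [AddCommGroup V]
    [Module k V] [FiniteDimensional k V], Module.finrank k V = n → ∀ ρ : Representation k A V,
    (∀ v, (∀ f ∈ F, ρ f v = v) → v = 0) → FreeIn (ρ.comp H.subtype) ⊤ := by
  intro n
  induction n using Nat.strong_induction_on with
  | _ n ih =>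
  intro V _ _ _ hn ρ h0
  by_cases hV : ∀ v : V, v = 0
  · rw [show (⊤ : Submodule k V) = ⊥ from eq_bot_iff.2 fun v _ => hV v]; exact freeIn_bot
  let D : ℕ → Subgroup A := fun i => (derivedSeries F i).map F.subtype
  have hex : ∃ i, ∀ z ∈ D i, ρ z = 1 := by
    obtain ⟨i, hi⟩ := (Group.isSolvable_def F).1 inferInstance
    exact ⟨i, fun z hz => by
      simp only [D, hi, Subgroup.map_bot, mem_bot] at hz
      rw [hz, map_one]⟩
  classical
  have hpos : Nat.find hex ≠ 0 := by
    intro h
    have := Nat.find_spec hex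
    rw [h] at this
    exact hV fun v => h0 v fun f hf => by rw [this f ⟨⟨f, hf⟩, trivial, rfl⟩]; rfl
  obtain ⟨i, hi⟩ := Nat.exists_eq_succ_of_ne_zero hpos
  have h1 := Nat.find_spec hex
  have h2 := Nat.find_min hex (m := i) (by omega)
  rw [hi] at h1
  set Z := D i with hZ
  have hZn : Z.Normal := inferInstanceAs ((derivedSeries F i).map F.subtype).Normal
  have hZF : Z ≤ F := map_subtype_le _
  have hkZ : (Nat.card Z : k) ≠ 0 := fun h => hk (by
    obtain ⟨c, hc⟩ := card_dvd_of_le hZF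
    rw [hc, Nat.cast_mul, h, zero_mul])
  have hab : ∀ x ∈ Z, ∀ y ∈ Z, ρ x * ρ y = ρ y * ρ x := by
    intro x hx y hy
    have : ⁅x, y⁆ ∈ D (i + 1) := by
      simp only [D, derivedSeries_succ, map_commutator]
      exact commutator_mem_commutator hx hy
    have h3 : x * y = ⁅x, y⁆ * (y * x) := by rw [commutatorElement_def]; group
    rw [← map_mul, ← map_mul, h3, map_mul, h1 _ this, one_mul]
  have := Fintype.ofFinite Z
  let s : Module.End k V := ∑ z : Z, ρ z
  have hs1 : ∀ g, s * ρ g = ρ g * s := fun g => by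
    simp only [s, Finset.sum_mul, Finset.mul_sum, ← map_mul]
    refine (Fintype.sum_equiv (MulAut.conjNormal g).toEquiv _ _ fun z => ?_).symm
    simp
  have hs2 : ∀ z ∈ Z, ρ z * s = s := fun z hz => by
    simp only [s, Finset.mul_sum, ← map_mul]
    exact Fintype.sum_equiv (Equiv.mulLeft ⟨z, hz⟩) _ _ fun z => rfl
  let X : Submodule k V :=
    { carrier := {v | ∀ z ∈ Z, ρ z v = v}
      add_mem' := fun {x y} hx hy z hz => by rw [map_add, hx z hz, hy z hz]
      zero_mem' := fun z _ => map_zero _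
      smul_mem' := fun c x hx z hz => by rw [map_smul, hx z hz] }
  have hsX : ∀ v ∈ X, s v = (Nat.card Z : k) • v := fun v hv => by
    simp only [s, LinearMap.sum_apply]
    rw [Finset.sum_congr rfl fun (z : Z) _ => hv z z.2]
    simp [Nat.cast_smul_eq_nsmul]
  have hsm : ∀ v, s v ∈ X := fun v z hz => by rw [← Module.End.mul_apply, hs2 z hz]
  have iX : ∀ g, ∀ v ∈ X, ρ g v ∈ X := fun g v hv z hz => by
    have := hv _ (hZn.conj_mem z hz g⁻¹)
    conv_rhs => rw [← this]
    rw [← Module.End.mul_apply, ← Module.End.mul_apply, ← map_mul, ← map_mul]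
    congr 2; group
  have iY : ∀ g, ∀ v ∈ LinearMap.ker s, ρ g v ∈ LinearMap.ker s := fun g v hv => by
    rw [LinearMap.mem_ker, ← Module.End.mul_apply, hs1, Module.End.mul_apply,
      LinearMap.mem_ker.1 hv, map_zero]
  have hd : ∀ v ∈ X, v ∈ LinearMap.ker s → v = 0 := fun v hv hv' => by
    have := hsX v hv
    rw [LinearMap.mem_ker.1 hv'] at this
    exact (smul_eq_zero.1 this.symm).resolve_left hkZ
  have hY := free_comm ρ hkZ (fun h hh hh1 => eq_bot_iff.2
    ((inf_le_inf_right _ hZF).trans (hf h hh hh1).le)) hab iY fun v hv hv' => hd v hv' hv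
  have hXt : X < ⊤ := lt_top_iff_ne_top.2 fun h => h2 fun z hz => LinearMap.ext fun v =>
    (h ▸ Submodule.mem_top : v ∈ X) z hz
  obtain ⟨W, -, hW1, hW2⟩ := ih _ (by
      have := Submodule.finrank_lt_finrank_of_lt hXt
      rwa [finrank_top, hn] at this) X rfl (ρ.subrepresentation X iX)
    fun v hv => Subtype.ext (h0 v fun f hf => congrArg Subtype.val (hv f hf))
  have hX : FreeIn (ρ.comp H.subtype) X := by
    refine ⟨W.map X.subtype, Submodule.map_subtype_le _ _, fun w hw hw0 h => ?_, fun v hv => ?_⟩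
    · choose u hu huw using hw
      have := hW1 u hu (Subtype.ext (by
        rw [Submodule.coe_sum, Submodule.coe_zero, ← hw0]
        exact Finset.sum_congr rfl fun h _ => by rw [← huw]; rfl)) h
      rw [← huw, this, map_zero]
    · have h3 := Submodule.mem_map_of_mem (f := X.subtype) (hW2 (Submodule.mem_top (x := ⟨v, hv⟩)))
      rw [Submodule.map_iSup] at h3
      refine SetLike.le_def.1 (iSup_mono fun h => ?_) h3
      rintro _ ⟨_, ⟨w, hw, rfl⟩, rfl⟩
      exact ⟨w, ⟨w, hw, rfl⟩, rfl⟩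
  have := hX.sup hY (fun h => iX h) (fun h => iY h) (Submodule.disjoint_def.2 hd)
  convert this
  refine (eq_top_iff.2 fun v _ => Submodule.mem_sup.2 ⟨(Nat.card Z : k)⁻¹ • s v,
    X.smul_mem _ (hsm v), v - (Nat.card Z : k)⁻¹ • s v, ?_, by simp⟩).symm
  rw [LinearMap.mem_ker, map_sub, map_smul, hsX _ (hsm v), smul_smul, inv_mul_cancel₀ hkZ,
    one_smul, sub_self]
end Main

/-- Let the finite group A act faithfully and linearly on a finite-dimensional vector space V over a field k, and suppose A is a Frobenius group with nilpotent kernel F (every Frobenius kernel is nilpotent) and complement H such that F fixes no nonzero vector. Then V is free as a module for H: there is a subspace W with V the direct sum of the translates hW, h ∈ H. (No assumption on the characteristic of k.) -/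
theorem result {k V A : Type*} [Field k] [AddCommGroup V] [Module k V] [FiniteDimensional k V] [Group A] [Finite A] [DecidableEq A]
    (ρ : Representation k A V) (hρ : Function.Injective ρ)
    (Fk Hc : Subgroup A) [Fk.Normal] (hHc : Cfsg.IsFrobeniusComplement Hc) (hker : Cfsg.frobeniusKernel Hc = (Fk : Set A)) (hnil : Group.IsNilpotent ↥Fk)
    (hCF : ∀ v : V, (∀ f ∈ Fk, ρ f v = v) → v = 0) :
    ∃ W : Submodule k V, DirectSum.IsInternal (fun h : ↥Hc => W.map (ρ (h : A))) := by
  have := Fintype.ofFinite Hc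
  obtain ⟨N, hN, -, -, -, hf⟩ := Frob.exists_kernel_fpf hHc
  obtain rfl : N = Fk := SetLike.coe_injective (hN.trans hker)
  have key : FreeIn (ρ.comp Hc.subtype) ⊤ := by
    rcases CharP.char_is_prime_or_zero k (ringChar k) with hp | hp
    · have : Fact (ringChar k).Prime := ⟨hp⟩
      set p := ringChar k
      let F := (pPrimeCore p N).map N.subtype
      have hFn : F.Normal := Core.map_pPrimeCore_normal N
      have hFN : F ≤ N := map_subtype_le _
      have : Group.IsSolvable F := Core.isSolvable_of_le hFN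
      refine free_solv (F := F) ?_ (fun h hh hh1 => eq_bot_iff.2
        ((inf_le_inf_right _ hFN).trans (hf h hh hh1).le)) _ V rfl ρ fun v hv => ?_
      · rw [Ne, CharP.cast_eq_zero_iff k p, card_map_of_injective N.subtype_injective]
        exact hp.coprime_iff_not_dvd.1 (Core.coprime_card_pPrimeCore p N).symm
      by_contra hv0
      let X : Submodule k V :=
        { carrier := {v | ∀ z ∈ F, ρ z v = v}
          add_mem' := fun {x y} hx hy z hz => by rw [map_add, hx z hz, hy z hz]
          zero_mem' := fun z _ => map_zero _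
          smul_mem' := fun c x hx z hz => by rw [map_smul, hx z hz] }
      have iX : ∀ g, ∀ v ∈ X, ρ g v ∈ X := fun g v hv z hz => by
        have := hv _ (hFn.conj_mem z hz g⁻¹)
        conv_rhs => rw [← this]
        rw [← Module.End.mul_apply, ← Module.End.mul_apply, ← map_mul, ← map_mul]
        congr 2; group
      obtain ⟨w, hw, hw0, hw1⟩ := Perm.exists_fixed_of_isPGroup (Core.isPGroup_pCore p N)
        (ρ.comp (N.subtype.comp (pCore p N).subtype)) X (fun g => iX _)
        (fun e => hv0 (e ▸ (hv : v ∈ X) : v ∈ (⊥ : Submodule k V)))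
      refine hw0 (hCF w fun f hf => ?_)
      obtain ⟨a, ha, b, hb, hab⟩ := (Subgroup.mem_sup_of_normal_right).1
        (Comp.pCore_sup_pPrimeCore_of_nilpotent (G := N) p ▸ mem_top (⟨f, hf⟩ : N))
      have : f = a * b := (congrArg Subtype.val hab).symm
      rw [this, map_mul, Module.End.mul_apply, hw b ⟨b, hb, rfl⟩]
      exact hw1 ⟨a, ha⟩
    · have : CharP k 0 := hp ▸ ringChar.charP k
      have := CharP.charP_to_charZero k
      exact free_solv (F := N) (Nat.cast_ne_zero.2 Nat.card_pos.ne') hf _ V rfl ρ hCF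
  obtain ⟨W, -, h1, h2⟩ := key
  refine ⟨W, (DirectSum.isInternal_submodule_iff_iSupIndep_and_iSup_eq_top _).2
    ⟨(iSupIndep_iff_finsetSum_eq_zero_imp_eq_zero _).2 fun s v hv h0 i hi => ?_, eq_top_iff.2 h2⟩⟩
  choose! w hw hwv using hv
  have h3 := h1 (fun h => if h ∈ s then w h else 0)
    (fun h => by split_ifs with hh; exacts [hw h hh, W.zero_mem]) (by
      rw [← Finset.sum_subset (Finset.subset_univ s) (fun h _ hh => by rw [if_neg hh, map_zero]),
        ← h0]
      exact Finset.sum_congr rfl fun h hh => by rw [if_pos hh]; exact hwv h hh) i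
  simp only [if_pos hi] at h3
  rw [← hwv i hi, h3, map_zero]

end Cfsg.Agent.S4396
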