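import Cfsg.Statements.S4706
import Cfsg.Agent.Lib.DefectOne.B43_Perm
import Cfsg.Agent.Lib.DefectOne.Prin

set_option autoImplicit false
open Cfsg

namespace Cfsg.Agent.S4706

open CfsgLib.DefectOne CfsgLib.DefectOne.B43

/-- Let p > 2 be a prime and G a permutation group on p letters whose Sylow p-subgroup P has normalizer of order 2p. Then either P is normal in G, or p − 1 = 2^a for some a and G is isomorphic to SL(2, 2^a). -/
theorem result {α : Type*} [Fintype α] [DecidableEq α] {p : ℕ} [Fact p.Prime] (hp : 2 < p) (hα : Fintype.card α = p) (G : Subgroup (Equiv.Perm α)) (P : Sylow p G) (hN : Nat.card (Subgroup.normalizer ((P : Subgroup G) : Set G)) = 2 * p) : (P : Subgroup G).Normal ∨ ∃ (a : ℕ) (F : Type) (_ : Field F) (_ : Fintype F), p = 2 ^ a + 1 ∧ Fintype.card F = 2 ^ a ∧ Nonempty (G ≃* Matrix.SpecialLinearGroup (Fin 2) F) := by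
  exact perm_prime (fun _ _ _ _ hs _ hζ => exists_prinData hs.ord hs.nsq hζ) hp hα G P hN

end Cfsg.Agent.S4706
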