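import Cfsg.Statements.S0999
import Cfsg.Agent.Lib.DefectOne.B43_Main
import Cfsg.Agent.Lib.DefectOne.Prin

set_option autoImplicit false
open Cfsg

namespace Cfsg.Agent.S0999

open CfsgLib.DefectOne CfsgLib.DefectOne.B43

/-- Let G be a non-cyclic finite simple group and p a prime divisor of its order with p^3 > |G|. Then p > 3 and G is isomorphic to the projective special linear group of dimension 2 over the field with p elements, or p - 1 is a power of 2 and G is isomorphic to that group over the field with p - 1 elements. -/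
theorem result {G : Type*} [Group G] [Finite G] [IsSimpleGroup G] (hG : ¬ IsCyclic G) (p : ℕ) (hp : p.Prime) (hdvd : p ∣ Nat.card G) (hbig : Nat.card G < p ^ 3) : (∃ (F : Type) (_ : Field F) (_ : Fintype F), Fintype.card F = p ∧ 3 < p ∧ Nonempty (G ≃* Matrix.ProjectiveSpecialLinearGroup (Fin 2) F)) ∨ (∃ (m : ℕ) (F : Type) (_ : Field F) (_ : Fintype F), Fintype.card F = 2 ^ m ∧ p = 2 ^ m + 1 ∧ 3 < p ∧ Nonempty (G ≃* Matrix.ProjectiveSpecialLinearGroup (Fin 2) F)) := by
  have : Fact p.Prime := ⟨hp⟩
  have h1 : ¬ (Nat.card G).Prime := fun h => hG (have : Fact (Nat.card G).Prime := ⟨h⟩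
    isCyclic_of_prime_card (p := Nat.card G) rfl)
  have h2 := CfsgLib.PSL2Rec.not_comm_of_simple h1
  have h3 : commutator G = ⊤ := (Subgroup.Normal.eq_bot_or_eq_top inferInstance).resolve_left
    fun h => CfsgLib.SmallSimple.centralizer_ne_top h2 (Classical.choose_spec (exists_ne (1 : G)))
      (eq_top_iff.2 fun g _ => Subgroup.mem_centralizer_singleton_iff.2
        (commutatorElement_eq_one_iff_mul_comm.1 (Subgroup.mem_bot.1 (h ▸
          Subgroup.commutator_mem_commutator (Subgroup.mem_top _) (Subgroup.mem_top _)))))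
  obtain ⟨P⟩ : Nonempty (Sylow p G) := inferInstance
  refine (brauer_small (fun _ _ _ _ hs _ hζ => exists_prinData hs.ord hs.nsq hζ) h3 hdvd hbig (fun h => ?_) fun N hN h => ?_).psl
  · exact CfsgLib.SmallSimple.sylow_normalizer_ne_top h2 P hdvd
      (Subgroup.normalizer_eq_top_iff.2 (CfsgLib.PSL2Rec.sylow_normal_of_card_eq_one h P))
  · rcases hN.eq_bot_or_eq_top with rfl | rfl
    · simp at h
    · exact h1 (by rw [← Subgroup.card_top, h]; exact Nat.prime_two)

end Cfsg.Agent.S0999
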