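import Cfsg.Statements.S0060
import Mathlib
import Cfsg.Agent.Lib.Coprime.Sylow
import Cfsg.Agent.Lib.Core.Cores

set_option autoImplicit false
open Pointwise
open Cfsg

namespace Cfsg.Agent.S0060

open CfsgLib.Core CfsgLib.Coprime Subgroup

theorem sylow_comm {G : Type*} [Group G] [Finite G] {p : ℕ} [Fact p.Prime]
    (S : Sylow p G) (hS : IsMulCommutative S) (T : Sylow p G) :
    ∀ a ∈ (T : Subgroup G), ∀ b ∈ (T : Subgroup G), a * b = b * a := by
  intro a ha b hb
  have e := S.equiv T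
  have := hS.is_comm.comm (e.symm ⟨a, ha⟩) (e.symm ⟨b, hb⟩)
  rw [← map_mul, ← map_mul] at this
  exact congrArg Subtype.val (e.symm.injective this)

/-- Brodkey's theorem: with abelian Sylow subgroups, `O_p(G)` is an intersection `S ⊓ T`. -/
theorem brodkey {G : Type*} [Group G] [Finite G] {p : ℕ} [Fact p.Prime]
    (S : Sylow p G) (hS : IsMulCommutative S) :
    ∃ T : Sylow p G, (S : Subgroup G) ⊓ T = pCore p G := by
  obtain ⟨D, ⟨T, rfl⟩, hmin⟩ := (wellFounded_lt (α := Subgroup G)).has_min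
    (Set.range fun T : Sylow p G => (S : Subgroup G) ⊓ T) ⟨_, S, rfl⟩
  refine ⟨T, le_antisymm ?_ (le_inf (pCore_le_sylow S) (pCore_le_sylow T))⟩
  rw [pCore_eq_iInf_sylow, le_iInf_iff]
  intro U
  set D : Subgroup G := (S : Subgroup G) ⊓ T with hD
  set N := normalizer (D : Set G) with hN
  have hle : ∀ R : Sylow p G, D ≤ R → (R : Subgroup G) ≤ N := by
    intro R hR
    refine le_trans ?_ (centralizer_le_normalizer _)
    intro x hx y hy
    exact sylow_comm S hS R y (hR hy) x hx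
  have hSN := hle S inf_le_left
  obtain ⟨m, hm, h'⟩ := exists_conj_smul_le_sylow (hle T inf_le_right) T.isPGroup'
    (fun h => T.not_dvd_index (h.trans (relIndex_dvd_index_of_le (hle T inf_le_right))))
    (inf_le_right : (U : Subgroup G) ⊓ N ≤ N) (U.isPGroup'.to_le inf_le_left)
  have hmem : ∀ x, x ∈ ((m⁻¹ • U : Sylow p G) : Subgroup G) ↔ m * x * m⁻¹ ∈ (U : Subgroup G) := by
    intro x
    rw [Sylow.coe_subgroup_smul, CfsgLib.Core.mem_conj_smul_iff, inv_inv]
  have h1 : (S : Subgroup G) ⊓ (m⁻¹ • U : Sylow p G) ≤ D := by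
    intro x hx
    obtain ⟨hx1, hx2⟩ := mem_inf.1 hx
    refine mem_inf.2 ⟨hx1, ?_⟩
    have := h' (mem_inf.2 ⟨(hmem x).1 hx2, N.mul_mem (N.mul_mem hm (hSN hx1)) (N.inv_mem hm)⟩)
    rw [CfsgLib.Core.mem_conj_smul_iff] at this
    simpa [mul_assoc] using this
  have h2 : (S : Subgroup G) ⊓ (m⁻¹ • U : Sylow p G) = D :=
    h1.eq_or_lt.resolve_right (hmin _ ⟨m⁻¹ • U, rfl⟩)
  intro x hx
  have h3 : m⁻¹ * x * m⁻¹⁻¹ ∈ D := (mem_normalizer_iff.1 (N.inv_mem hm) x).1 hx
  rw [← h2] at h3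
  have := (hmem _).1 (mem_inf.1 h3).2
  simpa [mul_assoc] using this

/-- Brodkey's Theorem: in a finite group with abelian Sylow p-subgroups and no nontrivial normal p-subgroup, some conjugate of a Sylow p-subgroup meets it trivially. -/
theorem result {G : Type*} [Group G] [Finite G] (p : ℕ) [Fact p.Prime]
    (S : Sylow p G) (hS : IsMulCommutative S) (hOp : Cfsg.pCore p G = ⊥) :
    ∃ g : G, (S : Subgroup G) ⊓ MulAut.conj g • (S : Subgroup G) = ⊥ := by
  obtain ⟨T, hT⟩ := brodkey S hS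
  obtain ⟨g, rfl⟩ := MulAction.exists_smul_eq G S T
  exact ⟨g, hOp ▸ hT⟩

end Cfsg.Agent.S0060
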