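import Cfsg.Statements.S4343
import Cfsg.Agent.S0060
import Cfsg.Agent.Lib.Core.MinNormal
import Cfsg.Agent.Lib.PGroup.Basic

set_option autoImplicit false
open Cfsg

namespace Cfsg.Agent.S4343

open CfsgLib.Core Subgroup
open scoped commutatorElement

/-- Let S be a finite non-abelian simple group and p a prime dividing its order. If S has fewer than p² Sylow p-subgroups, then its Sylow p-subgroups have order p. -/
theorem result {S : Type*} [Group S] [Finite S]
    [IsSimpleGroup S] (hS : ¬ IsMulCommutative S) (p : ℕ) [Fact p.Prime] (hp : p ∣ Nat.card S)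
    (hn : Nat.card (Sylow p S) < p ^ 2) (P : Sylow p S) : Nat.card P = p := by
  have hpp : p.Prime := Fact.out
  have hO : pCore p S = ⊥ := by
    rcases (pCore_normal p S).eq_bot_or_eq_top with h | h
    · exact h
    · exfalso
      have := (pCore_eq_top_iff.1 h).isNilpotent
      exact hS ⟨⟨IsSimpleGroup.comm_iff_isSolvable.2 inferInstance⟩⟩
  have key : ∀ R : Sylow p S, (R : Subgroup S).relIndex P ∣ p := by
    intro R
    have h1 : (MulAction.stabilizer (P : Subgroup S) R) = (R : Subgroup S).subgroupOf P := by
      ext x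
      rw [MulAction.mem_stabilizer_iff, mem_subgroupOf, Subgroup.smul_def,
        Sylow.smul_eq_iff_mem_normalizer]
      have := P.isPGroup'.inf_normalizer_sylow R
      constructor
      · intro h
        exact (mem_inf.1 (this.le (mem_inf.2 ⟨x.2, h⟩))).2
      · intro h
        exact le_normalizer h
    have h2 : (R : Subgroup S).relIndex P < p ^ 2 := by
      rw [relIndex, ← h1, MulAction.index_stabilizer]
      exact lt_of_le_of_lt (Set.ncard_le_card _) hn
    obtain ⟨n, hn⟩ := P.isPGroup'.exists_card_eq
    obtain ⟨k, -, hk⟩ := (Nat.dvd_prime_pow hpp).1 (hn ▸ relIndex_dvd_card (R : Subgroup S) P)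
    rw [hk] at h2 ⊢
    have := (Nat.pow_lt_pow_iff_right hpp.one_lt).1 h2
    conv_rhs => rw [← pow_one p]
    exact pow_dvd_pow p (by omega)
  have hcomm : IsMulCommutative P := by
    rw [isMulCommutative_iff_forall]
    intro a ha b hb
    rw [← commutatorElement_eq_one_iff_mul_comm, ← mem_bot, ← hO, pCore_eq_iInf_sylow, mem_iInf]
    intro R
    rcases (Nat.dvd_prime hpp).1 (key R) with h | h
    · have := relIndex_eq_one.1 h
      exact this (commutator_le_self _ (commutator_mem_commutator ha hb))
    · have hn : ((R : Subgroup S).subgroupOf P).Normal :=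
        CfsgLib.PGroup.normal_of_index_eq_prime P.isPGroup' h
      have hc : IsCyclic ((P : Subgroup S) ⧸ (R : Subgroup S).subgroupOf P) :=
        isCyclic_of_prime_card h
      have := hc.isMulCommutative.is_comm.comm (QuotientGroup.mk ⟨a, ha⟩) (QuotientGroup.mk ⟨b, hb⟩)
      rw [← commutatorElement_eq_one_iff_mul_comm] at this
      exact (QuotientGroup.eq_one_iff
        (⁅(⟨a, ha⟩ : (P : Subgroup S)), (⟨b, hb⟩ : (P : Subgroup S))⁆)).1 this
  obtain ⟨T, hT⟩ := Cfsg.Agent.S0060.brodkey P hcomm
  have h1 := key T
  rw [← inf_relIndex_left, hT, hO, relIndex_bot_left] at h1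
  exact Nat.dvd_antisymm h1 (P.dvd_card_of_dvd_card hp)

end Cfsg.Agent.S4343
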