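import Cfsg.Statements.S3889
import Mathlib

set_option autoImplicit false
open Cfsg

namespace Cfsg.Agent.S3889

/-- A finite abelian group that is the union of a family of proper subgroups any two of which intersect trivially is elementary abelian: its exponent is a prime. -/
theorem result {G : Type*} [CommGroup G] [Finite G] (𝓑 : Set (Subgroup G)) (hprop : ∀ B ∈ 𝓑, B ≠ ⊤)
    (hcov : ∀ g : G, ∃ B ∈ 𝓑, g ∈ B) (hdisj : ∀ B ∈ 𝓑, ∀ C ∈ 𝓑, B ≠ C → B ⊓ C = ⊥) :
    (Monoid.exponent G).Prime := by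
  obtain ⟨B0, hB0, -⟩ := hcov 1
  have hnt : Nontrivial G := by
    by_contra hnt
    rw [not_nontrivial_iff_subsingleton] at hnt
    exact hprop B0 hB0 (Subsingleton.elim _ _)
  obtain ⟨p, hp, hdvd⟩ := Nat.exists_prime_and_dvd (Finite.one_lt_card (α := G)).ne'
  haveI := Fact.mk hp
  obtain ⟨x, hx⟩ := exists_prime_orderOf_dvd_card' p hdvd
  have hx1 : x ≠ 1 := by
    rintro rfl
    rw [orderOf_one] at hx
    exact hp.one_lt.ne hx
  have hxp : x ^ p = 1 := hx ▸ pow_orderOf_eq_one x
  obtain ⟨B, hB, hxB⟩ := hcov x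
  have key : ∀ y, y ∉ B → y ^ p = 1 := by
    intro y hy
    obtain ⟨C, hC, hyC⟩ := hcov y
    obtain ⟨D, hD, hxyD⟩ := hcov (x * y)
    have hCD : C ≠ D := by
      rintro rfl
      have hxC : x ∈ C := by simpa using C.mul_mem hxyD (C.inv_mem hyC)
      have hBC : B ≠ C := by rintro rfl; exact hy hyC
      have : x ∈ B ⊓ C := ⟨hxB, hxC⟩
      rw [hdisj B hB C hC hBC] at this
      exact hx1 this
    have h1 : y ^ p ∈ C ⊓ D := by
      refine ⟨C.pow_mem hyC _, ?_⟩
      have := D.pow_mem hxyD p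
      rwa [mul_pow, hxp, one_mul] at this
    rw [hdisj C hC D hD hCD] at h1
    exact h1
  have hall : ∀ y : G, y ^ p = 1 := by
    intro y
    by_cases hy : y ∈ B
    · obtain ⟨z, hz⟩ : ∃ z, z ∉ B := by
        by_contra hcon
        push Not at hcon
        exact hprop B hB (eq_top_iff.2 fun z _ => hcon z)
      have h1 := key z hz
      have h2 := key (y * z) (fun h => hz (by simpa using B.mul_mem (B.inv_mem hy) h))
      rwa [mul_pow, h1, mul_one] at h2
    · exact key y hy
  have : Monoid.exponent G = p := by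
    apply Nat.dvd_antisymm
    · exact Monoid.exponent_dvd_of_forall_pow_eq_one hall
    · exact hx ▸ Monoid.order_dvd_exponent x
  rwa [this]

end Cfsg.Agent.S3889
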