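import Cfsg.Statements.S3893
import Cfsg.Agent.Lib.Fgs.NilCover
import Cfsg.Agent.Lib.Sz.Models
import Cfsg.Agent.Lib.Sz.Struct
import Cfsg.Agent.Lib.Core.Fitting
import Cfsg.Agent.Lib.Coprime.Sylow

set_option autoImplicit false
open Cfsg

namespace Cfsg.Agent.S3893

open CfsgLib.Fgs CfsgLib.Sz CfsgLib.Sz.Tits

theorem le_of_nil {G : Type*} [Group G] {A C : Subgroup G} (hA : Group.IsNilpotent A)
    (h : ∀ g ∈ A, g ∈ Subgroup.normalizer ((A ⊓ C : Subgroup G) : Set G) → g ∈ C) : A ≤ C := by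
  by_contra hn
  have hlt : A ⊓ C < A := lt_of_le_of_ne inf_le_left (fun e => hn (inf_eq_left.1 e))
  have h2 := CfsgLib.Coprime.lt_inf_normalizer_of_isNilpotent hA hlt
  apply h2.not_ge
  intro g hg
  obtain ⟨h3, h4⟩ := Subgroup.mem_inf.1 hg
  exact Subgroup.mem_inf.2 ⟨h3, h g h3 h4⟩

theorem comm_of_nil {G : Type*} [Group G] [Finite G] {A : Subgroup G} (hA : Group.IsNilpotent A)
    {x y : G} (hx : x ∈ A) (hy : y ∈ A) (h2 : x * x = 1) (hodd : Odd (orderOf y)) :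
    x * y = y * x := by
  have h : (orderOf (⟨x, hx⟩ : A)).Coprime (orderOf (⟨y, hy⟩ : A)) := by
    rw [Subgroup.orderOf_mk, Subgroup.orderOf_mk]
    exact Nat.Coprime.coprime_dvd_left (orderOf_dvd_of_pow_eq_one (n := 2) (by rw [pow_two, h2]))
      hodd.coprime_two_left
  exact congrArg Subtype.val (CfsgLib.Core.commute_of_coprime_orderOf_of_isNilpotent h).eq

theorem main {F : Type*} [Field F] [Finite F] (τ : Tits F) (ht : ∃ t : F, t ≠ 0 ∧ t ≠ 1)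
    (𝓐 : Finset (Subgroup τ.grp)) : ¬ IsNilMinCover 𝓐 := by
  haveI := τ.finite_grp
  obtain ⟨t, ht0, ht1⟩ := ht
  let k : Fˣ := Units.mk0 t ht0
  have hk1 : k ≠ 1 := fun h => ht1 (congrArg Units.val h)
  have hodd : Odd (orderOf (τ.M k)) := by
    by_contra h
    obtain ⟨j, hj⟩ := Nat.not_odd_iff_even.1 h
    have h1 : τ.M k ^ (j + j) = 1 := by rw [← hj]; exact pow_orderOf_eq_one _
    rw [τ.M_pow, τ.M_eq_one] at h1
    have h2 : k ^ j = 1 := τ.units_eq_one_of_pow_two_pow (n := 1) (by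
      rw [pow_one, pow_two, ← pow_add, h1])
    have h3 : τ.M k ^ j = 1 := by rw [τ.M_pow, h2, τ.M_one]
    have h4 := orderOf_pos (τ.M k)
    have h5 := Nat.le_of_dvd (by omega) (orderOf_dvd_of_pow_eq_one h3)
    omega
  have hfix : ∀ ω : τ.Pt, τ.M k • ω = ω → ω = .inf ∨ ω = .aff 0 0 := by
    intro ω h
    cases ω with
    | inf => exact Or.inl rfl
    | aff x y =>
      rcases M_smul_aff_eq h with h | ⟨rfl, rfl⟩
      · exact absurd h hk1
      · exact Or.inr rfl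
  have hBne : τ.B ≠ ⊤ := fun h => T_not_mem_B (τ := τ) (h ▸ Subgroup.mem_top _)
  refine not_isNilMinCover_of_pair hBne (τ.S 0 1) (τ.M k) ?_ ?_ ?_ 𝓐
  · intro A hA hx
    apply le_of_nil hA
    intro g _ hg
    have := (Subgroup.mem_normalizer_iff.1 hg (τ.S 0 1)).1 (Subgroup.mem_inf.2 ⟨hx, τ.S_mem_B 0 1⟩)
    exact mem_B_of_conj_mem (τ.S_mem_U 0 1) τ.S_zero_one_ne_one (Subgroup.mem_inf.1 this).2
  · intro A hA hy
    refine le_trans (le_of_nil hA ?_) τ.H_le_B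
    intro g hgA hg
    have h1 := (Subgroup.mem_normalizer_iff.1 (inv_mem hg) (τ.M k)).1
      (Subgroup.mem_inf.2 ⟨hy, τ.M_mem_H k⟩)
    obtain ⟨h2, h3⟩ := mem_H_iff.1 (Subgroup.mem_inf.1 h1).2
    rw [inv_inv, mul_smul, mul_smul, inv_smul_eq_iff] at h2 h3
    have hne : g • (Pt.inf : τ.Pt) ≠ g • (Pt.aff 0 0 : τ.Pt) := fun h => by
      have := smul_left_cancel g h
      simp at this
    rcases hfix _ h2 with h4 | h4 <;> rcases hfix _ h3 with h5 | h5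
    · exact absurd (h4.trans h5.symm) hne
    · exact mem_H_iff.2 ⟨h4, h5⟩
    · exfalso
      obtain ⟨l, hl⟩ := exists_eq_M (τ := τ) (g := τ.T * g)
        (by rw [mul_smul, h4, τ.T_smul_zero]) (by rw [mul_smul, h5, τ.T_smul_inf])
      have hg' : g = τ.T * τ.M l := by rw [← hl, ← mul_assoc, τ.T_mul_T, one_mul]
      have h6 := comm_of_nil hA hgA hy (by rw [hg']; exact τ.T_M_sq l) hodd
      rw [hg', ← mul_assoc, τ.M_mul_T, mul_assoc, mul_assoc, τ.M_mul_M, τ.M_mul_M] at h6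
      have h7 := τ.M_inj (mul_left_cancel h6)
      rw [mul_comm l k] at h7
      have h8 := mul_right_cancel h7
      apply hk1
      apply τ.units_eq_one_of_pow_two_pow (n := 1)
      rw [pow_one, pow_two]
      nth_rewrite 1 [h8]
      exact inv_mul_cancel k
    · exact absurd (h4.trans h5.symm) hne
  · intro A hA hx hy
    have h1 := comm_of_nil hA hx hy (τ.S_zero_mul_self 1) hodd
    have h2 := mem_U_of_comm (τ.S_mem_U 0 1) τ.S_zero_one_ne_one h1.symm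
    exact hk1 (τ.M_eq_one.1 (eq_one_of_mem_U_of_mem_H h2 (τ.M_mem_H k)))

/-- A cover of a group is a finite set of proper subgroups whose union is the whole group; it is minimal when no cover has fewer members, and nilpotent when all its members are nilpotent. The Suzuki groups Sz(q), q = 2^(2m+1) with m ≥ 1, have no nilpotent minimal cover. -/
theorem result {F : Type*} [Field F] [Fintype F] (m : ℕ) (hm : 1 ≤ m) (hF : Fintype.card F = 2 ^ (2 * m + 1)) :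
    ¬ ∃ 𝓐 : Finset (Subgroup ↥(Cfsg.Lie.Sz F (2 ^ (m + 1)))), ((∀ A ∈ 𝓐, A ≠ ⊤) ∧ (∀ g : ↥(Cfsg.Lie.Sz F (2 ^ (m + 1))), ∃ A ∈ 𝓐, g ∈ A)) ∧ (∀ 𝓑 : Finset (Subgroup ↥(Cfsg.Lie.Sz F (2 ^ (m + 1)))), (∀ A ∈ 𝓑, A ≠ ⊤) ∧ (∀ g : ↥(Cfsg.Lie.Sz F (2 ^ (m + 1))), ∃ A ∈ 𝓑, g ∈ A) → 𝓐.card ≤ 𝓑.card) ∧ (∀ A ∈ 𝓐, Group.IsNilpotent ↥A) := by
  rw [lieSz_eq hF]
  rintro ⟨𝓐, h⟩
  exact main (tits hF) (exists_ne_zero_one hm hF) 𝓐 h

end Cfsg.Agent.S3893
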