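import Cfsg.Statements.S0413
import Cfsg.Agent.Lib.MathRec.Aut

set_option autoImplicit false
open Cfsg

namespace Cfsg.Agent.S0413

open CfsgLib.MathRec CfsgLib.Mathieu CfsgLib.Steiner
open scoped ComplexConjugate


/-- Aut of an S(4, 7, 23) is simple of order 10200960 and 4-transitive. -/
theorem result {α : Type*} [Fintype α] [DecidableEq α] (hα : Fintype.card α = 23) {B : Set (Finset α)} (hB : Cfsg.IsSteinerSystem 4 7 B) : Cfsg.IsM23 (Cfsg.setSystemAut B) ∧ MulAction.IsMultiplyPretransitive (Cfsg.setSystemAut B) α 4 := by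
  obtain ⟨e⟩ := aut23 hα hB
  have := simple_M23
  exact ⟨⟨e.isSimpleGroup, (Nat.card_congr e.toEquiv).trans card_M23⟩,
    aut_transitive _ (exists_equiv23 hα hB)⟩

end Cfsg.Agent.S0413
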