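import Cfsg.Statements.S0900
import Cfsg.Agent.Lib.CharDeep.Gallagher

set_option autoImplicit false
open Cfsg

namespace Cfsg.Agent.S0900

open CfsgLib.CharDeep CfsgLib.Char

/-- Let N be a normal subgroup of the finite group G, χ an irreducible character of G and ϑ an irreducible character of N having nonzero inner product with the restriction of χ. Consider: (a) the restriction of χ to N is e • ϑ for a natural number e with e ^ 2 equal to the index of N; (b) χ vanishes outside N and ϑ is invariant under conjugation by G; (c) ϑ is invariant and every irreducible character of G having nonzero inner product with the function induced from ϑ equals χ. Then (a) ↔ (b) and (a) ↔ (c). -/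
theorem result {G : Type*} [Group G] [Fintype G] (N : Subgroup G) [hN : N.Normal] [Fintype N] (χ : G → ℂ) (hχ : Cfsg.IsIrrCharacter G χ) (ϑ : N → ℂ) (hϑ : Cfsg.IsIrrCharacter N ϑ) (hcon : Cfsg.classInner (fun n : N => χ n) ϑ ≠ 0) : ((∃ e : ℕ, (fun n : N => χ n) = (e : ℂ) • ϑ ∧ e ^ 2 = N.index) ↔ ((∀ g : G, g ∉ N → χ g = 0) ∧ ∀ (g : G) (n : N), ϑ ⟨g * n * g⁻¹, hN.conj_mem (n : G) n.2 g⟩ = ϑ n)) ∧ ((∃ e : ℕ, (fun n : N => χ n) = (e : ℂ) • ϑ ∧ e ^ 2 = N.index) ↔ (∀ (g : G) (n : N), ϑ ⟨g * n * g⁻¹, hN.conj_mem (n : G) n.2 g⟩ = ϑ n ∧ ∀ ψ : G → ℂ, Cfsg.IsIrrCharacter G ψ → Cfsg.classInner (Cfsg.indFun N ϑ) ψ ≠ 0 → ψ = χ)) := by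
  classical
  have hχc := isCharacter_of_isIrr hχ
  obtain ⟨e, he⟩ := exists_classInner_eq_nat (isCharacter_restrict N hχc) (isCharacter_of_isIrr hϑ)
  have hϑ1 := irr_one_ne_zero hϑ
  have hidx : (N.index : ℂ) ≠ 0 := by exact_mod_cast N.index_ne_zero_of_finite
  have hA : ∀ e' : ℕ, (fun n : N => χ n) = (e' : ℂ) • ϑ → e' = e := fun e' h => by
    rw [h, classInner_smul_left, classInner_irr_self hϑ, mul_one] at he
    exact_mod_cast he
  have he0 : (e : ℂ) ≠ 0 := he ▸ hcon
  have hinv_of : (fun n : N => χ n) = (e : ℂ) • ϑ → ∀ (g : G) (n : N), ϑ (cj N g n) = ϑ n := by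
    intro h g n
    have h1 := congrFun h (cj N g n)
    have h2 := congrFun h n
    rw [cj_coe, isClassFunction_of_isCharacter hχc, h2] at h1
    exact (mul_left_cancel₀ he0 h1).symm
  have hres : (∀ (g : G) (n : N), ϑ (cj N g n) = ϑ n) → (fun n : N => χ n) = (e : ℂ) • ϑ :=
    fun h => he ▸ clifford_invariant N hχ hϑ hcon (fun g => funext (h g))
  have hind : classInner (indFun N ϑ) χ = e := by
    rw [classInner_indFun_left N ϑ (isClassFunction_of_isCharacter hχc), ← classInner_conj_symm, he,
      map_natCast]
  have hind' : classInner χ (indFun N ϑ) = e := by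
    rw [← classInner_conj_symm, hind, map_natCast]
  -- the key equivalence for invariant `ϑ`
  have key : (∀ (g : G) (n : N), ϑ (cj N g n) = ϑ n) →
      (e ^ 2 = N.index ↔ indFun N ϑ = (e : ℂ) • χ) := by
    intro h
    have h1 := classInner_indFun_self_of_invariant N hϑ h
    constructor
    · intro h2
      rw [← sub_eq_zero, ← classInner_self_eq_zero]
      simp only [classInner_sub_left, classInner_sub_right, classInner_smul_left,
        classInner_smul_right, h1, hind, hind', classInner_irr_self hχ, map_natCast, ← h2]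
      push_cast
      ring
    · intro h2
      rw [h2, classInner_smul_left, classInner_smul_right, classInner_irr_self hχ, map_natCast] at h1
      have : ((e ^ 2 : ℕ) : ℂ) = N.index := by rw [← h1]; push_cast; ring
      exact_mod_cast this
  constructor
  · constructor
    · rintro ⟨e', h1, h2⟩
      obtain rfl := hA e' h1
      refine ⟨fun g hg => ?_, hinv_of h1⟩
      have := congrFun ((key (hinv_of h1)).1 h2) g
      rw [indFun_eq_zero_of_normal N ϑ hg] at this
      exact (mul_eq_zero.1 this.symm).resolve_left he0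
    · rintro ⟨h1, h2⟩
      refine ⟨e, hres h2, ?_⟩
      have h3 : indFun N (fun n : N => χ n) = (N.index : ℂ) • χ := by
        ext g
        by_cases hg : g ∈ N
        · exact congrFun (res_indFun_of_invariant N (φ := fun n : N => χ n)
            (fun g n => isClassFunction_of_isCharacter hχc n g)) ⟨g, hg⟩
        · simp [indFun_eq_zero_of_normal N _ hg, h1 g hg]
      have h4 := congrArg (fun f => classInner f χ) h3
      simp only [hres h2, indFun_smul, classInner_smul_left, hind, classInner_irr_self hχ] at h4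
      have : ((e ^ 2 : ℕ) : ℂ) = N.index := by rw [← mul_one (N.index : ℂ), ← h4]; push_cast; ring
      exact_mod_cast this
  · constructor
    · rintro ⟨e', h1, h2⟩
      obtain rfl := hA e' h1
      refine fun g n => ⟨hinv_of h1 g n, fun ψ hψ h3 => ?_⟩
      rw [(key (hinv_of h1)).1 h2, classInner_smul_left] at h3
      exact (irr_eq_of_classInner_ne_zero hχ hψ (right_ne_zero_of_mul h3)).symm
    · intro h
      have h2 : ∀ (g : G) (n : N), ϑ (cj N g n) = ϑ n := fun g n => (h g n).1
      refine ⟨e, hres h2, (key h2).2 ?_⟩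
      refine classFun_ext_of_inner (isClassFunction_indFun N ϑ)
        (isClassFunction_smul _ (isClassFunction_of_isCharacter hχc)) (fun ψ hψ => ?_)
      rw [classInner_smul_left]
      by_cases h3 : ψ = χ
      · rw [h3, hind, classInner_irr_self hχ, mul_one]
      · rw [classInner_irr_of_ne hχ hψ (Ne.symm h3), mul_zero]
        by_contra h4
        exact h3 ((h 1 1).2 ψ hψ h4)

end Cfsg.Agent.S0900
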