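import Mathlib
import Cfsg.Statements.S5193
import Cfsg.Agent.Lib.Fusion.Agemo

set_option autoImplicit false
open Cfsg

namespace Cfsg.Agent.S5193


/-- Glauberman's Theorem for fusion systems. Let F be a saturated fusion system over a finite p-group S, let J(S) be the subgroup generated by the abelian subgroups of S of largest order, and let N be the normalizer fusion system of J(S) in F (a fusion system over N_S(J(S)) = S). Then every p-th power of an element of Z(S) that lies in the centre of N lies in the centre of F; and if p is odd, or if the symmetric group of degree 4 is not involved in any model of the normalizer system of a fully normalized F-centric subgroup (F is S₄-free), then the centre of N equals the centre of F. -/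
theorem result {Ω : Type*} [Group Ω] {S : Subgroup Ω} [Finite S] (p : ℕ) [Fact p.Prime] (hS : IsPGroup p S) (F : Cfsg.FusionSystem S) (hF : F.IsSaturated p) (N : Cfsg.FusionSystem (Cfsg.FusionSystem.normalizerIn S (Cfsg.thompsonSubgroupAOf S))) (hN : F.IsNormalizerSystem (Cfsg.thompsonSubgroupAOf S) N) : Subgroup.closure ((fun z : Ω => z ^ p) '' ((S ⊓ Subgroup.centralizer (S : Set Ω) : Subgroup Ω) : Set Ω)) ⊓ N.center ≤ F.center ∧ (p ≠ 2 ∨ F.IsSectionFree p (Equiv.Perm (Fin 4)) → N.center = F.center) := by
  open CfsgLib.Fusion in
  have hW := fFunctor_thompsonA (p := p)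
  obtain rfl := eq_normSys (hW.le S) hN
  have hn : S ≤ FusionSystem.normalizerIn S (thompsonSubgroupAOf S) :=
    le_inf le_rfl (Subgroup.le_normalizer.trans (hW.le_normalizer hS))
  refine ⟨?_, fun h => le_antisymm (center_normSys_thompsonA_le hS hF (oddOrFree_of_isSectionFree hS hF h))
    (center_le_center_sub hS (normSys_saturated hS hF (fullyNormalized_of_le_normalizer (hW.le S)
      (hn.trans inf_le_right))) (normSys_sub F _) ((center_le F).trans hn))⟩
  rw [closure_pow_eq_agZ]
  exact hW.agZ_inf_center_le quad_thompsonA hS hF

end Cfsg.Agent.S5193
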