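import Mathlib
import Cfsg.Statements.S2180
import Cfsg.Agent.Lib.ChevInv.CentF4

set_option autoImplicit false
open Cfsg

namespace Cfsg.Agent.S2180

open CfsgLib.ChevInv CfsgLib.Chev CfsgLib.Weyl CfsgLib.Twist CfsgLib.RGD CfsgLib.ChevAut

theorem X_eq {F : Type*} [Field F] (r : ℕ) (h : r < Lie.chevG2.nroots := by decide) :
    Lie.chevG2.rootSubgroup F r = (stSys rtOKG2 F).UU {⟨r, h⟩} := (stSys_X rtOKG2 ⟨r, h⟩).symm


/-- Centralizers of involutions in the Chevalley group G of type G₂ over a finite field F of characteristic two with at least four elements (this problem's root numbering for type G₂, from the Chevalley data module: a = p₁ short with index 7, b = p₂ long with index 6, −a = 4, −b = 5, 2a + b = 9, 3a + b = 10, 3a + 2b = 11; U generated by the positive root subgroups). For an element z of G with matrix x_{3a+2b}(1): the centralizer of z in G is generated by U and X_{−a}. For an element t of G with matrix x_{2a+b}(1): the centralizer of t in G is generated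 by X_{2a+b}, X_{3a+b}, X_{3a+2b}, X_b and X_{−b}. -/
theorem result {F : Type*} [Field F] [Fintype F] [CharP F 2] (hF : 4 ≤ Fintype.card F) (z t : GL Cfsg.Lie.chevG2.Idx F) (hz : (z : Matrix Cfsg.Lie.chevG2.Idx Cfsg.Lie.chevG2.Idx F) = Cfsg.Lie.chevG2.x F 11 1) (ht : (t : Matrix Cfsg.Lie.chevG2.Idx Cfsg.Lie.chevG2.Idx F) = Cfsg.Lie.chevG2.x F 9 1) :
    Cfsg.Lie.chevG2.group F ⊓ Subgroup.centralizer {z} = Cfsg.Lie.chevG2.posUnipotent F ⊔ Cfsg.Lie.chevG2.rootSubgroup F 4 ∧
    Cfsg.Lie.chevG2.group F ⊓ Subgroup.centralizer {t} = Cfsg.Lie.chevG2.rootSubgroup F 9 ⊔ Cfsg.Lie.chevG2.rootSubgroup F 10 ⊔ Cfsg.Lie.chevG2.rootSubgroup F 11 ⊔ Cfsg.Lie.chevG2.rootSubgroup F 6 ⊔ Cfsg.Lie.chevG2.rootSubgroup F 5 := by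
  rw [show z = xU _ F 11 1 from Units.ext hz, show t = xU _ F 9 1 * 1 from Units.ext (by simp [ht]), centG2,
    centralizer_xU rtOKG2 (r := 11) (by decide) (i₀ := 1) (by decide) (by decide +kernel) (commute_last rtOKG2 rfl)
      (L := [4]) (by decide +kernel) (by decide +kernel), ← stSys_UU rtOKG2 (· ∈ [4]) (by decide),
    X_eq 4, X_eq 9, X_eq 10, X_eq 11, X_eq 6, X_eq 5]
  simp only [← StSys.UU_union]
  constructor
  · congr 2; ext k; simp [Fin.ext_iff]
  · congr 1; ext k; simp; tauto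

end Cfsg.Agent.S2180
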