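import Mathlib
import Cfsg.Statements.S1026
import Cfsg.Agent.Lib.RGD.Inst
import Cfsg.Agent.Lib.Chev.Cert

set_option autoImplicit false
open Cfsg

namespace Cfsg.Agent.S1026

open CfsgLib.Chev CfsgLib.Weyl CfsgLib.RGD

/-- Every element of `U` has a unique expression `∏_{r ∈ Φ⁺} x_r(t_r)`, the product over the positive roots in increasing index order (the coefficient family `t`, supported on the positive roots, exists and is unique); and conversely every such ordered product is the matrix of an element of `U`. -/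
theorem result {F : Type*} [Field F] (D : Cfsg.Lie.ChevalleyDatum) (hD : D ∈ [Cfsg.Lie.chevG2, Cfsg.Lie.chevB2, Cfsg.Lie.chevD4, Cfsg.Lie.chevF4, Cfsg.Lie.chevE6, Cfsg.Lie.chevE7, Cfsg.Lie.chevE8]) :
    (∀ g : GL D.Idx F, g ∈ D.posUnipotent F →
      ∃! t : ℕ → F, (∀ r, ¬ D.IsPosRoot r → t r = 0) ∧
        (g : Matrix D.Idx D.Idx F) = D.wordMat F (D.posRoots.map fun r => (r, t r))) ∧
    (∀ t : ℕ → F, ∃ g : GL D.Idx F, g ∈ D.posUnipotent F ∧
      (g : Matrix D.Idx D.Idx F) = D.wordMat F (D.posRoots.map fun r => (r, t r))) := by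
  have := good_of_mem hD; have h := rtOK_of_mem hD; have hS := stSys_nondeg h (F := F)
  obtain ⟨L, hL, hp, e⟩ := exists_posList h
  simp only [eq_wordU_iff, ← e, wordU_map_eq_xprod h, ← stSys_U h]
  refine ⟨fun g hg => ?_, fun t => ⟨_, (stSys h F).xprod_mem_UU (fun r hr => (hp r).1 hr) _, rfl⟩⟩
  obtain ⟨t, ht, rfl⟩ := (stSys h F).exists_xprod (rootSys h).closed_pos (fun _ h => h) hL
    (fun r hr => (hp r).2 hr) hg
  refine ⟨fun r => if hr : r < D.nroots then t ⟨r, hr⟩ else 0, ⟨fun r hr => ?_, by simp⟩, ?_⟩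
  · by_cases h1 : r < D.nroots
    · exact (dif_pos h1).trans (ht _ fun h2 => hr ((rootSys_pos_iff h _).1 h2))
    · exact dif_neg h1
  · rintro t' ⟨h1, h2⟩
    funext r
    by_cases hr : D.IsPosRoot r
    · rw [dif_pos hr.1]
      exact (hS.xprod_inj hL (fun r hr => (hp r).1 hr) h2 ⟨r, hr.1⟩
        ((hp _).2 ((rootSys_pos_iff h _).2 hr))).symm
    · rw [h1 r hr]
      split_ifs with h3
      · exact (ht _ fun h2 => hr ((rootSys_pos_iff h _).1 h2)).symm
      · rfl

end Cfsg.Agent.S1026
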