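import Cfsg.Statements.S2756
import Cfsg.Agent.S2793
import Cfsg.Agent.Lib.Solv.MaxCent
import Cfsg.Agent.Lib.S4Cor.Off2

set_option autoImplicit false
open Cfsg

namespace Cfsg.Agent.S2756

open Subgroup in
theorem no_inv {G : Type*} [Group G] [Finite G] (h : ∀ P : Sylow 2 G, (P : Subgroup G).Normal)
    {x g : G} (ho : Odd (orderOf x)) (hi : g * x * g⁻¹ = x⁻¹) : x = 1 := by
  obtain ⟨P⟩ : Nonempty (Sylow 2 G) := inferInstance
  have := h P
  have h1 : Odd (orderOf (g : G ⧸ (P : Subgroup G))) :=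
    (Nat.odd_iff.2 (Nat.two_dvd_ne_zero.1 P.not_dvd_index)).of_dvd_nat (orderOf_dvd_natCard _)
  have h2 : ∀ n : ℕ, g ^ (2 * n + 1) * x * (g ^ (2 * n + 1))⁻¹ = x⁻¹ := fun n => by
    induction n with
    | zero => simpa using hi
    | succ n ih =>
      calc _ = g * (g * (g ^ (2 * n + 1) * x * (g ^ (2 * n + 1))⁻¹) * g⁻¹) * g⁻¹ := by group
        _ = _ := by rw [ih, ← conj_inv, hi, inv_inv, hi]
  obtain ⟨n, hn⟩ := h1
  have h3 : g ^ (2 * n + 1) ∈ (P : Subgroup G) := by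
    rw [← QuotientGroup.eq_one_iff, QuotientGroup.mk_pow, ← hn, pow_orderOf_eq_one]
  have h4 := mul_mem (this.conj_mem _ (inv_mem h3) x) h3
  rw [show x * (g ^ (2 * n + 1))⁻¹ * x⁻¹ * g ^ (2 * n + 1) =
    x * (g ^ (2 * n + 1))⁻¹ * (g ^ (2 * n + 1) * x * (g ^ (2 * n + 1))⁻¹) * g ^ (2 * n + 1) by
      rw [h2], show x * (g ^ (2 * n + 1))⁻¹ * (g ^ (2 * n + 1) * x * (g ^ (2 * n + 1))⁻¹) *
      g ^ (2 * n + 1) = x ^ 2 by rw [pow_two]; group] at h4
  obtain ⟨k, hk⟩ := P.isPGroup' ⟨_, h4⟩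
  have h5 : x ^ 2 ^ (k + 1) = 1 := by
    rw [pow_succ', pow_mul]
    exact congrArg Subtype.val hk
  exact orderOf_eq_one_iff.1 (Nat.Coprime.eq_one_of_dvd ((Nat.coprime_two_right.2 ho).pow_right _)
    (orderOf_dvd_of_pow_eq_one h5))

open Subgroup in
theorem exists_inv {G : Type*} [Group G] [Finite G] {p : ℕ} [hp : Fact p.Prime] {H C : Subgroup G}
    (hC : Nat.card C = p)
    (h : (H ⊓ centralizer (C : Set G)).relIndex (H ⊓ normalizer (C : Set G)) = p - 1) :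
    ∃ g ∈ H, ∀ x ∈ C, g * x * g⁻¹ = x⁻¹ := by
  have := isCyclic_of_prime_card hC
  let φ := C.normalizerMonoidHom.comp (inclusion (inf_le_right : H ⊓ normalizer (C : Set G) ≤ _))
  have hk : φ.ker = (H ⊓ centralizer (C : Set G)).subgroupOf _ := by
    ext g
    rw [MonoidHom.mem_ker, mem_subgroupOf]
    exact ⟨fun e => ⟨g.2.1, fun c hc => (mul_inv_eq_iff_eq_mul.1
      (congrArg Subtype.val (MulEquiv.congr_fun e ⟨c, hc⟩))).symm⟩,
      fun e => MulEquiv.ext fun c => Subtype.ext (mul_inv_eq_iff_eq_mul.2 (e.2 c c.2).symm)⟩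
  have h1 : φ.range = ⊤ := by
    rw [← card_eq_iff_eq_top, ← index_ker, hk, IsCyclic.card_mulAut, hC, Nat.totient_prime hp.out]
    exact h
  let _ := IsCyclic.commGroup (α := C)
  obtain ⟨g, hg⟩ : MulEquiv.inv C ∈ φ.range := h1 ▸ mem_top _
  exact ⟨g, g.2.1, fun x hx => congrArg Subtype.val (MulEquiv.congr_fun hg ⟨x, hx⟩)⟩

/-- For a finite group G the following are equivalent: (a) G has a normal Sylow 2-subgroup; (b) for every odd prime q dividing the order of G and every Sylow q-subgroup T, the normalizer of Z(J(T)) has a normal Sylow 2-subgroup; (c) for every odd prime q and every Sylow q-subgroup T, no nonidentity element of T is inverted by an element of the normalizer of Z(J(T)). Here J(T) is the Thompson subgroup generated by the abelian subgroups of T of largest order. Stated as the two equivalences (a) ⇔ (b) and (a) ⇔ (c). -/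
theorem result {G : Type*} [Group G] [Finite G] : ((∀ P : Sylow 2 G, (P : Subgroup G).Normal) ↔ ∀ (q : ℕ) [Fact q.Prime], q ≠ 2 → q ∣ Nat.card G → ∀ T : Sylow q G, ∀ P : Sylow 2 ↥(Subgroup.normalizer (Cfsg.centerThompsonAOf (T : Subgroup G) : Set G)), (P : Subgroup ↥(Subgroup.normalizer (Cfsg.centerThompsonAOf (T : Subgroup G) : Set G))).Normal) ∧ ((∀ P : Sylow 2 G, (P : Subgroup G).Normal) ↔ ∀ (q : ℕ) [Fact q.Prime], q ≠ 2 → ∀ T : Sylow q G, ∀ x ∈ (T : Subgroup G), x ≠ 1 → ∀ g ∈ Subgroup.normalizer (Cfsg.centerThompsonAOf (T : Subgroup G) : Set G), g * x * g⁻¹ ≠ x⁻¹) := by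
  have hN : ∀ T : Subgroup G, T ≤ Subgroup.normalizer (centerThompsonAOf T : Set G) := fun T =>
    CfsgLib.ZJ.zj_zero T ▸ Subgroup.le_normalizer.trans (CfsgLib.ZJ.normalizer_le_normalizer_zj T)
  have hodd : ∀ (q : ℕ) [Fact q.Prime], q ≠ 2 → ∀ T : Sylow q G, ∀ x ∈ (T : Subgroup G),
      Odd (orderOf x) := fun q hq h2 T x hx => by
    obtain ⟨k, hk⟩ := T.isPGroup' ⟨x, hx⟩
    exact (hq.out.odd_of_ne_two h2).pow.of_dvd_nat
      (orderOf_dvd_of_pow_eq_one (congrArg Subtype.val hk))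
  have key : (∀ (q : ℕ) [Fact q.Prime], q ≠ 2 → ∀ T : Sylow q G, ∀ x ∈ (T : Subgroup G), x ≠ 1 →
      ∀ g ∈ Subgroup.normalizer (centerThompsonAOf (T : Subgroup G) : Set G), g * x * g⁻¹ ≠ x⁻¹) →
      ∀ P : Sylow 2 G, (P : Subgroup G).Normal := by
    intro h P
    rw [CfsgLib.Core.sylow_normal_of_not_dvd_index_pCore (fun hd => ?_) P]
    · infer_instance
    obtain ⟨t, x, h1, h2, h3⟩ := CfsgLib.Solv.exists_inverted_of_even_index_pCore hd
    obtain ⟨p, hp, hp2, z, -, ho, h4⟩ := CfsgLib.S4Cor.exists_prime_inv h1 h2 h3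
    have := Fact.mk hp
    obtain ⟨T, hT⟩ := (IsPGroup.of_card (G := Subgroup.zpowers z) (p := p) (n := 1)
      (by rw [Nat.card_zpowers, ho, pow_one])).exists_le_sylow
    have hz := hT (Subgroup.mem_zpowers z)
    by_cases hcon : CfsgLib.ZJ.FpConcl p (CfsgLib.ZJ.zj 0 (T : Subgroup G))
    · obtain ⟨C, h5, h6, h7⟩ := hcon.1.exists_prime le_rfl (CfsgLib.ZJ.elemAb_zj _).1
        (T.isPGroup'.to_le (CfsgLib.ZJ.zj_le _))
      obtain ⟨g, hg, h8⟩ := exists_inv h6 h7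
      obtain ⟨c, hc, h9⟩ := C.bot_or_exists_ne_one.resolve_left fun e =>
        hp.one_lt.ne' (by rw [← h6, e, Subgroup.card_bot])
      exact h p hp2 T c (CfsgLib.ZJ.zj_le _ (h5 hc)) h9 g (by rwa [← CfsgLib.ZJ.zj_zero]) (h8 c hc)
    · obtain ⟨g, hg, h5⟩ := CfsgLib.ZJ.ctrl_of_not_concl hp2 _ G rfl T hcon _ hT t (by
        rw [CfsgLib.Tech.cj, MonoidHom.map_zpowers, Subgroup.zpowers_le]
        exact (T : Subgroup G).inv_mem_iff.1 (by simpa [← conj_inv, h4] using hz))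
      exact h p hp2 T z hz (fun e => hp.one_lt.ne' (by rw [← ho, e, orderOf_one])) g
        (by rwa [← CfsgLib.ZJ.zj_zero]) ((h5 z (Subgroup.mem_zpowers z)).trans h4)
  refine ⟨⟨fun h q _ _ _ T P => ?_, fun h => key fun q _ h2 T x hx h1 g hg hi => h1 ?_⟩,
    ⟨fun h q _ h2 T x hx h1 g _ hi => h1 (no_inv h (hodd q h2 T x hx) hi), key⟩⟩
  · obtain ⟨Q, hQ⟩ := P.exists_comap_subtype_eq
    have := h Q
    rw [← hQ]
    infer_instance
  · have hd : q ∣ Nat.card G := by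
      obtain ⟨k, hk⟩ := T.isPGroup'.exists_card_eq
      refine Dvd.dvd.trans ?_ (Subgroup.card_subgroup_dvd_card (T : Subgroup G))
      rw [hk]
      refine dvd_pow_self _ fun e => h1 ?_
      rw [e, pow_zero, Subgroup.card_eq_one] at hk
      exact Subgroup.mem_bot.1 (hk ▸ hx)
    exact congrArg Subtype.val (no_inv (h q h2 hd T) (x := ⟨x, hN _ hx⟩) (g := ⟨g, hg⟩)
      (by rw [← Subgroup.orderOf_coe]; exact hodd q h2 T x hx) (Subtype.ext hi))

end Cfsg.Agent.S2756
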