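import Cfsg.Statements.S4190
import Cfsg.Agent.Lib.Core.Fitting
import Cfsg.Agent.Lib.Core.Commutator
import Cfsg.Agent.Lib.SolvStruct.Primitive

set_option autoImplicit false
open Cfsg

namespace Cfsg.Agent.S4190

set_option linter.unusedSectionVars false
set_option linter.style.haveILetI false

open Subgroup CfsgLib CfsgLib.Core MulAction
open scoped commutatorElement Pointwise

section Gen
variable {H : Type*} [Group H]

/-- number of conjugacy classes -/
noncomputable abbrev kk (H : Type*) [Group H] : ℕ := Nat.card (ConjClasses H)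

theorem cnt [Finite H] {Ω ι : Type*} [MulAction H Ω] [Finite Ω] (x : ι → Ω) (S L : Subgroup H)
    (O : Set (orbitRel.Quotient H Ω)) (hO : ∀ i, Quotient.mk _ (x i) ∈ O)
    (hS : ∀ i j (g : H), g • x i = x j → ∃ s ∈ S, s • x i = x j)
    (hL : ∀ i j, ∀ l ∈ L, l • x i = x j → i = j) :
    Nat.card ι ≤ Nat.card O * L.relIndex S := by
  classical
  rcases isEmpty_or_nonempty ι with hι | hι
  · simp
  let q : ι → orbitRel.Quotient H Ω := fun i => Quotient.mk _ (x i)
  have hb : ∀ i, ∃ s ∈ S, s • x (Function.invFun q (q i)) = x i := fun i => by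
    obtain ⟨g, hg⟩ : x i ∈ orbit H (x (Function.invFun q (q i))) :=
      orbitRel_apply.1 (Quotient.exact (Function.invFun_eq (f := q) ⟨i, rfl⟩).symm)
    exact hS _ _ g hg
  choose s hs hs' using hb
  rw [relIndex, index, ← Nat.card_prod]
  refine Nat.card_le_card_of_injective (fun i => ((⟨q i, hO i⟩ : O),
    (QuotientGroup.mk (⟨s i, hs i⟩⁻¹ : S) : S ⧸ L.subgroupOf S))) fun i j h => ?_
  obtain ⟨h1, h2⟩ := Prod.mk.inj h
  have h3 : s i * (s j)⁻¹ ∈ L := by
    simpa [mem_subgroupOf] using QuotientGroup.eq.1 h2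
  refine (hL j i _ h3 ?_).symm
  rw [← hs' j, ← Subtype.mk.inj h1, mul_smul, inv_smul_smul, hs']

theorem idx_le {A B : Subgroup H} {β : Type*} [Finite β] (F : A → β)
    (h : ∀ a b : A, F a = F b → (a : H)⁻¹ * b ∈ B) : B.relIndex A ≤ Nat.card β :=
  Nat.card_le_card_of_injective (fun q : A ⧸ B.subgroupOf A => F q.out) fun q q' e => by
    rw [← q.out_eq', ← q'.out_eq']
    exact QuotientGroup.eq.2 (h _ _ e)

theorem homs_fin (Q K : Type*) [Monoid Q] [Finite Q] [CommRing K] [IsDomain K] :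
    Finite (Q →* K) := (linearIndependent_monoidHom Q K).finite

theorem homs_le (Q K : Type*) [Monoid Q] [Finite Q] [CommRing K] [IsDomain K] :
    Nat.card (Q →* K) ≤ Nat.card Q := by
  have := homs_fin Q K
  have := Fintype.ofFinite (Q →* K)
  have := Fintype.ofFinite Q
  have h := (linearIndependent_monoidHom Q K).fintype_card_le_finrank
  rw [Module.finrank_fintype_fun_eq_card] at h
  rwa [Nat.card_eq_fintype_card, Nat.card_eq_fintype_card]

variable [Finite H]

theorem kk_pos : 0 < kk H := by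
  have : Nonempty (ConjClasses H) := ⟨ConjClasses.mk 1⟩
  have : Finite (ConjClasses H) := Finite.of_surjective _ ConjClasses.mk_surjective
  exact Nat.card_pos

theorem kSub (L : Subgroup H) : kk L ≤ L.index * kk H := by
  have h : Nat.card {p : L × L // Commute p.1 p.2} ≤ Nat.card {p : H × H // Commute p.1 p.2} :=
    Nat.card_le_card_of_injective (fun p => ⟨(p.1.1, p.1.2), p.2.map L.subtype⟩) fun p q e => by
      obtain ⟨e1, e2⟩ := Prod.mk.inj (Subtype.mk.inj e)
      exact Subtype.ext (Prod.ext (Subtype.ext e1) (Subtype.ext e2))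
  rw [card_comm_eq_card_conjClasses_mul_card, card_comm_eq_card_conjClasses_mul_card,
    ← L.index_mul_card] at h
  refine Nat.le_of_mul_le_mul_right (h.trans (le_of_eq ?_)) (Nat.card_pos (α := L))
  ring

theorem kAb (X : Subgroup H) : Nat.card X ≤ kk H * (centralizer (X : Set H)).index := by
  have h : Nat.card (X × centralizer (X : Set H)) ≤ Nat.card {p : H × H // Commute p.1 p.2} :=
    Nat.card_le_card_of_injective (fun p => ⟨(p.1, p.2), mem_centralizer_iff.1 p.2.2 _ p.1.2⟩)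
      fun p q e => by
        obtain ⟨e1, e2⟩ := Prod.mk.inj (Subtype.mk.inj e)
        exact Prod.ext (Subtype.ext e1) (Subtype.ext e2)
  rw [card_comm_eq_card_conjClasses_mul_card, Nat.card_prod,
    ← (centralizer (X : Set H)).index_mul_card, ← mul_assoc] at h
  exact Nat.le_of_mul_le_mul_right h Nat.card_pos

theorem kQuot {Γ : Type*} [Group Γ] (f : H →* Γ) (hf : Function.Surjective f) : kk Γ ≤ kk H := by
  have : Finite (ConjClasses H) := Finite.of_surjective _ ConjClasses.mk_surjective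
  exact Nat.card_le_card_of_surjective _ (ConjClasses.map_surjective hf)

/-- the action on linear characters -/
@[reducible] def lamAct (P : Subgroup H) [P.Normal] : MulAction H (P →* ℂ) where
  smul g l := l.comp (MulAut.conjNormal g⁻¹ : MulAut P).toMonoidHom
  one_smul l := by
    change l.comp _ = l
    rw [inv_one, map_one]; rfl
  mul_smul g h l := by
    change l.comp _ = (l.comp _).comp _
    rw [mul_inv_rev, map_mul]; rfl

theorem dual (P : Subgroup H) [hP : P.Normal] :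
    letI := lamAct P
    Nat.card (orbitRel.Quotient H (P →* ℂ)) ≤ kk H := by
  classical
  letI := lamAct P
  have := homs_fin P ℂ
  have := Fintype.ofFinite H
  have := Fintype.ofFinite (P →* ℂ)
  have := Fintype.ofFinite (orbitRel.Quotient H (P →* ℂ))
  have h1 := sum_card_fixedBy_eq_card_orbits_mul_card_group H (P →* ℂ)
  have h2 : ∀ g : H, Fintype.card (fixedBy (P →* ℂ) g) ≤ Nat.card (centralizer {g}) := by
    intro g
    let B : Subgroup P := ⨅ l : fixedBy (P →* ℂ) g, l.1.ker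
    have hB : B.Normal := normal_iInf_normal fun l => MonoidHom.normal_ker _
    have := homs_fin (P ⧸ B) ℂ
    have a1 : Nat.card (fixedBy (P →* ℂ) g) ≤ Nat.card (P ⧸ B →* ℂ) :=
      Nat.card_le_card_of_injective
        (fun l => QuotientGroup.lift B l.1 fun x hx => mem_iInf.1 hx l) fun l l' e =>
          Subtype.ext (MonoidHom.ext fun x => DFunLike.congr_fun e (QuotientGroup.mk x))
    have a2 : (centralizer {g}).relIndex P ≤ Nat.card B := by
      refine idx_le (fun x : P => (⟨x * (MulAut.conjNormal g⁻¹ x)⁻¹, mem_iInf.2 fun l => ?_⟩ : B))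
        fun a b e => ?_
      · have : l.1 (MulAut.conjNormal g⁻¹ x) = l.1 x := DFunLike.congr_fun l.2 x
        rw [MonoidHom.mem_ker, map_mul, ← this, ← map_mul, mul_inv_cancel, map_one]
      · have e1 : (a : H) * (g⁻¹ * a * g⁻¹⁻¹)⁻¹ = b * (g⁻¹ * b * g⁻¹⁻¹)⁻¹ :=
          congrArg (fun y : B => ((y : P) : H)) e
        rw [mem_centralizer_singleton_iff]
        have e2 : (a : H) * g * (a : H)⁻¹ = b * g * (b : H)⁻¹ :=
          calc _ = ((a : H) * (g⁻¹ * a * g⁻¹⁻¹)⁻¹ * g⁻¹)⁻¹ := by group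
            _ = ((b : H) * (g⁻¹ * b * g⁻¹⁻¹)⁻¹ * g⁻¹)⁻¹ := by rw [e1]
            _ = _ := by group
        calc _ = (a : H)⁻¹ * (b * g * (b : H)⁻¹) * b := by group
          _ = (a : H)⁻¹ * (a * g * (a : H)⁻¹) * b := by rw [e2]
          _ = _ := by group
    have a3 : Nat.card (P ⧸ B) ≤ Nat.card ↥((centralizer {g}).subgroupOf P) := by
      have b1 := card_eq_card_quotient_mul_card_subgroup B
      have b2 := ((centralizer {g}).subgroupOf P).index_mul_card
      refine Nat.le_of_mul_le_mul_right ?_ (Nat.card_pos (α := B))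
      rw [← b1, ← b2, mul_comm]
      exact Nat.mul_le_mul_left _ a2
    rw [← Nat.card_eq_fintype_card]
    refine a1.trans ((homs_le _ _).trans (a3.trans ?_))
    exact Nat.card_le_card_of_injective (fun x => ⟨x.1.1, x.2⟩) fun x y e =>
      Subtype.ext (Subtype.ext (Subtype.mk.inj e))
  have h3 : ∑ g : H, Nat.card (centralizer {g}) = kk H * Nat.card H := by
    rw [← card_comm_eq_card_conjClasses_mul_card, ← Nat.card_sigma]
    exact Nat.card_congr ⟨fun x => ⟨(x.1, x.2.1), (mem_centralizer_singleton_iff.1 x.2.2).symm⟩,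
      fun p => ⟨p.1.1, p.1.2, mem_centralizer_singleton_iff.2 p.2.symm.eq⟩,
      fun _ => rfl, fun _ => rfl⟩
  have h4 := Finset.sum_le_sum (s := Finset.univ) fun g _ => h2 g
  rw [h1, h3, ← Nat.card_eq_fintype_card, ← Nat.card_eq_fintype_card] at h4
  exact Nat.le_of_mul_le_mul_right h4 Nat.card_pos

theorem gen (X : Subgroup H) (E : Subgroup H) (hXE : X ≤ E) :
    ∃ T : Finset H, (∀ t ∈ T, t ∈ E) ∧ X ⊔ closure (T : Set H) = E ∧
      2 ^ T.card ≤ X.relIndex E := by
  classical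
  obtain ⟨T, ⟨h1, h2⟩, hmax⟩ := (Set.toFinite {T : Finset H | (∀ t ∈ T, t ∈ E) ∧
    2 ^ T.card ≤ X.relIndex (X ⊔ closure (T : Set H))}).exists_maximal ⟨∅, by simp, by simp⟩
  have hle : X ⊔ closure (T : Set H) ≤ E := sup_le hXE ((closure_le _).2 h1)
  have e : X ⊔ closure (T : Set H) = E := by
    by_contra hne
    obtain ⟨y, hy, hy'⟩ := SetLike.exists_of_lt (lt_of_le_of_ne hle hne)
    have hyT : y ∉ T := fun h => hy' (mem_sup_right (subset_closure h))
    have hle2 : X ⊔ closure (T : Set H) ≤ X ⊔ closure ((insert y T : Finset H) : Set H) :=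
      sup_le_sup_left (Subgroup.closure_mono (by simp)) _
    refine hyT (hmax ⟨fun t ht => ?_, ?_⟩ (Finset.subset_insert y T) (Finset.mem_insert_self y T))
    · rcases Finset.mem_insert.1 ht with rfl | ht
      exacts [hy, h1 t ht]
    · rw [Finset.card_insert_of_notMem hyT, pow_succ, ← relIndex_mul_relIndex X _ _ le_sup_left hle2]
      refine Nat.mul_le_mul h2 ?_
      have n0 : (X ⊔ closure (T : Set H)).relIndex
        (X ⊔ closure ((insert y T : Finset H) : Set H)) ≠ 0 := index_ne_zero_of_finite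
      have n1 : (X ⊔ closure (T : Set H)).relIndex
          (X ⊔ closure ((insert y T : Finset H) : Set H)) ≠ 1 := fun h =>
        hy' (relIndex_eq_one.1 h (mem_sup_right (subset_closure (by simp))))
      omega
  exact ⟨T, h1, e, e ▸ h2⟩

theorem exists_ab [Group.IsSolvable H] {X D : Subgroup H} [X.Normal] [hD : D.Normal] (h : X < D) :
    ∃ N : Subgroup H, N.Normal ∧ X < N ∧ N ≤ D ∧ ⁅N, N⁆ ≤ X := by
  obtain ⟨N, ⟨h1, h2, h3⟩, hmin⟩ := (Set.toFinite {N : Subgroup H | N.Normal ∧ X < N ∧ N ≤ D})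
    |>.exists_minimal ⟨D, hD, h, le_rfl⟩
  refine ⟨N, h1, h2, h3, ?_⟩
  by_contra hc
  have hle : X ⊔ ⁅N, N⁆ ≤ N := sup_le h2.le (commutator_le_left _ _)
  have h4 : N ≤ X ⊔ ⁅N, N⁆ := hmin ⟨inferInstance,
    lt_of_le_of_ne le_sup_left fun e => hc (e ▸ le_sup_right), hle.trans h3⟩ hle
  have h5 : N.map (QuotientGroup.mk' X) ≠ ⊥ := fun e => h2.not_ge (by
    rwa [Subgroup.map_eq_bot_iff, QuotientGroup.ker_mk'] at e)
  refine (Group.IsSolvable.commutator_lt_of_ne_bot h5).not_ge ?_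
  rw [← map_commutator]
  refine (map_mono h4).trans ?_
  rw [Subgroup.map_sup, (Subgroup.map_eq_bot_iff X).2 (QuotientGroup.ker_mk' X).ge, bot_sup_eq]

end Gen

section Num

theorem cube_le (f : ℕ) : f ^ 3 ≤ 4 * 2 ^ f := by
  rcases le_or_gt f 4 with h | h
  · interval_cases f <;> norm_num
  · induction f, h using Nat.le_induction with
    | base => norm_num
    | succ n hn ih =>
      have : (n + 1) ^ 3 ≤ 2 * n ^ 3 := by nlinarith [Nat.mul_le_mul hn hn]
      rw [pow_succ 2]; omega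

theorem sq_mono {a f : ℕ} (ha : 4 ≤ a) (h : a ≤ f) : 2 ^ a * f ^ 2 ≤ 2 ^ f * a ^ 2 := by
  induction f, h using Nat.le_induction with
  | base => rfl
  | succ n hn ih =>
    have : (n + 1) ^ 2 ≤ 2 * n ^ 2 := by nlinarith
    calc _ ≤ 2 ^ a * (2 * n ^ 2) := Nat.mul_le_mul_left _ this
      _ = 2 * (2 ^ a * n ^ 2) := by ring
      _ ≤ 2 * (2 ^ n * a ^ 2) := Nat.mul_le_mul_left _ ih
      _ = _ := by ring

theorem g_ge {p : ℕ} (hp : 53 ≤ p) : 17 ≤ Nat.log 2 (p ^ 3) :=
  Nat.le_log_of_pow_le (by norm_num) (le_trans (by norm_num) (Nat.pow_le_pow_left hp 3))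

theorem num1 {p Q f κ : ℕ} (hp : 53 ≤ p) (hQ : p ^ 3 < Q) (hf : 2 ^ f ≤ Q) (h : Q ≤ κ ^ 3 * f ^ 2) :
    p ≤ κ * Nat.log 2 (p ^ 3) := by
  have hg := g_ge hp
  have hg2 : p ^ 3 < 2 ^ (Nat.log 2 (p ^ 3) + 1) := Nat.lt_pow_succ_log_self (by norm_num) _
  set g := Nat.log 2 (p ^ 3)
  have h1 : (g + 1) ^ 2 ≤ g ^ 3 := by nlinarith [Nat.mul_le_mul hg hg]
  have h2 : p ^ 3 ≤ κ ^ 3 * (g + 1) ^ 2 := by
    rcases le_or_gt f (g + 1) with h3 | h3
    · exact hQ.le.trans (h.trans (Nat.mul_le_mul_left _ (Nat.pow_le_pow_left h3 2)))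
    · refine hg2.le.trans (Nat.le_of_mul_le_mul_right ?_ (pow_pos (by omega : 0 < f) 2))
      calc _ ≤ 2 ^ f * (g + 1) ^ 2 := sq_mono (by omega) h3.le
        _ ≤ κ ^ 3 * f ^ 2 * (g + 1) ^ 2 := Nat.mul_le_mul_right _ (hf.trans h)
        _ = _ := by ring
  refine (Nat.pow_le_pow_iff_left (by norm_num : 3 ≠ 0)).1 ?_
  rw [mul_pow]
  exact h2.trans (Nat.mul_le_mul_left _ h1)

theorem pow_bound {n d g : ℕ} (hn : n ≤ d ^ 2) (hg : 2 ^ g ≤ n) :
    ∃ L, 2 ^ L ≤ d ^ 2 ∧ n ^ (g + 1) ≤ 2 ^ ((L + 1) ^ 2) := by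
  have h0 : d ^ 2 ≠ 0 := by have := pow_pos (by norm_num : 0 < 2) g; omega
  refine ⟨Nat.log 2 (d ^ 2), Nat.pow_log_le_self 2 h0, ?_⟩
  have h1 : g ≤ Nat.log 2 (d ^ 2) := Nat.le_log_of_pow_le (by norm_num) (hg.trans hn)
  have h2 : n ≤ 2 ^ (Nat.log 2 (d ^ 2) + 1) :=
    hn.trans (Nat.lt_pow_succ_log_self (by norm_num) _).le
  calc _ ≤ (2 ^ (Nat.log 2 (d ^ 2) + 1)) ^ (g + 1) := Nat.pow_le_pow_left h2 _
    _ ≤ (2 ^ (Nat.log 2 (d ^ 2) + 1)) ^ (Nat.log 2 (d ^ 2) + 1) :=
      Nat.pow_le_pow_right (pow_pos (by norm_num) _) (by omega)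
    _ = _ := by rw [← pow_mul, ← pow_two]

theorem aux_sq {c k a L : ℕ} (ha : 15 ≤ c) (h0 : ((a + 1) ^ 2 + c) ^ 2 ≤ k * 2 ^ a) (h : a ≤ L) :
    ((L + 1) ^ 2 + c) ^ 2 ≤ k * 2 ^ L := by
  induction L, h using Nat.le_induction with
  | base => exact h0
  | succ n hn ih =>
    have h1 : 5 * ((n + 1 + 1) ^ 2 + c) ≤ 7 * ((n + 1) ^ 2 + c) := by
      nlinarith [sq_nonneg ((n : ℤ) - 2)]
    have h3 := Nat.pow_le_pow_left h1 2
    rw [mul_pow, mul_pow] at h3
    rw [pow_succ 2 n, ← mul_assoc]; omega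

theorem num2 {p Q f κ n d g : ℕ} (hp : 53 ≤ p) (hQ : p ^ 3 < Q) (hf : 2 ^ f ≤ Q) (h1 : 2 ≤ n)
    (hn : n ≤ d ^ 2) (hg : 2 ^ g ≤ n) (h : Q ^ d ≤ κ * f * n ^ (g + 1) * Q) :
    p ≤ κ * Nat.log 2 (p ^ 3) := by
  have hQ2 : 2 ^ 17 ≤ Q := le_trans (by norm_num) ((Nat.pow_le_pow_left hp 3).trans hQ.le)
  obtain ⟨e, rfl⟩ : ∃ e, d = e + 2 := ⟨d - 2, by
    have : 2 ≤ d := by by_contra! hd; interval_cases d <;> omega
    omega⟩
  have h2 : n ^ (g + 1) ≤ 64 * Q ^ e := by
    rcases Nat.eq_zero_or_pos e with rfl | he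
    · have : g ≤ 2 := by
        by_contra! hg'
        have := Nat.pow_le_pow_right (by norm_num : 0 < 2) hg'
        omega
      calc _ ≤ 4 ^ (g + 1) := Nat.pow_le_pow_left hn _
        _ ≤ 4 ^ 3 := Nat.pow_le_pow_right (by norm_num) (by omega)
        _ = _ := by norm_num
    · obtain ⟨L, hL, hL'⟩ := pow_bound hn hg
      have h3 : (L + 1) ^ 2 ≤ 6 + 17 * e := by
        rcases le_or_gt L 3 with h4 | h4
        · nlinarith
        · have := aux_sq (c := 28) (k := 289) (a := 4) (by norm_num) (by norm_num) h4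
          have h5 : ((L + 1) ^ 2 + 28) ^ 2 ≤ (17 * (e + 2)) ^ 2 := by rw [mul_pow]; omega
          have := (Nat.pow_le_pow_iff_left (by norm_num : 2 ≠ 0)).1 h5
          omega
      calc _ ≤ 2 ^ (6 + 17 * e) := hL'.trans (Nat.pow_le_pow_right (by norm_num) h3)
        _ = 64 * (2 ^ 17) ^ e := by rw [pow_add, pow_mul]; norm_num
        _ ≤ _ := Nat.mul_le_mul_left _ (Nat.pow_le_pow_left hQ2 _)
  have h3 : Q ≤ 64 * κ * f := by
    refine Nat.le_of_mul_le_mul_right ?_ (pow_pos (by omega : 0 < Q) (e + 1))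
    calc _ = Q ^ (e + 2) := by ring
      _ ≤ κ * f * (64 * Q ^ e) * Q := h.trans (Nat.mul_le_mul_right _ (Nat.mul_le_mul_left _ h2))
      _ = _ := by ring
  have h4 : 64 * p * f ≤ 17 * Q := by
    refine (Nat.pow_le_pow_iff_left (by norm_num : 3 ≠ 0)).1 ?_
    calc _ = 64 ^ 3 * p ^ 3 * f ^ 3 := by ring
      _ ≤ 64 ^ 3 * Q * (4 * Q) := Nat.mul_le_mul (Nat.mul_le_mul_left _ hQ.le)
        ((cube_le f).trans (Nat.mul_le_mul_left _ hf))
      _ = (64 ^ 3 * 4) * Q ^ 2 := by ring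
      _ ≤ (17 ^ 3 * Q) * Q ^ 2 := Nat.mul_le_mul_right _ (by omega)
      _ = _ := by ring
  have hf0 : 0 < f := Nat.pos_of_ne_zero (by rintro rfl; omega)
  have h5 : p ≤ κ * 17 := by
    refine Nat.le_of_mul_le_mul_right (c := 64 * f) ?_ (by omega)
    calc _ = 64 * p * f := by ring
      _ ≤ 17 * (64 * κ * f) := h4.trans (Nat.mul_le_mul_left _ h3)
      _ = _ := by ring
  exact h5.trans (Nat.mul_le_mul_left _ (g_ge hp))

theorem num3 {p Q f κ n d g : ℕ} (hp : 53 ≤ p) (hQ : p < Q) (hf : 2 ^ f ≤ Q) (h1 : p ^ 2 ≤ n)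
    (hn : n ≤ d ^ 2) (hg : 2 ^ g ≤ n) (h : Q ^ d ≤ κ * f * n ^ (g + 1) * Q) : p ≤ κ := by
  have hd : p ≤ d := (Nat.pow_le_pow_iff_left (by norm_num : 2 ≠ 0)).1 (h1.trans hn)
  obtain ⟨e, rfl⟩ : ∃ e, d = e + 3 := ⟨d - 3, by omega⟩
  obtain ⟨L, hL, hL'⟩ := pow_bound hn hg
  have h3 : (L + 1) ^ 2 ≤ 5 * e := by
    rcases le_or_gt L 13 with h4 | h4
    · nlinarith
    · have := aux_sq (c := 15) (k := 25) (a := 14) (by norm_num) (by norm_num) h4
      have h5 : ((L + 1) ^ 2 + 15) ^ 2 ≤ (5 * (e + 3)) ^ 2 := by rw [mul_pow]; omega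
      have := (Nat.pow_le_pow_iff_left (by norm_num : 2 ≠ 0)).1 h5
      omega
  have h2 : n ^ (g + 1) ≤ Q ^ e :=
    calc _ ≤ 2 ^ (5 * e) := hL'.trans (Nat.pow_le_pow_right (by norm_num) h3)
      _ = 32 ^ e := by rw [pow_mul]; norm_num
      _ ≤ _ := Nat.pow_le_pow_left (by omega) _
  have hfQ : f ≤ Q := (Nat.lt_two_pow_self).le.trans hf
  refine hQ.le.trans (Nat.le_of_mul_le_mul_right ?_ (pow_pos (by omega : 0 < Q) (e + 2)))
  calc _ = Q ^ (e + 3) := by ring
    _ ≤ κ * Q * Q ^ e * Q := h.trans (Nat.mul_le_mul_right _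
      (Nat.mul_le_mul (Nat.mul_le_mul_left _ hfQ) h2))
    _ = _ := by ring

end Num

section Prim
variable {Γ W : Type*} [Group Γ] [Finite Γ] [AddCommGroup W] [Finite W]
  (φ : Γ →* AddMonoid.End W)

/-- primitivity, in ring form -/
def SR : Prop := ∀ K : Set (AddMonoid.End W), (∀ a ∈ K, ∀ b ∈ K, a * b = b * a) →
  (∀ g, ∀ k ∈ K, φ g * k * φ g⁻¹ ∈ K) → ∀ k ∈ K, k = 0 ∨ Function.Injective k

/-- conjugation as a ring hom -/
def cjR (g : Γ) : AddMonoid.End W →+* AddMonoid.End W where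
  toFun r := φ g * r * φ g⁻¹
  map_one' := by rw [mul_one, ← map_mul, mul_inv_cancel, map_one]
  map_mul' r s := by
    have : φ g⁻¹ * φ g = 1 := by rw [← map_mul, inv_mul_cancel, map_one]
    calc _ = φ g * r * (φ g⁻¹ * φ g) * s * φ g⁻¹ := by rw [this, mul_one, mul_assoc (φ g) r]
      _ = _ := by simp only [mul_assoc]
  map_zero' := by simp
  map_add' r s := by rw [mul_add, add_mul]

theorem cjR_phi (g x : Γ) : cjR φ g (φ x) = φ (g * x * g⁻¹) := by rw [map_mul, map_mul]; rfl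

/-- the ring generated by a subgroup -/
def KK (X : Subgroup Γ) : Subring (AddMonoid.End W) := Subring.closure (φ '' X)

theorem mem_KK {X : Subgroup Γ} {x : Γ} (hx : x ∈ X) : φ x ∈ KK φ X :=
  Subring.subset_closure ⟨x, hx, rfl⟩

theorem KK_comm {X : Subgroup Γ} {c : Γ} (hc : c ∈ centralizer (X : Set Γ)) {k : AddMonoid.End W}
    (hk : k ∈ KK φ X) : k * φ c = φ c * k := by
  have : KK φ X ≤ Subring.centralizer {φ c} := (Subring.closure_le).2 (by
    rintro _ ⟨x, hx, rfl⟩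
    rintro _ rfl
    rw [← map_mul, ← map_mul, mem_centralizer_iff.1 hc x hx])
  exact (this hk _ rfl).symm

theorem KK_cj {X : Subgroup Γ} [hX : X.Normal] (g : Γ) {k : AddMonoid.End W} (hk : k ∈ KK φ X) :
    cjR φ g k ∈ KK φ X := by
  have : KK φ X ≤ (KK φ X).comap (cjR φ g) := (Subring.closure_le).2 (by
    rintro _ ⟨x, hx, rfl⟩
    change cjR φ g (φ x) ∈ KK φ X
    rw [cjR_phi]
    exact mem_KK φ (hX.conj_mem x hx g))
  exact this hk

theorem indep {X E : Subgroup Γ} (hXE : X ≤ E) (hEC : E ≤ centralizer (X : Set Γ))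
    (hEE : ⁅E, E⁆ ≤ X) (hZ : ∀ y ∈ E, y ∈ centralizer (E : Set Γ) → y ∈ X)
    (hφ : Function.Injective φ)
    (hd : ∀ a ∈ KK φ X, ∀ b ∈ KK φ X, a * b = 0 → a = 0 ∨ b = 0)
    (s : Finset (E ⧸ X.subgroupOf E)) : ∀ c : E ⧸ X.subgroupOf E → AddMonoid.End W,
      (∀ q, c q ∈ KK φ X) → ∑ q ∈ s, c q * φ (q.out : E) = 0 → ∀ q ∈ s, c q = 0 := by
  classical
  induction s using Finset.induction_on with
  | empty => simp
  | insert q₀ s hq₀ ih =>
    intro c hc h
    have hm : ∀ (z : E) (y : E), ⁅(z : Γ), (y : Γ)⁆ ∈ X := fun z y =>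
      hEE (commutator_mem_commutator z.2 y.2)
    have h1 : ∀ q ∈ s, c q = 0 := by
      intro q hq
      have hne : ((q₀.out : E) : Γ)⁻¹ * (q.out : E) ∉ X := fun hx => hq₀ (by
        have : q₀ = q := by
          rw [← q₀.out_eq', ← q.out_eq']
          exact QuotientGroup.eq.2 hx
        exact this ▸ hq)
      obtain ⟨z, hz⟩ : ∃ z : E, ⁅(z : Γ), ((q.out : E) : Γ)⁆ ≠ ⁅(z : Γ), ((q₀.out : E) : Γ)⁆ := by
        by_contra! hcon
        refine hne (hZ _ (mul_mem (inv_mem (q₀.out : E).2) (q.out : E).2)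
          (mem_centralizer_iff.2 fun z hz => ?_))
        have := hcon ⟨z, hz⟩
        simp only [commutatorElement_def] at this
        calc z * (((q₀.out : E) : Γ)⁻¹ * (q.out : E)) =
            ((q₀.out : E) : Γ)⁻¹ * (z * (q₀.out : E) * z⁻¹ * ((q₀.out : E) : Γ)⁻¹)⁻¹ * z *
              (q.out : E) := by group
          _ = ((q₀.out : E) : Γ)⁻¹ * (z * (q.out : E) * z⁻¹ * ((q.out : E) : Γ)⁻¹)⁻¹ * z *
              (q.out : E) := by rw [this]
          _ = _ := by group
      have e1 : ∀ q' : E ⧸ X.subgroupOf E, cjR φ z (c q' * φ (q'.out : E)) =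
          c q' * φ ⁅(z : Γ), ((q'.out : E) : Γ)⁆ * φ (q'.out : E) := fun q' => by
        rw [map_mul, cjR_phi, mul_assoc (c q'), ← map_mul φ ⁅(z : Γ), _⁆]
        congr 1
        · change φ z * c q' * φ (z : Γ)⁻¹ = c q'
          rw [← KK_comm φ (hEC z.2) (hc q'), mul_assoc, ← map_mul, mul_inv_cancel, map_one, mul_one]
        · rw [commutatorElement_def]; group
      have h2 : ∑ q' ∈ insert q₀ s, (c q' * (φ ⁅(z : Γ), ((q'.out : E) : Γ)⁆ -
          φ ⁅(z : Γ), ((q₀.out : E) : Γ)⁆)) * φ (q'.out : E) = 0 := by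
        have a1 := congrArg (cjR φ z) h
        rw [map_sum, map_zero] at a1
        have a2 := congrArg (φ ⁅(z : Γ), ((q₀.out : E) : Γ)⁆ * ·) h
        simp only [Finset.mul_sum, mul_zero] at a2
        rw [← sub_self (0 : AddMonoid.End W)]
        nth_rw 1 [← a1]
        rw [← a2, ← Finset.sum_sub_distrib]
        refine Finset.sum_congr rfl fun q' _ => ?_
        rw [e1, mul_sub, sub_mul, KK_comm φ (hEC (hXE (hm z q₀.out))) (hc q')]
        simp only [mul_assoc]
      rw [Finset.sum_insert hq₀, sub_self, mul_zero, zero_mul, zero_add] at h2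
      have h3 := ih _ (fun q' => mul_mem (hc q') (sub_mem (mem_KK φ (hm _ _)) (mem_KK φ (hm _ _))))
        h2 q hq
      exact (hd _ (hc q) _ (sub_mem (mem_KK φ (hm _ _)) (mem_KK φ (hm _ _))) h3).resolve_right
        fun h0 => hz (hφ (sub_eq_zero.1 h0))
    rw [Finset.sum_insert hq₀, Finset.sum_eq_zero fun q hq => by rw [h1 q hq, zero_mul],
      add_zero] at h
    intro q hq
    rcases Finset.mem_insert.1 hq with rfl | hq
    · rw [← mul_one (c q), ← map_one φ, ← mul_inv_cancel ((q.out : E) : Γ), map_mul, ← mul_assoc, h,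
        zero_mul]
    · exact h1 q hq

variable {φ}

theorem field_facts [Nontrivial W] (hφ : Function.Injective φ) (hSR : SR φ) {X : Subgroup Γ}
    [hXn : X.Normal] (hX : X ≤ centralizer (X : Set Γ)) :
    ∃ Q d : ℕ, Nat.card W = Q ^ d ∧ IsCyclic X ∧ Nat.card X ∣ Q - 1 ∧ 1 < Q ∧
      2 ^ (centralizer (X : Set Γ)).index ≤ Q ∧
      (∀ x ∈ X, ∀ w, φ x w = w → x = 1 ∨ w = 0) ∧
      ∀ E : Subgroup Γ, E.Normal → X ≤ E → E ≤ centralizer (X : Set Γ) → ⁅E, E⁆ ≤ X →
        ((∀ y ∈ E, y ∈ centralizer (E : Set Γ) → y ∈ X) → X.relIndex E ≤ d ^ 2) ∧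
        (centralizer (E : Set Γ)).relIndex
          (centralizer (X : Set Γ) ⊓ commutatorStabilizer E X) ≤ X.relIndex E := by
  classical
  have : Finite (AddMonoid.End W) := DFunLike.finite (W →+ W)
  have hcm : ∀ a ∈ KK φ X, ∀ b ∈ KK φ X, a * b = b * a := fun a ha b hb => by
    have : KK φ X ≤ Subring.centralizer {a} := (Subring.closure_le).2 (by
      rintro _ ⟨x, hx, rfl⟩ _ rfl
      exact KK_comm φ (hX hx) ha)
    exact this hb _ rfl
  have hinj := hSR (KK φ X) hcm fun g k hk => KK_cj φ g hk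
  have hd : ∀ a ∈ KK φ X, ∀ b ∈ KK φ X, a * b = 0 → a = 0 ∨ b = 0 := fun a ha b _ h =>
    (hinj a ha).imp_right fun hi => AddMonoidHom.ext fun w => hi
      ((DFunLike.congr_fun h w).trans (map_zero a).symm)
  letI : CommRing (KK φ X) := { (inferInstance : Ring (KK φ X)) with
    mul_comm := fun a b => Subtype.ext (hcm a a.2 b b.2) }
  have : Nontrivial (AddMonoid.End W) := by
    obtain ⟨w, hw⟩ := exists_ne (0 : W)
    exact ⟨1, 0, fun h => hw (DFunLike.congr_fun h w)⟩
  have : NoZeroDivisors (KK φ X) := ⟨fun {a b} h =>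
    (hd a a.2 b b.2 (congrArg Subtype.val h)).imp Subtype.ext Subtype.ext⟩
  have : IsDomain (KK φ X) := NoZeroDivisors.to_isDomain _
  letI : Field (KK φ X) := (Finite.isField_of_domain (KK φ X)).toField
  letI : Module (KK φ X) W := Module.compHom W (KK φ X).subtype
  have hsm : ∀ (k : KK φ X) (w : W), k • w = (k : AddMonoid.End W) w := fun _ _ => rfl
  let ψ : X →* KK φ X :=
    { toFun := fun x => ⟨φ x, mem_KK φ x.2⟩
      map_one' := Subtype.ext (map_one φ)
      map_mul' := fun x y => Subtype.ext (map_mul φ _ _) }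
  have hψ : Function.Injective ψ := fun x y h => Subtype.ext (hφ (Subtype.mk.inj h))
  have hcyc := isCyclic_of_injective_ringHom ψ hψ
  refine ⟨Nat.card (KK φ X), Module.finrank (KK φ X) W, Module.natCard_eq_pow_finrank, hcyc, ?_,
    Finite.one_lt_card, ?_, fun x hx w hw => ?_, fun E hEn hXE hEC hEE => ⟨fun hZ => ?_, ?_⟩⟩
  · rw [← Nat.card_units]
    exact card_dvd_of_injective ψ.toHomUnits fun x y h => hψ (congrArg Units.val h)
  · obtain ⟨x, hx⟩ := hcyc.exists_generator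
    set f := (centralizer (X : Set Γ)).index with hf
    have := Fintype.ofFinite (Γ ⧸ centralizer (X : Set Γ))
    let r : Γ ⧸ centralizer (X : Set Γ) → KK φ X := fun q =>
      ψ ⟨q.out * x * q.out⁻¹, hXn.conj_mem _ x.2 _⟩
    have hr : Function.Injective r := fun q q' h => by
      have e : q.out * x * q.out⁻¹ = q'.out * x * q'.out⁻¹ := Subtype.mk.inj (hψ h)
      rw [← q.out_eq', ← q'.out_eq']
      refine QuotientGroup.eq.2 (mem_centralizer_iff.2 fun y hy => ?_)
      obtain ⟨n, hn⟩ := hx ⟨y, hy⟩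
      have e2 : Commute (x : Γ) (q.out⁻¹ * q'.out) :=
        calc _ = q.out⁻¹ * (q.out * x * q.out⁻¹) * q'.out := by group
          _ = q.out⁻¹ * (q'.out * x * q'.out⁻¹) * q'.out := by rw [e]
          _ = _ := by group
      rw [show y = (x : Γ) ^ n from (congrArg Subtype.val hn).symm]
      exact (e2.zpow_left n).eq
    let ε : Bool → KK φ X := fun b => if b then 1 else 0
    have hε : ∀ g b, cjR φ g (ε b) = ε b := fun g b => by cases b <;> simp [ε]
    have : 2 ^ f = Nat.card (Fin f → Bool) := by simp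
    rw [this]
    refine Nat.card_le_card_of_injective (fun s => ∑ i : Fin f, ε (s i) * ψ x ^ (i : ℕ))
      fun s s' h => ?_
    let D : Polynomial (KK φ X) := ∑ i : Fin f, Polynomial.monomial i (ε (s i) - ε (s' i))
    have hD : D = 0 := by
      rcases Nat.eq_zero_or_pos f with h0 | h0
      · exact absurd h0 index_ne_zero_of_finite
      refine Polynomial.eq_zero_of_natDegree_lt_card_of_eval_eq_zero D hr (fun q => ?_) ?_
      · have e := congrArg (fun k : KK φ X => cjR φ q.out k) h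
        apply Subtype.ext
        simp only [D, Polynomial.eval_finsetSum, Polynomial.eval_monomial, sub_mul,
          Finset.sum_sub_distrib]
        simp only [AddSubmonoidClass.coe_finsetSum, MulMemClass.coe_mul, SubmonoidClass.coe_pow,
          map_sum, map_mul, map_pow, hε] at e
        simp only [AddSubgroupClass.coe_sub, AddSubmonoidClass.coe_finsetSum, MulMemClass.coe_mul,
          SubmonoidClass.coe_pow, ZeroMemClass.coe_zero, sub_eq_zero]
        have e3 : ((r q : KK φ X) : AddMonoid.End W) = cjR φ q.out (ψ x) := (cjR_phi φ _ _).symm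
        rw [e3]
        exact e
      · rw [← Nat.card_eq_fintype_card, ← index_eq_card, ← hf]
        refine (Polynomial.natDegree_sum_le_of_forall_le _ _ (n := f - 1) fun i _ =>
          (Polynomial.natDegree_monomial_le _).trans ?_).trans_lt (by omega)
        have := i.2
        omega
    funext i
    have h1 : D.coeff i = ε (s i) - ε (s' i) := by
      simp only [D, Polynomial.finsetSum_coeff, Polynomial.coeff_monomial, Fin.val_inj]
      rw [Finset.sum_ite_eq' Finset.univ i]; simp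
    rw [hD, Polynomial.coeff_zero, eq_comm, sub_eq_zero] at h1
    revert h1
    cases s i <;> cases s' i <;> simp [ε]
  · rcases hinj (φ x - 1) (sub_mem (mem_KK φ hx) (one_mem _)) with h | h
    · exact Or.inl (hφ (by rw [map_one]; exact sub_eq_zero.1 h))
    · refine Or.inr (h ?_)
      rw [map_zero]
      exact sub_eq_zero.2 hw
  · let v : E ⧸ X.subgroupOf E → W →ₗ[KK φ X] W := fun q =>
      { toFun := φ (q.out : E)
        map_add' := map_add _
        map_smul' := fun k w => (DFunLike.congr_fun (KK_comm φ (hEC (q.out : E).2) k.2) w).symm }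
    have hv : LinearIndependent (KK φ X) v := linearIndependent_iff'.2 fun s c h q hq => by
      refine Subtype.ext (indep φ hXE hEC hEE hZ hφ hd s (fun q => c q) (fun q => (c q).2)
        (AddMonoidHom.ext fun w => ?_) q hq)
      have := LinearMap.congr_fun h w
      rw [LinearMap.sum_apply] at this
      exact (AddMonoidHom.finsetSum_apply _ _ _).trans this
    have := Fintype.ofFinite (E ⧸ X.subgroupOf E)
    have h1 := hv.fintype_card_le_finrank
    rwa [Module.finrank_linearMap, ← Nat.card_eq_fintype_card, ← pow_two] at h1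
  · have := homs_fin (E ⧸ X.subgroupOf E) (KK φ X)
    let χ : ↥(centralizer (X : Set Γ) ⊓ commutatorStabilizer E X) → E →* KK φ X := fun c =>
      { toFun := fun y => ψ ⟨⁅(c : Γ), (y : Γ)⁆, c.2.2.2 _ y.2⟩
        map_one' := by rw [← map_one ψ]; congr 1; simp
        map_mul' := fun y z => by
          rw [← map_mul]; congr 1; apply Subtype.ext
          have := mem_centralizer_iff.1 (hEC y.2) _ (c.2.2.2 _ z.2)
          calc ⁅(c : Γ), (y : Γ) * z⁆ = ⁅(c : Γ), (y : Γ)⁆ * (y * ⁅(c : Γ), (z : Γ)⁆) * (y : Γ)⁻¹ := by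
                simp only [commutatorElement_def]; group
            _ = _ := by rw [← this]; simp [mul_assoc] }
    refine le_trans (idx_le (fun c => QuotientGroup.lift (X.subgroupOf E) (χ c) fun y hy => ?_)
      fun a b h => mem_centralizer_iff.2 fun y hy => ?_) (homs_le _ _)
    · change ψ _ = 1
      rw [← map_one ψ]; congr 1; apply Subtype.ext
      exact commutatorElement_eq_one_iff_mul_comm.2 (mem_centralizer_iff.1 c.2.1 _ hy).symm
    · have e0 : χ a ⟨y, hy⟩ = χ b ⟨y, hy⟩ := DFunLike.congr_fun h (QuotientGroup.mk (⟨y, hy⟩ : E))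
      have e : ⁅(a : Γ), y⁆ = ⁅(b : Γ), y⁆ := Subtype.mk.inj (hψ e0)
      simp only [commutatorElement_def] at e
      calc y * ((a : Γ)⁻¹ * b) = (a : Γ)⁻¹ * (a * y * (a : Γ)⁻¹ * y⁻¹) * y * b := by group
        _ = (a : Γ)⁻¹ * (b * y * (b : Γ)⁻¹ * y⁻¹) * y * b := by rw [e]
        _ = _ := by group

end Prim

section Prim2
variable {Γ W : Type*} [Group Γ] [Finite Γ] [AddCommGroup W] [Finite W]
  {φ : Γ →* AddMonoid.End W}

theorem ple {p k j : ℕ} (hp : p.Prime) {c : Γ} (hc : c ≠ 1) (h1 : c ^ p ^ k = 1) (h2 : c ^ j = 1)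
    (hj : 0 < j) : p ≤ j := by
  by_contra! h
  have := Nat.dvd_gcd (orderOf_dvd_of_pow_eq_one h1) (orderOf_dvd_of_pow_eq_one h2)
  rw [((Nat.coprime_of_lt_prime hj.ne' h hp).pow_left k), Nat.dvd_one, orderOf_eq_one_iff] at this
  exact hc this

theorem size [Group.IsSolvable Γ] {X E₀ : Subgroup Γ} [hX : X.Normal] (hE₀ : E₀.Normal)
    (hmax : ∀ Y : Subgroup Γ, Y.Normal → Y ≤ centralizer (Y : Set Γ) → X ≤ Y → Y ≤ X)
    (h1 : X ≤ E₀) (h2 : E₀ ≤ centralizer (X : Set Γ)) (h3 : ⁅E₀, E₀⁆ ≤ X) {d : ℕ}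
    (hF : ∀ E : Subgroup Γ, E.Normal → X ≤ E → E ≤ centralizer (X : Set Γ) → ⁅E, E⁆ ≤ X →
        ((∀ y ∈ E, y ∈ centralizer (E : Set Γ) → y ∈ X) → X.relIndex E ≤ d ^ 2) ∧
        (centralizer (E : Set Γ)).relIndex
          (centralizer (X : Set Γ) ⊓ commutatorStabilizer E X) ≤ X.relIndex E) :
    ∃ (E : Subgroup Γ) (g : ℕ), E₀ ≤ E ∧ E ≤ centralizer (X : Set Γ) ∧ ⁅E, E⁆ ≤ X ∧
      (∀ y ∈ E, y ∈ centralizer (E : Set Γ) → y ∈ X) ∧ X.relIndex E ≤ d ^ 2 ∧
      2 ^ g ≤ X.relIndex E ∧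
      Nat.card Γ ≤ (centralizer (X : Set Γ)).index * X.relIndex E ^ (g + 1) * Nat.card X := by
  classical
  obtain ⟨E, ⟨a1, a2, a3, a4⟩, hm⟩ := (Set.toFinite {E : Subgroup Γ | E.Normal ∧ E₀ ≤ E ∧
    E ≤ centralizer (X : Set Γ) ∧ ⁅E, E⁆ ≤ X}).exists_maximal ⟨E₀, hE₀, le_rfl, h2, h3⟩
  have hXE := h1.trans a2
  have hZ : E ⊓ centralizer (E : Set Γ) ≤ X := hmax _ inferInstance
    (fun y hy => mem_centralizer_iff.2 fun z hz => mem_centralizer_iff.1 hy.2 z hz.1)
    (le_inf hXE (le_centralizer_iff.1 a3))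
  have hD : centralizer (X : Set Γ) ⊓ centralizer (E : Set Γ) ≤ X := by
    by_contra hc
    obtain ⟨N, b1, b2, b3, b4⟩ := exists_ab (X := X)
      (D := centralizer (X : Set Γ) ⊓ centralizer (E : Set Γ))
      (lt_of_le_of_ne (le_inf (hXE.trans a3) (le_centralizer_iff.1 a3)) fun e => hc e.ge)
    have b5 : ⁅N, E⁆ = ⊥ := commutator_eq_bot_iff_le_centralizer.2 (b3.trans inf_le_right)
    have : E ⊔ N ≤ E := hm ⟨inferInstance, a2.trans le_sup_left, sup_le a3 (b3.trans inf_le_left), by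
      rw [commutator_sup_left, commutator_sup_right, commutator_sup_right, b5, commutator_comm E N, b5]
      simp [a4, b4]⟩ le_sup_left
    exact b2.not_ge ((le_inf (le_sup_right.trans this) (b3.trans inf_le_right)).trans hZ)
  obtain ⟨c1, c2⟩ := hF E a1 hXE a3 a4
  obtain ⟨T, t1, t2, t3⟩ := gen X E hXE
  refine ⟨E, T.card, a2, a3, a4, fun y hy hy' => hZ ⟨hy, hy'⟩, c1 fun y hy hy' => hZ ⟨hy, hy'⟩, t3, ?_⟩
  set C := centralizer (X : Set Γ)
  set R := C ⊓ commutatorStabilizer E X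
  have d1 : R.relIndex C ≤ X.relIndex E ^ T.card := by
    rw [show R.relIndex C = (commutatorStabilizer E X).relIndex C by
      rw [← inf_relIndex_right (commutatorStabilizer E X), inf_comm]]
    refine (idx_le (fun (c : C) (t : T) => (QuotientGroup.mk (⟨c * t * (c : Γ)⁻¹,
      a1.conj_mem _ (t1 t t.2) _⟩ : E) : E ⧸ X.subgroupOf E)) fun a b h => ?_).trans
      (by rw [Nat.card_fun]; simp [relIndex, index])
    refine ⟨by rw [normalizer_eq_top]; trivial, fun y hy => ?_⟩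
    have : E ≤ (centralizer {(QuotientGroup.mk' X) ((a : Γ)⁻¹ * b)}).comap (QuotientGroup.mk' X) := by
      rw [← t2]
      refine sup_le (fun x hx => ?_) ((closure_le _).2 fun t ht => ?_)
      · rw [mem_comap, QuotientGroup.mk'_apply X x, (QuotientGroup.eq_one_iff x).2 hx]
        exact one_mem _
      · have e : ((a : Γ) * t * (a : Γ)⁻¹)⁻¹ * (b * t * (b : Γ)⁻¹) ∈ X :=
          QuotientGroup.eq (s := X.subgroupOf E) |>.1 (congrFun h ⟨t, ht⟩)
        rw [SetLike.mem_coe, mem_comap, mem_centralizer_singleton_iff, ← map_mul, ← map_mul]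
        refine QuotientGroup.eq.2 ?_
        have := hX.conj_mem _ e (b : Γ)⁻¹
        convert this using 1
        group
    have e := mem_centralizer_singleton_iff.1 (this hy)
    rw [← QuotientGroup.eq_one_iff, ← QuotientGroup.mk'_apply, map_commutatorElement,
      commutatorElement_eq_one_iff_mul_comm]
    exact e.symm
  have d2 : Nat.card R ≤ X.relIndex E * Nat.card X := by
    rw [← ((centralizer (E : Set Γ)).subgroupOf R).index_mul_card]
    refine Nat.mul_le_mul c2 (Nat.card_le_card_of_injective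
      (fun y => ⟨y.1.1, hD ⟨y.1.2.1, y.2⟩⟩) fun y z e => Subtype.ext (Subtype.ext (Subtype.mk.inj e)))
  rw [← C.index_mul_card, ← (R.subgroupOf C).index_mul_card,
    Nat.card_congr (subgroupOfEquivOfLe inf_le_left).toEquiv, mul_assoc, pow_succ, mul_assoc]
  exact Nat.mul_le_mul_left _ (Nat.mul_le_mul d1 d2)

theorem log_lt {p : ℕ} (hp : 53 ≤ p) : Nat.log 2 (p ^ 3) < p := by
  refine Nat.log_lt_of_lt_pow (by positivity) ?_
  induction p, hp using Nat.le_induction with
  | base => norm_num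
  | succ n hn ih =>
    have : (n + 1) ^ 3 ≤ 2 * n ^ 3 := by nlinarith [Nat.mul_le_mul hn hn]
    rw [pow_succ 2]; omega

theorem prim [Group.IsSolvable Γ] [Nontrivial W] (hφ : Function.Injective φ) (hSR : SR φ)
    {p κ : ℕ} [hp : Fact p.Prime] (h53 : 53 ≤ p) {P : Subgroup Γ} [P.Normal] (hP : IsPGroup p P)
    (hP1 : P ≠ ⊥) (hW : Nat.card W ≤ κ * Nat.card Γ) (hk : kk Γ ≤ κ ^ 2) :
    p ≤ κ * Nat.log 2 (p ^ 3) ∨ (IsCyclic P ∧ (∀ x ∈ P, ∀ w, φ x w = w → x = 1 ∨ w = 0) ∧
      (centralizer (P : Set Γ)).index ≤ Nat.log 2 (p ^ 3)) := by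
  obtain ⟨X, ⟨hX, hXX, hZX⟩, hm⟩ := (Set.toFinite {X : Subgroup Γ | X.Normal ∧
    X ≤ centralizer (X : Set Γ) ∧ P ⊓ centralizer (P : Set Γ) ≤ X}).exists_maximal
    ⟨P ⊓ centralizer (P : Set Γ), inferInstance,
      fun y hy => mem_centralizer_iff.2 fun z hz => mem_centralizer_iff.1 hy.2 z hz.1, le_rfl⟩
  have hmax : ∀ Y : Subgroup Γ, Y.Normal → Y ≤ centralizer (Y : Set Γ) → X ≤ Y → Y ≤ X :=
    fun Y a b c => hm ⟨a, b, hZX.trans c⟩ c
  obtain ⟨Q, d, hQ, hcyc, hdv, hQ1, hf, hsr, hF⟩ := field_facts hφ hSR hXX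
  have hpQ : p < Q := by
    have a1 := inf_centralizer_ne_bot_of_isPGroup hP hP le_normalizer hP1
    have a2 := ((hP.to_inf_left (K := centralizer (P : Set Γ))).card_eq_or_dvd).resolve_left
      fun h => a1 (card_eq_one.1 h)
    have := Nat.le_of_dvd (by omega) (a2.trans ((card_dvd_of_le hZX).trans hdv))
    omega
  have hXQ : Nat.card X ≤ Q := (Nat.le_of_dvd (by omega) hdv).trans (Nat.sub_le _ _)
  have key : ∀ {n g : ℕ}, Nat.card Γ ≤ (centralizer (X : Set Γ)).index * n ^ (g + 1) * Nat.card X →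
      Q ^ d ≤ κ * (centralizer (X : Set Γ)).index * n ^ (g + 1) * Q := fun h => by
    rw [← hQ, mul_assoc, mul_assoc, ← mul_assoc _ _ Q]
    exact hW.trans (Nat.mul_le_mul_left _ (h.trans (Nat.mul_le_mul_left _ hXQ)))
  rcases lt_or_ge (p ^ 3) Q with h3 | h3
  · obtain ⟨E, g, -, -, -, -, e1, e2, e3⟩ := size hX hmax le_rfl hXX (commutator_le_left _ _) hF
    left
    rcases le_or_gt 2 (X.relIndex E) with hn | hn
    · exact num2 h53 h3 hf hn e1 e2 (key e3)
    · refine num1 h53 h3 hf ?_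
      have hd : d ≠ 0 := by
        rintro rfl
        have : 1 < Nat.card W := Finite.one_lt_card
        simp_all
      have e4 : X.relIndex E ^ (g + 1) ≤ 1 := pow_le_one₀ (Nat.zero_le _) (by omega)
      calc Q ≤ Q ^ d := Nat.le_self_pow hd Q
        _ ≤ κ * ((centralizer (X : Set Γ)).index * 1 *
            (κ ^ 2 * (centralizer (X : Set Γ)).index)) := by
          rw [← hQ]
          exact hW.trans (Nat.mul_le_mul_left _ (e3.trans (Nat.mul_le_mul
            (Nat.mul_le_mul_left _ e4) ((kAb X).trans (Nat.mul_le_mul_right _ hk)))))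
        _ = _ := by ring
  have hfg : (centralizer (X : Set Γ)).index ≤ Nat.log 2 (p ^ 3) :=
    Nat.le_log_of_pow_le (by norm_num) (hf.trans h3)
  have hPC : P ≤ centralizer (X : Set Γ) := by
    obtain ⟨n, hn⟩ := hP.index ((centralizer (X : Set Γ)).subgroupOf P)
    have a1 : (centralizer (X : Set Γ)).relIndex P ≤ _ :=
      relIndex_le_of_le_right le_top index_ne_zero_of_finite
    rw [relIndex_top_right, relIndex, hn] at a1
    have := log_lt h53
    rcases n with _ | n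
    · exact relIndex_eq_one.1 hn
    · have : p ≤ p ^ (n + 1) := Nat.le_self_pow n.succ_ne_zero p
      omega
  by_cases hPX : P ≤ X
  · exact Or.inr ⟨isCyclic_of_le hPX, fun x hx => hsr x (hPX hx),
      (Nat.le_of_dvd (Nat.pos_of_ne_zero index_ne_zero_of_finite)
        (index_dvd_of_le (centralizer_le hPX))).trans hfg⟩
  left
  obtain ⟨E₀, b1, b2, b3, b4⟩ := exists_ab (X := X) (D := X ⊔ P)
    (lt_of_le_of_ne le_sup_left fun e => hPX (e ▸ le_sup_right))
  obtain ⟨E, g, e0, e00, eE, eZ, e1, e2, e3⟩ :=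
    size b1 hmax b2.le (b3.trans (sup_le hXX hPC)) b4 hF
  refine (num3 h53 hpQ hf ?_ e1 e2 (key e3)).trans
    (Nat.le_mul_of_pos_right _ (by have := g_ge h53; omega))
  obtain ⟨y, hy, hy'⟩ := SetLike.exists_of_lt b2
  obtain ⟨x, hx, u, hu, rfl⟩ := mem_sup_of_normal_left.1 (b3 hy)
  have hXE : X ≤ E := b2.le.trans e0
  have huE : u ∈ E := (mul_mem_cancel_left (hXE hx)).1 (e0 hy)
  have huX : u ∉ X := fun h => hy' (mul_mem hx h)
  obtain ⟨z, hz, hz'⟩ : ∃ z ∈ E, ⁅u, z⁆ ≠ 1 := by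
    by_contra! h
    exact huX (eZ u huE (mem_centralizer_iff.2 fun z hz =>
      (commutatorElement_eq_one_iff_mul_comm.1 (h z hz)).symm))
  have hc : ∀ v ∈ E, Commute v ⁅u, z⁆ := fun v hv =>
    (mem_centralizer_iff.1 (e00 hv) _ (eE (commutator_mem_commutator huE hz))).symm
  obtain ⟨k, hk⟩ := hP ⟨u, hu⟩
  have h1 : ⁅u, z⁆ ^ p ^ k = 1 := by
    rw [← commutatorElement_pow_left_of_commute (hc u huE), show u ^ p ^ k = 1 from
      congrArg Subtype.val hk, commutatorElement_one_left]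
  rw [← relIndex_mul_relIndex X (E ⊓ centralizer {u}) E (le_inf hXE fun x hx =>
    mem_centralizer_singleton_iff.2 (mem_centralizer_iff.1 (hPC hu) x hx)) inf_le_left, pow_two]
  obtain ⟨i, hi, hi', hi''⟩ := exists_pow_mem_of_relIndex_ne_zero (H := X)
    (K := E ⊓ centralizer {u}) index_ne_zero_of_finite ⟨huE, mem_centralizer_singleton_iff.2 rfl⟩
  obtain ⟨j, hj, hj', hj''⟩ := exists_pow_mem_of_relIndex_ne_zero (H := E ⊓ centralizer {u})
    (K := E) index_ne_zero_of_finite hz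
  refine Nat.mul_le_mul ((ple hp.out hz' h1 ?_ hi).trans hi') ((ple hp.out hz' h1 ?_ hj).trans hj')
  · rw [← commutatorElement_pow_left_of_commute (hc u huE), commutatorElement_eq_one_iff_mul_comm]
    exact mem_centralizer_iff.1 (e00 hz) _ hi''.1
  · rw [← commutatorElement_pow_right_of_commute (hc z hz), commutatorElement_eq_one_iff_mul_comm]
    exact (mem_centralizer_singleton_iff.1 hj''.1.2).symm

end Prim2

section Blocks
variable {H V : Type*} [Group H] [Finite H] [AddCommGroup V] [Finite V] [DistribMulAction H V]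

variable (H) in
/-- a block of imprimitivity -/
def Blk (W : AddSubgroup V) : Prop := W ≠ ⊥ ∧ Disjoint W (sSup (orbit H W \ {W}))

theorem Blk.disj {W : AddSubgroup V} (hW : Blk H W) (g : H) {v : V} (h1 : v ∈ g • W)
    (h2 : v ∈ sSup (orbit H W \ {g • W})) : v = 0 := by
  have : sSup (orbit H W \ {g • W}) ≤ g • sSup (orbit H W \ {W}) := sSup_le fun Z hZ => by
    rw [AddSubgroup.le_pointwise_smul_iff]
    refine le_sSup ⟨?_, fun e => hZ.2 ?_⟩
    · obtain ⟨h, rfl⟩ := hZ.1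
      exact ⟨g⁻¹ * h, mul_smul _ _ _⟩
    · rw [Set.mem_singleton_iff] at e ⊢
      rw [← e, smul_inv_smul]
  have h3 := AddSubgroup.disjoint_def.1 hW.2
    (AddSubgroup.mem_pointwise_smul_iff_inv_smul_mem.1 h1)
    (AddSubgroup.mem_pointwise_smul_iff_inv_smul_mem.1 (this h2))
  rw [← smul_inv_smul g v, h3, smul_zero]

theorem Blk.uniq {W : AddSubgroup V} (hW : Blk H W) {α β : Type*} (s : Finset α) (t : Finset β)
    (n : α → H) (n' : β → H) (hn : Function.Injective fun i => n i • W)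
    (hn' : Function.Injective fun j => n' j • W) (a : α → V) (b : β → V)
    (ha : ∀ i, a i ∈ n i • W) (hb : ∀ j, b j ∈ n' j • W) (h : ∑ i ∈ s, a i = ∑ j ∈ t, b j)
    {i : α} (hi : i ∈ s) (h0 : a i ≠ 0) : ∃ j ∈ t, n i • W = n' j • W ∧ a i = b j := by
  classical
  have hB : ∀ g : H, g • W ≠ n i • W → ∀ v ∈ g • W, v ∈ sSup (orbit H W \ {n i • W}) :=
    fun g hg v hv => (le_sSup (s := orbit H W \ {n i • W}) ⟨mem_orbit _ _, hg⟩ :
      g • W ≤ _) hv
  have h1 : ∑ i' ∈ s.erase i, a i' ∈ sSup (orbit H W \ {n i • W}) := sum_mem fun i' hi' =>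
    hB _ (fun e => Finset.ne_of_mem_erase hi' (hn e)) _ (ha i')
  rw [← Finset.add_sum_erase s a hi] at h
  by_cases hj : ∃ j ∈ t, n i • W = n' j • W
  · obtain ⟨j, hj, e⟩ := hj
    refine ⟨j, hj, e, sub_eq_zero.1 (hW.disj (n i) (sub_mem (ha i) (e ▸ hb j)) ?_)⟩
    rw [← Finset.add_sum_erase t b hj] at h
    rw [show a i - b j = ∑ j' ∈ t.erase j, b j' - ∑ i' ∈ s.erase i, a i' by
      rw [sub_eq_sub_iff_add_eq_add, h, add_comm]]
    exact sub_mem (sum_mem fun j' hj' => hB _ (fun e' => Finset.ne_of_mem_erase hj'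
      (hn' (e'.trans e))) _ (hb j')) h1
  · refine absurd (hW.disj (n i) (ha i) ?_) h0
    rw [eq_sub_of_add_eq h]
    exact sub_mem (sum_mem fun j' hj' => hB _ (fun e' => hj ⟨j', hj', e'.symm⟩) _ (hb j')) h1

theorem Blk.stab {W : AddSubgroup V} (hW : Blk H W) {g : H} {w : V} (hw : w ∈ W) (h0 : w ≠ 0)
    (h : g • w ∈ W) : g ∈ stabilizer H W := by
  by_contra hg
  refine h0 ((smul_eq_zero_iff_eq g).1 (AddSubgroup.disjoint_def.1 hW.2 h ?_))
  exact (le_sSup (s := orbit H W \ {W}) ⟨mem_orbit _ _, hg⟩ : g • W ≤ _)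
    (AddSubgroup.smul_mem_pointwise_smul _ _ _ hw)

theorem Blk.idx {W : AddSubgroup V} (hW : Blk H W) :
    (stabilizer H W).index ≤ Nat.card (orbitRel.Quotient H V) := by
  classical
  obtain ⟨⟨w, hw⟩, h0⟩ := (AddSubgroup.ne_bot_iff_exists_ne_zero.1 hW.1)
  have h0' : w ≠ 0 := fun e => h0 (Subtype.ext e)
  let e := (Finite.equivFin (H ⧸ stabilizer H W)).symm
  have hn : ∀ g : H, Function.Injective fun i => (g * (e i).out) • W := fun g i j h => by
    apply e.injective
    rw [← (e i).out_eq', ← (e j).out_eq']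
    refine QuotientGroup.eq.2 ?_
    have h' : (e i).out • W = (e j).out • W := by simpa [mul_smul] using h
    rw [mem_stabilizer_iff, mul_smul, ← h', inv_smul_smul]
  have key : ∀ i j (l : H), l • ∑ k ∈ Finset.Iic i, (e k).out • w =
      ∑ k ∈ Finset.Iic j, (e k).out • w → i ≤ j := fun i j l h => by
    rw [Finset.smul_sum] at h
    have := fun k hk => hW.uniq (i := k) (Finset.Iic i) (Finset.Iic j) _ _ (hn l) (hn 1) _ _
      (fun k => by rw [← mul_smul]; exact AddSubgroup.smul_mem_pointwise_smul _ _ _ hw)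
      (fun k => by rw [one_mul]; exact AddSubgroup.smul_mem_pointwise_smul _ _ _ hw) h hk
      (fun e => h0' ((smul_eq_zero_iff_eq _).1 ((smul_eq_zero_iff_eq l).1 e)))
    choose! f hf hf' _ using this
    have h2 := Finset.card_le_card_of_injOn f hf fun a ha b hb e =>
      hn l ((hf' a ha).trans (e ▸ (hf' b hb).symm))
    rw [Fin.card_Iic, Fin.card_Iic] at h2
    exact Fin.le_def.2 (by omega)
  have := cnt (fun i => ∑ k ∈ Finset.Iic i, (e k).out • w) ⊤ ⊤ Set.univ (fun _ => trivial)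
    (fun i j g h => ⟨g, trivial, h⟩) fun i j l _ h =>
      le_antisymm (key i j l h) (key j i l⁻¹ (by rw [← h, inv_smul_smul]))
  simpa [index] using this

variable (H) in
/-- the action of the stabilizer on a block -/
def phi0 (W : AddSubgroup V) : stabilizer H W →* AddMonoid.End W where
  toFun s :=
    { toFun := fun w => ⟨(s : H) • (w : V), by
        have := AddSubgroup.smul_mem_pointwise_smul _ (s : H) _ w.2
        rwa [s.2] at this⟩
      map_zero' := Subtype.ext (smul_zero _)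
      map_add' := fun _ _ => Subtype.ext (smul_add _ _ _) }
  map_one' := AddMonoidHom.ext fun _ => Subtype.ext (one_smul _ _)
  map_mul' _ _ := AddMonoidHom.ext fun _ => Subtype.ext (mul_smul _ _ _)

variable (H) in
/-- the faithful version -/
def phi (W : AddSubgroup V) : stabilizer H W ⧸ (phi0 H W).ker →* AddMonoid.End W :=
  QuotientGroup.lift _ (phi0 H W) fun _ h => h

theorem phi_inj (W : AddSubgroup V) : Function.Injective (phi H W) := fun a b h => by
  induction a using QuotientGroup.induction_on with | H a => ?_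
  induction b using QuotientGroup.induction_on with | H b => ?_
  have h' : phi0 H W a = phi0 H W b := h
  refine QuotientGroup.eq.2 ?_
  rw [MonoidHom.mem_ker, map_mul, ← h', ← map_mul, inv_mul_cancel, map_one]

theorem mem_ker0 {W : AddSubgroup V} {s : stabilizer H W} :
    s ∈ (phi0 H W).ker ↔ ∀ w ∈ W, (s : H) • w = w :=
  ⟨fun h w hw => congrArg Subtype.val (DFunLike.congr_fun (MonoidHom.mem_ker.1 h) (⟨w, hw⟩ : W)),
    fun h => AddMonoidHom.ext fun w => Subtype.ext (h w w.2)⟩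

theorem exists_blk [Nontrivial V] : ∃ W : AddSubgroup V, Blk H W ∧ SR (phi H W) := by
  classical
  have htop : Blk H (⊤ : AddSubgroup V) := ⟨top_ne_bot, by
    rw [Set.sdiff_eq_empty.2, sSup_empty]
    · exact disjoint_bot_right
    · rintro _ ⟨g, rfl⟩
      exact eq_top_iff.2 fun v _ => AddSubgroup.mem_pointwise_smul_iff_inv_smul_mem.2 trivial⟩
  obtain ⟨W, hW, hmin⟩ := (Set.toFinite {W : AddSubgroup V | Blk H W}).exists_minimal ⟨⊤, htop⟩
  refine ⟨W, hW, fun K hK hK' k₀ hk₀ => ?_⟩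
  by_contra! hc
  have : Finite (AddMonoid.End W) := DFunLike.finite (W →+ W)
  let Ann : Set (AddMonoid.End W) → AddSubgroup W := fun I => ⨅ k ∈ I, AddMonoidHom.ker k
  have mA : ∀ I w, w ∈ Ann I ↔ ∀ k ∈ I, k w = 0 := fun I w => by
    simp only [Ann, AddSubgroup.mem_iInf]; rfl
  let Gd : Set (AddMonoid.End W) → Prop := fun I => I ⊆ K ∧ Ann I ≠ ⊥
  have pres : ∀ k ∈ K, ∀ J ⊆ K, ∀ w ∈ Ann J, k w ∈ Ann J := fun k hk J hJ w hw =>
    (mA _ _).2 fun j hj => by
      have : (j * k) w = (k * j) w := by rw [hK j (hJ hj) k hk]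
      exact this.trans ((congrArg k ((mA _ _).1 hw j hj)).trans (map_zero k))
  obtain ⟨I, hI0, hI⟩ := (Set.toFinite {I | Gd I}).exists_le_maximal (a := {k₀})
    ⟨Set.singleton_subset_iff.2 hk₀, fun h => hc.2 ((injective_iff_map_eq_zero k₀).2 fun w hw =>
      AddSubgroup.mem_bot.1 (h ▸ (mA _ _).2 (by simpa using hw)))⟩
  have ind : ∀ s : Finset (Set (AddMonoid.End W)), (∀ J ∈ s, Maximal (· ∈ {I | Gd I}) J ∧ J ≠ I) →
      ∀ w ∈ Ann I, w ∈ s.sup Ann → w = 0 := by
    intro s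
    induction s using Finset.induction_on with
    | empty => intro _ w _ h; simpa using h
    | insert J s _ ih =>
      intro hs w hw hw'
      by_contra h0
      obtain ⟨hJ, hJI⟩ := hs J (Finset.mem_insert_self _ _)
      have h1 : w ∈ Ann (I ∪ J) := (mA _ _).2 fun k hk => hk.elim ((mA _ _).1 hw k) fun hk => by
        refine ih (fun J' h => hs J' (Finset.mem_insert_of_mem h)) _
          (pres k (hJ.prop.1 hk) I hI.prop.1 w hw) ?_
        rw [Finset.sup_insert] at hw'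
        obtain ⟨y, hy, z, hz, rfl⟩ := AddSubgroup.mem_sup.1 hw'
        rw [map_add, (mA _ _).1 hy k hk, zero_add]
        exact (Finset.sup_le (a := (s.sup Ann).comap k) fun J' h v hv =>
          (Finset.le_sup (f := Ann) h : Ann J' ≤ _) (pres k (hJ.prop.1 hk) J'
            (hs J' (Finset.mem_insert_of_mem h)).1.prop.1 v hv)) hz
      have h2 : Gd (I ∪ J) := ⟨Set.union_subset hI.prop.1 hJ.prop.1, fun h =>
        h0 (AddSubgroup.mem_bot.1 (h ▸ h1))⟩
      exact hJI (le_antisymm (Set.subset_union_right.trans (hI.2 h2 Set.subset_union_left))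
        (Set.subset_union_left.trans (hJ.2 h2 Set.subset_union_right)))
  let cj := fun s : stabilizer H W => cjR (phi H W) s
  have cjm : ∀ (s : stabilizer H W) k, cj s⁻¹ (cj s k) = k := fun s k => by
    change phi0 H W s⁻¹ * (phi0 H W s * k * phi0 H W s⁻¹) * phi0 H W s⁻¹⁻¹ = k
    simp only [← mul_assoc, ← map_mul, inv_mul_cancel, map_one, one_mul]
    rw [mul_assoc, ← map_mul, mul_inv_cancel, map_one, mul_one]
  have cjA : ∀ (s : stabilizer H W) J w, w ∈ Ann J → phi0 H W s w ∈ Ann (cj s '' J) := by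
    rintro s J w hw
    refine (mA _ _).2 ?_
    rintro _ ⟨k, hk, rfl⟩
    change phi0 H W s (k ((phi0 H W s⁻¹ * phi0 H W s) w)) = 0
    rw [← map_mul, inv_mul_cancel, map_one]
    exact (congrArg _ ((mA _ _).1 hw k hk)).trans (map_zero _)
  have cjG : ∀ (s : stabilizer H W) J, Gd J → Gd (cj s '' J) := fun s J hJ =>
    ⟨by rintro _ ⟨k, hk, rfl⟩; exact hK' _ k (hJ.1 hk), fun h => hJ.2 (eq_bot_iff.2 fun w hw => by
      have := AddSubgroup.mem_bot.1 (h ▸ cjA s J w hw)
      exact Subtype.ext ((smul_eq_zero_iff_eq (s : H)).1 (congrArg Subtype.val this)))⟩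
  have cjM : ∀ s : stabilizer H W, Maximal (· ∈ {I | Gd I}) (cj s '' I) := fun s =>
    ⟨cjG s I hI.prop, fun J hJ h k hk => ⟨cj s⁻¹ k, hI.2 (cjG s⁻¹ J hJ)
      (fun i hi => ⟨cj s i, h ⟨i, hi, rfl⟩, cjm s i⟩) ⟨k, hk, rfl⟩, by
        simpa using cjm s⁻¹ k⟩⟩
  have hle : (Ann I).map W.subtype ≤ W := AddSubgroup.map_subtype_le _
  have hb : Blk H ((Ann I).map W.subtype) := ⟨fun h => hI.prop.2
    ((AddSubgroup.map_eq_bot_iff_of_injective _ W.subtype_injective).1 h), ?_⟩
  · refine hc.1 (AddMonoidHom.ext fun w => ?_)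
    obtain ⟨w', hw', e⟩ := hmin hb hle w.2
    exact (mA _ _).1 ((Subtype.ext e : w' = w) ▸ hw') k₀ (hI0 rfl)
  let s₀ := (Set.toFinite {J | Maximal (· ∈ {I | Gd I}) J ∧ J ≠ I}).toFinset
  have hs : sSup (orbit H ((Ann I).map W.subtype) \ {(Ann I).map W.subtype}) ≤
      (s₀.sup Ann).map W.subtype ⊔ sSup (orbit H W \ {W}) := by
    refine sSup_le ?_
    rintro _ ⟨⟨g, rfl⟩, hg⟩
    by_cases hgW : g ∈ stabilizer H W
    · have h1 : ∀ s : stabilizer H W, ∀ J, (s : H) • (Ann J).map W.subtype ≤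
          (Ann (cj s '' J)).map W.subtype := by
        rintro s J _ ⟨_, ⟨w, hw, rfl⟩, rfl⟩
        exact ⟨_, cjA s J w hw, rfl⟩
      refine le_sup_of_le_left ((h1 ⟨g, hgW⟩ I).trans (AddSubgroup.map_mono (Finset.le_sup
        ((Set.Finite.mem_toFinset _).2 ⟨cjM _, fun e => hg ?_⟩))))
      refine le_antisymm (by simpa only [e] using h1 ⟨g, hgW⟩ I) ?_
      rw [AddSubgroup.le_pointwise_smul_iff]
      have e2 : cj ⟨g, hgW⟩⁻¹ '' I = I := by
        nth_rw 1 [← e]
        rw [Set.image_image]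
        simp only [cjm, Set.image_id']
      have := h1 ⟨g, hgW⟩⁻¹ I
      rwa [e2] at this
    · exact le_sup_of_le_right ((AddSubgroup.pointwise_smul_le_pointwise_smul_iff.2 hle).trans
        (le_sSup ⟨mem_orbit _ _, hgW⟩))
  refine AddSubgroup.disjoint_def.2 ?_
  rintro _ ⟨w, hw, rfl⟩ hv
  obtain ⟨_, ⟨y, hy, rfl⟩, z, hz, e⟩ := AddSubgroup.mem_sup.1 (hs hv)
  have hz0 : z = 0 := AddSubgroup.disjoint_def.1 hW.2
    (by rw [eq_sub_of_add_eq' e]; exact sub_mem w.2 y.2) hz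
  rw [hz0, add_zero] at e
  rw [ind s₀ (fun J hJ => by simpa only [s₀, Set.Finite.mem_toFinset, Set.mem_ofPred_eq] using hJ)
    w hw ((Subtype.ext e : y = w) ▸ hy)]
  rfl

end Blocks

section Lin
variable {H V : Type*} [Group H] [Finite H] [AddCommGroup V] [Finite V] [DistribMulAction H V]
  {p : ℕ} [hp : Fact p.Prime] {P P₁ : Subgroup H} [hPn : P.Normal]

theorem pin (hP : IsPGroup p P) {u : H} (hu : u ∈ P) {r : ℕ} (hr : ¬ p ∣ r) (h : u ^ r ∈ P₁) :
    u ∈ P₁ := by
  obtain ⟨k, hk⟩ := hP ⟨u, hu⟩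
  refine zpowers_le.2 h (mem_zpowers_pow_iff.2 ?_)
  exact Nat.Coprime.coprime_dvd_right (orderOf_dvd_of_pow_eq_one (congrArg Subtype.val hk))
    (((Nat.Prime.coprime_iff_not_dvd hp.out).2 hr).symm.pow_right k)

theorem pw (hP : IsPGroup p P) {x : H} (hx : x ∈ P) (hx' : x ∉ P₁) {a b : ℕ} (ha : a < p)
    (hb : b < p) (h : (x ^ a)⁻¹ * x ^ b ∈ P₁) : a = b := by
  wlog hab : a ≤ b generalizing a b
  · exact (this hb ha (by simpa using inv_mem h) (le_of_not_ge hab)).symm
  obtain ⟨c, rfl⟩ := Nat.exists_eq_add_of_le hab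
  rw [pow_add, inv_mul_cancel_left] at h
  by_contra hc
  exact hx' (pin hP hx (Nat.not_dvd_of_pos_of_lt (by omega) (by omega)) h)

theorem char (hP : IsPGroup p P) (l : P →* ℂ) (hl : ∀ y : P, l y = 1 ↔ (y : H) ∈ P₁) (h1 : P₁ ≤ P)
    {x : H} (hx : x ∈ P) (hx' : x ∉ P₁) :
    p ≤ kk H * (commutatorStabilizer P P₁).relIndex (normalizer (P₁ : Set H)) := by
  letI := lamAct P
  have := homs_fin P ℂ
  have sm : ∀ (g : H) (m : P →* ℂ) (y : P), (g • m) y = m (MulAut.conjNormal g⁻¹ y) :=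
    fun _ _ _ => rfl
  have := cnt (fun j : Fin p => (powMonoidHom (j : ℕ)).comp l) (normalizer (P₁ : Set H))
    (commutatorStabilizer P P₁) Set.univ (fun _ => trivial) (fun i j g h => ?_) fun i j c hc h => ?_
  · rw [Nat.card_eq_fintype_card, Fintype.card_fin, Nat.card_congr (Equiv.Set.univ _)] at this
    exact this.trans (Nat.mul_le_mul_right _ (dual P))
  · rcases Nat.eq_zero_or_pos i with hi | hi
    · refine ⟨1, one_mem _, ?_⟩
      rw [← h, one_smul]
      ext y
      simp [sm, hi]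
    · refine ⟨g, (inv_mem_iff (x := g)).1 (mem_normalizer_fintype fun y hy => ?_), h⟩
      have e : l (MulAut.conjNormal g⁻¹ ⟨y, h1 hy⟩) ^ (i : ℕ) = l ⟨y, h1 hy⟩ ^ (j : ℕ) :=
        DFunLike.congr_fun h ⟨y, h1 hy⟩
      rw [(hl ⟨y, h1 hy⟩).2 hy, one_pow, ← map_pow, hl] at e
      exact pin hP (hPn.conj_mem _ (h1 hy) _) (Nat.not_dvd_of_pos_of_lt hi i.2) e
  · have e : l (MulAut.conjNormal c⁻¹ ⟨x, hx⟩) ^ (i : ℕ) = l ⟨x, hx⟩ ^ (j : ℕ) :=
      DFunLike.congr_fun h ⟨x, hx⟩
    have e2 : l (MulAut.conjNormal c⁻¹ ⟨x, hx⟩) = l ⟨x, hx⟩ := by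
      have := (hl (MulAut.conjNormal c⁻¹ ⟨x, hx⟩ * (⟨x, hx⟩ : P)⁻¹)).2 ((inv_mem hc).2 x hx)
      rw [← inv_mul_cancel_right (MulAut.conjNormal c⁻¹ ⟨x, hx⟩) (⟨x, hx⟩ : P), map_mul, this, one_mul]
    refine Fin.ext (pw hP hx hx' i.2 j.2 ((hl ((⟨x, hx⟩ ^ (i : ℕ))⁻¹ * ⟨x, hx⟩ ^ (j : ℕ))).1 ?_))
    rw [map_mul, map_pow l _ j, ← e, e2, ← map_pow, ← map_mul, inv_mul_cancel, map_one]

theorem vec (hP : IsPGroup p P) (hi : ¬ p ∣ P.index) {W : AddSubgroup V} (hW : Blk H W)
    (hPS : P ≤ stabilizer H W) (h1 : ∀ y ∈ P₁, ∀ w ∈ W, y • w = w)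
    (hsr : ∀ y ∈ P, ∀ w ∈ W, y • w = w → y ∈ P₁ ∨ w = 0) {x : H} (hx : x ∈ P) (hx' : x ∉ P₁)
    {m : ℕ} (n : Fin (m + 1) → H) (h0 : n 0 = 1) (hn : ∀ i, n i ∈ normalizer (P₁ : Set H))
    (hinj : Function.Injective fun i => n i • W) :
    p ^ m ≤ Nat.card {q : orbitRel.Quotient H V | q ≠ Quotient.mk _ 0} * ((m + 1).factorial *
      (commutatorStabilizer P P₁).relIndex (stabilizer H W)) := by
  classical
  obtain ⟨⟨w, hw⟩, hw0⟩ := (AddSubgroup.ne_bot_iff_exists_ne_zero.1 hW.1)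
  have hw' : w ≠ 0 := fun e => hw0 (Subtype.ext e)
  have mm := fun (g : H) (v : V) => AddSubgroup.mem_pointwise_smul_iff_inv_smul_mem (a := g) (S := W)
    (x := v)
  have cj : ∀ (g y : H) (v : V), (g⁻¹ * y * g⁻¹⁻¹) • g⁻¹ • v = g⁻¹ • y • v := fun g y v => by
    simp [mul_smul]
  have F1 : ∀ i, ∀ y ∈ P₁, ∀ v ∈ n i • W, y • v = v := fun i y hy v hv => by
    have := h1 _ ((mem_normalizer_iff.1 (inv_mem (hn i)) y).1 hy) _ ((mm _ _).1 hv)
    rwa [cj, smul_left_cancel_iff] at this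
  have F2 : ∀ i, ∀ y ∈ P, ∀ v ∈ n i • W, v ≠ 0 → y • v = v → y ∈ P₁ := fun i y hy v hv h e =>
    (mem_normalizer_iff.1 (inv_mem (hn i)) y).2 ((hsr _ (hPn.conj_mem y hy _) _ ((mm _ _).1 hv)
      (by rw [cj, e])).resolve_right fun e' => h ((smul_eq_zero_iff_eq _).1 e'))
  have F3 : ∀ i, ∀ y ∈ P, ∀ v ∈ n i • W, y • v ∈ n i • W := fun i y hy v hv => by
    have := AddSubgroup.smul_mem_pointwise_smul _ ((n i)⁻¹ * y * (n i)⁻¹⁻¹) _ ((mm _ _).1 hv)
    rwa [hPS (hPn.conj_mem y hy _), cj, ← mm] at this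
  have hy : ∀ i, n i • w ∈ n i • W := fun i => AddSubgroup.smul_mem_pointwise_smul _ _ _ hw
  have hy0 : ∀ i, n i • w ≠ 0 := fun i e => hw' ((smul_eq_zero_iff_eq _).1 e)
  let e : (Fin m → Fin p) → Fin (m + 1) → ℕ := fun k => Fin.cons 0 fun a => k a
  have key : ∀ (g : H) k k', g • ∑ i, x ^ e k i • n i • w = ∑ i, x ^ e k' i • n i • w →
      ∀ i, ∃ j, g • n i • W = n j • W ∧ g • x ^ e k i • n i • w = x ^ e k' j • n j • w := by
    intro g k k' h i
    rw [Finset.smul_sum] at h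
    obtain ⟨j, -, a1, a2⟩ := hW.uniq (i := i) Finset.univ Finset.univ (fun i => g * n i) n
      (fun i j h => hinj (by simpa [mul_smul] using h)) hinj _ _
      (fun i => by
        rw [mul_smul]
        exact AddSubgroup.smul_mem_pointwise_smul _ _ _ (F3 i _ (pow_mem hx _) _ (hy i)))
      (fun i => F3 i _ (pow_mem hx _) _ (hy i)) h (Finset.mem_univ _)
      fun h => hy0 i ((smul_eq_zero_iff_eq _).1 ((smul_eq_zero_iff_eq g).1 h))
    exact ⟨j, by rwa [← mul_smul], a2⟩
  let A : Subgroup H := ⨅ i, stabilizer H (n i • W)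
  have hA : A ≤ stabilizer H (Set.range fun i => n i • W) := fun g hg =>
    (mem_stabilizer_set_iff_smul_set_subset (Set.finite_range _)).2 (by
      rintro _ ⟨_, ⟨i, rfl⟩, rfl⟩
      exact ⟨i, (mem_iInf.1 hg i).symm⟩)
  have := cnt (fun k : Fin m → Fin p => ∑ i, x ^ e k i • n i • w)
    (stabilizer H (Set.range fun i => n i • W)) (A ⊓ commutatorStabilizer P P₁)
    {q | q ≠ Quotient.mk _ 0} (fun k h => ?_) (fun k k' g h => ⟨g, ?_, h⟩) fun k k' l hl h => ?_
  · rw [Nat.card_fun, Nat.card_eq_fintype_card, Nat.card_eq_fintype_card, Fintype.card_fin,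
      Fintype.card_fin] at this
    refine this.trans (Nat.mul_le_mul_left _ ?_)
    rw [← relIndex_mul_relIndex _ A _ inf_le_left hA, inf_relIndex_left, mul_comm]
    refine Nat.mul_le_mul ?_ (relIndex_le_of_le_right (fun g hg => ?_) index_ne_zero_of_finite)
    · have hf : ∀ (s : stabilizer H (Set.range fun i => n i • W)) i, ∃ j,
          n j • W = (s : H) • n i • W := fun s i => by
        have := Set.smul_mem_smul_set (a := (s : H)) (Set.mem_range_self (f := fun i => n i • W) i)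
        rwa [s.2] at this
      choose f hf using hf
      refine (idx_le (fun s => (⟨f s, fun i j h => hinj (MulAction.injective (s : H)
        ((hf s i).symm.trans (h ▸ hf s j)))⟩ : Fin (m + 1) ↪ Fin (m + 1))) fun a b h =>
          mem_iInf.2 fun i => ?_).trans ?_
      · have h' : f a i = f b i := DFunLike.congr_fun h i
        rw [mem_stabilizer_iff, mul_smul, ← hf, ← h', hf, inv_smul_smul]
      · rw [Nat.card_eq_fintype_card, Fintype.card_embedding_eq, Fintype.card_fin,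
          Nat.descFactorial_self]
    · simpa [h0] using mem_iInf.1 hg 0
  · obtain ⟨g, hg⟩ := orbitRel_apply.1 (Quotient.exact h)
    obtain ⟨j, hj, -⟩ := hW.uniq (i := 0) Finset.univ ∅ n n hinj hinj _ (fun _ => 0)
      (fun i => F3 i _ (pow_mem hx (e k i)) _ (hy i)) (fun _ => zero_mem _)
      (by rw [← hg]; simp) (Finset.mem_univ _) fun h => hy0 0 ((smul_eq_zero_iff_eq _).1 h)
    simp at hj
  · refine (mem_stabilizer_set_iff_smul_set_subset (Set.finite_range _)).2 ?_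
    rintro _ ⟨_, ⟨i, rfl⟩, rfl⟩
    obtain ⟨j, hj, -⟩ := key g k k' h i
    exact ⟨j, hj.symm⟩
  · have a1 : ∀ i, l • x ^ e k i • n i • w = x ^ e k' i • n i • w := fun i => by
      obtain ⟨j, hj, hj'⟩ := key l k k' h i
      rwa [← hinj ((mem_iInf.1 hl.1 i).symm.trans hj)] at hj'
    have a2 : ∀ i, ∀ v ∈ n i • W, l • v ∈ n i • W := fun i v hv => by
      have := AddSubgroup.smul_mem_pointwise_smul _ l _ hv
      rwa [mem_iInf.1 hl.1 i] at this
    have a3 : ∀ i, ∀ u ∈ P, ∀ v ∈ n i • W, l • u • v = u • l • v := fun i u hu v hv => by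
      rw [← F1 i _ (hl.2.2 u hu) _ (F3 i u hu _ (a2 i v hv))]
      simp [commutatorElement_def, mul_smul]
    have a4 : ∀ i, ∀ u ∈ P, l • n i • w = u • n i • w → ∀ j : ℕ,
        l ^ j • n i • w = u ^ j • n i • w := fun i u hu h j => by
      induction j with
      | zero => simp
      | succ j ih => rw [pow_succ', mul_smul, ih, a3 i _ (pow_mem hu j) _ (hy i), h, pow_succ, mul_smul]
    have a5 : l ^ P.index ∈ P₁ := F2 0 _ (P.pow_index_mem l) _ (hy 0) (hy0 0) (by
      rw [a4 0 1 (one_mem _) (by simpa [e] using a1 0), one_pow, one_smul])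
    funext a
    have hu : (x ^ (k a : ℕ))⁻¹ * x ^ (k' a : ℕ) ∈ P := mul_mem (inv_mem (pow_mem hx _)) (pow_mem hx _)
    refine Fin.ext (pw hP hx hx' (k a).2 (k' a).2 (pin hP hu hi
      (F2 a.succ _ (pow_mem hu _) _ (hy _) (hy0 _) ?_)))
    rw [← a4 _ _ hu, F1 _ _ a5 _ (hy _)]
    have := a1 a.succ
    rw [a3 _ _ (pow_mem hx _) _ (hy _)] at this
    rw [mul_smul]
    exact eq_inv_smul_iff.2 this

theorem inj2 {α : Type*} {f : Fin 2 → α} (h : f 1 ≠ f 0) : Function.Injective f := fun i j e => by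
  fin_cases i <;> fin_cases j <;> simp_all

theorem inj3 {α : Type*} {f : Fin 3 → α} (h : f 1 ≠ f 0) (h' : f 2 ≠ f 0) (h'' : f 2 ≠ f 1) :
    Function.Injective f := fun i j e => by
  fin_cases i <;> fin_cases j <;> simp_all

theorem lin [Group.IsSolvable H] [Nontrivial V] (h53 : 53 ≤ p) (hP : IsPGroup p P)
    (hi : ¬ p ∣ P.index) (hfix : ∀ v : V, (∀ y ∈ P, y • v = v) → v = 0) {κ : ℕ}
    (h1 : Nat.card (orbitRel.Quotient H V) ≤ κ)
    (h2 : Nat.card {q : orbitRel.Quotient H V | q ≠ Quotient.mk _ 0} + kk H ≤ κ) :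
    p ≤ κ * Nat.log 2 (p ^ 3) := by
  classical
  obtain ⟨W, hW, hSR⟩ := exists_blk (H := H) (V := V)
  have hg := g_ge h53
  have hu := hW.idx.trans h1
  by_cases hPS : P ≤ stabilizer H W
  swap
  · obtain ⟨n, hn⟩ := hP.index ((stabilizer H W).subgroupOf P)
    have a1 : (stabilizer H W).relIndex P ≤ _ :=
      relIndex_le_of_le_right le_top index_ne_zero_of_finite
    rw [relIndex_top_right, relIndex, hn] at a1
    rcases n with _ | n
    · exact absurd (relIndex_eq_one.1 hn) hPS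
    · exact ((Nat.le_self_pow n.succ_ne_zero p).trans (a1.trans hu)).trans
        (Nat.le_mul_of_pos_right _ (by omega))
  let π := QuotientGroup.mk' (phi0 H W).ker
  let P₁ := P ⊓ (phi0 H W).ker.map (stabilizer H W).subtype
  have mP : ∀ y (hy : y ∈ P), y ∈ P₁ ↔ π ⟨y, hPS hy⟩ = 1 := fun y hy =>
    ⟨fun ⟨_, z, hz, e⟩ => (QuotientGroup.eq_one_iff _).2 ((Subtype.ext e : z = ⟨y, hPS hy⟩) ▸ hz),
      fun h => ⟨hy, _, (QuotientGroup.eq_one_iff _).1 h, rfl⟩⟩
  have fP : ∀ y ∈ P₁, ∀ w ∈ W, y • w = w := fun y hy =>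
    mem_ker0.1 ((QuotientGroup.eq_one_iff _).1 ((mP y hy.1).1 hy))
  obtain ⟨x, hx, hx'⟩ : ∃ x ∈ P, x ∉ P₁ := by
    by_contra! h
    exact hW.1 (eq_bot_iff.2 fun w hw => hfix w fun y hy => fP y (h y hy) w hw)
  have : Nontrivial W := (AddSubgroup.nontrivial_iff_ne_bot W).2 hW.1
  have : ((P.subgroupOf (stabilizer H W)).map π).Normal :=
    Normal.map inferInstance _ (QuotientGroup.mk'_surjective _)
  refine (prim (P := (P.subgroupOf (stabilizer H W)).map π) (κ := κ) (phi_inj W) hSR h53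
    (hP.comap_subtype.map π) (fun h => hx' ((mP x hx).2 (mem_bot.1 (h ▸ ⟨_, hx, rfl⟩)))) ?_ ?_).elim
    id fun ⟨hcyc, hsr, hC⟩ => ?_
  · have := cnt (fun w : W => (w : V)) (stabilizer H W) ((phi0 H W).ker.map (stabilizer H W).subtype)
      Set.univ (fun _ => trivial) (fun i j g h => ?_) fun i j l ⟨z, hz, e⟩ h => Subtype.ext ?_
    · rw [Nat.card_congr (Equiv.Set.univ _), relIndex, subgroupOf,
        comap_map_eq_self_of_injective (subtype_injective _)] at this
      exact this.trans (Nat.mul_le_mul_right _ h1)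
    · by_cases h0 : (i : V) = 0
      · exact ⟨1, one_mem _, by rw [← h, h0, smul_zero, smul_zero]⟩
      · exact ⟨g, hW.stab i.2 h0 (h ▸ j.2), h⟩
    · rw [← h, ← e]
      exact (mem_ker0.1 hz _ i.2).symm
  · rw [pow_two]
    exact (kQuot π (QuotientGroup.mk'_surjective _)).trans ((kSub _).trans
      (Nat.mul_le_mul hu (by omega)))
  have hsr' : ∀ y ∈ P, ∀ w ∈ W, y • w = w → y ∈ P₁ ∨ w = 0 := fun y hy w hw e =>
    (hsr (π ⟨y, hPS hy⟩) ⟨_, hy, rfl⟩ ⟨w, hw⟩ (Subtype.ext e)).imp (mP y hy).2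
      (congrArg Subtype.val)
  have hSN : stabilizer H W ≤ normalizer (P₁ : Set H) := fun s hs =>
    mem_normalizer_fintype fun y hy => (mP _ (hPn.conj_mem y hy.1 s)).2 (by
      rw [show (⟨s * y * s⁻¹, hPS (hPn.conj_mem y hy.1 s)⟩ : stabilizer H W) =
        ⟨s, hs⟩ * ⟨y, hPS hy.1⟩ * ⟨s, hs⟩⁻¹ from rfl, map_mul, map_mul, (mP y hy.1).1 hy]
      simp)
  have he : (commutatorStabilizer P P₁).relIndex (stabilizer H W) ≤ Nat.log 2 (p ^ 3) := by
    refine le_trans ?_ hC
    rw [← index_comap_of_surjective _ (QuotientGroup.mk'_surjective _)]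
    refine Nat.le_of_dvd (Nat.pos_of_ne_zero index_ne_zero_of_finite)
      (index_dvd_of_le fun s hs => ⟨hSN s.2, fun y hy => ?_⟩)
    refine (mP _ (commutator_le_right ⊤ P (commutator_mem_commutator trivial hy))).2 ?_
    change π ⁅s, ⟨y, hPS hy⟩⁆ = 1
    rw [map_commutatorElement, commutatorElement_eq_one_iff_mul_comm]
    exact (mem_centralizer_iff.1 hs _ ⟨_, hy, rfl⟩).symm
  have hch : p ≤ kk H * (Nat.log 2 (p ^ 3) * (stabilizer H W).relIndex (normalizer (P₁ : Set H))) := by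
    have : NeZero (Nat.card ((P.subgroupOf (stabilizer H W)).map π)) := ⟨Nat.card_pos.ne'⟩
    let ι := mulEquivOfCyclicCardEq (G := (P.subgroupOf (stabilizer H W)).map π)
      (G' := rootsOfUnity (Nat.card ((P.subgroupOf (stabilizer H W)).map π)) ℂ)
      (Complex.card_rootsOfUnity _).symm
    let ρ : P →* (P.subgroupOf (stabilizer H W)).map π :=
      (π.comp (inclusion hPS)).codRestrict _ fun y => ⟨_, y.2, rfl⟩
    refine (char hP ((Units.coeHom ℂ).comp ((rootsOfUnity _ ℂ).subtype.comp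
      (ι.toMonoidHom.comp ρ))) (fun y => ?_) inf_le_left hx hx').trans (Nat.mul_le_mul_left _ ?_)
    · rw [mP _ y.2]
      change ((ι (ρ y) : ℂˣ) : ℂ) = 1 ↔ _
      rw [Units.val_eq_one, OneMemClass.coe_eq_one, ι.map_eq_one_iff, ← OneMemClass.coe_eq_one]
      rfl
    · refine (relIndex_le_of_le_left (H := commutatorStabilizer P P₁ ⊓ stabilizer H W) inf_le_left
        index_ne_zero_of_finite).trans ?_
      rw [← relIndex_mul_relIndex _ _ _ inf_le_right hSN, inf_relIndex_right]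
      exact Nat.mul_le_mul_right _ he
  by_cases c1 : normalizer (P₁ : Set H) ≤ stabilizer H W
  · rw [relIndex_eq_one.2 c1, mul_one] at hch
    exact hch.trans (Nat.mul_le_mul_right _ (by omega))
  obtain ⟨n₁, hn₁, hn₁'⟩ := SetLike.not_le_iff_exists.1 c1
  rw [mem_stabilizer_iff] at hn₁'
  by_cases c2 : ∃ n₂ ∈ normalizer (P₁ : Set H), n₂ • W ≠ W ∧ n₂ • W ≠ n₁ • W
  · obtain ⟨n₂, hn₂, b1, b2⟩ := c2
    have := vec hP hi hW hPS fP hsr' hx hx' ![1, n₁, n₂] rfl
      (fun i => by fin_cases i; exacts [one_mem _, hn₁, hn₂])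
      (inj3 (by simpa using hn₁') (by simpa using b1) (by simpa using b2))
    have b3 : p ^ 2 ≤ κ * (6 * Nat.log 2 (p ^ 3)) :=
      this.trans (Nat.mul_le_mul (by omega) (Nat.mul_le_mul_left _ he))
    nlinarith
  · have := vec hP hi hW hPS fP hsr' hx hx' ![1, n₁] rfl
      (fun i => by fin_cases i; exacts [one_mem _, hn₁]) (inj2 (by simpa using hn₁'))
    have b2 : (stabilizer H W).relIndex (normalizer (P₁ : Set H)) ≤ 2 := by
      push Not at c2
      refine (idx_le (fun a => decide ((a : H) • W = W)) fun a b h => ?_).trans (by simp)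
      rw [mem_stabilizer_iff, mul_smul, inv_smul_eq_iff]
      by_cases ha : (a : H) • W = W
      · rw [ha]; simpa [ha] using h
      · rw [c2 a a.2 ha, c2 b b.2 (by simpa [ha] using h)]
    have b3 := this.trans (Nat.mul_le_mul_left _ (Nat.mul_le_mul_left _ he))
    have b4 := hch.trans (Nat.mul_le_mul_left _ (Nat.mul_le_mul_left _ b2))
    have b5 := Nat.mul_le_mul_right (Nat.log 2 (p ^ 3)) h2
    simp only [pow_one, Nat.factorial] at b3
    nlinarith

end Lin

universe u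

theorem main (p : ℕ) [hp : Fact p.Prime] (n : ℕ) : ∀ (G : Type u) [Group G] [Finite G]
    [Group.IsSolvable G], Nat.card G = n → p ∣ (fittingSubgroup G).index →
    3 ≤ kk G ∧ (53 ≤ p → p ≤ kk G * Nat.log 2 (p ^ 3)) := by
  classical
  induction n using Nat.strong_induction_on with | h n ih => ?_
  intro G _ _ _ hn hd
  have : Nontrivial G := by
    by_contra h
    rw [not_nontrivial_iff_subsingleton] at h
    rw [Subsingleton.elim (fittingSubgroup G) ⊤, index_top] at hd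
    exact hp.out.not_dvd_one hd
  obtain ⟨q, N, -, hN, hN1, -, hNc, hmin⟩ := SolvStruct.exists_normal_pgroup_of_solvable (G := G)
  let π := QuotientGroup.mk' N
  have hπ := QuotientGroup.mk'_surjective N
  by_cases hq : p ∣ (fittingSubgroup (G ⧸ N)).index
  · have hlt : Nat.card (G ⧸ N) < n := by
      rw [← hn, card_eq_card_quotient_mul_card_subgroup N]
      exact lt_mul_of_one_lt_right Nat.card_pos ((one_lt_card_iff_ne_bot N).2 hN1)
    obtain ⟨a1, a2⟩ := ih _ hlt (G ⧸ N) rfl hq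
    exact ⟨a1.trans (kQuot π hπ), fun h => (a2 h).trans (Nat.mul_le_mul_right _ (kQuot π hπ))⟩
  obtain ⟨S⟩ : Nonempty (Sylow p (G ⧸ N)) := inferInstance
  have := fittingSubgroup_normal (G ⧸ N)
  have hSF : (S : Subgroup (G ⧸ N)) ≤ fittingSubgroup (G ⧸ N) := by
    obtain ⟨k, hk⟩ := S.isPGroup'.index ((fittingSubgroup (G ⧸ N)).subgroupOf S)
    have := relIndex_dvd_index_of_normal (fittingSubgroup (G ⧸ N)) S
    rw [relIndex, hk] at this
    rcases k with _ | k
    · exact relIndex_eq_one.1 hk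
    · exact absurd ((dvd_pow_self p k.succ_ne_zero).trans this) hq
  have hi : ¬ p ∣ (pCore p (G ⧸ N)).index := fun h => S.not_dvd_index
    (h.trans (index_dvd_of_le (le_pCore_of_le_fittingSubgroup hSF S.isPGroup')))
  have := pCore_normal p (G ⧸ N)
  have hP := isPGroup_pCore p (G ⧸ N)
  set P := pCore p (G ⧸ N)
  have hcm : ∀ a ∈ N, ∀ b ∈ N, a * b = b * a := fun a ha b hb =>
    congrArg Subtype.val (hNc.is_comm.comm ⟨a, ha⟩ ⟨b, hb⟩)
  letI : CommGroup N := { (inferInstance : Group N) with mul_comm := hNc.is_comm.comm }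
  let ρ : G ⧸ N →* MulAut N := QuotientGroup.lift N MulAut.conjNormal fun a ha =>
    MulEquiv.ext fun b => Subtype.ext (by
      change a * b * a⁻¹ = b
      rw [hcm a ha b b.2, mul_inv_cancel_right])
  letI : DistribMulAction (G ⧸ N) (Additive N) :=
    { smul := fun h v => Additive.ofMul (ρ h v.toMul)
      one_smul := fun v => by change Additive.ofMul (ρ 1 _) = _; rw [map_one]; rfl
      mul_smul := fun a b v => by change Additive.ofMul (ρ (a * b) _) = _; rw [map_mul]; rfl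
      smul_zero := fun a => congrArg Additive.ofMul (map_one (ρ a))
      smul_add := fun a v w => congrArg Additive.ofMul (map_mul (ρ a) _ _) }
  have sm : ∀ (g : G) (v : Additive N), (((π g • v).toMul : N) : G) = g * v.toMul * g⁻¹ :=
    fun _ _ => rfl
  have : Nontrivial N := (nontrivial_iff_ne_bot N).2 hN1
  have hfix : ∀ v : Additive N, (∀ y ∈ P, y • v = v) → v = 0 := fun v hv => by
    rcases hmin (N ⊓ centralizer (P.comap π)) inferInstance inf_le_left with h | h
    · have : ((v.toMul : N) : G) ∈ N ⊓ centralizer (P.comap π) :=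
        ⟨v.toMul.2, mem_centralizer_iff.2 fun g hg => by
          have := sm g v
          rw [hv _ hg] at this
          exact mul_inv_eq_iff_eq_mul.1 this.symm⟩
      rw [h] at this
      exact Subtype.ext (mem_bot.1 this)
    · have := hP.isNilpotent
      have h2 : Group.IsNilpotent (P.comap π) :=
        Subgroup.isNilpotent_of_ker_le_center (π.subgroupComap P) fun x hx => mem_center_iff.2 fun y =>
          Subtype.ext (mem_centralizer_iff.1 (h.ge ((QuotientGroup.eq_one_iff _).1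
            (congrArg Subtype.val hx))).2 _ y.2)
      refine absurd (hd.trans (index_dvd_of_le (le_fittingSubgroup h2))) ?_
      rwa [index_comap_of_surjective _ hπ]
  have : Finite (ConjClasses G) := Finite.of_surjective _ ConjClasses.mk_surjective
  have : Finite (ConjClasses (G ⧸ N)) := Finite.of_surjective _ ConjClasses.mk_surjective
  let f : orbitRel.Quotient (G ⧸ N) (Additive N) → ConjClasses G := fun o =>
    ConjClasses.mk (o.out.toMul : N)
  have hf : Function.Injective f := fun a b h => by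
    obtain ⟨g, hg⟩ := isConj_iff.1 (ConjClasses.mk_eq_mk_iff_isConj.1 h)
    rw [← a.out_eq', ← b.out_eq']
    have : π g • a.out = b.out := Subtype.ext hg
    exact (Quotient.sound (orbitRel_apply.2 ⟨π g, this⟩)).symm
  let σ : ConjClasses (G ⧸ N) → ConjClasses G := fun c => if c = ConjClasses.mk 1 then
    ConjClasses.mk 1 else Function.surjInv (ConjClasses.map_surjective hπ) c
  have hσ : ∀ c, ConjClasses.map π (σ c) = c := fun c => by
    by_cases h : c = ConjClasses.mk 1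
    · simp only [σ, if_pos h]; rw [h]; rfl
    · simp only [σ, if_neg h]; exact Function.surjInv_eq _ _
  have h2 : Nat.card {q : orbitRel.Quotient (G ⧸ N) (Additive N) | q ≠ Quotient.mk _ 0} +
      kk (G ⧸ N) ≤ kk G := by
    rw [← Nat.card_sum]
    refine Nat.card_le_card_of_injective (Sum.elim (fun o => f o.1) σ) (Function.Injective.sumElim
      (fun a b h => Subtype.ext (hf h)) (Function.LeftInverse.injective hσ) fun o c h => o.2 ?_)
    have e : c = ConjClasses.mk 1 := by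
      rw [← hσ c, ← h]
      exact congrArg ConjClasses.mk ((QuotientGroup.eq_one_iff _).2 (o.1.out.toMul).2)
    simp only [σ, if_pos e] at h
    rw [← o.1.out_eq']
    exact congrArg _ (Subtype.ext (isConj_one_left.1 (ConjClasses.mk_eq_mk_iff_isConj.1 h)))
  refine ⟨le_trans ?_ h2, fun h => lin h hP hi hfix (Nat.card_le_card_of_injective f hf) h2⟩
  obtain ⟨v, hv⟩ := exists_ne (0 : Additive N)
  have a1 : 0 < Nat.card {q : orbitRel.Quotient (G ⧸ N) (Additive N) | q ≠ Quotient.mk _ 0} := by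
    have : Nonempty {q : orbitRel.Quotient (G ⧸ N) (Additive N) | q ≠ Quotient.mk _ 0} :=
      ⟨⟨Quotient.mk _ v, fun h => by
        obtain ⟨g, hg⟩ := orbitRel_apply.1 (Quotient.exact h)
        exact hv (hg.symm.trans (smul_zero g))⟩⟩
    exact Nat.card_pos
  have a2 : 1 < kk (G ⧸ N) := by
    obtain ⟨y, -, hy⟩ : ∃ y ∈ P, y • v ≠ v := by
      by_contra! h
      exact hv (hfix v h)
    exact Finite.one_lt_card_iff_nontrivial.2 ⟨ConjClasses.mk y, ConjClasses.mk 1, fun h =>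
      hy (by rw [isConj_one_left.1 (ConjClasses.mk_eq_mk_iff_isConj.1 h), one_smul])⟩
  omega

/-- Let G be a finite solvable group and p a prime dividing the index of the Fitting subgroup of G. Then the number of conjugacy classes of G is at least p/(3·log₂ p). -/
theorem result {G : Type*} [Group G] [Finite G] (hG : Group.IsSolvable G) (p : ℕ) [Fact p.Prime] (hp : p ∣ (Cfsg.fittingSubgroup G).index) : (p : ℝ) / (3 * Real.logb 2 p) ≤ Nat.card (ConjClasses G) := by
  obtain ⟨h1, h2⟩ := main p _ G rfl hp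
  have hp2 : 2 ≤ p := (Fact.out : p.Prime).two_le
  have hl : 0 < Real.logb 2 p := Real.logb_pos (by norm_num) (by exact_mod_cast hp2)
  have key : ∀ k : ℕ, (Nat.log 2 (p ^ k) : ℝ) ≤ k * Real.logb 2 p := fun k => by
    have := Real.natLog_le_logb (p ^ k) 2
    rwa [Nat.cast_pow, Nat.cast_ofNat, Real.logb_pow] at this
  rw [div_le_iff₀ (by positivity)]
  rcases le_or_gt 53 p with h | h
  · have a1 : (p : ℝ) ≤ Nat.card (ConjClasses G) * (Nat.log 2 (p ^ 3) : ℝ) := by
      exact_mod_cast h2 h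
    exact a1.trans (mul_le_mul_of_nonneg_left (by exact_mod_cast key 3) (Nat.cast_nonneg _))
  · have a0 : p ≠ 52 := by rintro rfl; exact absurd (Fact.out : Nat.Prime 52) (by norm_num)
    have a1 : p ≤ Nat.log 2 (p ^ 9) := Nat.le_log_of_pow_le (by norm_num) (by
      clear key hl h2 hp
      interval_cases p <;> simp_all)
    have a2 : (p : ℝ) ≤ Nat.log 2 (p ^ 9) := by exact_mod_cast a1
    have a3 : (3 : ℝ) ≤ Nat.card (ConjClasses G) := by exact_mod_cast h1
    have := key 9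
    push_cast at this
    nlinarith

end Cfsg.Agent.S4190
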