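import Cfsg.Statements.S3370
import Cfsg.Agent.Lib.Perm.MultiTransHuppert
import Cfsg.Agent.Lib.Frob.Quaternion

set_option autoImplicit false
open Cfsg

namespace Cfsg.Agent.S3370

open Subgroup MulAction CfsgLib CfsgLib.Perm

theorem arith {q n p a : ℕ} (hq : q.Prime) (hp : p.Prime) (ha : a ≠ 0) (h : q ^ n - 1 = p ^ a) :
    (q = 2 ∧ a = 1) ∨ (p = 2 ∧ n = 1) ∨ (p = 2 ∧ q = 3 ∧ n = 2) := by
  have h0 : q ^ n = p ^ a + 1 := by have := pow_pos hp.pos a; omega
  have hn : n ≠ 0 := by rintro rfl; have := pow_pos hp.pos a; rw [pow_zero] at h; omega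
  rcases hq.eq_two_or_odd with rfl | hq2
  · refine Or.inl ⟨rfl, ?_⟩
    have hp2 : p % 2 = 1 := hp.eq_two_or_odd.resolve_left (by
      rintro rfl
      have := dvd_pow_self 2 hn
      have := dvd_pow_self 2 ha
      omega)
    by_contra h1
    obtain ⟨r, hr, h2, h3⟩ := S2904.result p (a * 2) hp.one_lt (by omega) (by omega) (by omega)
    rw [pow_mul, ← one_pow 2, Nat.sq_sub_sq, ← h0] at h2
    obtain rfl := (Nat.prime_dvd_prime_iff_eq hr Nat.prime_two).1 (hr.dvd_of_dvd_pow
      (((Nat.Prime.dvd_mul hr).1 h2).resolve_right (h3 a (by omega) (by omega))))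
    exact h3 1 one_pos (by omega) (by rw [pow_one]; omega)
  have hp2 : p = 2 := by
    have := Nat.odd_iff.1 ((Nat.odd_iff.2 hq2).pow (n := n))
    exact ((Nat.prime_dvd_prime_iff_eq Nat.prime_two hp).1
      (Nat.prime_two.dvd_of_dvd_pow (n := a) (by omega))).symm
  subst hp2
  refine Or.inr (or_iff_not_imp_left.2 fun h1 => ⟨rfl, ?_⟩)
  by_cases h2 : n = 2 ∧ ∃ m : ℕ, q + 1 = 2 ^ m
  · obtain ⟨rfl, m, hm⟩ := h2
    rw [← one_pow 2, Nat.sq_sub_sq] at h
    obtain ⟨k, -, hk⟩ := (Nat.dvd_prime_pow Nat.prime_two).1 (Dvd.intro_left _ h)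
    have := hq.two_le
    rcases k with _ | _ | k
    · omega
    · omega
    rcases m with _ | _ | m
    · omega
    · omega
    rw [pow_succ, pow_succ] at hm hk
    omega
  obtain ⟨r, hr, h3, h4⟩ := S2904.result q n hq.one_lt (by simp at h1; omega) (by omega) h2
  obtain rfl := (Nat.prime_dvd_prime_iff_eq hr Nat.prime_two).1 (hr.dvd_of_dvd_pow (h ▸ h3))
  exact absurd (by rw [pow_one]; omega) (h4 1 one_pos (by simp at h1; omega))


/-- Let q be a prime, V a non-trivial finite vector space over the field with q elements, and G a non-trivial finite p-group (p prime) acting faithfully and linearly on V and transitively on the non-zero vectors. Then either q = 2 and G has prime order p = |V| − 1; or p = 2, V has q elements with q = 2^m + 1 and G is cyclic of order 2^m; or p = 2, q = 3, V has 9 elements and G is cyclic of order 8, quaternion of order 8, or semidihedral of order 16. -/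
theorem result (q : ℕ) [Fact q.Prime] {V : Type*} [AddCommGroup V] [Module (ZMod q) V] [Finite V] [Nontrivial V]
    {G : Type*} [Group G] [Finite G] [Nontrivial G] (p : ℕ) [Fact p.Prime] (hG : IsPGroup p G)
    (ρ : G →* (V ≃ₗ[ZMod q] V)) (hρ : Function.Injective ρ)
    (htrans : ∀ v w : V, v ≠ 0 → w ≠ 0 → ∃ g : G, ρ g v = w) :
    (q = 2 ∧ p = Nat.card V - 1 ∧ Nat.card G = p) ∨
    (p = 2 ∧ Nat.card V = q ∧ (∃ m : ℕ, q = 2 ^ m + 1 ∧ Nat.card G = 2 ^ m) ∧ IsCyclic G) ∨
    (p = 2 ∧ q = 3 ∧ Nat.card V = 9 ∧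
      ((IsCyclic G ∧ Nat.card G = 8) ∨ Nonempty (G ≃* QuaternionGroup 2) ∨ (Cfsg.IsQuasiDihedral G ∧ Nat.card G = 16))) := by
  classical
  let _ : DistribMulAction G V := DistribMulAction.compHom V ρ
  have : FaithfulSMul G V := ⟨fun h => hρ (LinearEquiv.ext h)⟩
  change ∀ v w : V, v ≠ 0 → w ≠ 0 → ∃ g : G, g • v = w at htrans
  have hq : q.Prime := Fact.out
  have hp : p.Prime := Fact.out
  have hV := Module.natCard_eq_pow_finrank (K := ZMod q) (V := V)
  rw [Nat.card_zmod] at hV
  generalize Module.finrank (ZMod q) V = n at hV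
  have := hG.isNilpotent
  have hdvd := card_sub_one_dvd (G := G) htrans
  obtain ⟨k, hk⟩ := hG.exists_card_eq
  obtain ⟨a, -, ha⟩ := (Nat.dvd_prime_pow hp).1 (hk ▸ hdvd)
  have hpr : ∀ r, r.Prime → r ∣ Nat.card G → r = p := fun r hr h =>
    (Nat.prime_dvd_prime_iff_eq hr hp).1 (hr.dvd_of_dvd_pow (hk ▸ h))
  rcases huppert (G := G) htrans hq hV with ⟨F, _, _, e, he⟩ | ⟨A, E, -, -, h2, -, -, h | h⟩
  rotate_left
  · have h3 := hpr 2 Nat.prime_two (h2.trans A.card_subgroup_dvd_card)
    have h4 := hpr 3 Nat.prime_three (Dvd.dvd.trans (by omega) E.index_dvd_card)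
    omega
  · rw [hV, h.1, h.2] at hdvd
    have h3 := hpr 2 Nat.prime_two (Dvd.dvd.trans (by norm_num) hdvd)
    have h4 := hpr 5 (by norm_num) (Dvd.dvd.trans (by norm_num) hdvd)
    omega
  let _ : DistribMulAction G F :=
    { smul := fun g y => e (g • e.symm y)
      one_smul := fun y => (congrArg e (one_smul G _)).trans (e.apply_symm_apply y)
      mul_smul := fun g h y => congrArg e ((mul_smul g h _).trans
        (congrArg (g • ·) (e.symm_apply_apply _).symm))
      smul_zero := fun g => by change e (g • e.symm 0) = 0; simp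
      smul_add := fun g x y => by change e (g • e.symm _) = e _ + e _; simp }
  have hsm : ∀ (g : G) (y : F), g • y = e (g • e.symm y) := fun _ _ => rfl
  have hfa : ∀ g h : G, (∀ y : F, g • y = h • y) → g = h := fun g h H =>
    FaithfulSMul.eq_of_smul_eq_smul (α := V) fun v => e.injective (by simpa [hsm] using H (e v))
  obtain ⟨σ, hσ⟩ := exists_ringAut_hom (G := G) (V := F) (K := F) fun g c => by
    obtain ⟨b, τ, h⟩ := he g
    exact ⟨τ c, fun v => by simp [hsm, h, mul_left_comm]⟩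
  have hσ1 : ∀ (g : G) (c : F), g • c = σ g c * g • (1 : F) := fun g c => by simpa using hσ g c 1
  let ι : σ.ker →* F := ⟨⟨fun g => (g : G) • (1 : F), one_smul G _⟩, fun g h => by
    change ((g : G) * h) • (1 : F) = _ * _
    rw [mul_smul, hσ1, g.2, mul_comm]; rfl⟩
  have hι : Function.Injective ι.toHomUnits := fun g h H => Subtype.ext (hfa _ _ fun y => by
    rw [hσ1 g, hσ1 h, g.2, h.2]
    exact congrArg (_ * ·) (congrArg Units.val H))
  have hF : Fintype.card F = q ^ n := by
    rw [← hV, Nat.card_congr e.toEquiv, Nat.card_eq_fintype_card]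
  have hn : n ≠ 0 := by rintro rfl; exact Fintype.one_lt_card.ne' hF
  have : CharP F q := charP_of_card_eq_prime_pow hF
  have : Finite (RingAut F) := Finite.of_injective (fun f : RingAut F => (f : F → F))
    DFunLike.coe_injective
  have hA := card_ringAut_le hq hF
  have h1 : σ.ker.index ≤ n := index_ker σ ▸ (card_le_card_group _).trans hA
  have h2 : Nat.card σ.ker ∣ q ^ n - 1 := by
    rw [← hF, ← Nat.card_eq_fintype_card, ← Nat.card_units]
    exact card_dvd_of_injective _ hι
  have hcyc : IsCyclic σ.ker := isCyclic_of_injective _ hι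
  have h3 := σ.ker.card_mul_index
  have h4 : 0 < σ.ker.index := Nat.pos_of_ne_zero index_ne_zero_of_finite
  have hG1 : 1 < Nat.card G := Finite.one_lt_card
  rw [hV] at ha hdvd ⊢
  have ha0 : a ≠ 0 := by
    rintro rfl
    have h5 : q ^ n = 2 := by have := pow_pos hq.pos n; rw [pow_zero] at ha; omega
    have h6 := Nat.lt_pow_self hq.one_lt (n := n)
    rw [ha, pow_zero, Nat.dvd_one] at h2
    rw [h2] at h3
    omega
  rcases arith hq hp ha0 ha with ⟨rfl, rfl⟩ | ⟨rfl, rfl⟩ | ⟨rfl, rfl, rfl⟩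
  · rw [pow_one] at ha
    refine Or.inl ⟨rfl, ha.symm, ?_⟩
    have h5 : σ.ker.index = 1 := by
      by_contra h
      obtain ⟨r, hr, h⟩ := Nat.exists_prime_and_dvd h
      obtain rfl := hpr r hr (h.trans σ.ker.index_dvd_card)
      have h6 := Nat.le_of_dvd h4 h
      obtain ⟨m, rfl⟩ := Nat.exists_eq_succ_of_ne_zero hn
      have := Nat.lt_two_pow_self (n := m)
      have := hr.two_le
      rw [pow_succ] at ha
      rcases m with _ | m
      · omega
      · omega
    rw [h5, mul_one] at h3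
    exact Nat.dvd_antisymm (h3 ▸ ha ▸ h2) (ha ▸ hdvd)
  · obtain h5 : σ.ker = ⊤ := index_eq_one.1 (by omega)
    rw [h5] at h2 hcyc
    rw [card_top] at h2
    rw [pow_one] at ha hdvd h2 ⊢
    exact Or.inr (Or.inl ⟨rfl, rfl, ⟨a, by have := hq.pos; omega, ha ▸ Nat.dvd_antisymm h2 hdvd⟩,
      isCyclic_of_surjective _ topEquiv.surjective⟩)
  refine Or.inr (Or.inr ⟨rfl, rfl, rfl, ?_⟩)
  have horb : ∀ y : F, y ≠ 0 → (stabilizer G y).index = 8 := fun y hy => by
    have h : orbit G y = {0}ᶜ := Set.ext fun w =>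
      ⟨fun ⟨g, hg⟩ => hg ▸ (smul_ne_zero_iff_ne g).2 hy, fun hw => by
        obtain ⟨g, hg⟩ := htrans (e.symm y) (e.symm w) (by simpa) (by simpa)
        exact ⟨g, (congrArg e hg).trans (e.apply_symm_apply w)⟩⟩
    rw [index_stabilizer, h, Set.ncard_compl, Set.ncard_singleton, Nat.card_eq_fintype_card, hF]
    rfl
  have h5 := Nat.mul_le_mul (Nat.le_of_dvd (by norm_num) h2) h1
  rw [h3] at h5
  have h6 : Nat.card G = 8 ∨ Nat.card G = 16 := by omega
  rcases h6 with h6 | h6
  · have hinv : ∀ x : G, orderOf x = 2 → ∀ y : F, x • y = -y := fun x hx y => by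
      by_contra h
      have h7 := (stabilizer G (x • y + y)).card_mul_index
      rw [horb _ fun e => h (eq_neg_of_add_eq_zero_left e), h6] at h7
      have h8 : x ∈ stabilizer G (x • y + y) := by
        rw [mem_stabilizer_iff, smul_add, smul_smul, ← sq, ← hx, pow_orderOf_eq_one, one_smul,
          add_comm]
      rw [eq_bot_of_card_eq (stabilizer G (x • y + y)) (by omega), mem_bot] at h8
      rw [h8, orderOf_one] at hx
      omega
    rcases Frob.cyclic_or_quaternion_of_forall_mem_zpowers hG (fun x y hx hy => by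
      rw [hfa x y fun c => by rw [hinv x hx, hinv y hy]]
      exact mem_zpowers y) with h | ⟨-, m, hm, ⟨f⟩⟩
    · exact Or.inl ⟨h, h6⟩
    · have h7 := Nat.card_congr f.toEquiv
      rw [h6, Nat.card_eq_fintype_card, QuaternionGroup.card] at h7
      exact Or.inr (Or.inl ⟨(show 2 ^ m = 2 by omega) ▸ f⟩)
  refine Or.inr (Or.inr ⟨⟨3, le_rfl, h6, ?_⟩, h6⟩)
  have h7 : Nat.card σ.ker = 8 := by
    have := Nat.le_of_dvd (by norm_num) h2
    rw [h6] at h3
    interval_cases σ.ker.index <;> omega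
  obtain ⟨x, hx⟩ := IsCyclic.exists_ofOrder_eq_natCard (α := σ.ker)
  have h8 := (stabilizer G (1 : F)).card_mul_index
  rw [horb 1 one_ne_zero, h6] at h8
  obtain ⟨y, hy, hy2⟩ := Core.exists_mem_orderOf_eq_of_dvd_card (H := stabilizer G (1 : F))
    Nat.prime_two (by omega)
  refine ⟨x, y, by rw [orderOf_coe, hx, h7]; rfl, hy2, ?_⟩
  have h9 : σ y ≠ 1 := fun h => by
    rw [hfa y 1 fun c => by rw [hσ1, h, hy, one_smul, mul_one]; rfl, orderOf_one] at hy2
    omega
  have h10 : frobeniusEquiv F 3 ≠ (1 : RingAut F) := fun h => by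
    have h11 : ι.toHomUnits (x ^ 3) = ι.toHomUnits x :=
      Units.ext ((map_pow ι x 3).trans (DFunLike.congr_fun h (ι x)))
    have := orderOf_dvd_of_pow_eq_one (show x ^ 2 = 1 from
      mul_left_cancel (((pow_succ' x 2).symm.trans (hι h11)).trans (mul_one x).symm))
    rw [hx, h7] at this
    omega
  have h11 : σ y = frobeniusEquiv F 3 := by
    by_contra h
    have := Set.ncard_le_card ({1, σ y, frobeniusEquiv F 3} : Set (RingAut F))
    rw [Set.ncard_eq_three.2 ⟨_, _, _, h9.symm, h10.symm, h, rfl⟩] at this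
    omega
  have h12 := hι (a₁ := ⟨y * x * y⁻¹, σ.normal_ker.conj_mem _ x.2 y⟩) (a₂ := x ^ 3) (Units.ext (by
    change (y * x * y⁻¹) • (1 : F) = ι (x ^ 3)
    rw [mul_smul, mul_smul, show y⁻¹ • (1 : F) = 1 from inv_mem hy, hσ1, h11, hy, mul_one, map_pow]
    rfl))
  exact congrArg Subtype.val h12

end Cfsg.Agent.S3370
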