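import Cfsg.Statements.S3776
import Cfsg.Agent.Lib.Suz2.SLin
import Cfsg.Agent.Lib.Core.Frattini

set_option autoImplicit false
open Cfsg

namespace Cfsg.Agent.S3776

/-- Let G be a finite non-abelian 2-group with more than one involution admitting a solvable group of automorphisms that permutes its involutions transitively. Then the derived subgroup, the Frattini subgroup and the centre of G coincide and consist exactly of the elements x with x² = 1. -/
theorem result {G : Type*} [Group G] [Finite G] (hG : IsPGroup 2 G) (hna : ¬ IsMulCommutative G) (htwo : ∃ x y : G, x ≠ y ∧ x ≠ 1 ∧ x ^ 2 = 1 ∧ y ≠ 1 ∧ y ^ 2 = 1) (hY : ∃ Y : Subgroup (MulAut G), Group.IsSolvable Y ∧ ∀ x y : G, x ≠ 1 → x ^ 2 = 1 → y ≠ 1 → y ^ 2 = 1 → ∃ a ∈ Y, a x = y) : commutator G = frattini G ∧ frattini G = Subgroup.center G ∧ ∀ x : G, x ∈ Subgroup.center G ↔ x ^ 2 = 1 := by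
  obtain ⟨Y, hs, htr⟩ := hY
  obtain ⟨a, N, F, _, _, _, h⟩ := CfsgLib.Suz2.exists_sup hG (by simpa only [sq] using htwo) Y
    (by simpa only [sq] using htr)
  have hnab : ∃ x y : G, x * y ≠ y * x := by
    by_contra hc
    push Not at hc
    exact hna ⟨⟨hc⟩⟩
  obtain ⟨h1, h2⟩ := h.center_eq_and_sq hnab
  have h3 : CfsgLib.Suz2.Om G ≤ commutator G := by
    refine h.Om_le ((CfsgLib.Suz2.sInv_top a).commutator (CfsgLib.Suz2.sInv_top a)) fun e => ?_
    obtain ⟨x, y, hxy⟩ := hnab
    exact hxy (commutatorElement_eq_one_iff_mul_comm.1 (Subgroup.mem_bot.1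
      (e.le (Subgroup.commutator_mem_commutator (Subgroup.mem_top x) (Subgroup.mem_top y)))))
  have h4 : frattini G ≤ CfsgLib.Suz2.Om G := by
    refine CfsgLib.Core.frattini_le_of_commutator_le_of_pow_mem Nat.prime_two
      (Subgroup.commutator_le.2 fun x _ y _ => ?_) (fun x => by rw [sq]; exact h2 x)
    rw [CfsgLib.Suz2.comm_eq_sq]
    exact mul_mem (mul_mem (h2 _) (h2 _)) (inv_mem (h2 _))
  have h5 := CfsgLib.Core.commutator_le_frattini_of_isPGroup hG
  refine ⟨le_antisymm h5 (h4.trans h3), h1 ▸ le_antisymm h4 (h3.trans h5), fun x => ?_⟩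
  rw [h1, h.mem_Om, sq]

end Cfsg.Agent.S3776
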