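import Cfsg.Statements.S3784
import Mathlib

set_option autoImplicit false
open Cfsg

namespace Cfsg.Agent.S3784

lemma geom_parity (x : ℤ) (hx : Odd x) (n : ℕ) :
    (Even n → Even (∑ i ∈ Finset.range n, x ^ i)) ∧ (Odd n → Odd (∑ i ∈ Finset.range n, x ^ i)) := by
  induction n with
  | zero => simp
  | succ n ih =>
    rw [Finset.sum_range_succ]
    have h : Odd (x ^ n) := hx.pow
    constructor
    · intro hn
      have : Odd n := by
        rcases Nat.even_or_odd n with h1 | h1
        · exact absurd hn (by rw [Nat.even_add_one]; exact not_not.2 h1)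
        · exact h1
      exact (ih.2 this).add_odd h
    · intro hn
      have : Even n := by
        rcases Nat.even_or_odd n with h1 | h1
        · exact h1
        · exact absurd hn (by rw [Nat.odd_add_one]; exact not_not.2 h1)
      exact (ih.1 this).add_odd h

/-- if `x` and `n` are odd and `|x^n - 1|` is a power of two then `|x^n - 1| = |x - 1|`. -/
lemma key (x : ℤ) (hx : Odd x) (n : ℕ) (hn : Odd n) (k : ℕ) (h : (x ^ n - 1).natAbs = 2 ^ k) :
    (x ^ n - 1).natAbs = (x - 1).natAbs := by
  have e := mul_geom_sum x n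
  have ho := (geom_parity x hx n).2 hn
  set s := ∑ i ∈ Finset.range n, x ^ i
  have hd : s.natAbs ∣ 2 ^ k := by
    rw [← h, ← e, Int.natAbs_mul]; exact Dvd.intro_left _ rfl
  obtain ⟨j, -, hj⟩ := (Nat.dvd_prime_pow Nat.prime_two).1 hd
  have hj0 : j = 0 := by
    by_contra hne
    have : Even s.natAbs := by rw [hj]; exact (Nat.even_pow.2 ⟨even_two, hne⟩)
    exact (Int.not_even_iff_odd.2 ho) (Int.natAbs_even.1 this)
  rw [← e, Int.natAbs_mul, hj, hj0]; simp

/-- Let p, q be primes and a, b positive integers with p^a = q^b + 1. Then either p = 2, b = 1, a is prime and q = 2^a − 1; or q = 2, a = 1, b is a power of 2 and p = 2^b + 1; or p^a = 9 and q^b = 8. -/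
theorem result (p q a b : ℕ) (hp : p.Prime) (hq : q.Prime) (ha : 1 ≤ a) (hb : 1 ≤ b) (h : p ^ a = q ^ b + 1) : (p = 2 ∧ b = 1 ∧ a.Prime ∧ q + 1 = 2 ^ a) ∨ (q = 2 ∧ a = 1 ∧ (∃ m : ℕ, b = 2 ^ m) ∧ p = 2 ^ b + 1) ∨ (p ^ a = 9 ∧ q ^ b = 8) := by
  have ha0 : a ≠ 0 := by omega
  have hb0 : b ≠ 0 := by omega
  rcases hp.eq_two_or_odd' with rfl | hpo
  · -- p = 2
    have hqo : Odd q := by
      rcases hq.eq_two_or_odd' with rfl | hqo
      · exfalso
        have h1 : Even (2 ^ a) := Nat.even_pow.2 ⟨even_two, ha0⟩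
        have h2 : Even (2 ^ b) := Nat.even_pow.2 ⟨even_two, hb0⟩
        rw [h, Nat.even_add_one] at h1
        exact h1 h2
      · exact hqo
    have hq2 := hq.two_le
    have hqb : q ≤ q ^ b := Nat.le_self_pow hb0 q
    have ha1 : a ≠ 1 := by
      rintro rfl
      omega
    have hbo : Odd b := by
      rcases Nat.even_or_odd b with ⟨c, rfl⟩ | hbo
      · exfalso
        obtain ⟨t, ht⟩ := (hqo.pow (n := c))
        have h4 : 4 ∣ 2 ^ a := by
          have : 2 ^ 2 ∣ 2 ^ a := pow_dvd_pow 2 (by omega)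
          simpa using this
        rw [h, pow_add, ht] at h4
        have : (2 * t + 1) * (2 * t + 1) + 1 = 4 * (t * t + t) + 2 := by ring
        omega
      · exact hbo
    have hk := key (-(q : ℤ)) (by simpa using hqo) b hbo a (by
      rw [hbo.neg_pow, show -(q : ℤ) ^ b - 1 = -((q ^ b + 1 : ℕ) : ℤ) by push_cast; ring,
        Int.natAbs_neg, Int.natAbs_natCast, h])
    rw [hbo.neg_pow, show -(q : ℤ) ^ b - 1 = -((q ^ b + 1 : ℕ) : ℤ) by push_cast; ring,
      show -(q : ℤ) - 1 = -((q + 1 : ℕ) : ℤ) by push_cast; ring, Int.natAbs_neg, Int.natAbs_neg,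
      Int.natAbs_natCast, Int.natAbs_natCast] at hk
    have hb1 : b = 1 := by
      have : q ^ b = q ^ 1 := by rw [pow_one]; omega
      exact Nat.pow_right_injective hq2 this
    subst hb1
    left
    refine ⟨rfl, rfl, ?_, by rw [h, pow_one]⟩
    have : q = 2 ^ a - 1 := by rw [h, pow_one]; omega
    exact (Nat.prime_of_pow_sub_one_prime ha1 (this ▸ hq)).2
  · have hq2 : q = 2 := by
      rcases hq.eq_two_or_odd' with rfl | hqo
      · rfl
      · exfalso
        have h1 : Odd (p ^ a) := hpo.pow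
        have h2 : Odd (q ^ b) := hqo.pow
        rw [h, Nat.odd_add_one] at h1
        exact h1 h2
    subst hq2
    have hp2 := hp.two_le
    right
    rcases Nat.even_or_odd a with ⟨c, rfl⟩ | hao
    · right
      have hc0 : c ≠ 0 := by omega
      have hpc : p ≤ p ^ c := Nat.le_self_pow hc0 p
      obtain ⟨t, ht⟩ : ∃ t, p ^ c = t + 1 := ⟨p ^ c - 1, by omega⟩
      have e : t * (t + 2) = 2 ^ b := by
        rw [pow_add, ht] at h
        nlinarith
      obtain ⟨i, -, hi⟩ := (Nat.dvd_prime_pow Nat.prime_two).1 (Dvd.intro _ e)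
      obtain ⟨j, -, hj⟩ := (Nat.dvd_prime_pow Nat.prime_two).1 (Dvd.intro_left _ e)
      have hp3 : 3 ≤ p := by
        obtain ⟨u, hu⟩ := hpo
        omega
      have ht2 : t = 2 := by
        by_contra hne
        have ht3 : 3 ≤ t := by omega
        have hi2 : 2 ≤ i := by
          by_contra hlt
          have : i = 0 ∨ i = 1 := by omega
          rcases this with rfl | rfl <;> simp at hi <;> omega
        have hj2 : 2 ≤ j := by
          by_contra hlt
          have : j = 0 ∨ j = 1 := by omega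
          rcases this with rfl | rfl <;> simp at hj <;> omega
        have d1 : 2 ^ 2 ∣ t := hi ▸ pow_dvd_pow 2 hi2
        have d2 : 2 ^ 2 ∣ t + 2 := hj ▸ pow_dvd_pow 2 hj2
        omega
      subst ht2
      constructor
      · rw [pow_add, ht]; norm_num
      · rw [← e]
    · left
      have h1 : 1 ≤ p ^ a := Nat.one_le_pow _ _ (by omega)
      have hk := key (p : ℤ) (by simpa using hpo) a hao b (by
        rw [show (p : ℤ) ^ a - 1 = ((2 ^ b : ℕ) : ℤ) by
          have : ((p ^ a : ℕ) : ℤ) = ((2 ^ b + 1 : ℕ) : ℤ) := by rw [h]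
          push_cast at this ⊢; linarith, Int.natAbs_natCast])
      have ha1 : a = 1 := by
        have e1 : (p : ℤ) ^ a - 1 = ((p ^ a - 1 : ℕ) : ℤ) := by push_cast [h1]; ring
        have e2 : (p : ℤ) - 1 = ((p - 1 : ℕ) : ℤ) := by push_cast [show 1 ≤ p by omega]; ring
        rw [e1, e2, Int.natAbs_natCast, Int.natAbs_natCast] at hk
        have : p ^ a = p ^ 1 := by rw [pow_one]; omega
        exact Nat.pow_right_injective hp2 this
      subst ha1
      rw [pow_one] at h
      exact ⟨rfl, rfl, Nat.pow_of_pow_add_prime (by norm_num) hb0 (h ▸ hp), h⟩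

end Cfsg.Agent.S3784
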