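import Cfsg.Statements.S3968
import Cfsg.Agent.Lib.Char.Integral
import Cfsg.Agent.Lib.Core.Fitting

set_option autoImplicit false
open Cfsg

namespace Cfsg.Agent.S3968

open CfsgLib CfsgLib.Char Subgroup in
open scoped commutatorElement in
/-- Let `p` be a prime and `G` a finite group with a faithful irreducible complex character of degree `p` (so `G` is an irreducible linear group in `p` variables). If `p ^ 2` divides the order of `G`, then the centre of `G` is nontrivial. -/
theorem result {G : Type*} [Group G] [Finite G] (p : ℕ) (hp : p.Prime) (χ : Cfsg.IrrCharacter G) (hdeg : χ.1 1 = p) (hfaith : ∀ g : G, χ.1 g = χ.1 1 → g = 1) (hdiv : p ^ 2 ∣ Nat.card G) : Subgroup.center G ≠ ⊥ := by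
  classical
  intro hZ
  haveI := Fact.mk hp
  obtain ⟨P, hP, hi, h2⟩ : ∃ P : Subgroup G, IsPGroup p P ∧ ¬ p ∣ P.index ∧ p ^ 2 ∣ Nat.card P :=
    (Sylow.nonempty (p := p) (G := G)).elim fun P => ⟨P, P.2, P.not_dvd_index, P.pow_dvd_card_of_pow_dvd_card hdiv⟩
  have hc := isCharacter_of_isIrr χ.2
  have hk : charKer χ.1 = ⊥ := eq_bot_iff.2 fun g hg => hfaith g ((mem_charKer hc).1 hg)
  have h0 : ∀ z : P, z ∈ center P → z ≠ 1 → χ.1 z = 0 := fun z hz h1 =>
    (irr_eq_zero_or_norm_eq_of_coprime χ.2 z hdeg (hp.coprime_iff_not_dvd.2 fun e => hi (e.trans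
      (index_dvd_of_le fun g hg => mem_centralizer_singleton_iff.2
        (congrArg Subtype.val (mem_center_iff.1 hz ⟨g, hg⟩)))))).resolve_right fun e => h1 (Subtype.ext (mem_bot.1
      (hZ ▸ charCenter_le_center_of_faithful (isClassFunction_of_isIrr χ.2) hk ((mem_charCenter hc).2 e))))
  obtain ⟨s, hs, e⟩ := exists_irr_multiset (isCharacter_restrict P hc)
  by_cases hl : ∀ ψ ∈ s, ψ 1 = 1
  · have hP : ∀ a b : P, a * b = b * a := fun a b => commutatorElement_eq_one_iff_mul_comm.1 (Subtype.ext (hfaith _ (by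
      rw [congrFun e ⁅a, b⁆, show χ.1 1 = _ from congrFun e 1, Pi.multiset_sum_apply, Pi.multiset_sum_apply]
      exact congrArg _ (Multiset.map_congr rfl fun ψ hψ => (mem_charKer (isCharacter_of_isIrr (hs ψ hψ))).1
        ((irr_one_eq_one_iff (hs ψ hψ)).1 (hl ψ hψ) (commutator_mem_commutator (mem_top a) (mem_top b)))))))
    haveI := Fintype.ofFinite P
    obtain ⟨n, hn⟩ := exists_classInner_eq_nat (isCharacter_restrict P hc) isCharacter_one
    rw [classInner_one_right, Fintype.sum_eq_single 1 (fun z h1 => h0 z (mem_center_iff.2 fun a => hP a z) h1),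
      inv_mul_eq_iff_eq_mul₀ natCard_ne_zero, coe_one, hdeg] at hn
    have := Nat.le_of_dvd hp.pos (h2.trans (Dvd.intro n (by exact_mod_cast hn.symm)))
    nlinarith [hp.one_lt]
  push Not at hl
  obtain ⟨ψ, hψ, h1⟩ := hl
  obtain ⟨t, rfl⟩ := Multiset.exists_cons_of_mem hψ
  have ht := isCharacter_multiset_sum t fun θ h => isCharacter_of_isIrr (hs θ (Multiset.mem_cons_of_mem h))
  obtain ⟨n, -, hn, e1⟩ := exists_irr_degree (hs ψ hψ)
  obtain ⟨m, e2⟩ := exists_char_one_eq_nat ht
  obtain ⟨k, hk⟩ := hP.exists_card_eq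
  rw [Multiset.sum_cons] at e
  have e3 : p = n + m := by
    have := congrFun e 1
    rw [coe_one, hdeg, Pi.add_apply, e1, e2] at this
    exact_mod_cast this
  obtain ⟨i, -, rfl⟩ := (Nat.dvd_prime_pow hp).1 (hk ▸ hn)
  have : p ≤ p ^ i := Nat.le_self_pow (fun e => h1 (by rw [e1, e]; simp)) p
  rw [char_eq_zero_of_one_eq_zero ht (by rw [e2, show m = 0 by omega, Nat.cast_zero]), add_zero] at e
  haveI : Nontrivial P := Finite.one_lt_card_iff_nontrivial.1
    (lt_of_lt_of_le (Nat.one_lt_pow two_ne_zero hp.one_lt) (Nat.le_of_dvd Nat.card_pos h2))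
  haveI := hP.center_nontrivial
  obtain ⟨⟨z, hz⟩, hz1⟩ := exists_ne (1 : center P)
  have := norm_irr_of_mem_center (hs ψ hψ) hz
  rw [← congrFun e z, h0 z hz fun e => hz1 (Subtype.ext e), norm_zero, eq_comm, norm_eq_zero] at this
  exact irr_one_ne_zero (hs ψ hψ) this

end Cfsg.Agent.S3968
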