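import Cfsg.Statements.S2388
import Cfsg.Agent.Lib.MatConj.CentDet

set_option autoImplicit false
open Cfsg

namespace Cfsg.Agent.S2388

open CfsgLib.MatConj

/-- In `SL_n(q)`, `q` a power of the prime `p`, two elements of order prime to `p` with the same characteristic polynomial are conjugate in `SL_n(q)` (not merely in `GL_n`). -/
theorem result {F : Type*} [Field F] [Fintype F] (p : ℕ) [Fact p.Prime] [CharP F p] (n : ℕ)
    (g h : Matrix.SpecialLinearGroup (Fin n) F) (hg : (orderOf g).Coprime p) (hh : (orderOf h).Coprime p)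
    (hc : (g : Matrix (Fin n) (Fin n) F).charpoly = (h : Matrix (Fin n) (Fin n) F).charpoly) : IsConj g h := by
  rcases Nat.eq_zero_or_pos n with rfl | hn
  · rw [Subsingleton.elim g h]
  have : Nonempty (Fin n) := ⟨⟨0, hn⟩⟩
  have h1 : ∀ x : Matrix.SpecialLinearGroup (Fin n) F,
      (x : Matrix (Fin n) (Fin n) F) ^ orderOf x = 1 := fun x => by
    rw [← Matrix.SpecialLinearGroup.coe_pow, pow_orderOf_eq_one, Matrix.SpecialLinearGroup.coe_one]
  exact isConj_SL_of_isConj
    (isConj_of_charpoly_eq_of_pow_eq_one (natCast_ne_zero_of_coprime hg)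
      (natCast_ne_zero_of_coprime hh) (h1 g) (h1 h) hc)
    fun d _ => det_surj_of_pow_eq_one (natCast_ne_zero_of_coprime hg) (h1 g) d

end Cfsg.Agent.S2388
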