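import Cfsg.Statements.S2384
import Cfsg.Agent.Lib.MatConj.Semi
import Cfsg.Agent.S2388

set_option autoImplicit false
open Cfsg

namespace Cfsg.Agent.S2384

open CfsgLib.MatConj Polynomial

/-- In `SL_n(q)`, `q` a power of the prime `p`, the number of conjugacy classes of elements of order prime to `p` (the semisimple classes) is `q^(n-1)`. -/
theorem result {F : Type*} [Field F] [Fintype F] {q : ℕ} (hq : Fintype.card F = q) (p : ℕ) [Fact p.Prime] [CharP F p] (n : ℕ) (hn : 1 ≤ n) :
    Nat.card {c : ConjClasses (Matrix.SpecialLinearGroup (Fin n) F) //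
      ∃ g : Matrix.SpecialLinearGroup (Fin n) F, ConjClasses.mk g = c ∧ (orderOf g).Coprime p} = q ^ (n - 1) := by
  obtain ⟨k, rfl⟩ : ∃ k, n = k + 1 := ⟨n - 1, by omega⟩
  rw [card_conjClasses_eq_card_image _
    (fun g : Matrix.SpecialLinearGroup (Fin (k + 1)) F =>
      (g : Matrix (Fin (k + 1)) (Fin (k + 1)) F).charpoly)
    fun g g' hg hg' => ⟨fun h => charpoly_eq_of_isConj (isConj_coe_SL h),
      Cfsg.Agent.S2388.result p _ g g' hg hg'⟩]
  have h := card_monic_coeff_zero (F := F) k fun c => c = (-1) ^ (k + 1)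
  rw [Nat.card_unique (α := {c : F // c = (-1) ^ (k + 1)}), Nat.card_eq_fintype_card (α := F), hq, one_mul] at h
  rw [Nat.add_sub_cancel, ← h]
  have h4 : ((-1 : F) ^ (k + 1)) * (-1) ^ (k + 1) = 1 := by
    rw [← mul_pow, neg_mul_neg, one_mul, one_pow]
  refine Nat.card_congr (Equiv.subtypeEquivRight fun f => ⟨?_, ?_⟩)
  · rintro ⟨g, -, rfl⟩
    refine ⟨Matrix.charpoly_monic _, by simp, ?_⟩
    have := g.2
    rw [det_eq_of_charpoly, Fintype.card_fin] at this
    exact mul_left_cancel₀ (pow_ne_zero _ (neg_ne_zero.2 one_ne_zero)) (this.trans h4.symm)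
  · rintro ⟨h1, h2, h3⟩
    obtain ⟨g, h5, h6⟩ := exists_GL_semisimple_charpoly_eq (n := Fin (k + 1)) p h1
      (by simpa using h2) (by rw [h3]; exact pow_ne_zero _ (neg_ne_zero.2 one_ne_zero))
    have h7 : (g : Matrix (Fin (k + 1)) (Fin (k + 1)) F).det = 1 := by
      rw [det_eq_of_charpoly, h6, h3, Fintype.card_fin, h4]
    let g' : Matrix.SpecialLinearGroup (Fin (k + 1)) F := ⟨g, h7⟩
    refine ⟨g', ?_, h6⟩
    rw [← orderOf_injective Matrix.SpecialLinearGroup.coeMonoidHom
      Matrix.SpecialLinearGroup.coeMonoidHom_injective g']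
    rwa [← orderOf_units] at h5

end Cfsg.Agent.S2384
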