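import Cfsg.Statements.S2479
import Cfsg.Agent.Lib.MatConj.ClassBound
import Cfsg.Agent.S2384

set_option autoImplicit false
open Cfsg

namespace Cfsg.Agent.S2479

open CfsgLib.MatConj Matrix

/-- The number of conjugacy classes of SL(n,q): for F a finite field with q elements, the number k of conjugacy classes of SL(n,F) satisfies q^(n−1) < k and k ≤ (5/2)·q^(n−1) for n ≥ 2, and k ≤ q^(n−1) + 3q^(n−2) for n ≥ 3. -/
theorem result {F : Type*} [Field F] [Fintype F] (n : ℕ) (hn : 2 ≤ n) :
    Fintype.card F ^ (n - 1) < Nat.card (ConjClasses (Matrix.SpecialLinearGroup (Fin n) F)) ∧ 2 * Nat.card (ConjClasses (Matrix.SpecialLinearGroup (Fin n) F)) ≤ 5 * Fintype.card F ^ (n - 1) ∧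
      (3 ≤ n → Nat.card (ConjClasses (Matrix.SpecialLinearGroup (Fin n) F)) ≤ Fintype.card F ^ (n - 1) + 3 * Fintype.card F ^ (n - 2)) := by
  have hq : 2 ≤ Fintype.card F := Fintype.one_lt_card
  have h0 : (2 : ℝ) ≤ Fintype.card F := by exact_mod_cast hq
  have h1 := card_classes_SL_le' (F := F) (one_le_two.trans hn)
  have h2 : 3 ≤ n → Nat.card (ConjClasses (SpecialLinearGroup (Fin n) F)) ≤
      Fintype.card F ^ (n - 1) + 3 * Fintype.card F ^ (n - 2) := fun h3 => by
    have h4 := errE_SL hq h3
    obtain ⟨m, rfl⟩ : ∃ m, n = m + 2 := ⟨n - 2, by omega⟩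
    rw [show m + 2 - 1 = m + 1 by omega, Nat.add_sub_cancel] at h4 ⊢
    have h5 : (Nat.card (ConjClasses (SpecialLinearGroup (Fin (m + 2)) F)) : ℝ) ≤
        Fintype.card F ^ (m + 1) + 3 * Fintype.card F ^ m :=
      le_of_mul_le_mul_left (a := (Fintype.card F : ℝ) - 1)
        (by simp only [pow_succ] at h1 h4 ⊢; linarith) (by linarith)
    exact_mod_cast h5
  refine ⟨?_, ?_, h2⟩
  · obtain ⟨p, hp, -⟩ := FiniteField.card' F
    have : Fact p.Prime := ⟨CharP.char_is_prime F p⟩
    rw [← S2384.result rfl p n (one_le_two.trans hn)]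
    have hij : (⟨0, by omega⟩ : Fin n) ≠ ⟨1, by omega⟩ := by simp
    have h3 : ∀ k : ℕ, (SpecialLinearGroup.transvection hij (1 : F)) ^ k =
        SpecialLinearGroup.transvection hij (k : F) := fun k => by
      induction k with
      | zero => rw [pow_zero]; exact Subtype.ext (by simp [SpecialLinearGroup.transvection])
      | succ k ih =>
        rw [pow_succ, ih, Nat.cast_succ]
        exact Subtype.ext (transvection_mul_transvection_same _ _ hij _ _)
    have h4 : orderOf (SpecialLinearGroup.transvection hij (1 : F)) = p := by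
      refine orderOf_eq_prime ?_ fun h => ?_
      · rw [h3, CharP.cast_eq_zero]
        exact Subtype.ext (by simp [SpecialLinearGroup.transvection])
      · simpa [SpecialLinearGroup.transvection, transvection, hij] using
          congrArg (fun g : SpecialLinearGroup (Fin n) F => g.1 ⟨0, by omega⟩ ⟨1, by omega⟩) h
    refine Finite.card_subtype_lt (x := ConjClasses.mk (SpecialLinearGroup.transvection hij 1)) ?_
    rintro ⟨g, hg, hg'⟩
    obtain ⟨c, hc⟩ := ConjClasses.mk_eq_mk_iff_isConj.1 hg
    rw [SemiconjBy.orderOf_eq _ hc, h4, Nat.coprime_self] at hg'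
    exact this.out.ne_one hg'
  · rcases eq_or_lt_of_le hn with rfl | h3
    · have h4 := errE_le_sum hq 2 1
      norm_num at h1 h4 ⊢
      have h5 : 2 * (Nat.card (ConjClasses (SpecialLinearGroup (Fin 2) F)) : ℝ) ≤
          5 * Fintype.card F := by
        refine le_of_mul_le_mul_left (a := (Fintype.card F : ℝ) - 1) ?_ (by linarith)
        split_ifs at h4 with h5
        · have : (3 : ℝ) ≤ Fintype.card F := by exact_mod_cast h5
          nlinarith
        · nlinarith
      exact_mod_cast h5
    · have h4 := h2 h3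
      obtain ⟨m, rfl⟩ : ∃ m, n = m + 2 := ⟨n - 2, by omega⟩
      rw [show m + 2 - 1 = m + 1 by omega, Nat.add_sub_cancel, pow_succ] at *
      nlinarith [Nat.zero_le (Fintype.card F ^ m)]

end Cfsg.Agent.S2479
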