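import Cfsg.Statements.S2480
import Cfsg.Agent.Lib.MatConj.ClassBound
import Cfsg.Agent.Lib.Classical.SLCard
import Cfsg.Agent.S2479

set_option autoImplicit false
open Cfsg

namespace Cfsg.Agent.S2480

open CfsgLib.MatConj Matrix

/-- The number of conjugacy classes of PSL(n,q): for F a finite field with q elements, n ≥ 2 and d = gcd(n, q − 1), the number k of conjugacy classes of PSL(n,F) satisfies q^(n−1) ≤ d·k ≤ q^(n−1) + 5q^(n−2). -/
theorem result {F : Type*} [Field F] [Fintype F] (n : ℕ) (hn : 2 ≤ n) :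
    Fintype.card F ^ (n - 1) ≤ Nat.gcd n (Fintype.card F - 1) * Nat.card (ConjClasses (Matrix.ProjectiveSpecialLinearGroup (Fin n) F)) ∧
      Nat.gcd n (Fintype.card F - 1) * Nat.card (ConjClasses (Matrix.ProjectiveSpecialLinearGroup (Fin n) F)) ≤ Fintype.card F ^ (n - 1) + 5 * Fintype.card F ^ (n - 2) := by
  classical
  have hq : 2 ≤ Fintype.card F := Fintype.one_lt_card
  have h0 : (2 : ℝ) ≤ Fintype.card F := by exact_mod_cast hq
  have : Nonempty (Fin n) := ⟨⟨0, by omega⟩⟩
  have : Fintype (Subgroup.center (SpecialLinearGroup (Fin n) F)) := Fintype.ofFinite _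
  have h1 := CfsgLib.Classical.sl_card_center (ι := Fin n) (F := F)
  rw [Fintype.card_fin] at h1
  rw [← h1, card_center_mul_card_classes, ← Finset.add_sum_erase _ _ (Finset.mem_univ 1)]
  have h2 : Nat.card {C : ConjClasses (SpecialLinearGroup (Fin n) F) // ∃ g, ConjClasses.mk g = C ∧
      IsConj ((1 : Subgroup.center (SpecialLinearGroup (Fin n) F)).1 * g) g} =
      Nat.card (ConjClasses (SpecialLinearGroup (Fin n) F)) := by
    simp only [OneMemClass.coe_one, one_mul, IsConj.refl]
    exact card_conjClasses_eq.symm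
  rw [h2]
  refine ⟨(S2479.result n hn).1.le.trans (Nat.le_add_right _ _), ?_⟩
  obtain ⟨d, hd⟩ : ∃ d, n.gcd (Fintype.card F - 1) = d + 1 :=
    Nat.exists_eq_succ_of_ne_zero (Nat.gcd_ne_zero_left (by omega))
  have h3 := errE_PSL hq hn (d := d) (hd ▸ Nat.gcd_le_left _ (by omega))
    (by have := Nat.gcd_le_right n (n := Fintype.card F - 1) (by omega); omega)
  have h4 := card_classes_SL_le' (F := F) (one_le_two.trans hn)
  have h5 : ∀ z ∈ (Finset.univ : Finset (Subgroup.center (SpecialLinearGroup (Fin n) F))).erase 1,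
      ((Fintype.card F : ℝ) - 1) * Nat.card {C : ConjClasses (SpecialLinearGroup (Fin n) F) //
      ∃ g, ConjClasses.mk g = C ∧ IsConj (z.1 * g) g} ≤
      (Fintype.card F : ℝ) ^ (n / 2) - 1 + errE (Fintype.card F) n 2 := by
    rintro ⟨z, hz⟩ hz'
    obtain ⟨ζ, h6, h7⟩ := Matrix.SpecialLinearGroup.mem_center_iff.1 hz
    have h8 : 2 ≤ orderOf ζ := by
      have := (isOfFinOrder_iff_pow_eq_one.2 ⟨_, Fintype.card_pos, h6⟩).orderOf_pos
      have : orderOf ζ ≠ 1 := fun h => (Finset.mem_erase.1 hz').1 (Subtype.ext (Subtype.ext (by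
        rw [orderOf_eq_one_iff.1 h, map_one] at h7
        exact h7.symm)))
      omega
    have h9 := card_classes_SL_le (F := F) (one_le_two.trans hn) two_pos h8
      (IsPrimitiveRoot.orderOf ζ)
    rw [if_neg (by omega)] at h9
    refine le_trans (mul_le_mul_of_nonneg_left (Nat.cast_le.2 (Nat.card_le_card_of_injective _
      (Subtype.impEmbedding _ _ ?_).injective)) (by linarith)) h9
    rintro C ⟨g, hg, hg'⟩
    refine ⟨g, hg, ?_⟩
    have := SpecialLinearGroup.coeMonoidHom.map_isConj hg'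
    simpa [← h7, Matrix.smul_eq_diagonal_mul] using this
  have h6 := Finset.sum_le_card_nsmul _ _ _ h5
  rw [Finset.card_erase_of_mem (Finset.mem_univ _), Finset.card_univ,
    ← Nat.card_eq_fintype_card (α := Subgroup.center _), h1, hd, Nat.add_sub_cancel, nsmul_eq_mul, ← Finset.mul_sum] at h6
  have h7 : (1 : ℝ) ≤ if n = 3 then (Fintype.card F : ℝ) else 1 := by split_ifs <;> linarith
  obtain ⟨m, rfl⟩ : ∃ m, n = m + 2 := ⟨n - 2, by omega⟩
  rw [show m + 2 - 1 = m + 1 by omega, Nat.add_sub_cancel] at h3 ⊢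
  rw [← Nat.cast_le (α := ℝ)]
  push_cast
  refine le_of_mul_le_mul_left (a := (Fintype.card F : ℝ) - 1) ?_ (by linarith)
  simp only [pow_succ] at h3 h4 ⊢
  linarith

end Cfsg.Agent.S2480
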