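import Cfsg.Statements.S4552
import Cfsg.Agent.Lib.Star.Exc
import Cfsg.Agent.S4637
import Cfsg.Agent.Lib.Block.Homocyclic

set_option autoImplicit false
open Cfsg

namespace Cfsg.Agent.S4552

open CfsgLib CfsgLib.Star CfsgLib.Blk CfsgLib.Block CfsgLib.Char CfsgLib.BrPair MonoidAlgebra in
theorem frob {G : Type*} [Group G] [Fintype G] {M : Ideal AlgInt}
    [Fact (Nat.Prime 2)] {hM : IsPModular 2 M} {B : Set (IrrCharacter G)} {P : Subgroup G}
    {e : (K hM)[G]} (h : MaxPair 2 ⊤ ⊤ (eB hM B) P e) (hB : IsPBlock M B) (hV : FourOmega P) :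
    Frob hM B P e ∧ ((Cz P).relIndex (stN ⊤ P e) = 1 ∨ (Cz P).relIndex (stN ⊤ P e) = 3) := by
  classical
  have hab : P ≤ Cz P := fun x hx y hy => hV.1 y hy x hx
  have hodd := ab_not_dvd_relIndex h hab
  have hT : stN ⊤ P e ≤ Nz P := fun _ ht => ht.1.2
  have F : Frob hM B P e := by
    refine ⟨h, hB, hab, fun u hu hu1 t ht => ab_mem_Cz h hab ht.1 (n := 1) ?_⟩
    obtain ⟨-, V, hV4, hm⟩ := hV
    obtain ⟨z, hz, hz2⟩ := exists_orderOf_eq_of_ne_bot
      (h.pgroup.to_le (Subgroup.zpowers_le.2 hu)) (Subgroup.zpowers_ne_bot.2 hu1)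
    have hzP := Subgroup.zpowers_le.2 hu hz
    have h1 : t ^ 2 ^ 1 ∈ Cz V := S4637.sq_mem_Cz hV4 (u := z)
      ((hm z).2 ⟨hzP, hz2 ▸ pow_orderOf_eq_one z⟩) (by rintro rfl; simp at hz2)
      (mem_Nz.2 fun x => by
        rw [hm, hm, conj_pow, mul_inv_eq_one, mul_eq_left, ← mem_Nz.1 (hT ht.1) x]) (by
        obtain ⟨n, rfl⟩ := hz
        exact mem_Cu.2 ((show Commute u t from mem_Cu.1 ht.2).zpow_left n))
    have hn : ((Cz P).subgroupOf (stN ⊤ P e)).Normal :=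
      normal_subgroupOf_of_le_Nz (hT.trans (Nz_le_Nz_Cz P))
    have h2 := Subgroup.pow_index_mem ((Cz P).subgroupOf (stN ⊤ P e))
      (⟨t ^ 2 ^ 1, (stN ⊤ P e).pow_mem ht.1 _⟩ : stN ⊤ P e)
    refine mem_Cz.2 fun x hx => ?_
    rw [eq_comm, ← mul_inv_eq_iff_eq_mul]
    refine conj_eq_of_fix_involutions h.pgroup (fun a ha b hb => hab hb a ha)
      (hT ((stN ⊤ P e).pow_mem ht.1 _)) (k := (Cz P).relIndex (stN ⊤ P e))
      (Nat.not_even_iff_odd.1 fun h => hodd h.two_dvd) (fun y hy => ?_) (fun v hv hv2 => ?_) x hx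
    · rw [mul_inv_eq_iff_eq_mul]
      exact (mem_Cz.1 h2 y hy).symm
    · rw [mul_inv_eq_iff_eq_mul]
      exact (mem_Cz.1 h1 v ((hm v).2 ⟨hv, hv2⟩)).symm
  refine ⟨F, ?_⟩
  obtain ⟨t, ht, ht2⟩ := hV.exists_invol
  have h3 : cl 2 P e t ≤ 3 := by
    rw [← hV.card_invol, cl]
    refine Nat.card_le_card_of_injective (fun v => ⟨v.1, v.1.2, ?_⟩) fun v w hvw =>
      Subtype.ext (Subtype.ext (Subtype.mk.inj hvw))
    obtain ⟨c, hc⟩ := isConj_iff.1 v.2.isConj
    rwa [← hc, BrPair.orderOf_conj'] at ht2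
  rw [ab_cl_of_free h hab ht (F.free t ht (by rintro rfl; simp at ht2))] at h3
  omega

open CfsgLib CfsgLib.Star CfsgLib.Blk CfsgLib.Block CfsgLib.Char CfsgLib.BrPair MonoidAlgebra in

/-- Let B be a 2-block of the finite group G (relative to a maximal ideal M of the algebraic integers containing 2) whose defect group D is the direct product of two cyclic groups of the same order 2 ^ m, m ≥ 2. Then either B has 2-regular rank one and exactly 4 ^ m irreducible characters, or B has 2-regular rank three and exactly (4 ^ m + 8) / 3 irreducible characters. -/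
theorem result {G : Type*} [Group G] [Finite G] (M : Ideal Cfsg.AlgInt) (hM : Cfsg.IsPModular 2 M) (B : Set (Cfsg.IrrCharacter G)) (hB : Cfsg.IsPBlock M B) (D : Subgroup G) (hD : Cfsg.IsDefectGroup 2 M B D) (m : ℕ) (hm : 2 ≤ m) (hiso : Nonempty (D ≃* Multiplicative (ZMod (2 ^ m) × ZMod (2 ^ m)))) : (Cfsg.blockRank 2 B = 1 ∧ Nat.card B = 4 ^ m) ∨ (Cfsg.blockRank 2 B = 3 ∧ 3 * Nat.card B = 4 ^ m + 8) := by
  classical
  have : Fact (Nat.Prime 2) := ⟨Nat.prime_two⟩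
  have := Fintype.ofFinite G
  obtain ⟨φ⟩ := hiso
  obtain ⟨e, h⟩ := exists_maxPair_of_isDef le_rfl top_le_Nz_top (isBlk_eB hM hB)
    ((isDefectGroup_iff hM hB).1 hD)
  obtain ⟨F, h1⟩ := frob h hB (fourOmega_of_homocyclic D (by omega) φ)
  have h2 : Nat.card D = 4 ^ m := by
    rw [Nat.card_congr φ.toEquiv, Nat.card_congr Multiplicative.toAdd, Nat.card_prod, Nat.card_zmod,
      ← mul_pow, show 2 * 2 = 4 from rfl]
  have h3 : 16 ≤ 4 ^ m := Nat.pow_le_pow_right (by norm_num : 0 < 4) hm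
  have hP : D ≠ ⊥ := (Subgroup.one_lt_card_iff_ne_bot D).1 (by omega)
  have h4 := (F.rank_eq_or hP (by omega)).resolve_right (by omega)
  have h5 := F.card_eq
  obtain ⟨R, hR, -⟩ := exists_isFReps F.mp
  have h6 := (free_count F.mp F.ab F.blk F.free hR).1
  rcases h1 with h1 | h1 <;> rw [h1] at h4 h5 h6 <;> omega

end Cfsg.Agent.S4552
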