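import Cfsg.Statements.S3713
import Cfsg.Agent.Lib.CT.SpAm

set_option autoImplicit false
open Cfsg CfsgLib.CT CfsgLib.ClSys CfsgLib.Symp

namespace Cfsg.Agent.S3713

theorem eq_on_of_le {G H : Type*} [Group G] [Group H] (Φ : G →* H) {R : Subgroup G} (φ : R →* H)
    (h : ∀ K : Subgroup G, (∀ g (hg : g ∈ R), Φ g = φ ⟨g, hg⟩ → g ∈ K) → R ≤ K) (g : G) (hg : g ∈ R) :
    Φ g = φ ⟨g, hg⟩ := by
  obtain ⟨x, hx, rfl⟩ := h (((Φ.comp R.subtype).eqLocus φ).map R.subtype) (fun g hg e => ⟨⟨g, hg⟩, e, rfl⟩) hg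
  exact hx

/-- A presentation of the symplectic group as the universal completion of an amalgam of small subgroups. Let F be a field with more than two elements, n ≥ 2, and Sp the group of 2n × 2n matrices over F preserving the standard alternating form, acting on column vectors; write e_k, f_k for the standard basis vectors of the two halves (a hyperbolic basis). For each k let S_k be the subgroup of Sp fixing e_l and f_l for all l ≠ k (a copy of SL(2, F) on the plane of e_k, f_k), and for each i with i + 1 < n let M_i be the subgroup fixing every e_l and fixing f_l for all l other than i, i+1 (an abelian group isomorphic to the additive group of F³). Then Sp is the universal completion of the amalgam formed by the S_k, the M_i and the subgroups generated by two of them: for every group H and homomorphisms σ_k : S_k → H, μ_i : M_i → H such that for each pair of these subgroups some homomorphism on the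 subgroup they generate restricts to the given ones, there is exactly one homomorphism Sp → H restricting to every σ_k and μ_i. -/
theorem result
    (F : Type*) [Field F] (hF : ∃ a : F, a ≠ 0 ∧ a ≠ 1) (n : ℕ) (hn : 2 ≤ n)
    (S M : Fin n → Subgroup ↥(Matrix.symplecticGroup (Fin n) F))
    (hS : ∀ j : Fin n, S j = Subgroup.closure {A : ↥(Matrix.symplecticGroup (Fin n) F) | ∀ k : Fin n, k ≠ j →
      ((A : ↥(Matrix.symplecticGroup (Fin n) F)) : Matrix (Fin n ⊕ Fin n) (Fin n ⊕ Fin n) F).mulVec (Pi.single (Sum.inl k) (1 : F)) = (Pi.single (Sum.inl k) (1 : F)) ∧ ((A : ↥(Matrix.symplecticGroup (Fin n) F)) : Matrix (Fin n ⊕ Fin n) (Fin n ⊕ Fin n) F).mulVec (Pi.single (Sum.inr k) (1 : F)) = (Pi.single (Sum.inr k) (1 : F))})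
    (hM : ∀ i : Fin n, (i : ℕ) + 1 < n → M i = Subgroup.closure {A : ↥(Matrix.symplecticGroup (Fin n) F) |
      (∀ k : Fin n, ((A : ↥(Matrix.symplecticGroup (Fin n) F)) : Matrix (Fin n ⊕ Fin n) (Fin n ⊕ Fin n) F).mulVec (Pi.single (Sum.inl k) (1 : F)) = (Pi.single (Sum.inl k) (1 : F))) ∧
        ∀ k : Fin n, (k : ℕ) ≠ i → (k : ℕ) ≠ (i : ℕ) + 1 → ((A : ↥(Matrix.symplecticGroup (Fin n) F)) : Matrix (Fin n ⊕ Fin n) (Fin n ⊕ Fin n) F).mulVec (Pi.single (Sum.inr k) (1 : F)) = (Pi.single (Sum.inr k) (1 : F))})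
    {H : Type*} [Group H] (σ : ∀ j : Fin n, ↥(S j) →* H) (μ : ∀ i : Fin n, ↥(M i) →* H)
    (hSS : ∀ j l : Fin n, j ≠ l → ∃ Ψ : ↥(S j ⊔ S l) →* H,
      (∀ (g : ↥(Matrix.symplecticGroup (Fin n) F)) (hg : g ∈ S j), Ψ ⟨g, Subgroup.mem_sup_left hg⟩ = σ j ⟨g, hg⟩) ∧
        (∀ (g : ↥(Matrix.symplecticGroup (Fin n) F)) (hg : g ∈ S l), Ψ ⟨g, Subgroup.mem_sup_right hg⟩ = σ l ⟨g, hg⟩))
    (hMM : ∀ i i' : Fin n, i ≠ i' → (i : ℕ) + 1 < n → (i' : ℕ) + 1 < n → ∃ Ψ : ↥(M i ⊔ M i') →* H,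
      (∀ (g : ↥(Matrix.symplecticGroup (Fin n) F)) (hg : g ∈ M i), Ψ ⟨g, Subgroup.mem_sup_left hg⟩ = μ i ⟨g, hg⟩) ∧
        (∀ (g : ↥(Matrix.symplecticGroup (Fin n) F)) (hg : g ∈ M i'), Ψ ⟨g, Subgroup.mem_sup_right hg⟩ = μ i' ⟨g, hg⟩))
    (hMS : ∀ i j : Fin n, (i : ℕ) + 1 < n → ∃ Ψ : ↥(M i ⊔ S j) →* H,
      (∀ (g : ↥(Matrix.symplecticGroup (Fin n) F)) (hg : g ∈ M i), Ψ ⟨g, Subgroup.mem_sup_left hg⟩ = μ i ⟨g, hg⟩) ∧
        (∀ (g : ↥(Matrix.symplecticGroup (Fin n) F)) (hg : g ∈ S j), Ψ ⟨g, Subgroup.mem_sup_right hg⟩ = σ j ⟨g, hg⟩)) :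
    ∃! Φ : ↥(Matrix.symplecticGroup (Fin n) F) →* H,
      (∀ (j : Fin n) (g : ↥(Matrix.symplecticGroup (Fin n) F)) (hg : g ∈ S j), Φ g = σ j ⟨g, hg⟩) ∧
        (∀ (i : Fin n), (i : ℕ) + 1 < n → ∀ (g : ↥(Matrix.symplecticGroup (Fin n) F)) (hg : g ∈ M i), Φ g = μ i ⟨g, hg⟩) := by
  have mS : ∀ (j : Fin n) (a : II n), (a = .inl j ∨ a = .inr j) → ∀ t, spT (bv F a) t ∈ S j := by
    intro j a ha t
    rw [hS]
    refine Subgroup.subset_closure fun k hk => ⟨?_, ?_⟩ <;> refine (spT_smul _ _ _).trans ?_ <;>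
      rw [spB_bv (by rcases ha with rfl | rfl <;> simp [hk]), mul_zero, zero_smul, add_zero]
  have ne2 : ∀ {i : Fin n} (h : i.val + 1 < n) {k : Fin n}, k.val ≠ i → k.val ≠ i + 1 → ∀ l, k ≠ emb2 i h l :=
    fun {i} h {k} h1 h2 l e => by
      have := congrArg Fin.val e
      change k.val = i + l.val at this
      omega
  have mM : ∀ (i : Fin n) (h : i.val + 1 < n) (l : Fin 2) (t : F), spT (bv F (.inl (emb2 i h l))) t ∈ M i := by
    intro i h l t
    rw [hM i h]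
    refine Subgroup.subset_closure ⟨fun k => ?_, fun k h1 h2 => ?_⟩ <;> refine (spT_smul _ _ _).trans ?_
    · rw [spB_bv (by simp), mul_zero, zero_smul, add_zero]
    · rw [spB_bv (by simp [ne2 h h1 h2]), mul_zero, zero_smul, add_zero]
  have mM' : ∀ (i : Fin n) (h : i.val + 1 < n) (t : F), spM F i h t ∈ M i := by
    intro i h t
    rw [hM i h]
    refine Subgroup.subset_closure ⟨fun k => ?_, fun k h1 h2 => ?_⟩ <;>
      refine (spE_smul (by simp [spB_single_right]) _).trans ?_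
    · simp [spB_single_right]
    · simp [spB_single_right, (ne2 h h1 h2 _).symm]
  have gS : ∀ (j : Fin n) (K : Subgroup _), (∀ a : II n, (a = .inl j ∨ a = .inr j) → ∀ t, spT (bv F a) t ∈ K) →
      S j ≤ K := by
    intro j K hK
    rw [hS, Subgroup.closure_le]
    intro A hA
    let e : Fin 1 ↪ Fin n := ⟨fun _ => j, fun _ _ _ => Subsingleton.elim _ _⟩
    obtain ⟨B, rfl⟩ := exists_spEmb_eq e (A := A) (by
      rintro (k | k) hk
      · exact (hA k fun h => hk ⟨.inl 0, congrArg Sum.inl h.symm⟩).1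
      · exact (hA k fun h => hk ⟨.inr 0, congrArg Sum.inr h.symm⟩).2)
    have : K.comap (spEmb e) = ⊤ := sp2_gen fun a t => by
      rw [Subgroup.mem_comap, spEmb_T]
      exact hK _ (by rcases a with a | a; exacts [.inl rfl, .inr rfl]) t
    exact this.ge (Subgroup.mem_top B)
  have gM : ∀ (i : Fin n) (h : i.val + 1 < n) (K : Subgroup _), (∀ l t, spT (bv F (.inl (emb2 i h l))) t ∈ K) →
      (∀ t, spM F i h t ∈ K) → M i ≤ K := by
    intro i h K hK hK'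
    rw [hM i h, Subgroup.closure_le]
    intro A hA
    obtain ⟨B, rfl⟩ := exists_spEmb_eq (emb2 i h) (A := A) (by
      rintro (k | k) hk
      · exact hA.1 k
      · exact hA.2 k (fun e => hk ⟨.inr 0, congrArg Sum.inr (Fin.ext e.symm)⟩)
          fun e => hk ⟨.inr 1, congrArg Sum.inr (Fin.ext e.symm)⟩)
    obtain ⟨p, q, r, rfl⟩ := eq_of_fix (B := B) fun k => by
      rw [← incM_comp (emb2 i h) (B • _), ← spEmb_smul_incM, incM_bv, ← incM_comp (emb2 i h) (bv F _), incM_bv]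
      exact congrArg (· ∘ Sum.map (emb2 i h) (emb2 i h)) (hA.1 _)
    rw [map_mul, map_mul, spEmb_T, spEmb_T, spEmb_M]
    exact mul_mem (mul_mem (hK _ _) (hK _ _)) (hK' _)
  let τ : II n → F → H := Sum.elim (fun j t => σ j ⟨_, mS j _ (.inl rfl) t⟩) fun j t => σ j ⟨_, mS j _ (.inr rfl) t⟩
  have hτ : ∀ j a (ha : a = .inl j ∨ a = .inr j) t, τ a t = σ j ⟨_, mS j a ha t⟩ := by
    rintro j a (rfl | rfl) t <;> rfl
  let ν : ℕ → F → H := fun i t => if h : i + 1 < n then μ ⟨i, by omega⟩ ⟨_, mM' ⟨i, by omega⟩ h t⟩ else 1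
  have hτ' : ∀ (i : Fin n) h l t, τ (.inl (emb2 i h l)) t = μ i ⟨_, mM i h l t⟩ := fun i h l t => by
    obtain ⟨Ψ, h1, h2⟩ := hMS i (emb2 i h l) h
    rw [hτ _ _ (.inl rfl), ← h1, ← h2]
  have cm : ∀ {A B : Subgroup ↥(Matrix.symplecticGroup (Fin n) F)} (Ψ : ↥(A ⊔ B) →* H) {x y} (hx : x ∈ A)
      (hy : y ∈ B), Commute x y → Commute (Ψ ⟨x, Subgroup.mem_sup_left hx⟩) (Ψ ⟨y, Subgroup.mem_sup_right hy⟩) :=
    fun Ψ _ _ _ _ h => by rw [Commute, SemiconjBy, ← map_mul, ← map_mul]; exact congrArg Ψ (Subtype.ext h)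
  have D : SpData τ ν := by
    refine ⟨fun i h j => ?_, fun a b h h' t u => ?_, fun i j hi hj h t u => ?_⟩
    · obtain ⟨Ψ, h1, h2⟩ := hMS ⟨i, by omega⟩ j h
      obtain ⟨s, hs, hs'⟩ := exists_mulOn Ψ
      refine ⟨_, s, hs, ?_, fun t => ⟨Subgroup.mem_sup_left (mM' _ h t), ?_⟩⟩
      · rintro a (ha | ⟨l, rfl⟩) t
        · exact ⟨Subgroup.mem_sup_right (mS j a ha t), (hs' _ _).trans ((h2 _ (mS j a ha t)).trans (hτ j a ha t).symm)⟩
        · exact ⟨Subgroup.mem_sup_left (mM _ h l t), (hs' _ _).trans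
            ((h1 _ (mM ⟨i, by omega⟩ h l t)).trans (hτ' ⟨i, by omega⟩ h l t).symm)⟩
      · exact (hs' _ _).trans ((h1 _ (mM' ⟨i, by omega⟩ h t)).trans (by simp only [ν, dif_pos h]))
    · obtain ⟨j, hj⟩ : ∃ j, a = .inl j ∨ a = .inr j := by cases a <;> simp
      obtain ⟨l, hl⟩ : ∃ l, b = .inl l ∨ b = .inr l := by cases b <;> simp
      obtain ⟨Ψ, h1, h2⟩ := hSS j l (by
        rintro rfl
        rcases hj with rfl | rfl <;> rcases hl with rfl | rfl <;> simp at h h')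
      rw [hτ j a hj, hτ l b hl, ← h1, ← h2]
      exact cm Ψ (mS j a hj t) (mS l b hl u) (commute_spT (spB_bv h') t u)
    · obtain ⟨Ψ, h1, h2⟩ := hMM ⟨i, by omega⟩ ⟨j, by omega⟩ (by simpa using h) hi hj
      simp only [ν, dif_pos hi, dif_pos hj]
      rw [← h1, ← h2]
      exact cm Ψ (mM' ⟨i, by omega⟩ hi t) (mM' ⟨j, by omega⟩ hj u) (commute_spM hi hj t u)
  obtain ⟨Φ, h1, h2⟩ := D.exists_hom_sp hF hn
  have P1 : ∀ j g (hg : g ∈ S j), Φ g = σ j ⟨g, hg⟩ := fun j => eq_on_of_le Φ (σ j) fun K hK =>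
    gS j K fun a ha t => hK _ (mS j a ha t) ((h1 a t).trans (hτ j a ha t))
  have P2 : ∀ i : Fin n, i.val + 1 < n → ∀ g (hg : g ∈ M i), Φ g = μ i ⟨g, hg⟩ := fun i h =>
    eq_on_of_le Φ (μ i) fun K hK => gM i h K (fun l t => hK _ (mM i h l t) ((h1 _ t).trans (hτ' i h l t)))
      fun t => hK _ (mM' i h t) ((h2 i h t).trans (dif_pos h))
  refine ⟨Φ, ⟨P1, P2⟩, fun Φ' hΦ' => MonoidHom.ext fun g => ?_⟩
  have : Φ'.eqLocus Φ = ⊤ := sp_gen (fun a t => ?_) fun i h t => ?_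
  · exact this.ge (Subgroup.mem_top g)
  · obtain ⟨j, hj⟩ : ∃ j, a = .inl j ∨ a = .inr j := by cases a <;> simp
    exact (hΦ'.1 j _ (mS j a hj t)).trans (P1 j _ _).symm
  · exact (hΦ'.2 ⟨i, by omega⟩ h _ (mM' ⟨i, by omega⟩ h t)).trans (P2 _ h _ _).symm

end Cfsg.Agent.S3713
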