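import Cfsg.Statements.S3299
import Cfsg.Agent.Lib.LargeExtra.Setting
import Cfsg.Agent.Lib.Transfer.Cocycle
import Cfsg.Agent.Lib.Transfer.Thompson

set_option autoImplicit false
open Cfsg

namespace Cfsg.Agent.S3299

open Subgroup CfsgLib.ExtraTwo CfsgLib.LargeExtra

theorem mul_mem_iff {G : Type*} [Group G] {K H : Subgroup G} (hKi : K.relIndex H = 2) {a b : G}
    (ha : a ∈ H) (hb : b ∈ H) : a * b ∈ K ↔ (a ∈ K ↔ b ∈ K) :=
  mul_mem_iff_of_index_two (H := K.subgroupOf H) hKi (a := ⟨a, ha⟩) (b := ⟨b, hb⟩)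

theorem comm_mem {G : Type*} [Group G] {K H : Subgroup G} (hKi : K.relIndex H = 2) {a b : G}
    (ha : a ∈ H) (hb : b ∈ H) : a * b * a⁻¹ * b⁻¹ ∈ K := by
  rw [mul_mem_iff hKi (H.mul_mem (H.mul_mem ha hb) (H.inv_mem ha)) (H.inv_mem hb),
    mul_mem_iff hKi (H.mul_mem ha hb) (H.inv_mem ha), mul_mem_iff hKi ha hb, inv_mem_iff,
    inv_mem_iff]
  tauto

theorem conj_mem {G : Type*} [Group G] [Finite G] {Q K : Subgroup G} {z : G} (h : Pre Q z)
    (h8 : 8 < Nat.card Q) (hKi : K.relIndex (centralizer ({z} : Set G)) = 2) {g : G}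
    (hg : g * z * g⁻¹ ∈ Q) : g * z * g⁻¹ ∈ K := by
  obtain ⟨x, hx, y, hy, hxt, hyt, hxy⟩ := exists_not_comm_cent h.es h8 hg
  have hc : x * y * x⁻¹ * y⁻¹ = z := by
    rcases h.es.commutator hx hy with e | e
    · exact absurd (by rw [← mul_inv_eq_one, ← e]; group) hxy
    · exact e
  by_cases hne : g * z * g⁻¹ = z
  · rw [hne, ← hc]
    exact comm_mem hKi (h.le_cent hx) (h.le_cent hy)
  have p := h.pair h8 hg hne
  set t := g * z * g⁻¹ with ht
  obtain ⟨a, -, haz, hat⟩ := p.exists_a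
  obtain ⟨b, -, hbt, hbz⟩ := p.symm.exists_a
  have hzz := h.es.mul_self
  have htt := p.h1.es.mul_self
  have hzt := p.comm
  have e1 : (a * b * a) * z * (a * b * a)⁻¹ = t := by
    calc (a * b * a) * z * (a * b * a)⁻¹ = a * (b * (a * z * a⁻¹) * b⁻¹) * a⁻¹ := by group
      _ = a * (z * t) * a⁻¹ := by rw [haz, hbz]
      _ = (a * z * a⁻¹) * (a * t * a⁻¹) := by group
      _ = (z * z) * t := by rw [haz, hat, hzt]; group
      _ = t := by rw [hzz, one_mul]
  have e2 : (a * b * a) * t * (a * b * a)⁻¹ = z := by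
    calc (a * b * a) * t * (a * b * a)⁻¹ = a * (b * (a * t * a⁻¹) * b⁻¹) * a⁻¹ := by group
      _ = a * ((b * t * b⁻¹) * (b * z * b⁻¹)) * a⁻¹ := by rw [hat]; group
      _ = a * ((t * t) * z) * a⁻¹ := by rw [hbt, hbz, ← hzt]; group
      _ = z := by rw [htt, one_mul, haz]
  set n := a * b * a
  have key : ∀ w, w * t = t * w → n * w * n⁻¹ ∈ centralizer ({z} : Set G) := by
    intro w hw
    rw [mem_centralizer_singleton_iff, ← e2]
    calc n * w * n⁻¹ * (n * t * n⁻¹) = n * (w * t) * n⁻¹ := by group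
      _ = n * (t * w) * n⁻¹ := by rw [hw]
      _ = _ := by group
  have := comm_mem hKi (key x hxt) (key y hyt)
  rw [← e1, ← hc]
  convert this using 1
  group

theorem exists_inv {G : Type*} [Group G] [Finite G] {Q K H : Subgroup G} {z : G} (h : ES Q z)
    (h8 : 8 < Nat.card Q) (hQH : Q ≤ H) (hKi : K.relIndex H = 2) (hQK : ¬ Q ≤ K) :
    ∃ x ∈ Q, x ∉ K ∧ x * x = 1 := by
  by_contra! hcon
  obtain ⟨y, hy, hyK⟩ := SetLike.not_le_iff_exists.1 hQK
  have hsq : ∀ w ∈ Q, w ∉ K → w * w = z := fun w hw hwK =>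
    (h.sq hw).resolve_left (hcon w hw hwK)
  have key : ∀ k ∈ Q, k ∈ K → k * y = y * k → k * k = 1 := by
    intro k hk hkK hky
    have h1 := hsq (y * k) (Q.mul_mem hy hk) (fun e => hyK (by simpa using K.mul_mem e (K.inv_mem hkK)))
    have h2 : y * k * (y * k) = y * y * (k * k) := by
      calc y * k * (y * k) = y * (k * y) * k := by group
        _ = y * (y * k) * k := by rw [hky]
        _ = _ := by group
    rw [h2, hsq y hy hyK] at h1
    simpa using h1
  have red : ∀ w ∈ Q, w * y = y * w → ∃ k ∈ Q, k ∈ K ∧ k * y = y * k ∧ (w = k ∨ w = k * y) := by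
    intro w hw hwy
    by_cases hwK : w ∈ K
    · exact ⟨w, hw, hwK, hwy, Or.inl rfl⟩
    · refine ⟨w * y⁻¹, Q.mul_mem hw (Q.inv_mem hy), ?_, ?_, Or.inr (by group)⟩
      · rw [mul_mem_iff hKi (hQH hw) (H.inv_mem (hQH hy)), inv_mem_iff]
        tauto
      · calc w * y⁻¹ * y = y⁻¹ * (y * w) := by group
          _ = y⁻¹ * (w * y) := by rw [hwy]
          _ = y⁻¹ * (w * y) * y * y⁻¹ := by group
          _ = y⁻¹ * (y * w) * y * y⁻¹ := by rw [hwy]
          _ = (w * y) * y⁻¹ := by group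
          _ = (y * w) * y⁻¹ := by rw [hwy]
          _ = _ := by group
  obtain ⟨a, ha, b, hb, hay, hby, hab⟩ := exists_not_comm_cent h h8 hy
  obtain ⟨k, hk, hkK, hky, e1⟩ := red a ha hay
  obtain ⟨l, hl, hlK, hly, e2⟩ := red b hb hby
  have h1 := key k hk hkK hky
  have h2 := key l hl hlK hly
  have h3 := key (k * l) (Q.mul_mem hk hl) (K.mul_mem hkK hlK)
    (Commute.mul_left (show Commute k y from hky) hly)
  have hkl : Commute k l := by
    have e3 : k * l = (k * l)⁻¹ := eq_inv_of_mul_eq_one_left h3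
    rw [mul_inv_rev, inv_eq_of_mul_eq_one_right h1, inv_eq_of_mul_eq_one_right h2] at e3
    exact e3
  have hky' : Commute k y := hky
  have hly' : Commute l y := hly
  apply hab
  rcases e1 with rfl | rfl <;> rcases e2 with rfl | rfl
  · exact hkl
  · exact hkl.mul_right hky'
  · exact hkl.mul_left hly'.symm
  · exact (hkl.mul_right hky').mul_left (hly'.symm.mul_right (Commute.refl y))

/-- Let G be a finite group with no nontrivial 2-group quotient (O^2(G) = G), z an involution of G with H = C_G(z), and suppose E = O_2(H) is extraspecial with C_G(E) ≤ E and of order 2^(2n+1) with n ≥ 2. Then E is contained in every normal subgroup of H of index 2. -/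
theorem result {G : Type*} [Group G] [Finite G] (hres : Cfsg.pResidual 2 G = ⊤) (z : G) (hz : orderOf z = 2)
    (E : Subgroup G) (hE : E = (Cfsg.pCore 2 ↥(Subgroup.centralizer ({z} : Set G))).map (Subgroup.centralizer ({z} : Set G)).subtype)
    (hext : Cfsg.IsExtraspecial 2 ↥E) (hcent : Subgroup.centralizer (E : Set G) ≤ E) (n : ℕ) (hn : 2 ≤ n) (hcard : Nat.card ↥E = 2 ^ (2 * n + 1))
    (K : Subgroup G) (hKH : K ≤ Subgroup.centralizer ({z} : Set G))
    (hKn : ∀ h ∈ Subgroup.centralizer ({z} : Set G), K.map (MulAut.conj h).toMonoidHom = K)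
    (hKi : K.relIndex (Subgroup.centralizer ({z} : Set G)) = 2) : E ≤ K := by
  have hEH : E ≤ centralizer ({z} : Set G) := hE ▸ map_subtype_le _
  have hc : ∀ q ∈ E, q * z = z * q := fun q hq => mem_centralizer_singleton_iff.1 (hEH hq)
  have es : ES E z := es_of_comm hext (ne_one_of_orderOf hz) (hcent hc) hc
  have h : Pre E z := by
    refine ⟨es, fun g hg => es.center g (hcent hg) hg, fun g hg x hx => ?_⟩
    have := CfsgLib.Core.normalizer_le_normalizer_map_pCore (p := 2) (centralizer ({z} : Set G))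
      (le_normalizer (mem_centralizer_singleton_iff.2 hg))
    rw [← hE] at this
    exact (mem_normalizer_iff.1 this x).1 hx
  have h8 : 8 < Nat.card E := by
    rw [hcard]
    calc 8 < 2 ^ 5 := by norm_num
      _ ≤ _ := Nat.pow_le_pow_right two_pos (by omega)
  by_contra hEK
  obtain ⟨x, hx, hxK, hx2⟩ := exists_inv es h8 hEH hKi hEK
  obtain ⟨g, hg1, hg2⟩ := CfsgLib.Transfer.thompson_transfer_extremal
    (CfsgLib.Transfer.pResidual_two_eq_top_iff.1 hres)
    (Nat.two_dvd_ne_zero.2 (Nat.odd_iff.1 h.odd_index)) hKi hx2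
    (R := E ⊓ centralizer {x}) (es.isPGroup.to_le inf_le_left) inf_le_right
  have hw : ∀ y ∈ E, y * x = x * y → y * (g * z * g⁻¹) = (g * z * g⁻¹) * y := by
    intro y hy hyx
    have := mem_centralizer_singleton_iff.1 (hg2 y ⟨hy, mem_centralizer_singleton_iff.2 hyx⟩)
    calc y * (g * z * g⁻¹) = g * (g⁻¹ * y * g * z) * g⁻¹ := by group
      _ = g * (z * (g⁻¹ * y * g)) * g⁻¹ := by rw [this]
      _ = _ := by group
  have hwz := (hw z es.mem (hc x hx).symm).symm
  have hwE : g * z * g⁻¹ ∈ E := h.mem_of_conj (trivial_of_trivial_on_cent es hx hx2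
    (h.norm _ hwz) hwz fun y hy hyx => Or.inl (conj_eq_of_comm (hw y hy hyx).symm))
  have hwK := conj_mem h h8 hKi hwE
  have hzK : z ∈ K := by simpa using conj_mem h h8 hKi (g := 1) (by simpa using es.mem)
  rcases double_cent es hx hwE hw with e | e | e | e
  · exact es.ne_one (by simpa using e)
  · have hgH : g ∈ centralizer ({z} : Set G) :=
      mem_centralizer_singleton_iff.2 (comm_of_conj_eq e)
    exact hxK (by rw [← hKn g hgH, mem_map_conj]; exact hg1)
  · exact hxK (e ▸ hwK)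
  · rw [e] at hwK
    exact hxK (by simpa using K.mul_mem hwK (K.inv_mem hzK))

end Cfsg.Agent.S3299
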