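import Mathlib
import Cfsg.Statements.S4519
import Cfsg.Agent.Lib.McKay.Real
import Cfsg.Agent.Lib.FT.OddOrder

set_option autoImplicit false
open Cfsg

namespace Cfsg.Agent.S4519

open CfsgLib.Char CfsgLib.McKay CfsgLib.ChDeg

/-- Let N be a normal subgroup of odd index in the finite group G, and let k be coprime to the order of G with k ^ (2 ^ e) ≡ 1 modulo the order of G for some e and g ^ k = g⁻¹ for every element g of odd order (so g ↦ g ^ k induces a field automorphism of 2-power order inverting the roots of unity of odd order). If an irreducible character θ of N satisfies θ (n ^ k) = θ n for all n, then there is exactly one irreducible character χ of G with θ a constituent of its restriction to N and χ (g ^ k) = χ g for all g; moreover, if θ is invariant under conjugation by G, that χ restricts to θ. -/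
theorem result {G : Type*} [Group G] [Fintype G] (N : Subgroup G) [hN : N.Normal] [Fintype N] (hidx : Odd N.index) (k e : ℕ) (hk : Nat.Coprime k (Nat.card G)) (hke : k ^ (2 ^ e) ≡ 1 [MOD Nat.card G]) (hk₂ : ∀ g : G, Odd (orderOf g) → g ^ k = g⁻¹) (θ : Cfsg.IrrCharacter N) (hθ : ∀ n : N, (θ : N → ℂ) (n ^ k) = (θ : N → ℂ) n) : ∃ χ : Cfsg.IrrCharacter G, (Cfsg.classInner (fun n : N => (χ : G → ℂ) n) (θ : N → ℂ) ≠ 0 ∧ (∀ g : G, (χ : G → ℂ) (g ^ k) = (χ : G → ℂ) g) ∧ ((∀ g : G, ∀ n : N, (θ : N → ℂ) ⟨g * n * g⁻¹, hN.conj_mem n n.2 g⟩ = (θ : N → ℂ) n) → ∀ n : N, (χ : G → ℂ) n = (θ : N → ℂ) n)) ∧ ∀ χ' : Cfsg.IrrCharacter G, Cfsg.classInner (fun n : N => (χ' : G → ℂ) n) (θ : N → ℂ) ≠ 0 → (∀ g : G, (χ' : G → ℂ) (g ^ k) = (χ' : G → ℂ) g) → χ' = χ := by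
  classical
  have hke' : ∀ g : G, g ^ (k ^ 2 ^ e) = g := fun g => by
    rw [pow_eq_pow_of_modEq hke pow_card_eq_one', pow_one]
  have hθk : pw k (θ : N → ℂ) = θ := funext hθ
  have main : ∀ (T : Subgroup G) (hNT : N ≤ T), T ≤ stab N θ → ∃ η, IsIrrCharacter T η ∧
      (∀ m, η (Subgroup.inclusion hNT m) = (θ : N → ℂ) m) ∧ pw k η = η ∧
      ∀ η', IsIrrCharacter T η' → pw k η' = η' → Over (Subgroup.inclusion hNT) η' θ → η' = η := by
    intro T hNT hT
    have hodd : Odd (N.relIndex T) := hidx.of_dvd_nat (Subgroup.relIndex_dvd_index_of_normal N T)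
    exact exists_unique_fixed hk hke' hk₂ θ.2 hθk T hNT hT hodd
      (commutator_sup_lt Subgroup.le_normalizer_of_normal (CfsgLib.FT.odd_order_solvable hodd))
  have hst : inertia N (θ : N → ℂ) ≤ stab N θ := fun g hg =>
    ⟨Subgroup.le_normalizer_of_normal (Subgroup.mem_top g), fun m m' h => by
      rw [← (mem_inertia' N).mp hg m]; exact congrArg _ (Subtype.ext h)⟩
  obtain ⟨p, hpG, hp⟩ := Nat.exists_infinite_primes (Nat.card G + 1)
  have hpd : ∀ n : ℕ, n ∣ Nat.card G → ¬ p ∣ n := fun n hn h =>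
    absurd (Nat.le_of_dvd Nat.card_pos (h.trans hn)) (by omega)
  have hNT := le_inertia N (irr_isClassFunction θ)
  have h1 := cnt_clifford hp hk N θ.2 hθk _ hNT rfl (hpd _ (Subgroup.index_dvd_card _))
  obtain ⟨η, hη, hηθ, hηk, hηu⟩ := main _ hNT hst
  have h2 : cnt p k (Subgroup.inclusion hNT) θ = 1 := by
    refine Nat.card_eq_one_iff_exists.mpr ⟨⟨⟨η, hη⟩, ⟨hpd _ ((deg_dvd_card hη).trans
      (Subgroup.card_subgroup_dvd_card _)), hηk⟩,
      over_of_res θ.2 one_ne_zero fun m => (hηθ m).trans (one_mul _).symm⟩, fun y => ?_⟩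
    exact Subtype.ext (Subtype.ext (hηu _ y.1.2 y.2.1.2 y.2.2))
  obtain ⟨χ, hχu⟩ := Nat.card_eq_one_iff_exists.mp (h1.trans h2)
  have huniq : ∀ χ' : Cfsg.IrrCharacter G, Over N.subtype χ' θ → pw k (χ' : G → ℂ) = χ' →
      χ' = χ.1 := fun χ' h3 h4 =>
    congrArg Subtype.val (hχu ⟨χ', ⟨hpd _ (deg_dvd_card χ'.2), h4⟩, h3⟩)
  refine ⟨χ.1, ⟨(over_iff.mp χ.2.2 :), congrFun χ.2.1.2, fun hinv n => ?_⟩,
    fun χ' h3 h4 => huniq χ' (over_iff.mpr h3) (funext h4)⟩
  obtain ⟨ξ, hξ, hξθ, hξk, -⟩ := main ⊤ le_top fun g _ => hst ((mem_inertia' N).mpr (hinv g))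
  rw [← huniq ⟨_, isIrr_comp_mulEquiv Subgroup.topEquiv.symm hξ⟩
    (over_of_res θ.2 one_ne_zero fun m => (hξθ m).trans (one_mul _).symm)
    (funext fun g => congrFun hξk (Subgroup.topEquiv.symm g))]
  exact hξθ n

end Cfsg.Agent.S4519
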