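import Cfsg.Statements.S5461
import Mathlib
import Cfsg.Agent.S5415
import Cfsg.Agent.Lib.MType.Lift
import Cfsg.Agent.Lib.Fi24T.Main
import Cfsg.Agent.Lib.Fi24T.AutX
import Cfsg.Agent.Lib.FiTool.MFi
import Cfsg.Agent.Lib.FTHM.IdentF
import Cfsg.Agent.Lib.Fi3.Nrm

set_option autoImplicit false
open Cfsg

namespace Cfsg.Agent.S5461

open CfsgLib.ExtraTwo CfsgLib.LargeExtra CfsgLib.MType CfsgLib.Leech CfsgLib.FiTool CfsgLib.Fi24T Subgroup
open CfsgLib.Mathieu (code comp inM24 code_mul code_injective)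
open scoped commutatorElement

theorem qs_of_hom {C X : Type*} [Group C] [Group X] [IsSimpleGroup X] (f : C →* X) (hf : Function.Surjective f)
    (hX : center X = ⊥) (h1 : f.ker ≤ center C) (h2 : f.ker ≤ commutator C) : IsQuasisimple C := by
  have h3 : center C = f.ker := le_antisymm (fun x hx => by
    rw [MonoidHom.mem_ker, ← mem_bot, ← hX, Subgroup.mem_center_iff]
    intro y
    obtain ⟨c, rfl⟩ := hf y
    rw [← map_mul, ← map_mul, Subgroup.mem_center_iff.1 hx c]) h1
  refine ⟨⟨?_⟩, ((QuotientGroup.quotientMulEquivOfEq h3).trans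
    (QuotientGroup.quotientKerEquivOfSurjective f hf)).isSimpleGroup⟩
  have h4 := (perfect_of_simple hX).commutator_eq_top
  rw [← comap_map_eq_self h2, map_commutator_eq, MonoidHom.range_eq_top.2 hf, ← _root_.commutator_def, h4, comap_top]

theorem ext_of_cent {G F : Type*} [Group G] [Group F] [Finite G] {D : Set F} {g pt : ℕ → F} (M : CfsgLib.FiTool.M24 D g pt)
    {H : Subgroup G} (hi : H.index = 2) (i : H ≃* commutator F) (hc : ∀ x, (∀ y ∈ H, x * y = y * x) → x ∈ H) :
    Nonempty (G ≃* F) := by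
  have := M.finite
  have : H.Normal := normal_of_index_eq_two hi
  let c := MulEquiv.ofBijective _ (conjNormal_bij M)
  let f : G →* F := (c.symm.toMonoidHom.comp (MulAut.congr i).toMonoidHom).comp MulAut.conjNormal
  have hf : ∀ x : H, f x = i x := fun x => c.symm_apply_eq.2 (MulEquiv.ext fun y => Subtype.ext (by
    obtain ⟨y, rfl⟩ := i.surjective y
    change (i (MulAut.conjNormal (x : G) (i.symm (i y))) : F) = i x * i y * (i x : F)⁻¹
    rw [i.symm_apply_apply, ← coe_mul, ← coe_inv, ← coe_mul, ← map_mul, ← map_inv, ← map_mul]; rfl))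
  have inj : Function.Injective f := (injective_iff_map_eq_one f).2 fun x hx => by
    have h1 : ∀ y ∈ H, x * y = y * x := fun y hy => by
      have : MulAut.conjNormal x = (1 : MulAut H) :=
        (c.symm.injective.comp (MulAut.congr i).injective) (hx.trans (map_one (c.symm.toMonoidHom.comp
          (MulAut.congr i).toMonoidHom)).symm)
      exact mul_inv_eq_iff_eq_mul.1 (congrArg Subtype.val (DFunLike.congr_fun this (⟨y, hy⟩ : H)))
    have h2 := hc x h1
    have h3 : i ⟨x, h2⟩ = 1 := Subtype.ext ((hf ⟨x, h2⟩).symm.trans hx)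
    exact congrArg Subtype.val ((map_eq_one_iff i i.injective).1 h3)
  exact ⟨MulEquiv.ofBijective f (inj.bijective_of_nat_card_le (by
    rw [← H.index_mul_card, ← (commutator F).index_mul_card, hi, M.index, Nat.card_congr i.toEquiv]))⟩

theorem al_ok : inM24 0xbcda34d1467b851832c82ac8795420 = true := by decide +kernel
theorem be_ok : inM24 0x9c2835b24172051bb4cf28087aaac9 = true := by decide +kernel
theorem ta_ok : inM24 0x12ecd8242a2168c94ccf3d5c8b8071 = true := by decide +kernel

theorem rel1 : mkM al_ok * C3A.σ = C3A.σ * mkM al_ok := Subtype.ext (code_injective (by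
  rw [coe_mul, coe_mul, code_mul, code_mul, code_mkM, C3A.code_σ]; decide +kernel))
theorem rel2 : mkM be_ok * C3A.σ = C3A.σ * mkM be_ok := Subtype.ext (code_injective (by
  rw [coe_mul, coe_mul, code_mul, code_mul, code_mkM, C3A.code_σ]; decide +kernel))
theorem rel3 : mkM al_ok * mkM be_ok = C3A.σ * (mkM be_ok * mkM al_ok) := Subtype.ext (code_injective (by
  rw [coe_mul, coe_mul, coe_mul, code_mul, code_mul, code_mul, code_mkM, code_mkM, C3A.code_σ]; decide +kernel))
theorem rel4 : mkM ta_ok * C3A.σ = C3A.σ * (C3A.σ * mkM ta_ok) := Subtype.ext (code_injective (by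
  rw [coe_mul, coe_mul, coe_mul, code_mul, code_mul, code_mul, code_mkM, C3A.code_σ]; decide +kernel))

/-- Let G be a finite group of Monster type at the involution z with Q the extraspecial normal subgroup of order 2^25 of C_G(z) (C_G(z)/Q identified with the first Conway group with Q modulo its centre the Leech lattice modulo 2, z not weakly closed in Q). Let s be a conjugate of z (in G) lying in Q and other than z, and Y a subgroup of order 3 of the joint centralizer of z and s lying in the centre of some Sylow 3-subgroup of it. Then the centralizer of Y is quasisimple, its quotient by Y is isomorphic to the commutator subgroup of the presented Fischer group Fi₂₄, and the normalizer of Y modulo Y is generated by a conjugacy class of 3-transpositions with respect to which it is of type M(24). -/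
theorem result {G : Type*} [Group G] [Finite G] (z : G) (Q : Subgroup (Subgroup.centralizer ({z} : Set G))) [Q.Normal] (hM : Cfsg.IsOfMonsterType z Q) (s : G) (hsQ : ∃ hsc : s ∈ Subgroup.centralizer ({z} : Set G), (⟨s, hsc⟩ : Subgroup.centralizer ({z} : Set G)) ∈ Q) (hs : IsConj z s) (hs1 : s ≠ z) (Y : Subgroup G) (hY : Y ≤ Subgroup.centralizer ({z, s} : Set G)) (hY3 : Nat.card Y = 3) (hc : ∃ P : Sylow 3 ↥(Subgroup.centralizer ({z, s} : Set G)), Y.subgroupOf (Subgroup.centralizer ({z, s} : Set G)) ≤ (Subgroup.center ↥(P : Subgroup ↥(Subgroup.centralizer ({z, s} : Set G)))).map (P : Subgroup ↥(Subgroup.centralizer ({z, s} : Set G))).subtype) [hn : (Y.subgroupOf (Subgroup.centralizer (Y : Set G))).Normal] [hn' : (Y.subgroupOf (Subgroup.normalizer (Y : Set G))).Normal] : Cfsg.IsQuasisimple ↥(Subgroup.centralizer (Y : Set G)) ∧ Cfsg.Spor.IsoFi24' (↥(Subgroup.centralizer (Y : Set G)) ⧸ Y.subgroupOf (Subgroup.centralizer (Y : Set G))) ∧ ∃ E : Set (↥(Subgroup.normalizer (Y : Set G)) ⧸ Y.subgroupOf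 (Subgroup.normalizer (Y : Set G))), Cfsg.IsThreeTranspositionClass E ∧ Cfsg.IsOfTypeM24 _ E := by
  obtain ⟨z', R, hR, hT⟩ := Cfsg.Agent.S5415.result z Q hM s hsQ hs hs1 Y hY hY3 hc
  obtain ⟨N', M', -, -, hLF⟩ := lf_of_type hT
  obtain ⟨φ, -⟩ := main m24_fi hLF
  obtain ⟨L, e, m, h⟩ := exists_mt_e8 hM (mem_amb.mpr hsQ) hs hs1
  obtain ⟨b, hb, hb3, L', e', m', h', c, hβ, -, hc'⟩ := m.three_std h hY hY3
    (a := C3A.σ) C3A.code_σ (code_mkM (a := sgB) (by decide +kernel))
  obtain rfl := hc'.mp hc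
  obtain ⟨π, p1, p2, p3, -⟩ := m'.exists_pi' h' hβ
  obtain ⟨a1, a2, c1, c2, c3⟩ := lift_comm p1 p2 Nat.prime_three (by norm_num) hb3 (α := mkM al_ok)
    (β := mkM be_ok) (p3 ▸ rel1) (p3 ▸ rel2) (p3 ▸ rel3)
  obtain ⟨t, -, ht⟩ := lift_conj p1 p2 Nat.prime_three (by norm_num) hb3 (τ := mkM ta_ok) (i := 2)
    (by rw [p3, rel4, pow_two]; group)
  have ht' : (t : G) * b * (t : G)⁻¹ = b * b := by
    rw [← pow_two]; exact congrArg Subtype.val ht
  subst hb
  have ho : orderOf (b : G) = 3 := by rw [← Nat.card_zpowers, hY3]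
  have d1 : (a1 : G) ∈ centralizer (zpowers (b : G) : Set G) :=
    mem_cent_zpowers.mpr (congrArg Subtype.val c1).symm
  have d2 : (a2 : G) ∈ centralizer (zpowers (b : G) : Set G) :=
    mem_cent_zpowers.mpr (congrArg Subtype.val c2).symm
  have d3 : (b : G) ∈ zpowers ((a1 : G) * a2 * (a1 : G)⁻¹ * (a2 : G)⁻¹) := by
    obtain ⟨k, hk⟩ := c3
    exact ⟨k, congrArg Subtype.val hk⟩
  have hF := m24_fi.finite
  have hS := m24_fi.simple
  have hcard : Nat.card (commutator Spor.Fi24) = 1255205709190661721292800 := by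
    have := (commutator Spor.Fi24).index_mul_card
    rw [m24_fi.index, m24_fi.card] at this
    omega
  have hZ : center (commutator Spor.Fi24) = ⊥ := by
    refine (IsSimpleGroup.eq_bot_or_eq_top_of_normal _ inferInstance).resolve_right fun h0 => ?_
    letI : CommGroup (commutator Spor.Fi24) := { (inferInstance : Group (commutator Spor.Fi24)) with
      mul_comm := fun x y => (Subgroup.mem_center_iff.1 (h0 ▸ mem_top y : y ∈ center _) x) }
    have h2 : (Nat.card (commutator Spor.Fi24)).Prime := IsSimpleGroup.prime_card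
    rw [hcard] at h2
    exact absurd (h2.eq_one_or_self_of_dvd 2 (by norm_num)) (by norm_num)
  have hYC : zpowers (b : G) ≤ centralizer (zpowers (b : G) : Set G) := zpowers_le.mpr (mem_cent_zpowers.mpr rfl)
  refine ⟨qs_of_hom (φ.symm.toMonoidHom.comp (QuotientGroup.mk' _))
    (φ.symm.surjective.comp (QuotientGroup.mk'_surjective _)) hZ (fun x hx => ?_) (fun x hx => ?_), ⟨φ.symm⟩, ?_⟩
  · have h1 : (x : G) ∈ zpowers (b : G) :=
      (QuotientGroup.eq_one_iff x).1 ((map_eq_one_iff φ.symm φ.symm.injective).1 hx)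
    exact Subgroup.mem_center_iff.2 fun y => Subtype.ext (y.2 _ h1).symm
  · have h1 : (x : G) ∈ zpowers (b : G) :=
      (QuotientGroup.eq_one_iff x).1 ((map_eq_one_iff φ.symm φ.symm.injective).1 hx)
    obtain ⟨k, hk⟩ := zpowers_le.mpr d3 h1
    have h2 := zpow_mem (commutator_mem_commutator (mem_top (⟨a1, d1⟩ : centralizer (zpowers (b : G) : Set G)))
      (mem_top ⟨a2, d2⟩)) k
    have h3 : x = _ ^ k := Subtype.ext (a2 := ⁅(⟨a1, d1⟩ : centralizer (zpowers (b : G) : Set G)),
      (⟨a2, d2⟩ : centralizer (zpowers (b : G) : Set G))⁆ ^ k) hk.symm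
    rw [h3]; exact h2
  · have hCN := centralizer_le_normalizer (zpowers (b : G) : Set G)
    let f : centralizer (zpowers (b : G) : Set G) →* normalizer (zpowers (b : G) : Set G) ⧸
        (zpowers (b : G)).subgroupOf (normalizer (zpowers (b : G) : Set G)) :=
      (QuotientGroup.mk' _).comp (inclusion hCN)
    have hk : f.ker = (zpowers (b : G)).subgroupOf (centralizer (zpowers (b : G) : Set G)) := by
      ext x
      exact QuotientGroup.eq_one_iff (inclusion hCN x)
    have i := ((QuotientGroup.quotientKerEquivRange f).symm.trans (QuotientGroup.quotientMulEquivOfEq hk)).trans φ.symm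
    have n1 := CfsgLib.Fi3.card_normalizer_three ho ht'
    have n2 := card_eq_card_quotient_mul_card_subgroup ((zpowers (b : G)).subgroupOf (normalizer (zpowers (b : G) : Set G)))
    have n3 := card_eq_card_quotient_mul_card_subgroup ((zpowers (b : G)).subgroupOf (centralizer (zpowers (b : G) : Set G)))
    rw [Nat.card_congr (subgroupOfEquivOfLe (hYC.trans hCN)).toEquiv, hY3] at n2
    rw [Nat.card_congr (subgroupOfEquivOfLe hYC).toEquiv, hY3, ← Nat.card_congr φ.toEquiv, hcard] at n3
    have n4 := f.range.index_mul_card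
    rw [Nat.card_congr i.toEquiv, hcard] at n4
    obtain ⟨j⟩ := ext_of_cent m24_fi (H := f.range) (by omega) i fun x hx => by
      obtain ⟨u, rfl⟩ := QuotientGroup.mk_surjective x
      have k : ∀ a ∈ centralizer (zpowers (b : G) : Set G), ∃ y ∈ zpowers (b : G), (u : G) * a * (u : G)⁻¹ = a * y := by
        intro a ha
        have h1 := hx _ ⟨⟨a, ha⟩, rfl⟩
        have h2 : (QuotientGroup.mk (inclusion hCN ⟨a, ha⟩) : normalizer (zpowers (b : G) : Set G) ⧸
            (zpowers (b : G)).subgroupOf _) = QuotientGroup.mk (u * inclusion hCN ⟨a, ha⟩ * u⁻¹) := by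
          rw [QuotientGroup.mk_mul, QuotientGroup.mk_mul, QuotientGroup.mk_inv]
          exact (mul_inv_eq_iff_eq_mul.2 h1).symm
        have h3 := QuotientGroup.eq.1 h2
        exact ⟨a⁻¹ * ((u : G) * a * (u : G)⁻¹), h3, by simp⟩
      obtain ⟨y1, k1, l1⟩ := k _ d1
      obtain ⟨y2, k2, l2⟩ := k _ d2
      have q1 : Commute y1 (a1 : G) := d1 _ k1
      have q2 : Commute y1 (a2 : G) := d2 _ k1
      have q3 : Commute y2 (a1 : G) := d1 _ k2
      have q4 : Commute y1 y2 := hYC k2 _ k1
      have h3 : (u : G) * ((a1 : G) * a2 * (a1 : G)⁻¹ * (a2 : G)⁻¹) * (u : G)⁻¹ =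
          (a1 : G) * a2 * (a1 : G)⁻¹ * (a2 : G)⁻¹ := by
        generalize (u : G) = u, (a1 : G) = a1, (a2 : G) = a2 at l1 l2 q1 q2 q3 ⊢
        calc _ = (u * a1 * u⁻¹) * (u * a2 * u⁻¹) * (u * a1 * u⁻¹)⁻¹ * (u * a2 * u⁻¹)⁻¹ := by group
          _ = a1 * (y1 * (a2 * y2) * y1⁻¹) * (a1⁻¹ * y2⁻¹) * a2⁻¹ := by rw [l1, l2]; group
          _ = _ := by rw [(q2.mul_right q4).eq, mul_inv_cancel_right, ← q3.inv_inv.eq]; group
      have h4 : (u : G) ∈ centralizer (zpowers (b : G) : Set G) := by
        obtain ⟨n, hn⟩ := d3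
        refine mem_cent_zpowers.mpr ?_
        have h5 := ((show Commute (u : G) _ from mul_inv_eq_iff_eq_mul.1 h3).zpow_right n).symm
        rw [show ((a1 : G) * a2 * (a1 : G)⁻¹ * (a2 : G)⁻¹) ^ n = b from hn] at h5
        exact h5
      exact ⟨⟨u, h4⟩, rfl⟩
    exact ⟨_, (m24_fi.map j.symm).cls, CfsgLib.FTHM.typeM24_map j.symm⟩

end Cfsg.Agent.S5461
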