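import Cfsg.Statements.S2921
import Cfsg.Agent.Lib.ReeRec.Walter
import Cfsg.Agent.Lib.Comp.FStar
-- import your own Cfsg.Agent.* helpers here

set_option autoImplicit false
open Cfsg

namespace Cfsg.Agent.S2921

/-- Let G be a finite group whose generalized Fitting subgroup F*(G) is a non-abelian simple group and whose Sylow 2-subgroups are abelian of order at least 4. Then G ⧸ F*(G) has odd order and F*(G) is isomorphic to SL₂(2ᵉ) with e ≥ 2, to a Ree group ²G₂(3^(2e+1)) with e ≥ 1, to the smallest Janko group J₁, or to PSL₂(rᵇ) for a prime r with rᵇ ≡ 3 or 5 (mod 8) and rᵇ > 3. Moreover, if G is simple with Sylow 2-subgroups of order 2ᵃ, then the normalizer of a Sylow 2-subgroup contains a cyclic subgroup of order 2ᵃ − 1. -/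
theorem result {G : Type*} [Group G] [Finite G] (hF : IsSimpleGroup ↥(Cfsg.generalizedFittingSubgroup G)) (hFna : ¬ IsMulCommutative ↥(Cfsg.generalizedFittingSubgroup G)) (S : Sylow 2 G) (hab : IsMulCommutative ↥(S : Subgroup G)) (h4 : 4 ≤ Nat.card ↥(S : Subgroup G)) [hn : (Cfsg.generalizedFittingSubgroup G).Normal] : Odd (Nat.card (G ⧸ Cfsg.generalizedFittingSubgroup G)) ∧ ((∃ (F : Type) (_ : Field F) (_ : Fintype F) (e : ℕ), 2 ≤ e ∧ Fintype.card F = 2 ^ e ∧ Nonempty (↥(Cfsg.generalizedFittingSubgroup G) ≃* Matrix.SpecialLinearGroup (Fin 2) F)) ∨ Cfsg.Lie.IsoRee ↥(Cfsg.generalizedFittingSubgroup G) ∨ Cfsg.Spor.IsoJ1 ↥(Cfsg.generalizedFittingSubgroup G) ∨ (∃ (F : Type) (_ : Field F) (_ : Fintype F) (r b : ℕ), r.Prime ∧ Fintype.card F = r ^ b ∧ 3 < r ^ b ∧ (r ^ b % 8 = 3 ∨ r ^ b % 8 = 5) ∧ Nonempty (↥(Cfsg.generalizedFittingSubgroup G) ≃* Matrix.ProjectiveSpecialLinearGroup (Fin 2) F))) ∧ (IsSimpleGroup G → ∃ C : Subgroup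 G, C ≤ Subgroup.normalizer ((S : Subgroup G) : Set G) ∧ IsCyclic ↥C ∧ Nat.card ↥C = Nat.card ↥(S : Subgroup G) - 1) := by
  have : Fact (Nat.Prime 2) := ⟨Nat.prime_two⟩
  have hG : CfsgLib.Abel2.Ab2 G := CfsgLib.Abel2.abelian_sylow_of_one S hab
  have hL := hG.of_injective (Cfsg.generalizedFittingSubgroup G).subtype Subtype.val_injective
  have hg := CfsgLib.Abel2.good_of_ab2 CfsgLib.WCor.inputs hF hFna hL
  have hC : Subgroup.centralizer (Cfsg.generalizedFittingSubgroup G : Set G) = ⊥ := eq_bot_iff.2 fun x hx => by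
    have h1 : (⟨x, CfsgLib.Comp.centralizer_fstar_le hx⟩ : Cfsg.generalizedFittingSubgroup G) ∈
        Subgroup.center _ := Subgroup.mem_center_iff.2 fun y => Subtype.ext (hx y y.2)
    rw [hg.center_eq_bot, Subgroup.mem_bot] at h1
    exact congrArg Subtype.val h1
  refine ⟨?_, ?_, fun hs => CfsgLib.ReeRec.exists_cyclic (fun h => hFna ⟨⟨fun a b =>
    Subtype.ext (h.is_comm.comm a.1 b.1)⟩⟩) hG S⟩
  · exact Nat.not_even_iff_odd.1 fun h => S.not_dvd_index (h.two_dvd.trans (Subgroup.index_dvd_of_le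
      (CfsgLib.Abel2.sylow_le_of_centralizer_eq_bot _ hC hg.core_eq_bot S hab)))
  · rcases CfsgLib.ReeRec.walter hFna hL with ⟨a, ha, F, _, _, h1, ⟨e⟩⟩ | ⟨F, _, _, h1, h2, e⟩ | h | h
    · refine .inl ⟨F, _, _, a, ha, h1, ⟨e.trans (CfsgLib.SL2.pmEquiv ?_).symm⟩⟩
      have h := FiniteField.cast_card_eq_zero F
      rw [h1, Nat.cast_pow] at h
      exact_mod_cast pow_eq_zero_iff (by omega) |>.1 h
    · obtain ⟨p, hp⟩ := CharP.exists F
      obtain ⟨n, h3, h4⟩ := FiniteField.card F p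
      exact .inr (.inr (.inr ⟨F, _, _, p, n, h3, h4, by omega, h4 ▸ h2, e⟩))
    · exact .inr (.inl h)
    · exact .inr (.inr (.inl h))

end Cfsg.Agent.S2921
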