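import Cfsg.Statements.S3703
import Mathlib
import Cfsg.Agent.Lib.Frob.Thompson
import Cfsg.Agent.Lib.Coprime.Sylow
import Cfsg.Agent.Lib.Coprime.Action
import Cfsg.Agent.Lib.PGroup.Basic

set_option autoImplicit false
open Cfsg

namespace Cfsg.Agent.S3703

open Subgroup Finset in
theorem key {L V : Type*} [Group L] [CommGroup V] [Finite V] (A : L →* Monoid.End V)
    (F : Subgroup L) [Finite F] (h : L) (m : ℕ) (hF : ∀ i : ℕ, ∀ f ∈ F, h ^ i * f * (h ^ i)⁻¹ ∈ F)
    (fpf : ∀ i, i < m → ∀ f ∈ F, f * h ^ (i + 1) = h ^ (i + 1) * f → f = 1)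
    (hm : ∀ x, ∏ i ∈ range (m + 1), A (h ^ i) x = 1) (cop : (Nat.card F).Coprime (Nat.card V))
    {f₀ : L} (hf₀ : f₀ ∈ F) (x : V) : A f₀ x = x := by
  classical
  have := Fintype.ofFinite F
  have mul : ∀ a b y, A (a * b) y = A a (A b y) := fun a b y => by rw [map_mul]; rfl
  let T : V → V := fun y => ∏ f : F, A f y
  have h1 : ∀ i ∈ range m, ∏ f : F, A (f * h ^ (i + 1) * (f : L)⁻¹) x = T (A (h ^ (i + 1)) x) := by
    intro i hi
    let c : F → F := fun f => ⟨f * (h ^ (i + 1) * (f : L)⁻¹ * (h ^ (i + 1))⁻¹),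
      F.mul_mem f.2 (hF _ _ (F.inv_mem f.2))⟩
    have hc : Function.Injective c := fun a b e => by
      have e' : (a : L) * (h ^ (i + 1) * (a : L)⁻¹ * (h ^ (i + 1))⁻¹) =
        b * (h ^ (i + 1) * (b : L)⁻¹ * (h ^ (i + 1))⁻¹) := congrArg Subtype.val e
      have := fpf i (mem_range.1 hi) ((b : L)⁻¹ * a) (F.mul_mem (F.inv_mem b.2) a.2) (by
        generalize h ^ (i + 1) = k at e' ⊢
        calc (b : L)⁻¹ * a * k = (b : L)⁻¹ * (a * (k * (a : L)⁻¹ * k⁻¹)) * (k * a) := by group
          _ = k * ((b : L)⁻¹ * a) := by rw [e']; group)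
      exact Subtype.ext (inv_mul_eq_one.1 this).symm
    refine Fintype.prod_bijective c (Finite.injective_iff_bijective.1 hc) _ _ fun f => ?_
    rw [← mul]; congr 2; simp only [c]; group
  have h2 : ∏ i ∈ range (m + 1), ∏ f : F, A (f * h ^ i * (f : L)⁻¹) x = 1 := by
    rw [prod_comm]
    refine prod_eq_one fun f _ => ?_
    simp only [mul]
    rw [← map_prod (A f), hm, map_one]
  have h3 : ∏ i ∈ range (m + 1), T (A (h ^ i) x) = 1 := by
    rw [prod_comm]
    refine prod_eq_one fun f _ => ?_
    rw [← map_prod (A f), hm, map_one]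
  rw [prod_range_succ'] at h2 h3
  rw [prod_congr rfl h1, ← h3] at h2
  have h4 : x ^ Nat.card F = T x := by
    simpa [Nat.card_eq_fintype_card] using mul_left_cancel h2
  have h5 : A f₀ (T x) = T x := by
    rw [map_prod]
    exact Fintype.prod_equiv (Equiv.mulLeft (⟨f₀, hf₀⟩ : F)) _ _ fun f => (mul _ _ _).symm
  rw [← h4, map_pow] at h5
  exact (powCoprime cop.symm).injective h5

theorem pow_mul_eq {G : Type*} [Group G] (x h : G) (n : ℕ) :
    (x * h) ^ n = ((List.range n).map fun i => h ^ i * x * (h ^ i)⁻¹).prod * h ^ n := by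
  induction n with
  | zero => simp
  | succ n ih => rw [pow_succ, ih, List.range_succ, List.map_append, List.prod_append]; simp [pow_succ, mul_assoc]

open Subgroup CfsgLib CfsgLib.Coprime Pointwise in

/-- Let N be a normal subgroup of the finite group G such that G/N is a Frobenius group with kernel F and cyclic complement H, where the order of F is coprime to that of N and F is not contained in the image of C_G(N) in G/N. Then G has an element of order p·#H for some prime p dividing the order of N. (A standard tool in recognising groups by their element orders.) -/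
theorem result {G : Type*} [Group G] [Finite G] (N : Subgroup G) [N.Normal]
    (Fb Hb : Subgroup (G ⧸ N)) [Fb.Normal] (hHb : Cfsg.IsFrobeniusComplement Hb) (hker : Cfsg.frobeniusKernel Hb = (Fb : Set (G ⧸ N)))
    (hcyc : IsCyclic Hb) (hcop : (Nat.card Fb).Coprime (Nat.card N))
    (hnot : ¬ Fb ≤ (Subgroup.centralizer (N : Set G)).map (QuotientGroup.mk' N)) :
    ∃ p : ℕ, p.Prime ∧ p ∣ Nat.card N ∧ ∃ g : G, orderOf g = p * Nat.card Hb := by
  classical
  by_contra hcon
  set π := QuotientGroup.mk' N with hπ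
  have hπs : Function.Surjective π := QuotientGroup.mk'_surjective N
  have hk : π.ker = N := QuotientGroup.ker_mk' N
  have hcomp := Frob.isComplement'_of_coe_eq_kernel hHb hker.symm
  have hfpf := Frob.fpf_of_frob hHb hcomp.disjoint
  have hnil : Group.IsNilpotent Fb := Frob.isNilpotent_kernel le_normalizer_of_normal hHb.1 hfpf
  have hNL : N ≤ Fb.comap π := hk.ge.trans (ker_le_comap π Fb)
  have hrel : N.relIndex (Fb.comap π) = Nat.card Fb := by
    have := relIndex_ker (Fb.comap π) π
    rwa [hk, map_comap_eq_self_of_surjective hπs] at this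
  obtain ⟨F, hF1, hF2, hF3, hF4⟩ := exists_complement_of_le_normalizer hNL le_normalizer_of_normal
    (by rw [hrel]; exact hcop.symm)
  rw [hrel] at hF4
  have hFm : F.map π = Fb := by
    rw [← map_comap_eq_self_of_surjective hπs Fb, ← hF3, Subgroup.map_sup,
      (map_eq_bot_iff N).2 hk.ge, bot_sup_eq]
  have hinj : ∀ f ∈ F, π f = 1 → f = 1 := fun f hf e =>
    mem_bot.1 (hF2.le ⟨hk.le e, hf⟩)
  have hsol : Group.IsSolvable F := by
    let ψ : F →* Fb := (π.comp F.subtype).codRestrict Fb fun f => hF1 f.2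
    exact Group.isSolvable_of_isSolvable_injective (f := ψ) ((injective_iff_map_eq_one ψ).2
      fun f e => Subtype.ext (hinj f f.2 (congrArg Subtype.val e)))
  have hcF : (Nat.card F).Coprime (Nat.card N) := hF4 ▸ hcop
  obtain ⟨hb, hhb⟩ := hcyc.exists_ofOrder_eq_natCard
  obtain ⟨m, hm⟩ : ∃ m, Nat.card Hb = m + 1 := ⟨_, (Nat.succ_pred_eq_of_pos Nat.card_pos).symm⟩
  have hord : orderOf (hb : G ⧸ N) = m + 1 := by rw [Subgroup.orderOf_coe, hhb, hm]
  have hA : ∀ g, π g = hb → g ^ (m + 1) = 1 := fun g hg => by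
    by_contra h1
    have h2 : m + 1 ∣ orderOf g := by rw [← hord, ← hg]; exact orderOf_map_dvd π g
    have h3 : g ^ (m + 1) ∈ N := hk.le (by
      rw [MonoidHom.mem_ker, map_pow, hg, ← hord, pow_orderOf_eq_one])
    obtain ⟨p, hp, hd⟩ := Nat.exists_prime_and_dvd (mt orderOf_eq_one_iff.1 h1)
    refine hcon ⟨p, hp, hd.trans (N.orderOf_dvd_natCard h3), g ^ (orderOf g / (p * (m + 1))), ?_⟩
    rw [orderOf_pow_of_dvd m.succ_ne_zero h2] at hd
    rw [hm]
    exact orderOf_pow_orderOf_div (orderOf_pos g).ne' ((mul_comm _ _).dvd.trans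
      ((Nat.dvd_div_iff_mul_dvd h2).1 hd))
  obtain ⟨h₀, hh₀, e₀⟩ : (hb : G ⧸ N) ∈ (normalizer (F : Set G)).map π := by
    rw [map_normalizer_quotient N hcF (Or.inl hsol), hFm]
    exact le_normalizer_of_normal (mem_top _)
  have hFN : F ≤ normalizer (N : Set G) := le_normalizer_of_normal
  have main := eq_of_forall_invariant_pgroup_le hFN hcF (Or.inl hsol)
    (inf_le_left (b := centralizer (F : Set G))) fun p P hp hPN hP hi hFP => le_inf hPN (by
      have : Fact p.Prime := ⟨hp⟩
      have hN0 : MulAut.conj h₀ • N = N := mem_normalizer_iff_conj_smul_eq.1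
        (le_normalizer_of_normal (mem_top h₀))
      obtain ⟨c, hc, hcP⟩ := exists_centralizer_smul_sylow_eq' (p := p) (P := MulAut.conj h₀ • P)
        hFN hcF (Or.inl hsol) (by rw [← hN0]; exact pointwise_smul_le_pointwise_smul_iff.2 hPN)
        (hP.map _) (by rwa [← hN0, relIndex_pointwise_smul]) (fun f hf => by
          rw [mem_normalizer_iff_conj_smul_eq, smul_smul, ← map_mul,
            show f * h₀ = h₀ * (h₀⁻¹ * f * h₀) by group, map_mul, mul_smul,
            mem_normalizer_iff_conj_smul_eq.1 (hFP ((mem_normalizer_iff''.1 hh₀ f).1 hf))])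
        hPN hP hi hFP
      have hP1 : c * h₀ ∈ normalizer (P : Set G) := by
        rw [mem_normalizer_iff_conj_smul_eq, map_mul, mul_smul, hcP]
      have hF1 : c * h₀ ∈ normalizer (F : Set G) :=
        mul_mem (centralizer_le_normalizer _ hc.2) hh₀
      have hπh : π (c * h₀) = hb := by rw [map_mul, e₀, hk.ge hc.1, one_mul]
      generalize c * h₀ = h at hP1 hF1 hπh
      let A : normalizer (P : Set G) →* Monoid.End (Abelianization P) :=
        { toFun := fun g => Abelianization.map (P.normalizerMonoidHom g).toMonoidHom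
          map_one' := MonoidHom.ext fun x => by
            obtain ⟨x, rfl⟩ := QuotientGroup.mk_surjective x
            rw [map_one]; rfl
          map_mul' := fun a b => MonoidHom.ext fun x => by
            obtain ⟨x, rfl⟩ := QuotientGroup.mk_surjective x
            rw [map_mul]; rfl }
      have hcP : (Nat.card F).Coprime (Nat.card P) := hcF.coprime_dvd_right (card_dvd_of_le hPN)
      have k := fun f hf => key A (F.subgroupOf _) ⟨h, hP1⟩ m
        (fun i f hf => (mem_normalizer_iff.1 (pow_mem hF1 i) _).1 hf)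
        (fun i hi f hf e => Subtype.ext (hinj _ hf (by
          have e' : (f : G) * h ^ (i + 1) = h ^ (i + 1) * f := congrArg Subtype.val e
          refine mem_bot.1 ((hfpf (hb ^ (i + 1)) (pow_mem hb.2 _)
            (pow_ne_one_of_lt_orderOf i.succ_ne_zero (by omega))).le ⟨hFm.le ⟨f, hf, rfl⟩,
              mem_centralizer_singleton_iff.2 ?_⟩)
          rw [← hπh, ← map_pow, ← map_mul, e',
            map_mul])))
        (fun x => by
          obtain ⟨x, rfl⟩ := QuotientGroup.mk_surjective x
          have h1 := pow_mul_eq (x : G) h (m + 1)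
          rw [hA _ (by rw [map_mul, hk.ge (hPN x.2), one_mul, hπh]), hA _ hπh, mul_one] at h1
          have h2 : ((List.range (m + 1)).map fun i =>
              P.normalizerMonoidHom (⟨h, hP1⟩ ^ i) x).prod = 1 := Subtype.ext (by
            rw [Subgroup.val_list_prod, List.map_map]; exact h1.symm)
          have h3 := congrArg Abelianization.of h2
          rw [map_list_prod, List.map_map, map_one] at h3
          rw [← h3, ← List.prod_toFinset _ List.nodup_range, List.toFinset_range]
          rfl)
        (by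
          rw [Nat.card_congr (subgroupOfEquivOfLe hFP).toEquiv]
          exact hcP.coprime_dvd_right (card_quotient_dvd_card _)) (f₀ := f) hf
      refine le_centralizer_iff.1 (le_centralizer_of_commutator_le_frattini
        (hcP.coprime_dvd_right (card_subgroup_dvd_card _)) (commutator_le.2 fun x hx f hf => ?_))
      have h1 := k ⟨f, hFP hf⟩ hf (Abelianization.of ⟨x, hx⟩)
      have h2 := PGroup.commutator_le_frattini hP (QuotientGroup.eq.1 h1)
      have h3 := (inferInstance : (frattini P).Normal).conj_mem _ h2 (⟨x, hx⟩ : P)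
      refine ⟨_, h3, ?_⟩
      change x * ((f * x * f⁻¹)⁻¹ * x) * x⁻¹ = _
      rw [commutatorElement_def]; group)
  refine hnot ?_
  rw [← hFm]
  exact map_mono (le_centralizer_iff.1 (main.ge.trans inf_le_right))

end Cfsg.Agent.S3703
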