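import Cfsg.Statements.S3627
import Cfsg.Agent.Lib.JK.Main
import Cfsg.Agent.Lib.J1.Iso
import Cfsg.Agent.Lib.Recog.SpecPerm
import Cfsg.Agent.Lib.Recog.SpecSplit
import Cfsg.Agent.Lib.Recog.CoverPG

set_option autoImplicit false
open Cfsg

namespace Cfsg.Agent.S3627

section

open Subgroup CfsgLib.Comput CfsgLib.J1 CfsgLib.Recog

variable {G : Type*} [Group G] [Finite G]

theorem data {p μ : ℕ} [hp : Fact p.Prime] (hG : (Nat.card G).factorization p = 1) {g c : G} (hg : orderOf g = p)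
    (hc : c * g = g ^ μ * c) : ∃ k C : ℕ, k ∣ p - 1 ∧ (Nat.card G / (C * k)) % p = 1 ∧ C * k ∣ Nat.card G ∧
      μ ^ k % p = 1 ∧ p ∣ C ∧ ∀ r, r.Prime → r ≠ p → (r ∣ C ↔ ∃ x : G, orderOf x = p * r) := by
  let X : Sylow p G := Sylow.ofCard (zpowers g) (by rw [Nat.card_zpowers, hg, hG, pow_one])
  have h1 := (normalizerMonoidHom (zpowers g)).ker.card_mul_index
  have h2 : Nat.card (normalizerMonoidHom (zpowers g)).ker = Nat.card (centralizer (zpowers g : Set G)) := by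
    rw [normalizerMonoidHom_ker]
    exact Nat.card_congr (subgroupOfEquivOfLe (centralizer_le_normalizer _)).toEquiv
  have h3 := card_sylow_modEq_one p G
  rw [X.card_eq_index_normalizer] at h3
  change (normalizer (zpowers g : Set G)).index ≡ 1 [MOD p] at h3
  have h4 := card_mul_index (normalizer (zpowers g : Set G))
  rw [← h1, h2] at h4
  have h5 : ∀ {x}, x ∈ centralizer (zpowers g : Set G) ↔ Commute g x := fun {x} =>
    ⟨fun h => h g (mem_zpowers g), fun h _ ⟨i, e⟩ => e ▸ (h.zpow_left i).eq⟩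
  refine ⟨(normalizerMonoidHom (zpowers g)).ker.index, _, ?_, ?_, Dvd.intro _ h4, ?_, ?_, fun r hr hrp => ?_⟩
  · rw [index_ker, ← Nat.totient_prime hp.out, ← hg, ← Nat.card_zpowers, ← IsCyclic.card_mulAut]
    exact card_subgroup_dvd_card _
  · rw [← h4, Nat.mul_div_cancel_left _ (by rw [← h2, h1]; exact Nat.card_pos)]
    exact Eq.trans h3 (Nat.mod_eq_of_lt hp.out.one_lt)
  · have h6 : ∀ k, c ^ k * g * (c ^ k)⁻¹ = g ^ μ ^ k := fun k => by
      induction k with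
      | zero => simp
      | succ k ih =>
        rw [pow_succ', mul_inv_rev, mul_assoc c, mul_assoc c, ← mul_assoc _ _ c⁻¹, ih, ← mul_assoc, ← conj_pow, hc,
          mul_inv_cancel_right, ← pow_mul, pow_succ']
    have h7 : c ∈ normalizer (zpowers g : Set G) := mem_normalizer_fintype (by
      rintro _ ⟨i, rfl⟩
      exact ⟨μ * i, by simp only [← conj_zpow, hc, mul_inv_cancel_right, zpow_mul, zpow_natCast]⟩)
    have h8 := (normalizerMonoidHom (zpowers g)).ker.pow_index_mem ⟨c, h7⟩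
    nth_rewrite 1 [normalizerMonoidHom_ker] at h8
    have h9 := h6 (normalizerMonoidHom (zpowers g)).ker.index
    have h10 : g * c ^ _ = c ^ _ * g := (h5.1 h8).eq
    rw [← h10, mul_inv_cancel_right] at h9
    exact Eq.trans (hg ▸ pow_eq_pow_iff_modEq.1 (h9.symm.trans (pow_one g).symm)) (Nat.mod_eq_of_lt hp.out.one_lt)
  · rw [← hg, ← Nat.card_zpowers]
    exact card_dvd_of_le (le_centralizer _)
  have := Fact.mk hr
  refine ⟨fun h => ?_, fun ⟨x, hx⟩ => ?_⟩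
  · obtain ⟨y, hy⟩ := exists_prime_orderOf_dvd_card' r h
    rw [← orderOf_coe] at hy
    exact ⟨g * y, by rw [(h5.1 y.2).orderOf_mul_eq_mul_orderOf_of_coprime (by
      rw [hg, hy]; exact (Nat.coprime_primes hp.out hr).2 hrp.symm), hg, hy]⟩
  · have a1 : orderOf (x ^ r) = p := by
      rw [orderOf_pow_of_dvd hr.ne_zero (hx ▸ dvd_mul_left r p), hx, Nat.mul_div_cancel _ hr.pos]
    have a2 : orderOf (x ^ p) = r := by
      rw [orderOf_pow_of_dvd hp.out.ne_zero (hx ▸ dvd_mul_right p r), hx, Nat.mul_div_cancel_left _ hp.out.pos]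
    obtain ⟨d, hd⟩ := exists_conj_mem_zpowers hG hg a1
    obtain ⟨i, e⟩ := mem_zpowers_iff.1 hd
    have a3 : d⁻¹ * x ^ p * d⁻¹⁻¹ ∈ centralizer (zpowers g : Set G) := h5.2 (by
      rw [show g = d⁻¹ * (x ^ r) ^ i * d⁻¹⁻¹ by rw [e]; group]
      exact (((Commute.refl x).pow_pow r p).zpow_left i).map (MulAut.conj d⁻¹))
    have a4 := orderOf_dvd_natCard _ a3
    rwa [← MulAut.conj_apply, MulEquiv.orderOf_eq, a2] at a4

theorem j1_chk : allL (eqChk (stepT 266 9 P.W) (idTab 266 9)) [(List.replicate 7 1, []),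
    (List.replicate 11 0x10303, []), (List.replicate 19 0x1010103, []),
    ([0x3010301030101030101010103010301010303, 1],
      List.replicate 3 1 ++ [0x3010301030101030101010103010301010303]),
    ([0x301030301030101, 0x10303], List.replicate 8 0x10303 ++ [0x301030301030101]),
    ([0x10103010301030301010301010301, 0x1010103],
      List.replicate 8 0x1010103 ++ [0x10103010301030301010301010301])] = true := by decide +kernel

theorem j1_aut : ∀ t ∈ [(7, 3), (11, 8), (19, 8)], ∃ g c : Spor.J1, g ^ t.1 = 1 ∧ g ≠ 1 ∧ c * g = g ^ t.2 * c := by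
  let e := nonempty_equiv.some
  let _ := pullAct e
  have M := SM.pull e P.W_ok p_mem (by norm_num)
  have R := (WM.pull e P.W_ok p_mem (k := 9) (by norm_num)).allHold j1_chk
  simp only [AllHold, List.mem_cons, List.not_mem_nil, or_false, forall_eq_or_imp, forall_eq,
    Eqn.Holds, evL_append, evL_replicate, evL_nil, evL_one, evL_two] at R ⊢
  obtain ⟨r1, r2, r3, r4, r5, r6⟩ := R
  have ne : ∀ w, tb (act (stepN P.W) w (1 <<< 1)) 1 = false → ev (pullG e p_mem) w ≠ 1 :=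
    fun w hw e => M.smul_pt_ne (by norm_num) hw (by rw [e, one_smul])
  exact ⟨⟨_, _, r1, ne _ (by decide +kernel), r4⟩, ⟨_, _, r2, ne _ (by decide +kernel), r5⟩,
    ⟨_, _, r3, ne _ (by decide +kernel), r6⟩⟩

def L : List ℕ := [1, 2, 4, 8].flatMap fun a => [1, 3].flatMap fun b => [1, 5].flatMap fun c =>
  [1, 7].flatMap fun d => [1, 11].flatMap fun e => [1, 19].map fun f => a * (b * (c * (d * (e * f))))

theorem mem_L {n : ℕ} (h : n ∣ 175560) : n ∈ L := by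
  rw [show 175560 = 2 ^ 3 * (3 * (5 * (7 * (11 * 19)))) by norm_num] at h
  obtain ⟨a, n, ha, h1, rfl⟩ := (Nat.dvd_mul).1 h
  obtain ⟨b, n, hb, h2, rfl⟩ := (Nat.dvd_mul).1 h1
  obtain ⟨c, n, hc, h3, rfl⟩ := (Nat.dvd_mul).1 h2
  obtain ⟨d, n, hd, h4, rfl⟩ := (Nat.dvd_mul).1 h3
  obtain ⟨e, f, he, hf, rfl⟩ := (Nat.dvd_mul).1 h4
  simp only [L, List.mem_flatMap, List.mem_map]
  refine ⟨a, ?_, b, ?_, c, ?_, d, ?_, e, ?_, f, ?_, rfl⟩
  · obtain ⟨i, hi, rfl⟩ := (Nat.dvd_prime_pow Nat.prime_two).1 ha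
    interval_cases i <;> simp
  all_goals simpa using (Nat.dvd_prime (by norm_num)).1 ‹_›

theorem ar1 : ∀ t ∈ [(7, 3), (11, 8), (19, 8)], t.1.Prime ∧ (175560 : ℕ).factorization t.1 = 1 ∧ 0 < t.1 - 1 ∧
    t.1 - 1 < 19 ∧ 2 ≠ t.1 ∧ ¬ t.1 * 2 ∣ 6 ∧ ¬ t.1 * 2 ∣ 10 := by decide +kernel

set_option synthInstance.maxSize 1000 in
theorem ar2 : ∀ t ∈ [(7, 3), (11, 8), (19, 8)], ∀ k < 19, ∀ C ∈ L, k ∣ t.1 - 1 → (175560 / (C * k)) % t.1 = 1 →
    C * k ∣ 175560 → t.2 ^ k % t.1 = 1 → t.1 ∣ C → ¬ 2 ∣ C → (7 ∣ C → t.1 = 7) → (11 ∣ C → t.1 ≤ 11) → C = t.1 := by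
  decide +kernel

set_option synthInstance.maxSize 1000 in
theorem ar3 : ∀ n ∈ L, (∀ p ∈ [7, 11, 19], ∀ r ∈ [3, 5, 7, 11, 19], r ≠ p → ¬p * r ∣ n) →
    (2 ∣ n → n ∣ 6 ∨ n ∣ 10) → n ∈ [1, 2, 3, 5, 6, 7, 10, 11, 15, 19] := by decide +kernel

theorem spec : Set.range (orderOf : Spor.J1 → ℕ) = {n | n ∈ [1, 2, 3, 5, 6, 7, 10, 11, 15, 19]} := by
  have hc := card_J1
  have : Finite Spor.J1 := Nat.finite_of_card_ne_zero (by rw [hc]; norm_num)
  have := (isJ1_of_iso ⟨MulEquiv.refl Spor.J1⟩).1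
  obtain ⟨t, ht, ⟨e⟩⟩ := exists_cent ⟨MulEquiv.refl Spor.J1⟩
  obtain ⟨φ, h⟩ := CfsgLib.JK.pre_of_equiv ht e
  have h := h.hyp (Sylow.ofCard (CfsgLib.JK.Pre.S t φ) (by rw [h.card_S, hc]; decide +kernel)) inf_le_left
  have h2 : ∀ x : Spor.J1, 2 ∣ orderOf x → orderOf x ∣ 6 ∨ orderOf x ∣ 10 := fun x hx => by
    obtain ⟨ψ, h'⟩ := h.exists_hyp (orderOf_pow_orderOf_div (orderOf_pos x).ne' hx)
    obtain ⟨p, hp⟩ := h'.cent x ((Commute.refl x).pow_left _)
    have h3 : x * x = ψ (p * p) := by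
      rcases hp with hp | hp
      exacts [by rw [hp, map_mul], by rw [← h'.toPre.tmul_sq, ← hp]]
    simp only [orderOf_dvd_iff_pow_eq_one, show 6 = 2 * 3 from rfl, show 10 = 2 * 5 from rfl, pow_mul, pow_two, h3,
      ← map_pow, h'.toPre.eq_one]
    revert p
    rintro p - -
    revert p
    decide +kernel
  have h3 : ∀ t ∈ [(7, 3), (11, 8), (19, 8)], ∃ k < 19, ∃ C ∈ L, k ∣ t.1 - 1 ∧ (175560 / (C * k)) % t.1 = 1 ∧
      C * k ∣ 175560 ∧ t.2 ^ k % t.1 = 1 ∧ t.1 ∣ C ∧ ¬ 2 ∣ C ∧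
      ∀ r, r.Prime → r ≠ t.1 → (r ∣ C ↔ ∃ x : Spor.J1, orderOf x = t.1 * r) := fun t ht => by
    obtain ⟨g, c, a1, a2, a3⟩ := j1_aut t ht
    obtain ⟨b1, b2, b3, b4, b5⟩ := ar1 t ht
    have := Fact.mk b1
    obtain ⟨k, C, c1, c2, c3, c4, c5, c6⟩ := data (hc ▸ b2) (orderOf_eq_prime a1 a2) a3
    rw [hc] at c2 c3
    refine ⟨k, (Nat.le_of_dvd b3 c1).trans_lt b4, C, mem_L (dvd_of_mul_right_dvd c3), c1, c2, c3, c4, c5, fun h => ?_, c6⟩
    obtain ⟨x, hx⟩ := (c6 2 Nat.prime_two b5.1).1 h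
    have := h2 x (hx ▸ dvd_mul_left _ _)
    rw [hx] at this
    exact this.elim b5.2.1 b5.2.2
  obtain ⟨k7, a0, C7, a1, a2, a3, a4, a5, a6, a7, a8⟩ := h3 (7, 3) (by simp)
  obtain ⟨k11, b0, C11, b1, b2, b3, b4, b5, b6, b7, b8⟩ := h3 (11, 8) (by simp)
  obtain ⟨k19, c0, C19, c1, c2, c3, c4, c5, c6, c7, c8⟩ := h3 (19, 8) (by simp)
  obtain rfl : C7 = 7 := ar2 (7, 3) (by simp) k7 a0 C7 a1 a2 a3 a4 a5 a6 a7 (by simp) (by simp)
  have d1 : ∀ r, r.Prime → ¬ 7 ∣ r → r ≠ 7 → ¬ ∃ x : Spor.J1, orderOf x = r * 7 := fun r hr h1 h2 h3 =>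
    h2 ((Nat.prime_dvd_prime_iff_eq hr (by norm_num)).1 ((a8 r hr h2).2 (mul_comm r 7 ▸ h3)))
  have b9 := mt (b8 7 (by norm_num) (by norm_num)).1 (d1 11 (by norm_num) (by norm_num) (by norm_num))
  obtain rfl : C11 = 11 := ar2 (11, 8) (by simp) k11 b0 C11 b1 b2 b3 b4 b5 b6 b7 (absurd · b9) (by simp)
  have c9 := mt (c8 7 (by norm_num) (by norm_num)).1 (d1 19 (by norm_num) (by norm_num) (by norm_num))
  have c10 := mt (c8 11 (by norm_num) (by norm_num)).1 fun h => absurd ((b8 19 (by norm_num) (by norm_num)).2 h)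
    (by norm_num)
  obtain rfl : C19 = 19 := ar2 (19, 8) (by simp) k19 c0 C19 c1 c2 c3 c4 c5 c6 c7 (absurd · c9) (absurd · c10)
  ext n
  refine ⟨fun ⟨x, hx⟩ => ?_, fun hn => ?_⟩
  · have d2 : ∀ p ∈ [7, 11, 19], ∀ r ∈ [3, 5, 7, 11, 19], r ≠ p → ¬ p * r ∣ n := fun p hp r hr hrp h => by
      have d3 := mem_range_orderOf_of_dvd x (hx ▸ h)
      have d4 : r.Prime := (by decide +kernel : ∀ r ∈ [3, 5, 7, 11, 19], r.Prime) r hr
      simp only [List.mem_cons, List.not_mem_nil, or_false] at hp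
      rcases hp with rfl | rfl | rfl
      exacts [hrp ((Nat.prime_dvd_prime_iff_eq d4 (by norm_num)).1 ((a8 r d4 hrp).2 d3)),
        hrp ((Nat.prime_dvd_prime_iff_eq d4 (by norm_num)).1 ((b8 r d4 hrp).2 d3)),
        hrp ((Nat.prime_dvd_prime_iff_eq d4 (by norm_num)).1 ((c8 r d4 hrp).2 d3))]
    exact ar3 n (hx ▸ mem_L (hc ▸ orderOf_dvd_natCard x)) d2 (hx ▸ h2 x)
  obtain ⟨w, y, z, c, e1, e2⟩ := h.exists_cfg35
  have d1 : ∀ {a b : Spor.J1} {r s : ℕ}, Commute a b → orderOf a = r → orderOf b = s → r.Coprime s → n ∣ r * s →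
      n ∈ Set.range (orderOf : Spor.J1 → ℕ) := fun {a b r s} h h1 h2 h3 h4 => mem_range_orderOf_of_dvd (a * b) (by
    rwa [h.orderOf_mul_eq_mul_orderOf_of_coprime (by rwa [h1, h2]), h1, h2])
  have d2 : n ∣ 2 * 3 ∨ n ∣ 2 * 5 ∨ n ∣ 3 * 5 ∨ n.Prime ∧ n ∣ 175560 := by
    change n ∈ [1, 2, 3, 5, 6, 7, 10, 11, 15, 19] at hn
    clear d1
    revert n
    decide +kernel
  rcases d2 with d | d | d | ⟨d, d'⟩
  exacts [d1 c.ty c.ot e1 (by norm_num) d, d1 c.wz c.ow e2 (by norm_num) d, d1 c.yz e1 e2 (by norm_num) d,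
    have := Fact.mk d; exists_prime_orderOf_dvd_card' n (hc ▸ d')]

theorem spec_dih : Set.range (orderOf : DihedralGroup 7 → ℕ) = {n | n ∈ [1, 2, 7]} := by
  have : Fact (Nat.Prime 7) := ⟨by norm_num⟩
  ext n
  refine ⟨?_, ?_⟩
  · rintro ⟨i | i, rfl⟩
    · have h : DihedralGroup.r i ^ 7 = 1 := by revert i; decide
      rcases (Nat.dvd_prime (by norm_num : Nat.Prime 7)).1 (orderOf_dvd_of_pow_eq_one h) with h | h <;>
        rw [h] <;> simp
    · simp
  · simp only [List.mem_cons, List.not_mem_nil, or_false, Set.mem_ofPred_eq]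
    rintro (rfl | rfl | rfl)
    exacts [⟨1, orderOf_one⟩, ⟨_, DihedralGroup.orderOf_sr 0⟩, ⟨_, DihedralGroup.orderOf_r_one⟩]

theorem spec_prod {G H : Type*} [Group G] [Group H] {A B : List ℕ} (hG : Set.range (orderOf : G → ℕ) = {n | n ∈ A})
    (hH : Set.range (orderOf : H → ℕ) = {n | n ∈ B}) :
    Set.range (orderOf : G × H → ℕ) = {n | n ∈ (A.flatMap fun a => B.map a.lcm).dedup} := by
  ext n
  simp only [mem_range_orderOf_prod, hG, hH, Set.mem_ofPred_eq, List.mem_dedup, List.mem_flatMap, List.mem_map, eq_comm]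

theorem spec3 : Set.range (orderOf : Spor.J1 × Spor.J1 × Spor.J1 → ℕ) = {n | n ∈ [1, 2, 3, 5, 6, 7, 10, 11, 14, 15, 19, 21, 22, 30, 33, 35, 38, 42, 55, 57, 66, 70, 77, 95, 105, 110, 114, 133, 154, 165, 190, 209, 210, 231, 266, 285, 330, 385, 399, 418, 462, 570, 627, 665, 770, 798, 1045, 1155, 1254, 1330, 1463, 1995, 2090, 3135]} := by
  have h : Set.range (orderOf : Spor.J1 × Spor.J1 → ℕ) = {n | n ∈ [1, 2, 3, 5, 6, 7, 10, 11, 14, 15, 19, 21, 22, 30, 33, 35, 38, 42, 55, 57, 66, 70, 77, 95, 105, 110, 114, 133, 165, 190, 209, 285]} := by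
    rw [spec_prod spec spec]
    exact Set.ext fun _ => List.Perm.mem_iff (by decide +kernel)
  rw [spec_prod spec h]
  exact Set.ext fun _ => List.Perm.mem_iff (by decide +kernel)

theorem large (A : Type*) [Group A] [Finite A] (N : ℕ) : ∃ (H : Type) (_ : Group H) (_ : Fintype H),
    N < Fintype.card H ∧ Set.range (orderOf : H → ℕ) = Set.range (orderOf : A × DihedralGroup 7 → ℕ) := by
  have : IsZGroup (MonoidHom.fst A (DihedralGroup 7)).ker := .of_squarefree (by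
    rw [MonoidHom.ker_fst, Nat.card_congr (Subgroup.prodEquiv _ _).toEquiv, Nat.card_prod, Subgroup.card_bot,
      Subgroup.card_top, DihedralGroup.nat_card]
    decide +kernel)
  exact exists_large_isospectral_of_solvable_normal (MonoidHom.fst A (DihedralGroup 7)).ker
    (fun h => (by decide : (DihedralGroup.sr 0 : DihedralGroup 7) ≠ 1)
      (congrArg Prod.snd (mem_bot.1 (h.le (show ((1 : A), DihedralGroup.sr 0) ∈ (MonoidHom.fst A (DihedralGroup 7)).ker from rfl))))) inferInstance N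

end

/-- Let J be the first Janko group. Then there are finite groups of arbitrarily large order with exactly the same set of element orders as J × J × J × J. -/
theorem result (N : ℕ) : ∃ (H : Type) (_ : Group H) (_ : Fintype H), N < Fintype.card H ∧
      Set.range (orderOf : H → ℕ) = Set.range (orderOf : ↥Cfsg.Spor.J1 × ↥Cfsg.Spor.J1 × ↥Cfsg.Spor.J1 × ↥Cfsg.Spor.J1 → ℕ) := by
  have : Finite Spor.J1 := Nat.finite_of_card_ne_zero (by rw [CfsgLib.J1.card_J1]; norm_num)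
  obtain ⟨H, _, _, h1, h2⟩ := large (Spor.J1 × Spor.J1 × Spor.J1) N
  refine ⟨H, inferInstance, inferInstance, h1, ?_⟩
  rw [h2, spec_prod spec3 spec_dih, spec_prod spec spec3]
  exact Set.ext fun _ => List.Perm.mem_iff (by decide +kernel)

end Cfsg.Agent.S3627
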