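import Cfsg.Statements.S3736
import Cfsg.Agent.Lib.Core.MinNormal
import Cfsg.Agent.Lib.Core.Frattini
import Cfsg.Agent.Lib.Core.Commutator
import Cfsg.Agent.Lib.Coprime.Abelian
import Cfsg.Agent.Lib.BGI.OmegaOdd

set_option autoImplicit false
open Cfsg

namespace Cfsg.Agent.S3736

open Subgroup CfsgLib.Core
open scoped commutatorElement

/-- The core facts on a minimal nontrivial coprime action. -/
theorem core {X : Type*} [Group X] [Finite X] {p : ℕ} [Fact p.Prime] (B A P : Subgroup X)
    (hP : IsPGroup p P) (hBP : B ≤ normalizer (P : Set X)) (hAB : A ≤ B)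
    (hAn : B ≤ normalizer (A : Set X)) (hAp : (Nat.card A).Coprime p) (hnt : ⁅P, A⁆ ≠ ⊥)
    (hmin : ∀ U : Subgroup X, U < P → B ≤ normalizer (U : Set X) → ⁅U, A⁆ = ⊥) :
    ⁅P, A⁆ = P ∧ P ⊓ centralizer (A : Set X) = ⁅P, P⁆ ∧
      (frattini P).map P.subtype = ⁅P, P⁆ ∧ ⁅P, P⁆ ≤ centralizer (P : Set X) := by
  have hAP : A ≤ normalizer (P : Set X) := hAB.trans hBP
  have hcop : (Nat.card A).Coprime (Nat.card P) :=
    CfsgLib.Coprime.coprime_card_of_isPGroup hP hAp
  have hP1 : P ≠ ⊥ := by
    rintro rfl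
    exact hnt (Subgroup.commutator_bot_left A)
  have h1 : ⁅P, A⁆ = P := by
    by_contra hne
    have hlt : ⁅P, A⁆ < P :=
      lt_of_le_of_ne (CfsgLib.Coprime.commutator_le_of_le_normalizer hAP) hne
    have := hmin _ hlt (CfsgLib.Coprime.le_normalizer_commutator hBP hAn)
    rw [CfsgLib.Coprime.commutator_commutator_eq hAP hcop] at this
    exact hnt this
  have h2 : P ⊓ centralizer (A : Set X) ≤ ⁅P, P⁆ := by
    have := CfsgLib.Coprime.centralizer_inf_commutator_le hAP hcop
    rwa [h1, inf_comm] at this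
  have h3 : (frattini P).map P.subtype ≤ P ⊓ centralizer (A : Set X) :=
    le_inf (map_subtype_le _) (commutator_eq_bot_iff_le_centralizer.1
      (hmin _ (map_frattini_lt hP1) (hBP.trans (normalizer_le_normalizer_map_frattini P))))
  have h4 : ⁅P, P⁆ ≤ (frattini P).map P.subtype := commutator_le_map_frattini hP
  refine ⟨h1, le_antisymm h2 (h4.trans h3), le_antisymm (h3.trans h2) h4, ?_⟩
  have h5 : ⁅⁅P, P⁆, A⁆ = ⊥ :=
    commutator_eq_bot_iff_le_centralizer.2 ((h4.trans h3).trans inf_le_right)
  have h6 : ⁅⁅P, ⁅P, P⁆⁆, A⁆ = ⊥ := by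
    rw [eq_bot_iff, ← h5]
    exact commutator_mono (commutator_mono le_rfl (commutator_le_of_le le_rfl le_rfl)) le_rfl
  have h7 : ⁅⁅A, P⁆, ⁅P, P⁆⁆ ≤ ⊥ :=
    three_subgroups (by rw [h6]) (by rw [h5, Subgroup.commutator_bot_left])
  rw [Subgroup.commutator_comm A P, h1, Subgroup.commutator_comm] at h7
  exact commutator_eq_bot_iff_le_centralizer.1 (eq_bot_iff.2 h7)

/-- The Hall–Higman reduction for a minimal non-trivial action. Let B, A and P be subgroups of a finite group with P a p-group, B normalizing P, and A a normal subgroup of B of order prime to p. Suppose A does not centralize P but centralizes every proper B-invariant subgroup of P. Then [P, A] = P; P is elementary abelian or special; B acts irreducibly on P/Φ(P), that is, the only B-invariant subgroups of P containing Φ(P) are Φ(P) and P; and if p is odd then every element of P has order dividing p. -/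
theorem result {X : Type*} [Group X] [Finite X] {p : ℕ} [Fact p.Prime] (B A P : Subgroup X) (hP : IsPGroup p P) (hBP : B ≤ Subgroup.normalizer (P : Set X)) (hAB : A ≤ B) (hAn : B ≤ Subgroup.normalizer (A : Set X)) (hAp : (Nat.card A).Coprime p) (hnt : ⁅P, A⁆ ≠ ⊥) (hmin : ∀ U : Subgroup X, U < P → B ≤ Subgroup.normalizer (U : Set X) → ⁅U, A⁆ = ⊥) : ⁅P, A⁆ = P ∧ (Cfsg.IsElementaryAbelian p P ∨ Cfsg.IsSpecial p ↥P) ∧ (∀ U : Subgroup X, (frattini ↥P).map P.subtype ≤ U → U ≤ P → B ≤ Subgroup.normalizer (U : Set X) → U = (frattini ↥P).map P.subtype ∨ U = P) ∧ (p ≠ 2 → ∀ x ∈ P, x ^ p = 1) := by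
  obtain ⟨h1, h2, h3, h4⟩ := core B A P hP hBP hAB hAn hAp hnt hmin
  have hAP : A ≤ normalizer (P : Set X) := hAB.trans hBP
  refine ⟨h1, ?_, ?_, ?_⟩
  · by_cases hab : P ≤ centralizer (P : Set X)
    · left
      rw [← map_frattini_eq_bot_iff_of_isPGroup hP, h3]
      exact commutator_eq_bot_iff_le_centralizer.2 hab
    · right
      have hZ : P ⊓ centralizer (P : Set X) = ⁅P, P⁆ := by
        refine le_antisymm ?_ (le_inf (commutator_le_of_le le_rfl le_rfl) h4)
        rw [← h2]
        refine le_inf inf_le_left (commutator_eq_bot_iff_le_centralizer.1 (hmin _ ?_ ?_))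
        · exact lt_of_le_of_ne inf_le_left fun h => hab (h.ge.trans inf_le_right)
        · exact CfsgLib.Coprime.le_normalizer_inf hBP (CfsgLib.Coprime.le_normalizer_centralizer hBP)
      refine ⟨hP, ?_, ?_⟩
      · apply map_injective P.subtype_injective
        rw [h3, map_subtype_center, hZ]
      · apply map_injective P.subtype_injective
        rw [map_subtype_center, hZ, _root_.commutator_def, map_commutator, ← MonoidHom.range_eq_map,
          range_subtype]
  · intro U hU hUP hBU
    rcases hUP.eq_or_lt with h | h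
    · exact Or.inr h
    · left
      refine le_antisymm ?_ hU
      rw [h3, ← h2]
      exact le_inf hUP (commutator_eq_bot_iff_le_centralizer.1 (hmin U h hBU))
  · intro hp2
    have hΩ : Cfsg.omegaOne p P = P := by
      by_contra hne
      have hlt := lt_of_le_of_ne (omegaOne_le p P) hne
      have h5 := commutator_eq_bot_iff_le_centralizer.1
        (hmin _ hlt (hBP.trans (normalizer_le_normalizer_omegaOne p P)))
      have h6 := CfsgLib.BGI.le_centralizer_of_centralizes_order_p hp2 hP hAP hAp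
        (fun x hx hxp => h5 (mem_omegaOne hx hxp))
      exact hnt (by rw [Subgroup.commutator_comm]; exact commutator_eq_bot_iff_le_centralizer.2 h6)
    have hcomm : ∀ u ∈ P, ∀ v ∈ P, ∀ w ∈ P, Commute w ⁅u, v⁆ := fun u hu v hv w hw =>
      (h4 (commutator_mem_commutator hu hv)) w hw
    let K : Subgroup X :=
      { carrier := {x | x ∈ P ∧ x ^ p = 1}
        one_mem' := ⟨P.one_mem, one_pow _⟩
        inv_mem' := fun hx => ⟨P.inv_mem hx.1, by rw [inv_pow, hx.2, inv_one]⟩
        mul_mem' := fun {u v} hu hv => ⟨P.mul_mem hu.1 hv.1, by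
          have hv' := hcomm v hv.1 u hu.1 v hv.1
          rw [CfsgLib.BGI.mul_pow_prime_of_commute_commutator Fact.out hp2
            (hcomm v hv.1 u hu.1 u hu.1) hv', hu.2, hv.2, one_mul]
          rw [← CfsgLib.BGI.commutator_pow_left hv', hv.2, commutatorElement_one_left]⟩ }
    have hK : Cfsg.omegaOne p P ≤ K := omegaOne_le_iff.2 fun x hx hxp => ⟨hx, hxp⟩
    intro x hx
    exact (hK (hΩ.ge hx)).2

end Cfsg.Agent.S3736
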