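import Cfsg.Statements.S0689
import Cfsg.Agent.Lib.FrobCompl.NearField
import Cfsg.Agent.Lib.FrobCompl.NonSolv

set_option autoImplicit false
open Cfsg

namespace Cfsg.Agent.S0689

open CfsgLib CfsgLib.FrobCompl Subgroup

theorem nonempty_prod {G : Type*} [Group G] [Finite G] {φ : SL25 →* G} (hφ : Function.Injective φ)
    {M : Subgroup G} (hM : M ≤ centralizer (φ.range : Set G)) (hi : φ.range ⊓ M = ⊥)
    (hc : Nat.card G = 120 * Nat.card M) : Nonempty (G ≃* SL25 × M) := by
  let f : SL25 × M →* G := φ.noncommCoprod M.subtype fun x m => hM m.2 _ ⟨x, rfl⟩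
  refine ⟨(MulEquiv.ofBijective f ((Nat.bijective_iff_injective_and_card f).2
    ⟨(injective_iff_map_eq_one f).2 fun x hx => ?_, by rw [Nat.card_prod, card_SL25, hc]⟩)).symm⟩
  have h1 : φ x.1 = (x.2 : G)⁻¹ := eq_inv_of_mul_eq_one_left hx
  have h2 : φ x.1 ∈ φ.range ⊓ M := ⟨⟨_, rfl⟩, h1 ▸ M.inv_mem x.2.2⟩
  rw [hi, mem_bot] at h2
  exact Prod.ext ((map_eq_one_iff φ hφ).1 h2) (Subtype.ext (inv_eq_one.1 (h1.symm.trans h2)))

theorem arith {r e c t : ℕ} (hr : 1 < r) (he : 2 ≤ e) (hc : 2 * c ∣ r - 1) (h30 : c.Coprime 30)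
    (ht : t = 60 ∨ t = 120) (h : 2 * c * t + 1 = r ^ e) :
    r ^ e = 119 ^ 2 ∨ t = 60 ∧ (c = 1 ∨ c = 7 ∨ c = 29) := by
  obtain ⟨k, hk⟩ := hc
  have h3 : (∑ i ∈ Finset.range e, r ^ i) * (r - 1) + 1 = r ^ e := by
    have := geom_sum_mul_add (r - 1) e
    rwa [Nat.sub_add_cancel hr.le] at this
  have hc0 : 0 < c := Nat.pos_of_ne_zero (by rintro rfl; simp at h30)
  have h4 : (∑ i ∈ Finset.range e, r ^ i) * k = t := Nat.eq_of_mul_eq_mul_left
    (show 0 < 2 * c by omega) (by rw [hk] at h3; nlinarith)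
  have h5 : (∑ i ∈ Finset.range e, r ^ i) ∣ 120 := (Dvd.intro _ h4).trans (by
    rcases ht with rfl | rfl <;> norm_num)
  have h6 := Nat.le_of_dvd (by norm_num) h5
  have h7 : ∀ q, q.Prime → q ∣ 30 → ¬ q ∣ r := fun q hq h1 h2 => by
    have h3 := h2.trans (dvd_pow_self r (show e ≠ 0 by omega))
    rw [← h, Nat.dvd_add_right ((h1.trans (by rcases ht with rfl | rfl <;> norm_num)).mul_left _)]
      at h3
    exact hq.one_lt.ne' (Nat.dvd_one.1 h3)
  have h8 := h7 2 (by norm_num) (by norm_num)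
  have h9 := h7 3 (by norm_num) (by norm_num)
  have h10 := h7 5 (by norm_num) (by norm_num)
  have h11 : ∀ j, j ≤ e → ∑ i ∈ Finset.range j, r ^ i ≤ 120 := fun j hj =>
    (Finset.sum_le_sum_of_subset (Finset.range_subset_range.2 hj)).trans h6
  rcases he.eq_or_lt with rfl | he3
  · simp only [Finset.sum_range_succ, Finset.range_zero, Finset.sum_empty, pow_zero, pow_one] at h5 h6
    have h12 : r ≤ 119 := by omega
    have h13 : ¬ 3 ∣ c := fun h => absurd (h30.coprime_dvd_left h) (by norm_num)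
    have h14 : ¬ 2 ∣ c := fun h => absurd (h30.coprime_dvd_left h) (by norm_num)
    clear h3 h4 h6 h7 h11 hk
    rcases ht with rfl | rfl <;> interval_cases r <;> omega
  · exfalso
    have h12 := h11 3 he3
    simp only [Finset.sum_range_succ, Finset.range_zero, Finset.sum_empty, pow_zero, pow_one] at h12
    obtain rfl : r = 7 := by
      have : r ≤ 10 := by nlinarith
      interval_cases r <;> omega
    rcases (show 3 ≤ e from he3).eq_or_lt with rfl | he4
    · exact absurd h5 (by decide)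
    · exact absurd (h11 4 he4) (by decide)


/-- The insoluble sharply doubly transitive groups: a non-solvable linear group over the prime field that is regular on the non-zero vectors of `V` occurs only for `|V| = 11², 29², 59²`, and is `SL(2,5) × C_m` with `m = 1, 7, 29` respectively. -/
theorem result {p : ℕ} [Fact p.Prime] {V : Type*} [AddCommGroup V] [Module (ZMod p) V] [Finite V] (H : Subgroup (V ≃ₗ[ZMod p] V)) (hreg : ∀ v w : V, v ≠ 0 → w ≠ 0 → ∃! h : H, (h : V ≃ₗ[ZMod p] V) v = w) (hsolv : ¬ Group.IsSolvable H) : (Nat.card V = 121 ∧ Nonempty (H ≃* Matrix.SpecialLinearGroup (Fin 2) (ZMod 5))) ∨ (Nat.card V = 841 ∧ Nonempty (H ≃* Matrix.SpecialLinearGroup (Fin 2) (ZMod 5) × Multiplicative (ZMod 7))) ∨ (Nat.card V = 3481 ∧ Nonempty (H ≃* Matrix.SpecialLinearGroup (Fin 2) (ZMod 5) × Multiplicative (ZMod 29))) := by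
  have h : Reg H V := hreg
  have : Nontrivial V := by
    by_contra hn
    rw [not_nontrivial_iff_subsingleton] at hn
    exact hsolv (isSolvable_of_comm fun _ _ => Subtype.ext (LinearEquiv.ext fun _ =>
      Subsingleton.elim _ _))
  have := h.finite
  have hF := h.hasFree (p := p)
  obtain ⟨φ, hφ, _⟩ := hF.exists_normal_SL25 hsolv
  have hna : ¬ ∀ f ∈ DistribMulAction.toAddMonoidEnd H V '' φ.range,
      ∀ g ∈ DistribMulAction.toAddMonoidEnd H V '' φ.range, f * g = g * f := fun hc => by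
    have := hc _ ⟨_, ⟨slI, rfl⟩, rfl⟩ _ ⟨_, ⟨slJ, rfl⟩, rfl⟩
    simp only [← map_mul] at this
    exact slI_mul_slJ_ne (hφ (Perm.toAddMonoidEnd_injective this))
  have hirr := (Perm.irred_or_inj h.trans φ.range).resolve_right fun h2 => hna (by
    rintro _ ⟨x, hx, rfl⟩ _ ⟨y, hy, rfl⟩
    exact congrArg Subtype.val ((Perm.isField_of_inj _ h2).mul_comm ⟨_, Perm.mem_genRing hx⟩
      ⟨_, Perm.mem_genRing hy⟩))
  obtain ⟨r, e, h1, h2, h3, -, h4⟩ := Perm.exists_card_eq_pow_of_centralizer _ hirr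
    ((DistribMulAction.toAddMonoidEnd H V).comp (centralizer (φ.range : Set H)).subtype)
    ((Perm.toAddMonoidEnd_injective (G := H) (V := V)).comp Subtype.val_injective) (by
      rintro a _ ⟨x, hx, rfl⟩
      rw [MonoidHom.comp_apply, ← map_mul, ← map_mul]
      exact congrArg _ (a.2 x hx))
  have h5 : 2 ≤ e := by
    rcases e with _ | _ | e
    · exact absurd h2 Finite.one_lt_card.ne'
    · exact absurd (h4 rfl) hna
    · omega
  obtain ⟨M, -, h6, h7, -, h8, h9⟩ := exists_complement_centralizer hF.pqCond hφ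
  have hz : φ (-1) ∈ centralizer (φ.range : Set H) := by
    rintro _ ⟨x, rfl⟩
    rw [← map_mul, ← map_mul, mul_neg, neg_mul, mul_one, one_mul]
  have h10 : Nat.card (centralizer (φ.range : Set H)) = 2 * Nat.card M := by
    rw [← Core.card_mul_relIndex_of_le h6, mul_comm, relIndex_eq_two_iff.2]
    refine ⟨φ (-1), hz, fun g hg => ?_⟩
    have h11 : ¬ (g * φ (-1) ∈ M ∧ g ∈ M) := fun ⟨h1, h2⟩ => neg_one_ne hφ (mem_bot.1 (h8 ▸
      (⟨⟨_, rfl⟩, (M.mul_mem_cancel_left h2).1 h1⟩ : φ (-1) ∈ φ.range ⊓ M)))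
    have h12 := h9 g hg
    rw [hg _ ⟨_, rfl⟩] at h12
    unfold Xor
    tauto
  obtain ⟨f, h11, h12⟩ := exists_hom_perm_five φ hφ
  have h13 : Nat.card f.range = 60 ∨ Nat.card f.range = 120 := by
    have h13 := card_dvd_of_le (h12 ▸ map_le_range f φ.range)
    have h14 := f.range.card_subgroup_dvd_card
    rw [nat_card_alternatingGroup, Nat.card_fin] at h13
    rw [Nat.card_perm, Nat.card_fin] at h14
    have h15 := Nat.le_of_dvd (by norm_num [Nat.factorial]) h14
    have : 0 < Nat.card f.range := Nat.card_pos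
    change 60 ∣ _ at h13
    change _ ≤ 120 at h15
    omega
  have h14 := f.ker.card_mul_index
  have h15 := h.card_eq
  rw [index_ker, h11, h10] at h14
  rcases arith h1 h5 (h10 ▸ h3) h7 h13 (by rw [h14, h15, h2]) with h16 | ⟨h16, h17⟩
  · exfalso
    have h17 := Module.natCard_eq_pow_finrank (K := ZMod p) (V := V)
    rw [Nat.card_zmod, h2, h16] at h17
    have hp : p.Prime := Fact.out
    have h18 : ∀ q, q.Prime → q ∣ 119 ^ 2 → q = p := fun q hq hd =>
      (Nat.prime_dvd_prime_iff_eq hq hp).1 (hq.dvd_of_dvd_pow (h17 ▸ hd))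
    have := h18 7 (by norm_num) (by norm_num)
    have := h18 17 (by norm_num) (by norm_num)
    omega
  rw [h16] at h14
  obtain ⟨ε⟩ := nonempty_prod hφ h6 h8 (by omega)
  have key : ∀ q [Fact q.Prime], Nat.card M = q →
      Nonempty (H ≃* SL25 × Multiplicative (ZMod q)) := fun q _ hq =>
    ⟨ε.trans (MulEquiv.prodCongr (MulEquiv.refl _) (mulEquivOfPrimeCardEq hq (by simp)))⟩
  rcases h17 with h17 | h17 | h17
  · have := (Nat.card_eq_one_iff_unique.1 h17).1
    have := uniqueOfSubsingleton (1 : M)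
    exact Or.inl ⟨by omega, ⟨ε.trans MulEquiv.prodUnique⟩⟩
  · exact Or.inr (Or.inl ⟨by omega, @key 7 ⟨by norm_num⟩ h17⟩)
  · exact Or.inr (Or.inr ⟨by omega, @key 29 ⟨by norm_num⟩ h17⟩)

end Cfsg.Agent.S0689
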