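import Cfsg.Statements.S3143
import Cfsg.Agent.Lib.J4.CBase
import Cfsg.Agent.Lib.WD.TopJ

set_option autoImplicit false
open Cfsg

namespace Cfsg.Agent.S3143

/-- Let G be a finite group with no nontrivial normal subgroup of odd order and A a standard subgroup of G isomorphic to the fourth Janko group. Then either A is normal in G or the normal closure of A in G is isomorphic to A × A. -/
theorem result {G : Type*} [Group G] [Finite G] (hO : Cfsg.oddCore G = ⊥) (A : Subgroup G) (hA : Cfsg.IsStandardSubgroup A)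
    (hAX : Cfsg.Spor.IsoJ4 ↥A) :
    A.Normal ∨ Nonempty (↥(Subgroup.normalClosure (A : Set G)) ≃* ↥A × ↥A) := by
  have := CfsgLib.J4.simple_J4
  have : Finite Cfsg.Spor.J4 := Nat.finite_of_card_ne_zero (by rw [CfsgLib.J4.card_J4]; norm_num)
  obtain ⟨j, hj, -⟩ := CfsgLib.J4.baseJ.exists_good0 CfsgLib.J4.baseJ.not_comm
  obtain ⟨e⟩ := hAX
  rcases CfsgLib.WD.red hO hA e.symm inferInstance CfsgLib.J4.baseJ.not_comm (CfsgLib.WD.j_inner hj)
    (CfsgLib.WD.j_goodW hj) with h | h | ⟨ι, t, Y, E0, w, as⟩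
  · exact Or.inl h
  · exact Or.inr h
  · exact (CfsgLib.WD.topJ w hj as).elim

end Cfsg.Agent.S3143
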