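import Cfsg.Statements.S1158
import Cfsg.Agent.Lib.Ree.Torus
import Cfsg.Agent.Lib.Ree.Twisted

set_option autoImplicit false
open Cfsg

namespace Cfsg.Agent.S1158

open CfsgLib.Ree

/-- In the small Ree group ²G₂(q), q = 3^(2m+1) with m ≥ 1, realised as G¹ inside the Chevalley group G₂ over the field with q elements (θ the 3^m-th power map), with `r = 3^(m+1)` (so `r² = 3q`): for each `k ∈ {(q-1)/2, (q+1)/4, q - r + 1, q + r + 1}` there is a cyclic subgroup `A` of order `k` whose normaliser has order `2(q-1)`, `6(q+1)`, `6(q-r+1)`, `6(q+r+1)` respectively, and `N(A₀) = N(A)` for every non-trivial `A₀ ≤ A`. -/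
theorem result {K : Type*} [Field K] [Fintype K] {m : ℕ} (hm : 1 ≤ m) (hK : Fintype.card K = 3 ^ (2 * m + 1)) :
    ∀ kn ∈ ({((3 ^ (2 * m + 1) - 1) / 2, 2 * (3 ^ (2 * m + 1) - 1)), ((3 ^ (2 * m + 1) + 1) / 4, 6 * (3 ^ (2 * m + 1) + 1)),
        (3 ^ (2 * m + 1) - 3 ^ (m + 1) + 1, 6 * (3 ^ (2 * m + 1) - 3 ^ (m + 1) + 1)),
        (3 ^ (2 * m + 1) + 3 ^ (m + 1) + 1, 6 * (3 ^ (2 * m + 1) + 3 ^ (m + 1) + 1))} : Set (ℕ × ℕ)),
      ∃ A : Subgroup ↥(Cfsg.Lie.twistedG2 K (3 ^ m)), IsCyclic A ∧ Nat.card A = kn.1 ∧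
        Nat.card (Subgroup.normalizer (A : Set ↥(Cfsg.Lie.twistedG2 K (3 ^ m)))) = kn.2 ∧
        ∀ A₀ : Subgroup ↥(Cfsg.Lie.twistedG2 K (3 ^ m)), A₀ ≤ A → A₀ ≠ ⊥ →
          Subgroup.normalizer (A₀ : Set ↥(Cfsg.Lie.twistedG2 K (3 ^ m))) = Subgroup.normalizer (A : Set ↥(Cfsg.Lie.twistedG2 K (3 ^ m))) := by
  have := charP_three hK
  have hφ := isTits_tits hK
  have hq := natCard_eq hK
  have M := reeModel hK
  have h27 : 27 ≤ Nat.card K := by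
    rw [hq]
    exact le_trans (by norm_num) (Nat.pow_le_pow_right three_pos (show 3 ≤ 2 * m + 1 by omega))
  have key : ∀ {T A : Subgroup ↥(Cfsg.Lie.twistedG2 K (3 ^ m))} {k n : ℕ}, Tor T A → Nat.card A = k → 1 < k →
      Nat.card (Subgroup.normalizer (T : Set ↥(Cfsg.Lie.twistedG2 K (3 ^ m)))) = n →
      ∃ A : Subgroup ↥(Cfsg.Lie.twistedG2 K (3 ^ m)), IsCyclic A ∧ Nat.card A = k ∧
        Nat.card (Subgroup.normalizer (A : Set ↥(Cfsg.Lie.twistedG2 K (3 ^ m)))) = n ∧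
        ∀ A₀ : Subgroup ↥(Cfsg.Lie.twistedG2 K (3 ^ m)), A₀ ≤ A → A₀ ≠ ⊥ →
          Subgroup.normalizer (A₀ : Set ↥(Cfsg.Lie.twistedG2 K (3 ^ m))) =
            Subgroup.normalizer (A : Set ↥(Cfsg.Lie.twistedG2 K (3 ^ m))) := by
    intro T A k n h hk h1 hn
    have h2 := h.normalizer_eq le_rfl ((Subgroup.one_lt_card_iff_ne_bot A).1 (hk ▸ h1))
    exact ⟨A, h.cyclic, hk, h2 ▸ hn, fun A₀ h3 h4 => (h.normalizer_eq h3 h4).trans h2.symm⟩
  obtain ⟨A₁, A₂, h₁, h₂, c₁, c₂, n₁, n₂, -⟩ := M.exists_two_tori hφ hm hq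
  rintro _ (rfl | rfl | rfl | rfl)
  · obtain ⟨A, hA, hc⟩ := M.exists_tor_H hφ
    exact key hA (hq ▸ hc) (by dsimp only; omega) (by rw [M.normalizer_H hφ (by omega), M.card_N hφ, hq])
  · exact key (M.tor_A hφ) (hq ▸ M.card_A hφ) (by dsimp only; omega)
      (by rw [M.normalizer_Tp hφ, M.card_normalizer_V hφ, hq])
  · exact key h₂.tor c₂ (by have := h₂.seven_le (three_dvd_card K); dsimp only; omega)
      (by rw [card_normalizer_eq, n₂, c₂])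
  · exact key h₁.tor c₁ (by have := h₁.seven_le (three_dvd_card K); dsimp only; omega)
      (by rw [card_normalizer_eq, n₁, c₁])

end Cfsg.Agent.S1158
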