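import Cfsg.Statements.S3861
import Cfsg.Agent.S0200
import Cfsg.Agent.Lib.Core.Cores
import Cfsg.Agent.Lib.Core.MinNormal
import Cfsg.Agent.Lib.Coprime.Action
import Cfsg.Agent.Lib.Transfer.Residual

set_option autoImplicit false
open Cfsg

namespace Cfsg.Agent.S3861

open Subgroup CfsgLib.Core
open scoped Pointwise

/-- A finite group G has no non-identity element of odd order that is conjugate to its inverse if and only if the Sylow 2-subgroups of G are normal. -/
theorem result {G : Type*} [Group G] [Finite G] (P : Sylow 2 G) : (∀ x : G, x ≠ 1 → Odd (orderOf x) → ¬ IsConj x x⁻¹) ↔ (P : Subgroup G).Normal := by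
  constructor
  · intro h
    set O := Cfsg.pCore 2 G with hO
    set f := QuotientGroup.mk' O with hf
    have hker : f.ker = O := QuotientGroup.ker_mk' O
    have hOp : IsPGroup 2 O := isPGroup_pCore 2 G
    have hodd : ¬ 2 ∣ Nat.card (G ⧸ O) := by
      intro hd
      obtain ⟨t, ht⟩ := exists_prime_orderOf_dvd_card' 2 hd
      obtain ⟨y, hy1, hyo, hy⟩ := S0200.result t ht (fun N hN hN2 htN => by
        have h1 := le_pCore hN2 htN
        rw [pCore_quotient_pCore, mem_bot] at h1
        rw [h1, orderOf_one] at ht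
        exact absurd ht (by decide))
      obtain ⟨x, rfl⟩ := QuotientGroup.mk'_surjective O y
      obtain ⟨g, rfl⟩ := QuotientGroup.mk'_surjective O t
      obtain ⟨a, b, ha, -, ⟨k, hk⟩, hb, hab⟩ := CfsgLib.Transfer.exists_p_part (p := 2) x
      have hfa : f a = 1 := by
        rw [← orderOf_eq_one_iff]
        have h1 : orderOf (f a) ∣ orderOf (f x) :=
          orderOf_dvd_of_mem_zpowers (by
            obtain ⟨n, rfl⟩ := ha
            exact ⟨n, by simp⟩)
        have h2 : orderOf (f a) ∣ 2 ^ k := orderOf_dvd_of_pow_eq_one (by rw [← map_pow, hk, map_one])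
        exact (Nat.coprime_self _).1 (Nat.Coprime.coprime_dvd_right h2
          (Nat.Coprime.coprime_dvd_left h1 ((Nat.coprime_two_right.2 hyo).pow_right k)))
      have hfb : f b = f x := by rw [hab, map_mul, hfa, one_mul]
      have hy' : f (g * b * g⁻¹) = (f b)⁻¹ := by
        rw [map_mul, map_mul, map_inv, hfb]
        exact hy
      have h3 : zpowers (g * b * g⁻¹) ≤ O ⊔ zpowers b := by
        apply zpowers_le_of_mem
        have h4 : g * b * g⁻¹ * b ∈ O := by
          rw [← hker, MonoidHom.mem_ker, map_mul, hy', inv_mul_cancel]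
        have := mul_mem (mem_sup_left h4 : _ ∈ O ⊔ zpowers b)
          (inv_mem (mem_sup_right (mem_zpowers b)))
        simpa using this
      obtain ⟨u, hu, hle⟩ := CfsgLib.Coprime.exists_conj_smul_le_of_le_sup
        le_normalizer_of_normal h3 (by
          rw [Nat.card_zpowers, ← MulAut.conj_apply, MulEquiv.orderOf_eq]
          exact (isPGroup_coprime_card hOp hb).symm)
        (Or.inl (CfsgLib.Coprime.isSolvable_zpowers _))
      have h5 := CfsgLib.Coprime.conj_smul_le_iff.1 hle _ (mem_zpowers _)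
      have hfu : f u = 1 := by rwa [← MonoidHom.mem_ker, hker]
      have h6 : u * (g * b * g⁻¹) * u⁻¹ * b ∈ O ⊓ zpowers b := by
        refine ⟨?_, mul_mem h5 (mem_zpowers b)⟩
        change _ ∈ O
        rw [← hker, MonoidHom.mem_ker, map_mul, map_mul, map_mul, hy', map_inv, hfu]
        simp
      rw [isPGroup_inf_eq_bot_of_coprime hOp (by rwa [Nat.card_zpowers]), mem_bot] at h6
      refine h b (fun hb1 => hy1 ?_) (Nat.coprime_two_right.1 hb) (isConj_iff.2 ⟨u * g, ?_⟩)
      · rw [← hfb, hb1, map_one]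
      · rw [← mul_eq_one_iff_eq_inv, ← h6]
        group
    have : (P : Subgroup G) = O := by
      refine le_antisymm ?_ (pCore_le_sylow P)
      exact le_of_coprime_card_index (isPGroup_coprime_card P.isPGroup'
        ((Nat.Prime.coprime_iff_not_dvd Nat.prime_two).2 hodd).symm)
    rw [this]
    infer_instance
  · intro hP x hx1 hxo hc
    obtain ⟨g, hg⟩ := isConj_iff.1 hc
    obtain ⟨a, b, ha, hb', ⟨k, hk⟩, hb, hab⟩ := CfsgLib.Transfer.exists_p_part (p := 2) g
    have hg2 : Commute (g ^ 2) x := by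
      have h1 : g * x⁻¹ * g⁻¹ = x := by
        calc g * x⁻¹ * g⁻¹ = (g * x * g⁻¹)⁻¹ := by group
          _ = x := by rw [hg, inv_inv]
      calc g ^ 2 * x = g * (g * x * g⁻¹) * g⁻¹ * g ^ 2 := by rw [sq]; group
        _ = x * g ^ 2 := by rw [hg, h1]
    have hbx : Commute b x := by
      obtain ⟨m, hm⟩ := exists_pow_eq_self_of_coprime (x := b) (n := 2) hb.symm
      obtain ⟨n, rfl⟩ := hb'
      rw [← hm]
      apply Commute.pow_left
      have : (g ^ n) ^ 2 = (g ^ 2) ^ n := by group
      rw [this]
      exact hg2.zpow_left n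
    have haP : a ∈ (P : Subgroup G) := by
      refine mem_of_coprime_orderOf_index ?_
      exact Nat.Coprime.coprime_dvd_left (orderOf_dvd_of_pow_eq_one hk)
        (((Nat.Prime.coprime_iff_not_dvd Nat.prime_two).2 P.not_dvd_index).pow_left k)
    have h2 : a * x * a⁻¹ = x⁻¹ := by
      rw [← hg, hab, mul_assoc a b, hbx.eq]
      group
    have h3 : x ^ 2 ∈ (P : Subgroup G) ⊓ zpowers x := by
      refine ⟨?_, pow_mem (mem_zpowers x) 2⟩
      have h4 := mul_mem (hP.conj_mem a haP x) (inv_mem haP)
      have h5 : x * a * x⁻¹ * a⁻¹ = x ^ 2 := by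
        calc x * a * x⁻¹ * a⁻¹ = x * (a * x * a⁻¹)⁻¹ := by group
          _ = x ^ 2 := by rw [h2, inv_inv, sq]
      rwa [h5] at h4
    rw [isPGroup_inf_eq_bot_of_coprime P.isPGroup' (by
      rw [Nat.card_zpowers]; exact Nat.coprime_two_right.2 hxo), mem_bot] at h3
    apply hx1
    rw [← orderOf_eq_one_iff]
    exact (Nat.coprime_self _).1 (Nat.Coprime.coprime_dvd_right (orderOf_dvd_of_pow_eq_one h3)
      (Nat.coprime_two_right.2 hxo))

end Cfsg.Agent.S3861
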