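import Cfsg.Statements.S3863
import Mathlib

set_option autoImplicit false
open Cfsg

namespace Cfsg.Agent.S3863

theorem conj_pow_odd {G : Type*} [Group G] {x g : G} (h : g * x * g⁻¹ = x⁻¹) (m : ℕ) (hm : Odd m) :
    g ^ m * x * (g ^ m)⁻¹ = x⁻¹ := by
  obtain ⟨k, rfl⟩ := hm
  have h2 : g ^ 2 * x * (g ^ 2)⁻¹ = x := by
    have : g ^ 2 * x * (g ^ 2)⁻¹ = g * (g * x * g⁻¹) * g⁻¹ := by rw [pow_two]; group
    rw [this, h]
    have : g * x⁻¹ * g⁻¹ = (g * x * g⁻¹)⁻¹ := by group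
    rw [this, h, inv_inv]
  have h3 : Commute (g ^ 2) x := by
    rw [mul_inv_eq_iff_eq_mul] at h2
    exact h2
  have h4 : Commute (g ^ (2 * k)) x := by rw [pow_mul]; exact h3.pow_left k
  have : g ^ (2 * k + 1) * x * (g ^ (2 * k + 1))⁻¹ = g * (g ^ (2 * k) * x * (g ^ (2 * k))⁻¹) * g⁻¹ := by
    rw [pow_succ']; group
  rw [this, h4.eq, mul_inv_cancel_right, h]

theorem exists_two_elt {G : Type*} [Group G] [Finite G] (x : G) (hx : IsConj x x⁻¹) :
    ∃ t : G, (∃ j : ℕ, orderOf t = 2 ^ j) ∧ t * x * t⁻¹ = x⁻¹ := by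
  obtain ⟨g, hg⟩ := isConj_iff.1 hx
  obtain ⟨j, m, hm, hjm⟩ := Nat.exists_eq_two_pow_mul_odd (orderOf_pos g).ne'
  refine ⟨g ^ m, ⟨j, ?_⟩, conj_pow_odd hg m hm⟩
  rw [orderOf_pow' _ hm.pos.ne', hjm, Nat.gcd_mul_left_left, Nat.mul_div_cancel _ hm.pos]

theorem mem_of_odd_index {G : Type*} [Group G] [Finite G] (N : Subgroup G) [N.Normal]
    (hN : Odd N.index) (t : G) (j : ℕ) (ht : t ^ 2 ^ j = 1) : t ∈ N := by
  have h1 : (QuotientGroup.mk t : G ⧸ N) ^ 2 ^ j = 1 := by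
    rw [← QuotientGroup.mk_pow, ht, QuotientGroup.mk_one]
  have h2 : (QuotientGroup.mk t : G ⧸ N) ^ N.index = 1 := pow_card_eq_one'
  have h3 : (2 ^ j).Coprime N.index := (Nat.coprime_two_left.2 hN).pow_left j
  have := (pow_gcd_eq_one).2 ⟨h1, h2⟩
  rw [h3, pow_one, QuotientGroup.eq_one_iff] at this
  exact this

/-- Let x be an element of the finite group G that is conjugate to its inverse. Then some 2-element conjugates x to its inverse; if the conjugacy class of x has odd size then x ^ 2 = 1; and x lies in, and is conjugate to its inverse inside, every normal subgroup of odd index. -/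
theorem result {G : Type*} [Group G] [Finite G] (x : G) (hx : IsConj x x⁻¹) : (∃ t : G, (∃ j : ℕ, orderOf t = 2 ^ j) ∧ t * x * t⁻¹ = x⁻¹) ∧ (Odd (Subgroup.centralizer ({x} : Set G)).index → x ^ 2 = 1) ∧ ∀ (N : Subgroup G) [N.Normal], Odd N.index → ∃ hxN : x ∈ N, IsConj (⟨x, hxN⟩ : N) (⟨x, hxN⟩ : N)⁻¹ := by
  obtain ⟨t, ⟨j, hj⟩, ht⟩ := exists_two_elt x hx
  have htj : t ^ 2 ^ j = 1 := hj ▸ pow_orderOf_eq_one t
  refine ⟨⟨t, ⟨j, hj⟩, ht⟩, fun hodd => ?_, fun N _ hN => ?_⟩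
  · -- the centralizer has odd index; `t` normalizes it
    set C := Subgroup.centralizer ({x} : Set G) with hC
    have htN : t ∈ Subgroup.normalizer (C : Set G) := by
      apply Subgroup.mem_normalizer_fintype
      intro c hc
      rw [SetLike.mem_coe, hC, Subgroup.mem_centralizer_singleton_iff] at hc ⊢
      have e : x = t * x⁻¹ * t⁻¹ := by
        have : t * x⁻¹ * t⁻¹ = (t * x * t⁻¹)⁻¹ := by group
        rw [this, ht, inv_inv]
      have hc' : Commute c x⁻¹ := (show Commute c x from hc).inv_right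
      calc t * c * t⁻¹ * x = t * c * t⁻¹ * (t * x⁻¹ * t⁻¹) := by rw [← e]
        _ = t * (c * x⁻¹) * t⁻¹ := by group
        _ = t * (x⁻¹ * c) * t⁻¹ := by rw [hc'.eq]
        _ = (t * x⁻¹ * t⁻¹) * (t * c * t⁻¹) := by group
        _ = x * (t * c * t⁻¹) := by rw [← e]
    have hodd' : Odd (C.subgroupOf (Subgroup.normalizer (C : Set G))).index :=
      Odd.of_dvd_nat hodd (Subgroup.relIndex_dvd_index_of_le Subgroup.le_normalizer)
    have := mem_of_odd_index (C.subgroupOf (Subgroup.normalizer (C : Set G))) hodd' ⟨t, htN⟩ j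
      (Subtype.ext htj)
    have h2 : t * x = x * t := Subgroup.mem_centralizer_singleton_iff.1 this
    rw [h2, mul_inv_cancel_right] at ht
    rw [pow_two]
    nth_rewrite 2 [ht]
    exact mul_inv_cancel x
  · have htN := mem_of_odd_index N hN t j htj
    have hx2 : x ^ 2 ∈ N := by
      have h1 : x * t * x⁻¹ ∈ N := Subgroup.Normal.conj_mem inferInstance t htN x
      have h2 : x * t * x⁻¹ * t⁻¹ = x ^ 2 := by
        have : x * t * x⁻¹ * t⁻¹ = x * (t * x * t⁻¹)⁻¹ := by group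
        rw [this, ht, inv_inv, pow_two]
      rw [← h2]
      exact N.mul_mem h1 (N.inv_mem htN)
    have hxN : x ∈ N := by
      have h1 : (QuotientGroup.mk x : G ⧸ N) ^ 2 = 1 := by
        rw [← QuotientGroup.mk_pow, QuotientGroup.eq_one_iff]; exact hx2
      have h2 : (QuotientGroup.mk x : G ⧸ N) ^ N.index = 1 := pow_card_eq_one'
      have h3 : (2 : ℕ).Coprime N.index := Nat.coprime_two_left.2 hN
      have := (pow_gcd_eq_one).2 ⟨h1, h2⟩
      rw [h3, pow_one, QuotientGroup.eq_one_iff] at this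
      exact this
    exact ⟨hxN, isConj_iff.2 ⟨⟨t, htN⟩, Subtype.ext ht⟩⟩

end Cfsg.Agent.S3863
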