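import Cfsg.Statements.S3345
import Cfsg.Agent.Lib.O8R.Gen
import Cfsg.Agent.Lib.ZStar.Main

set_option autoImplicit false
open Cfsg

namespace Cfsg.Agent.S3345

/-- Let G be a finite group with O^2(G) = G and an involution t with centralizer C such that F*(C) is extraspecial of order 2^9, C/O₂(C) is isomorphic to Sym(3) × Sym(3) × Sym(3), and C_G(O₂(C)) ≤ O₂(C). Then either the image of t is central in G/O_{2'}(G), or G is isomorphic to Ω⁺(8,2), the commutator subgroup of the isometry group of the hyperbolic quadratic form in dimension 8 over the field with 2 elements. -/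
theorem result {G : Type*} [Group G] [Finite G]
    (hG : Cfsg.pResidual 2 G = ⊤) (t : G) (ht : orderOf t = 2)
    (C : Subgroup G) (hC : C = Subgroup.centralizer ({t} : Set G))
    (hF : Cfsg.IsExtraspecial 2 (Cfsg.generalizedFittingSubgroup C))
    (hFcard : Nat.card (Cfsg.generalizedFittingSubgroup C) = 2 ^ 9)
    (e : C ⧸ Cfsg.pCore 2 C ≃* Equiv.Perm (Fin 3) × Equiv.Perm (Fin 3) × Equiv.Perm (Fin 3))
    (hcc : Subgroup.centralizer (((Cfsg.pCore 2 C).map C.subtype : Subgroup G) : Set G) ≤ (Cfsg.pCore 2 C).map C.subtype) :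
    (∀ g : G, g * t * g⁻¹ * t⁻¹ ∈ Cfsg.oddCore G) ∨
      Nonempty (G ≃* Cfsg.Omega (ZMod 2) (Cfsg.quadFormPlus 4 (ZMod 2))) := by
  classical
  subst hC
  have pre := CfsgLib.LargeExtra.pre_of_fstar ht _ rfl hF
  have hp := CfsgLib.LargeExtra.pCore_eq_of_fstar rfl
    (IsPGroup.of_card (p := 2) hFcard)
  have h : CfsgLib.O8R.St (CfsgLib.LargeExtra.amb (Cfsg.generalizedFittingSubgroup
      (Subgroup.centralizer ({t} : Set G)))) t fun g =>
      if hg : g * t = t * g then e (QuotientGroup.mk ⟨g, CfsgLib.LargeExtra.mem_cent.mpr hg⟩) else 1 := by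
    refine ⟨pre, (CfsgLib.LargeExtra.card_amb _).trans hFcard, fun a b ha hb => ?_, fun σ => ?_,
      fun m hm => ?_⟩
    · rw [dif_pos ha, dif_pos hb, dif_pos (CfsgLib.O8R.cz_mul ha hb), ← map_mul]; rfl
    · obtain ⟨x, rfl⟩ := e.surjective σ
      obtain ⟨m, rfl⟩ := QuotientGroup.mk_surjective x
      exact ⟨m, CfsgLib.LargeExtra.mem_cent.mp m.2, by rw [dif_pos (CfsgLib.LargeExtra.mem_cent.mp m.2)]⟩
    · rw [dif_pos hm, map_eq_one_iff _ e.injective, QuotientGroup.eq_one_iff, hp]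
      exact (CfsgLib.LargeExtra.coe_mem_amb (x := ⟨m, _⟩)).symm
  by_cases hi : IsIsolatedInvolution t
  · refine Or.inl fun g => ?_
    have := inv_mem (CfsgLib.ZStar.zstar hi g)
    rwa [show (t * g * t⁻¹ * g⁻¹)⁻¹ = g * t * g⁻¹ * t⁻¹ by group] at this
  right
  by_cases wc : ∀ x ∈ CfsgLib.LargeExtra.amb (Cfsg.generalizedFittingSubgroup
      (Subgroup.centralizer ({t} : Set G))), IsConj t x → x = t
  · refine absurd ⟨ht, fun g hg => ?_⟩ hi
    by_contra hne
    exact CfsgLib.O8R.wc_false (CfsgLib.W4.wp_of pre wc hg.symm.eq hne) h (h.conj g)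
  push Not at wc
  obtain ⟨x, hx, hc, hne⟩ := wc
  obtain ⟨g, rfl⟩ := isConj_iff.mp hc
  obtain ⟨F, q, π, h1⟩ := CfsgLib.O8R.exists_fm h (pre.pair (by rw [h.card]; norm_num) hx hne) hc
  obtain ⟨Q2, t2, l, h2⟩ := h1.exists_fr
  obtain ⟨n, n1, n2, n3⟩ := h2.exists_n
  have h3 : CfsgLib.O8R.Fn _ Q2 t t2 F q π l n := ⟨h2, n1, n2, n3⟩
  exact h3.iso h3.top

end Cfsg.Agent.S3345
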