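import Cfsg.Statements.S3366
import Cfsg.Agent.Lib.Rec3.Cz
import Cfsg.Agent.Lib.Symp.Order
import Cfsg.Agent.Lib.Classical.SmallIso
import Cfsg.Agent.Lib.Coprime.Abelian

set_option autoImplicit false
open Cfsg

namespace Cfsg.Agent.S3366

open Subgroup CfsgLib Matrix CfsgLib.Rec3 CfsgLib.W2 CfsgLib.Tech
open CfsgLib.U43 (SL)
open CfsgLib.U43.SL (o)

abbrev S2 : Type := SpecialLinearGroup (Fin 2) (ZMod 3)

/-- coordinates -/
@[ext] structure Mo where
  p : ZMod 3
  q : ZMod 3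
  c : ZMod 3
  A : S2

instance : Mul Mo := ⟨fun x y => ⟨x.p + (x.A 0 0 * y.p + x.A 0 1 * y.q),
  x.q + (x.A 1 0 * y.p + x.A 1 1 * y.q),
  x.c + y.c + (x.p * (x.A 1 0 * y.p + x.A 1 1 * y.q) - x.q * (x.A 0 0 * y.p + x.A 0 1 * y.q)),
  x.A * y.A⟩⟩

theorem detA (A : S2) : A 0 0 * A 1 1 - A 0 1 * A 1 0 = 1 := by
  have := A.2
  rwa [det_fin_two] at this

theorem mulA (A B : S2) (i j : Fin 2) : (A * B) i j = A i 0 * B 0 j + A i 1 * B 1 j := by
  simp [Matrix.mul_apply, Fin.sum_univ_two]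

/-- the matrix -/
def mat (x : Mo) : Matrix (Fin 2 ⊕ Fin 2) (Fin 2 ⊕ Fin 2) (ZMod 3) :=
  fromBlocks !![1, x.A 1 0 * x.p - x.A 0 0 * x.q; 0, x.A 0 0]
    !![x.c, x.A 1 1 * x.p - x.A 0 1 * x.q; x.p, x.A 0 1] !![0, 0; 0, x.A 1 0] !![1, 0; x.q, x.A 1 1]

theorem mat_mem (x : Mo) : mat x ∈ symplecticGroup (Fin 2) (ZMod 3) := by
  rw [SymplecticGroup.mem_iff]
  have h := detA x.A
  simp only [mat, J, fromBlocks_multiply, fromBlocks_transpose, ← Matrix.ext_iff, Sum.forall,
    Fin.forall_fin_two]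
  simp [Fin.sum_univ_two, vecMul, dotProduct]
  repeat' apply And.intro
  all_goals first
    | ring1 | linear_combination h | linear_combination (-1) * h | linear_combination x.p * h
    | linear_combination (-x.p) * h | linear_combination x.q * h | linear_combination (-x.q) * h

theorem mat_mul (x y : Mo) : mat (x * y) = mat x * mat y := by
  have h := detA x.A
  change mat ⟨_, _, _, _⟩ = _
  simp only [mat, fromBlocks_multiply, ← Matrix.ext_iff, Sum.forall, Fin.forall_fin_two, mulA]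
  simp
  repeat' apply And.intro
  all_goals first
    | ring1 | linear_combination (y.A 1 0 * y.p - y.A 0 0 * y.q) * h
    | linear_combination (y.A 1 1 * y.p - y.A 0 1 * y.q) * h

/-- the class in the projective group -/
def pm (x : Mo) : PSp 2 (ZMod 3) := QuotientGroup.mk ⟨mat x, mat_mem x⟩

theorem pm_mul (x y : Mo) : pm (x * y) = pm x * pm y := by
  rw [pm, pm, pm, ← QuotientGroup.mk_mul]
  exact congrArg _ (Subtype.ext (mat_mul x y))

theorem mk_eq {a b : symplecticGroup (Fin 2) (ZMod 3)}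
    (h : (QuotientGroup.mk a : PSp 2 (ZMod 3)) = QuotientGroup.mk b) : b.1 = a.1 ∨ b.1 = -a.1 := by
  rcases Symp.mem_center_iff.1 (QuotientGroup.eq.1 h) with e | e <;> rw [inv_mul_eq_iff_eq_mul] at e
  · left; rw [e, mul_one]
  · right; rw [e]; simp [Symp.spNegOne]

theorem pm_inj : Function.Injective pm := by
  intro x y h
  rcases mk_eq h with e | e <;> have e' := fun i j => congrFun (congrFun e i) j
  · have h1 := e' (.inl 1) (.inr 0)
    have h2 := e' (.inr 1) (.inr 0)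
    have h3 := e' (.inl 0) (.inr 0)
    have h4 := e' (.inl 1) (.inl 1)
    have h5 := e' (.inl 1) (.inr 1)
    have h6 := e' (.inr 1) (.inl 1)
    have h7 := e' (.inr 1) (.inr 1)
    simp [mat] at h1 h2 h3 h4 h5 h6 h7
    refine Mo.ext h1.symm h2.symm h3.symm (Matrix.SpecialLinearGroup.ext _ _ fun i j => ?_)
    fin_cases i <;> fin_cases j
    exacts [h4.symm, h5.symm, h6.symm, h7.symm]
  · have h1 := e' (.inl 0) (.inl 0)
    simp [mat] at h1
    exact absurd h1 (by decide)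

/-- the central element -/
def zc : Mo := ⟨0, 0, 1, 1⟩

theorem ex_mat {g : Matrix (Fin 2 ⊕ Fin 2) (Fin 2 ⊕ Fin 2) (ZMod 3)}
    (hg : g ∈ symplecticGroup (Fin 2) (ZMod 3)) (hc : g * mat zc = mat zc * g)
    (h1 : g (.inl 0) (.inl 0) = 1) : ∃ x, mat x = g := by
  have e := fun i j => congrFun (congrFun hc i) j
  have a1 := e (.inl 1) (.inr 0)
  have a2 := e (.inr 0) (.inr 0)
  have a3 := e (.inr 1) (.inr 0)
  have a4 := e (.inl 0) (.inl 1)
  have a5 := e (.inl 0) (.inr 1)
  have a6 := e (.inl 0) (.inr 0)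
  simp [mat, zc, Matrix.mul_apply, Fin.sum_univ_two] at a1 a2 a3 a4 a5 a6
  have s := fun i j => congrFun (congrFun (SymplecticGroup.mem_iff'.1 hg) i) j
  have b1 := s (.inl 1) (.inr 1)
  have b2 := s (.inl 1) (.inr 0)
  have b3 := s (.inr 1) (.inr 0)
  have a7 : g (.inr 0) (.inr 0) = 1 := by linear_combination h1 - a6
  simp [J, Matrix.mul_apply, Fin.sum_univ_two, a4, a5, a7] at b1 b2 b3
  refine ⟨⟨g (.inl 1) (.inr 0), g (.inr 1) (.inr 0), g (.inl 0) (.inr 0),
    ⟨!![g (.inl 1) (.inl 1), g (.inl 1) (.inr 1); g (.inr 1) (.inl 1), g (.inr 1) (.inr 1)], by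
      rw [det_fin_two_of]; linear_combination (-1) * b1⟩⟩, ?_⟩
  simp only [mat, ← Matrix.ext_iff, Sum.forall, Fin.forall_fin_two]
  simp [a1, a2, a3, a4, a5, a7, h1]
  constructor
  · linear_combination b2
  · linear_combination b3

theorem cent (g : PSp 2 (ZMod 3)) (h : g * pm zc = pm zc * g) : ∃ x, pm x = g := by
  obtain ⟨g, rfl⟩ := QuotientGroup.mk_surjective g
  rw [pm, ← QuotientGroup.mk_mul, ← QuotientGroup.mk_mul] at h
  have hc : g.1 * mat zc = mat zc * g.1 := by
    rcases mk_eq h with e | e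
    · exact e.symm
    · exfalso
      have e1 : mat zc = -(g.1 * mat zc * (g⁻¹).1) := by
        have : mat zc = mat zc * g.1 * (g⁻¹).1 := by
          rw [Matrix.mul_assoc, ← Submonoid.coe_mul, mul_inv_cancel]; simp
        rw [← Matrix.neg_mul]
        refine this.trans ?_
        exact congrArg (· * (g⁻¹).1) e
      have e2 := congrArg Matrix.trace e1
      rw [trace_neg, trace_mul_cycle, ← Submonoid.coe_mul, inv_mul_cancel] at e2
      simp [mat, zc, trace] at e2
      exact absurd e2 (by decide)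
  have e := fun i j => congrFun (congrFun hc i) j
  have a1 := e (.inl 1) (.inr 0)
  have a2 := e (.inr 0) (.inr 0)
  have a3 := e (.inr 1) (.inr 0)
  have a6 := e (.inl 0) (.inr 0)
  simp [mat, zc, Matrix.mul_apply, Fin.sum_univ_two] at a1 a2 a3 a6
  have s := congrFun (congrFun (SymplecticGroup.mem_iff'.1 g.2) (.inl 0)) (.inr 0)
  simp [J, Matrix.mul_apply, Fin.sum_univ_two, a1, a2, a3] at s
  have h3 : ∀ a b : ZMod 3, a * b = 1 → a = 1 ∨ -a = 1 := by decide
  rcases h3 _ _ s with h4 | h4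
  · obtain ⟨x, hx⟩ := ex_mat g.2 hc h4
    exact ⟨x, congrArg _ (Subtype.ext hx)⟩
  · obtain ⟨x, hx⟩ := ex_mat (SymplecticGroup.neg_mem g.2) (by simp [hc]) h4
    refine ⟨x, ?_⟩
    have : (⟨mat x, mat_mem x⟩ : symplecticGroup (Fin 2) (ZMod 3)) = g * Symp.spNegOne _ _ :=
      Subtype.ext (by simp [hx, Symp.spNegOne])
    rw [pm, this, QuotientGroup.mk_mul, (QuotientGroup.eq_one_iff _).2 (Symp.spNegOne_mem_center _ _),
      mul_one]

section Grp
variable {G : Type*} [Group G]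

/-- powers with exponents modulo three -/
def pw (g : G) (a : ZMod 3) : G := g ^ a.val

theorem pw_zero (g : G) : pw g 0 = 1 := pow_zero g
theorem pw_one (g : G) : pw g 1 = g := pow_one g

theorem pw_add {g : G} (h : g ^ 3 = 1) (a b : ZMod 3) : pw g (a + b) = pw g a * pw g b := by
  rw [pw, pw, pw, ← pow_add, ZMod.val_add, ← pow_eq_pow_mod _ h]

theorem pw_mul {g : G} (h : g ^ 3 = 1) (a b : ZMod 3) : pw g (a * b) = g ^ (a.val * b.val) := by
  rw [pw, ZMod.val_mul, ← pow_eq_pow_mod _ h]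

theorem pw_neg {g : G} (h : g ^ 3 = 1) (a : ZMod 3) : pw g (-a) = (pw g a)⁻¹ := by
  rw [eq_inv_iff_mul_eq_one, ← pw_add h, neg_add_cancel, pw_zero]

theorem pw_inv {g : G} (h : g ^ 3 = 1) (a : ZMod 3) : pw g⁻¹ a = pw g (-a) := by
  rw [pw_neg h, pw, pw, inv_pow]

theorem pw_conj (k g : G) (a : ZMod 3) : k * pw g a * k⁻¹ = pw (k * g * k⁻¹) a := conj_pow.symm

theorem pw_eq_one {g : G} (h : orderOf g = 3) {a : ZMod 3} (e : pw g a = 1) : a = 0 := by
  have := orderOf_dvd_of_pow_eq_one e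
  rw [h] at this
  exact (ZMod.val_eq_zero a).1 (Nat.eq_zero_of_dvd_of_lt this (ZMod.val_lt a))

/-- Heisenberg generators -/
structure He (x y z : G) : Prop where
  x3 : x ^ 3 = 1
  y3 : y ^ 3 = 1
  oz : orderOf z = 3
  zc : ∀ g, Commute z g
  yx : y * x = x * y * z

/-- normal forms -/
def N (x y z : G) (a b c : ZMod 3) : G := pw x a * pw y b * pw z c

namespace He
variable {x y z : G} (h : He x y z)
include h

theorem z3 : z ^ 3 = 1 := h.oz ▸ pow_orderOf_eq_one z

theorem pwc (c : ZMod 3) (g : G) : pw z c * g = g * pw z c := ((h.zc g).pow_left _).eq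

theorem swap (m n : ℕ) : y ^ n * x ^ m = x ^ m * y ^ n * z ^ (m * n) := by
  have k : ∀ n : ℕ, y ^ n * x = x * y ^ n * z ^ n := by
    intro n
    induction n with
    | zero => simp
    | succ n ih =>
      rw [pow_succ', mul_assoc, ih, ← mul_assoc, ← mul_assoc, h.yx, mul_assoc (x * y), (h.zc _).eq,
        pow_succ' z]
      simp only [mul_assoc]
  induction m with
  | zero => simp
  | succ m ih =>
    rw [pow_succ, ← mul_assoc, ih, mul_assoc, ((h.zc x).pow_left _).eq, ← mul_assoc,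
      mul_assoc (x ^ m), k, add_mul, one_mul, add_comm, pow_add]
    simp only [mul_assoc]

theorem N_mul (a b c a' b' c' : ZMod 3) :
    N x y z a b c * N x y z a' b' c' = N x y z (a + a') (b + b') (c + c' + a' * b) := by
  have e : pw y b * pw x a' = pw x a' * pw y b * pw z (a' * b) := by
    rw [pw_mul h.z3]; exact h.swap _ _
  have k : ∀ c g, pw z c * g = g * pw z c := fun c g => ((h.zc g).pow_left _).eq
  simp only [N, pw_add h.x3, pw_add h.y3, pw_add h.z3]
  calc _ = pw x a * (pw y b * pw x a') * pw y b' * pw z c * pw z c' := by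
        rw [mul_assoc _ (pw z c), ← mul_assoc (pw z c), k c]; simp only [mul_assoc]
    _ = _ := by
        rw [e]
        simp only [mul_assoc]
        rw [k (a' * b)]
        simp only [mul_assoc]

omit h in
theorem N_zero : N x y z 0 0 0 = 1 := by simp [N, pw_zero]

theorem N_eq_one {a b c : ZMod 3} (e : N x y z a b c = 1) : a = 0 ∧ b = 0 ∧ c = 0 := by
  have k : ∀ {a b c c' : ZMod 3}, N x y z a b c = N x y z a b c' → c = c' := fun {a b c c'} e => by
    have e1 : pw z c = pw z c' := mul_left_cancel e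
    have := pw_eq_one h.oz (a := c - c') (by rw [sub_eq_add_neg, pw_add h.z3, pw_neg h.z3, e1]; simp)
    exact sub_eq_zero.1 this
  have h1 : N x y z a b c * N x y z 1 0 0 = N x y z 1 0 0 * N x y z a b c := by simp [e]
  have h2 : N x y z a b c * N x y z 0 1 0 = N x y z 0 1 0 * N x y z a b c := by simp [e]
  rw [h.N_mul, h.N_mul, add_comm a, add_comm b] at h1 h2
  have hb : b = 0 := by simpa using k h1
  have ha : a = 0 := by simpa using (k h2).symm
  subst ha hb
  exact ⟨rfl, rfl, k (e.trans N_zero.symm)⟩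

theorem N_inj {a b c a' b' c' : ZMod 3} (e : N x y z a b c = N x y z a' b' c') :
    a = a' ∧ b = b' ∧ c = c' := by
  have e1 := congrArg (· * N x y z (-a') (-b') (a' * b' - c')) e
  simp only [h.N_mul] at e1
  rw [show N x y z (a' + -a') (b' + -b') (c' + (a' * b' - c') + -a' * b') = 1 by
    rw [← N_zero (x := x) (y := y) (z := z)]; congr 1 <;> ring] at e1
  obtain ⟨h1, h2, h3⟩ := h.N_eq_one e1
  obtain rfl : a = a' := by linear_combination h1
  obtain rfl : b = b' := by linear_combination h2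
  exact ⟨rfl, rfl, by linear_combination h3⟩

theorem pw_N (p q c a : ZMod 3) : ∃ e, pw (N x y z p q c) a = N x y z (p * a) (q * a) e := by
  have k : ∀ n : ℕ, ∃ e, N x y z p q c ^ n = N x y z (p * n) (q * n) e := by
    intro n
    induction n with
    | zero => exact ⟨0, by simp [N_zero]⟩
    | succ n ih =>
      obtain ⟨e, he⟩ := ih
      exact ⟨_, by rw [pow_succ, he, h.N_mul]; congr 1 <;> push_cast <;> ring⟩
  simpa [pw] using k a.val

theorem inv_iff {t : G} (tx : t * x * t⁻¹ = x⁻¹) (ty : t * y * t⁻¹ = y⁻¹) {a b c : ZMod 3} :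
    t * N x y z a b c * t⁻¹ = (N x y z a b c)⁻¹ ↔ c = -(a * b) := by
  have e : t * N x y z a b c * t⁻¹ = N x y z (-a) (-b) c := by
    have k : t * pw z c * t⁻¹ = pw z c := by
      rw [← h.pwc, mul_inv_cancel_right]
    calc _ = (t * pw x a * t⁻¹) * (t * pw y b * t⁻¹) * (t * pw z c * t⁻¹) := by simp [N, mul_assoc]
      _ = _ := by rw [k, pw_conj, pw_conj, tx, ty, pw_inv h.x3, pw_inv h.y3, N]
  rw [e, eq_inv_iff_mul_eq_one, h.N_mul]
  have h3 : (3 : ZMod 3) = 0 := rfl
  constructor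
  · intro e1
    linear_combination (-1) * (h.N_eq_one e1).2.2 + c * h3
  · rintro rfl
    rw [← N_zero (x := x) (y := y) (z := z)]
    congr 1
    · ring
    · ring
    · linear_combination (-(a * b)) * h3

end He

theorem exists_equiv [Finite G] {z : G} {Q J : Subgroup G} {π : G → SL} (h : CZ z Q J π)
    (hz : ∀ g, g ∈ Cx z) : ∃ Φ : Mo ≃* G, Φ zc ∈ Q ∧ orderOf (Φ zc) = 3 ∧ ∀ g, Commute (Φ zc) g := by
  obtain ⟨t, ht, h2, h1⟩ := h.exists_t
  have hti : t⁻¹ = t := inv_eq_of_mul_eq_one_right h2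
  have hZc : ∀ u ∈ zpowers z, ∀ g, Commute u g := fun u hu g =>
    (comm_of_mem_zpowers' (hz g) hu).symm
  have lift : ∀ x ∈ Q, ∃ u ∈ zpowers z, t * (x * u) * t⁻¹ = (x * u)⁻¹ := fun x hx => by
    refine ⟨_, h.inv_t ht h2 h1 hx, ?_⟩
    have e1 := (hZc _ (h.inv_t ht h2 h1 hx) t).eq
    have e2 := (hZc _ (h.inv_t ht h2 h1 hx) x).eq
    have e3 := cube_of_mem_zpowers h.z3 (h.inv_t ht h2 h1 hx)
    have e4 : t * x * t⁻¹ = (t * x * t⁻¹ * x) * x⁻¹ := by group
    generalize t * x * t⁻¹ * x = u at *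
    rw [eq_inv_iff_mul_eq_one]
    calc _ = t * x * t⁻¹ * (t * u) * t⁻¹ * (x * u) := by group
      _ = u * x⁻¹ * (u * x) * u := by rw [← e1, e4]; group
      _ = u ^ 3 := by rw [e2, pow_three]; group
      _ = 1 := e3
  obtain ⟨x0, hx0, hx0Z⟩ := h.exists_notZ
  obtain ⟨y0, hy0, hne⟩ : ∃ y ∈ Q, y * x0 ≠ x0 * y := by
    by_contra hc
    push Not at hc
    exact hx0Z (h.cen x0 hx0 hc)
  obtain ⟨u, hu, tx⟩ := lift x0 hx0
  obtain ⟨u', hu', ty⟩ := lift y0 hy0
  have hne' : y0 * u' * (x0 * u) ≠ x0 * u * (y0 * u') := fun e => hne (by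
    have e1 : y0 * u' * (x0 * u) = y0 * x0 * (u' * u) := by
      rw [mul_assoc, ← mul_assoc u', (hZc u' hu' x0).eq]; group
    have e2 : x0 * u * (y0 * u') = x0 * y0 * (u' * u) := by
      rw [mul_assoc, ← mul_assoc u, (hZc u hu y0).eq, ← (hZc u hu u').eq]; group
    rw [e1, e2] at e
    exact mul_right_cancel e)
  have hx : x0 * u ∈ Q := mul_mem hx0 (h.ZQ hu)
  have hy : y0 * u' ∈ Q := mul_mem hy0 (h.ZQ hu')
  generalize x0 * u = x at *
  generalize y0 * u' = y at *
  set w := y⁻¹ * x⁻¹ * y * x with hw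
  have hwZ : w ∈ zpowers z := by simpa using h.comm _ (inv_mem hy) _ (inv_mem hx)
  have hw1 : w ≠ 1 := fun e => hne' (by
    calc y * x = x * y * w := by rw [hw]; group
      _ = _ := by rw [e, mul_one])
  have : Fact (Nat.Prime 3) := ⟨Nat.prime_three⟩
  have H : He x y w := ⟨h.exp x hx, h.exp y hy,
    orderOf_eq_prime (cube_of_mem_zpowers h.z3 hwZ) hw1, hZc w hwZ, by rw [hw]; group⟩
  have hNQ : ∀ a b c, N x y w a b c ∈ Q := fun a b c =>
    mul_mem (mul_mem (pow_mem hx _) (pow_mem hy _)) (pow_mem (h.ZQ hwZ) _)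
  have hQN : ∀ g ∈ Q, ∃ a b c, N x y w a b c = g := by
    have hb : Function.Bijective fun v : ZMod 3 × ZMod 3 × ZMod 3 =>
        (⟨N x y w v.1 v.2.1 v.2.2, hNQ _ _ _⟩ : Q) := by
      rw [Nat.bijective_iff_injective_and_card]
      refine ⟨fun v v' e => ?_, by simp [h.card]⟩
      obtain ⟨e1, e2, e3⟩ := H.N_inj (congrArg Subtype.val e)
      exact Prod.ext e1 (Prod.ext e2 e3)
    intro g hg
    obtain ⟨v, hv⟩ := hb.2 ⟨g, hg⟩
    exact ⟨_, _, _, congrArg Subtype.val hv⟩
  have act : ∀ g ∈ Cx t, ∃ A : S2, ∀ a b, g * N x y w a b (-(a * b)) * g⁻¹ =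
      N x y w (A 0 0 * a + A 0 1 * b) (A 1 0 * a + A 1 1 * b)
        (-((A 0 0 * a + A 0 1 * b) * (A 1 0 * a + A 1 1 * b))) := by
    intro g hg
    have k : ∀ v, t * v * t⁻¹ = v⁻¹ → t * (g * v * g⁻¹) * t⁻¹ = (g * v * g⁻¹)⁻¹ := fun v e => by
      calc _ = (t * g) * v * (t * g)⁻¹ := by group
        _ = g * (t * v * t⁻¹) * g⁻¹ := by rw [← mem_Cx.1 hg]; group
        _ = _ := by rw [e]; group
    obtain ⟨p, q, c, e1⟩ := hQN _ (h.norm (hz g) hx)
    obtain ⟨r, s, d, e2⟩ := hQN _ (h.norm (hz g) hy)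
    have gw : ∀ c, g * pw w c * g⁻¹ = N x y w 0 0 c := fun c => by
      rw [← H.pwc, mul_inv_cancel_right]
      simp [N, pw_zero]
    have hdet : p * s - r * q = 1 := by
      have e3 : g * y * g⁻¹ * (g * x * g⁻¹) = g * x * g⁻¹ * (g * y * g⁻¹) * (g * pw w 1 * g⁻¹) := by
        rw [pw_one]
        calc _ = g * (y * x) * g⁻¹ := by group
          _ = _ := by rw [H.yx]; group
      rw [gw, ← e1, ← e2, H.N_mul, H.N_mul, H.N_mul] at e3
      linear_combination (H.N_inj e3).2.2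
    refine ⟨⟨!![p, r; q, s], by rw [det_fin_two_of, hdet]⟩, fun a b => ?_⟩
    obtain ⟨c1, f1⟩ := H.pw_N p q c a
    obtain ⟨c2, f2⟩ := H.pw_N r s d b
    have e3 : ∃ e, g * N x y w a b (-(a * b)) * g⁻¹ = N x y w (p * a + r * b) (q * a + s * b) e := by
      refine ⟨c1 + c2 + r * b * (q * a) + -(a * b) + 0 * (q * a + s * b), ?_⟩
      calc _ = (g * pw x a * g⁻¹) * (g * pw y b * g⁻¹) * (g * pw w (-(a * b)) * g⁻¹) := by
            simp [N, mul_assoc]
        _ = _ := by rw [gw, pw_conj, pw_conj, ← e1, ← e2, f1, f2, H.N_mul, H.N_mul, add_zero, add_zero]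
    obtain ⟨e, he⟩ := e3
    have e4 := k _ ((H.inv_iff tx ty (a := a) (b := b)).2 rfl)
    rw [he, H.inv_iff tx ty] at e4
    rw [he, e4]
    rfl
  -- the complement
  obtain ⟨j, hj, hjQ⟩ := h.exists_j
  have hπt := h.π_inv ht h2 h1
  have htJ : t * j * t⁻¹ ∈ J := by
    have hS := h.t_norm_S ht h2 h1
    have hJ' : cj t J ≤ J ⊔ Q := cj_le_iff.2 fun a ha =>
      conj_mem_of_mem_normalizer hS (mem_sup_left ha)
    have hi : J.relIndex (J ⊔ Q) = 3 := by
      have := card_mul_relIndex' (le_sup_left : J ≤ J ⊔ Q)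
      rw [h.Jcard, h.card_S] at this
      omega
    by_contra hc
    have e1 : J ⊔ cj t J = J ⊔ Q := by
      rcases Core.eq_or_eq_of_relIndex_prime (hi ▸ Nat.prime_three) le_sup_left
        (sup_le le_sup_left hJ') with e | e
      · exact absurd (e.le (mem_sup_right (conj_mem_cj.2 hj))) hc
      · exact e
    have e2 : J ⊓ cj t J ≤ zpowers z := fun a ha => h.center_S (hz a) fun b hb => by
      have : J ⊔ cj t J ≤ Cx a := sup_le (fun c hc => mem_Cx.2 (h.Jc c hc a ha.1)) fun c hc =>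
        mem_Cx.2 (by
          have := h.Jc _ (mem_cj.1 hc) _ (mem_cj.1 ha.2)
          calc c * a = t * (t⁻¹ * c * t * (t⁻¹ * a * t)) * t⁻¹ := by group
            _ = _ := by rw [this]; group)
      exact mem_Cx.1 (this (e1.ge (mem_sup_right hb)))
    have e3 := card_mul_relIndex' (inf_le_right : J ⊓ cj t J ≤ cj t J)
    have e4 : J.relIndex (cj t J) ≤ 3 := hi ▸ relIndex_le_of_le_right hJ' (by omega)
    have e5 := card_le_of_le e2
    rw [inf_relIndex_right, card_cj, h.Jcard] at e3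
    rw [h.cardZ] at e5
    nlinarith
  have hdJ : j * (t * j * t⁻¹) ∈ J := mul_mem hj htJ
  obtain ⟨f, hf, hft, -, -, hfC⟩ := h.exists_f ht h2 h1 (d := j * (t * j * t⁻¹)) (hz _)
    (mem_Cx.2 (by
      calc _ = j * (t * j * t⁻¹) * t⁻¹ * (t * t) := by group
        _ = t * j * t⁻¹ * (t * t) * j * t⁻¹ := by rw [← h.Jc _ htJ _ hj, h2]; group
        _ = _ := by group)) (h.Je _ hdJ) (fun hc => by
      have e1 := h.πQ (h.ZQ hc)
      rw [h.mul _ (hz _) _ (hz _), h.conj (hz _) (hz _), hπt] at e1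
      exact (by decide +kernel : ∀ a : SL, a ≠ 1 ∧ a ^ 3 = 1 → a * (o 1 * a * (o 1)⁻¹) ≠ 1) _
        (h.π_j hj hjQ) e1)
  have hft' : ∀ a, f a ∈ Cx t := fun a => mem_Cx.2 (by
    rw [← hft, ← map_mul, ← map_mul, SL.neg_comm])
  have hfQ : ∀ a, f a ∈ Q → a = 1 := fun a ha => by
    have e1 := h.cent_t ht h2 h1 ha (mem_Cx.1 (hft' a)).symm
    refine (by decide +kernel : ∀ a : SL, a ^ 3 = 1 → a * o 2 = o 2 * a → a = 1) a
      (hf (by rw [map_pow, map_one, h.exp _ ha])) (hf ?_)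
    rw [map_mul, map_mul, (hZc _ e1 _).eq]
  choose σ hσ using fun a => act (f a) (hft' a)
  have uniq : ∀ A B : S2, (∀ a b, A 0 0 * a + A 0 1 * b = B 0 0 * a + B 0 1 * b ∧
      A 1 0 * a + A 1 1 * b = B 1 0 * a + B 1 1 * b) → A = B := fun A B e => by
    have e1 := e 1 0
    have e2 := e 0 1
    simp only [mul_one, mul_zero, add_zero, zero_add] at e1 e2
    refine Matrix.SpecialLinearGroup.ext _ _ fun i j => ?_
    fin_cases i <;> fin_cases j
    exacts [e1.1, e2.1, e1.2, e2.2]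
  let ρ : SL →* S2 := MonoidHom.mk' σ fun a b => uniq _ _ fun p q => by
    have e1 := hσ (a * b) p q
    rw [map_mul, show ∀ v, f a * f b * v * (f a * f b)⁻¹ = f a * (f b * v * (f b)⁻¹) * (f a)⁻¹ from
      fun v => by group, hσ, hσ] at e1
    obtain ⟨e2, e3, -⟩ := H.N_inj e1
    simp only [mulA]
    exact ⟨by linear_combination e2.symm, by linear_combination e3.symm⟩
  have hρ : Function.Bijective ρ := by
    rw [Nat.bijective_iff_injective_and_card]
    refine ⟨(injective_iff_map_eq_one ρ).2 fun a ha => hfQ a (h.faithful (hz _) fun g hg => ?_),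
      Nat.card_congr (Equiv.ofBijective _ SL.rho_bijective)⟩
    obtain ⟨p, q, c, rfl⟩ := hQN g hg
    have e1 := hσ a p q
    rw [show σ a = 1 from ha] at e1
    simp only [Matrix.SpecialLinearGroup.coe_one, one_apply_eq, one_apply_ne (show (0 : Fin 2) ≠ 1 by decide),
      one_apply_ne (show (1 : Fin 2) ≠ 0 by decide), one_mul, zero_mul, add_zero, zero_add] at e1
    have e2 : N x y w p q c = N x y w p q (-(p * q)) * pw w (c + p * q) := by
      rw [N, N, mul_assoc _ (pw w _), ← pw_add H.z3]; congr 2; ring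
    have e3 : f a * N x y w p q c * (f a)⁻¹ = N x y w p q c := by
      rw [e2, ← mul_assoc, mul_assoc _ (pw w _), H.pwc, ← mul_assoc, e1]
    rw [e3, mul_inv_cancel]
    exact one_mem _
  let E := MulEquiv.ofBijective ρ hρ
  let F : S2 →* G := f.comp E.symm.toMonoidHom
  have hF : ∀ (A : S2) a b, F A * N x y w a b (-(a * b)) * (F A)⁻¹ =
      N x y w (A 0 0 * a + A 0 1 * b) (A 1 0 * a + A 1 1 * b)
        (-((A 0 0 * a + A 0 1 * b) * (A 1 0 * a + A 1 1 * b))) := fun A a b => by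
    have := hσ (E.symm A) a b
    rwa [show σ (E.symm A) = A from E.apply_symm_apply A] at this
  have hN2 : ∀ a b c d, N x y w a b (c + d) = N x y w a b c * pw w d := fun a b c d => by
    rw [N, N, pw_add H.z3, mul_assoc _ (pw w c)]
  let φ : Mo → G := fun m => N x y w m.p m.q (-(m.p * m.q) + m.c) * F m.A
  have hφ : Function.Bijective φ := by
    constructor
    · intro m m' e
      have e0 : N x y w m.p m.q (-(m.p * m.q) + m.c) * F m.A =
        N x y w m'.p m'.q (-(m'.p * m'.q) + m'.c) * F m'.A := e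
      have e1 : F (m.A * m'.A⁻¹) ∈ Q := by
        have : F (m.A * m'.A⁻¹) = (N x y w m.p m.q (-(m.p * m.q) + m.c))⁻¹ *
            N x y w m'.p m'.q (-(m'.p * m'.q) + m'.c) := by
          rw [map_mul, map_inv, eq_inv_mul_iff_mul_eq, ← mul_assoc, e0, mul_inv_cancel_right]
        rw [this]
        exact mul_mem (inv_mem (hNQ _ _ _)) (hNQ _ _ _)
      have e2 : m.A = m'.A := mul_inv_eq_one.1 ((map_eq_one_iff _ E.symm.injective).1 (hfQ _ e1))
      rw [e2] at e0
      obtain ⟨e3, e4, e5⟩ := H.N_inj (mul_right_cancel e0)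
      refine Mo.ext e3 e4 ?_ e2
      rw [e3, e4] at e5
      exact add_left_cancel e5
    · intro g
      obtain ⟨c, -, hc, e⟩ := h.surj_t ht h2 h1 (π g)
      obtain ⟨v, hv, a, rfl⟩ := hfC c (hz c) hc
      obtain ⟨p, q, d, e1⟩ := hQN _ (mul_mem (h.mem_of_eq (hz _) (hz _) e.symm) (h.ZQ hv))
      refine ⟨⟨p, q, p * q + d, E a⟩, ?_⟩
      change N x y w p q (-(p * q) + (p * q + d)) * f (E.symm (E a)) = g
      rw [neg_add_cancel_left, e1, E.symm_apply_apply]
      group
  have hzc : φ zc = w := by simp [φ, zc, N, pw_zero, pw_one]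
  refine ⟨MulEquiv.ofBijective (⟨φ, fun m m' => ?_⟩ : Mo →ₙ* G) hφ, ?_⟩
  · have h3 : (3 : ZMod 3) = 0 := rfl
    have e1 : φ m * φ m' = N x y w m.p m.q (-(m.p * m.q) + m.c) *
        (F m.A * N x y w m'.p m'.q (-(m'.p * m'.q)) * (F m.A)⁻¹ * pw w m'.c) * (F m.A * F m'.A) := by
      simp only [φ]
      rw [hN2 m'.p, mul_assoc _ (F m.A)⁻¹, ← H.pwc m'.c (F m.A)⁻¹]
      group
    rw [e1, hF, ← hN2, H.N_mul, ← map_mul]
    change N x y w _ _ _ * F _ = _
    congr 2
    change -((m.p + _) * (m.q + _)) + (m.c + m'.c + _) = _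
    linear_combination (-(m.q * (m.A 0 0 * m'.p + m.A 0 1 * m'.q))) * h3
  · change φ zc ∈ Q ∧ orderOf (φ zc) = 3 ∧ ∀ g, Commute (φ zc) g
    rw [hzc]
    exact ⟨h.ZQ hwZ, H.oz, H.zc⟩

end Grp

/-- Let X be a finite group with O₃(X) extraspecial of order 27 and exponent 3, X/O₃(X) isomorphic to SL(2,3), O₂(X) = 1, and a Sylow 3-subgroup of X containing an elementary abelian subgroup of order 27. Then X is isomorphic to the centralizer in PSp(4,3) of a 3-central element of order 3 (an element of order 3 in the centre of a Sylow 3-subgroup). -/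
theorem result {X : Type*} [Group X] [Finite X]
    (hR : Cfsg.IsExtraspecial 3 (Cfsg.pCore 3 X)) (hRcard : Nat.card (Cfsg.pCore 3 X) = 27)
    (hRexp : ∀ r ∈ Cfsg.pCore 3 X, r ^ 3 = 1)
    (e : X ⧸ Cfsg.pCore 3 X ≃* Matrix.SpecialLinearGroup (Fin 2) (ZMod 3))
    (hO2 : Cfsg.pCore 2 X = ⊥)
    (hE : ∃ E : Subgroup X, IsMulCommutative E ∧ (∀ a ∈ E, a ^ 3 = 1) ∧ Nat.card E = 27)
    (F : Type*) [Field F] [Fintype F] (hF : Fintype.card F = 3) :
    ∃ (c : Cfsg.PSp 2 F) (S : Sylow 3 (Cfsg.PSp 2 F)), orderOf c = 3 ∧ c ∈ (S : Subgroup (Cfsg.PSp 2 F)) ∧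
      c ∈ Subgroup.centralizer ((S : Subgroup (Cfsg.PSp 2 F)) : Set (Cfsg.PSp 2 F)) ∧
      Nonempty (X ≃* Subgroup.centralizer ({c} : Set (Cfsg.PSp 2 F))) := by
  obtain ⟨J, hJc, hJe, hJn⟩ := hE
  have h3f : Fact (Nat.Prime 3) := ⟨Nat.prime_three⟩
  set Q := pCore 3 X with hQ
  obtain ⟨z₀, hz₀⟩ := exists_prime_orderOf_dvd_card' (G := center Q) 3 (by rw [hR.2])
  set z : X := z₀.1.1 with hzdef
  have hz3 : orderOf z = 3 := by rw [hzdef, orderOf_coe, orderOf_coe, hz₀]
  have hz1 : z₀.1 ≠ 1 := fun h => by simp [hzdef, h] at hz3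
  obtain ⟨hcen, -⟩ := es_facts hR z₀.2 hz1
  have hzQ : ∀ x ∈ Q, x * z = z * x := fun x hx =>
    congrArg Subtype.val (mem_center_iff.1 z₀.2 ⟨x, hx⟩)
  have hcen' : ∀ x ∈ Q, (∀ y ∈ Q, y * x = x * y) → x ∈ zpowers z := fun x hx h => by
    obtain ⟨i, hi⟩ := hcen ⟨x, hx⟩ fun y => Subtype.ext (h y y.2)
    exact ⟨i, congrArg Subtype.val hi⟩
  let ψ : X →* SL := (MulEquiv.ofBijective _ SL.rho_bijective).symm.toMonoidHom.comp
    (e.toMonoidHom.comp (QuotientGroup.mk' _))
  have hψ : ∀ g, ψ g = 1 ↔ g ∈ Q := fun g =>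
    ((map_eq_one_iff _ (MulEquiv.ofBijective _ SL.rho_bijective).symm.injective).trans
      (map_eq_one_iff _ e.injective)).trans (QuotientGroup.eq_one_iff g)
  have hzz : z ^ 3 = 1 := hz3 ▸ pow_orderOf_eq_one z
  have hz : ∀ g, g ∈ Cx z := by
    have sq : ∀ g : X, g * g ∈ Cx z := fun g => by
      have h1 : g * z * g⁻¹ ∈ zpowers z := hcen' _ (Normal.conj_mem inferInstance _ z₀.1.2 g)
        fun y hy => by
          have := hzQ _ (Normal.conj_mem' inferInstance _ hy g)
          calc _ = g * (g⁻¹ * y * g * z) * g⁻¹ := by group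
            _ = _ := by rw [this]; group
      rw [mem_Cx']
      rcases mem_zpowers_three hzz h1 with h | h | h
      · simp only [conj_eq_one_iff] at h
        simp [h]
      · calc _ = g * (g * z * g⁻¹) * g⁻¹ := by group
          _ = _ := by rw [h, h]
      · calc _ = g * (g * z * g⁻¹) * g⁻¹ := by group
          _ = g * z⁻¹ * g⁻¹ := by rw [h]
          _ = (g * z * g⁻¹)⁻¹ := by group
          _ = _ := by rw [h, inv_inv]
    have hs : Function.Surjective ψ := (MulEquiv.ofBijective _ SL.rho_bijective).symm.surjective.comp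
      (e.surjective.comp (QuotientGroup.mk'_surjective _))
    intro g
    obtain ⟨a, b, c, h⟩ := (by decide +kernel : ∀ s : SL, ∃ a b c : SL,
      s = a * a * (b * b) * (c * c)) (ψ g)
    obtain ⟨a, rfl⟩ := hs a
    obtain ⟨b, rfl⟩ := hs b
    obtain ⟨c, rfl⟩ := hs c
    have h1 : g * (a * a * (b * b) * (c * c))⁻¹ ∈ Q := by
      rw [← hψ, map_mul, map_inv, h]; simp only [map_mul, mul_inv_cancel]
    have h2 := mul_mem (mem_Cx.2 (hzQ _ h1)) (mul_mem (mul_mem (sq a) (sq b)) (sq c))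
    rwa [inv_mul_cancel_right] at h2
  have hT : (⊤ : Subgroup X) = Cx z := (eq_top_iff.2 fun g _ => hz g).symm
  have hJQ : 9 ≤ Nat.card (J ⊓ Q : Subgroup X) := by
    have h1 := card_mul_relIndex' (inf_le_left : J ⊓ Q ≤ J)
    have h2 : Q = ψ.ker := by ext g; exact (hψ g).symm
    rw [inf_relIndex_left, hJn, h2, relIndex_ker] at h1
    have h3 : Nat.card (J.map ψ) ∣ 24 := (Nat.card_fin 24) ▸ card_subgroup_dvd_card (J.map ψ)
    have h4 : Nat.card (J.map ψ) ∣ 3 := by
      have := Nat.dvd_gcd h3 (Dvd.intro_left _ h1)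
      exact this
    have := Nat.le_of_dvd (by norm_num) h4
    rw [h2]
    nlinarith
  obtain ⟨π, h⟩ := exists_CZ (Q := Q) (J := J) hz3 hT
    ((e.toMonoidHom.comp (QuotientGroup.mk' _)).comp (Subgroup.subtype _))
    (fun s => by
      obtain ⟨g, hg⟩ := (e.surjective.comp (QuotientGroup.mk'_surjective _)) s
      exact ⟨⟨g, mem_top g⟩, hg⟩)
    (fun c => (map_eq_one_iff _ e.injective).trans (QuotientGroup.eq_one_iff _)) le_top
    Q.subtype Q.subtype_injective Q.range_subtype hR hRcard hRexp z₀.1.2 le_top hJc hJe hJn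
    (fun K hK hJK => by
      by_contra hne
      have hpQ : IsPGroup 3 Q := IsPGroup.of_card (n := 3) hRcard
      have hcop : (Nat.card K).Coprime (Nat.card Q) := by
        rw [hRcard]; exact hK.pow_right 3
      have hKQ : ∀ k ∈ K, k ∈ Q → k = 1 := fun k h1 h2 => by
        rw [← orderOf_eq_one_iff]
        exact Nat.eq_one_of_dvd_coprimes hcop (orderOf_dvd_natCard K h1) (orderOf_dvd_natCard Q h2)
      have h1 : J ⊓ Q ≤ centralizer (K : Set X) := fun a ha => mem_centralizer_iff.2 fun k hk => by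
        have e1 : k⁻¹ * (a * k * a⁻¹) ∈ K :=
          mul_mem (inv_mem hk) (conj_mem_of_mem_normalizer (hJK ha.1) hk)
        have e2 : k⁻¹ * (a * k * a⁻¹) ∈ Q := by
          have := mul_mem (Normal.conj_mem' inferInstance _ ha.2 k) (inv_mem ha.2)
          simpa [mul_assoc] using this
        have := hKQ _ e1 e2
        rwa [inv_mul_eq_one, eq_mul_inv_iff_mul_eq] at this
      have h2 : K ≤ centralizer (Q : Set X) := by
        refine Coprime.le_centralizer_of_self_centralizing hpQ.isNilpotent le_normalizer_of_normal hcop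
          (C := J ⊓ Q) inf_le_right h1 fun a ha => h1 ?_
        by_contra hn
        have e1 : J ⊓ Q < (J ⊓ Q) ⊔ zpowers a := lt_of_le_of_ne le_sup_left fun e =>
          hn (e.ge (mem_sup_right (mem_zpowers a)))
        have e2 : (J ⊓ Q) ⊔ zpowers a ≤ Q := sup_le inf_le_right (zpowers_le.2 ha.1)
        have e3 := PGroup.card_mul_prime_le_of_lt (hpQ.to_le e2) e1
        have e4 : (J ⊓ Q) ⊔ zpowers a = Q := eq_of_le_of_card_ge e2 (by omega)
        have e5 : J ⊓ Q ≤ zpowers z := fun b hb => hcen' b hb.2 fun y hy => by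
          have : (J ⊓ Q) ⊔ zpowers a ≤ Cx b := sup_le
            (fun c hc => mem_Cx.2 (setLike_mul_comm hc.1 hb.1))
            (zpowers_le.2 (mem_Cx.2 (mem_centralizer_iff.1 ha.2 b hb).symm))
          exact mem_Cx.1 (this (e4.ge hy))
        have := card_le_of_le e5
        rw [Nat.card_zpowers, hz3] at this
        omega
      obtain ⟨k, hk, hkp⟩ := Coprime.exists_prime_orderOf_mem hne
      have hk1 : k ≠ 1 := fun h => by simp [h] at hkp; exact Nat.not_prime_one hkp
      have hk3 : (orderOf k).Coprime 3 := Nat.Coprime.coprime_dvd_left (orderOf_dvd_natCard K hk) hK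
      have hψk : orderOf (ψ k) = orderOf k := by
        have := Fact.mk hkp
        exact orderOf_eq_prime (by rw [← map_pow, pow_orderOf_eq_one, map_one])
          fun h => hk1 (hKQ k hk ((hψ k).1 h))
      have hk2 : orderOf k = 2 := by
        have e1 : orderOf k ∣ 2 ^ 3 * 3 := by
          rw [← hψk]
          exact (show Nat.card SL = 2 ^ 3 * 3 from Nat.card_fin 24) ▸ orderOf_dvd_natCard (ψ k)
        exact (Nat.prime_dvd_prime_iff_eq hkp Nat.prime_two).1
          (hkp.dvd_of_dvd_pow (hk3.dvd_of_dvd_mul_right e1))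
      have hkk : k * k = 1 := by rw [← pow_two, ← hk2, pow_orderOf_eq_one]
      have hψ2 : ψ k = o 1 := (by decide +kernel : ∀ a : SL, a * a = 1 → a ≠ 1 → a = o 1) _
        (by rw [← map_mul, hkk, map_one]) fun h => hk1 (hKQ k hk ((hψ k).1 h))
      have hcent : ∀ g, g * k * g⁻¹ = k := fun g => by
        have e1 : g * k * g⁻¹ * k⁻¹ ∈ Q := by
          rw [← hψ]
          simp only [map_mul, map_inv, hψ2, SL.neg_comm]
          group
        have e2 := mem_centralizer_iff.1 (h2 hk) _ e1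
        have e3 := eq_one_of_sq_cube (x := g * k * g⁻¹ * k⁻¹) (by
          calc _ = g * k * g⁻¹ * k⁻¹ * (g * k * g⁻¹ * k⁻¹ * k) * k⁻¹ := by group
            _ = g * k * g⁻¹ * k⁻¹ * (k * (g * k * g⁻¹ * k⁻¹)) * k⁻¹ := by rw [← e2]
            _ = g * (k * k) * g⁻¹ * (k * k)⁻¹ := by group
            _ = 1 := by rw [hkk]; group) (hRexp _ e1)
        exact mul_inv_eq_one.1 e3
      have h4 : zpowers k ≤ pCore 2 X := by
        have : (zpowers k).Normal := ⟨by
          rintro _ ⟨i, rfl⟩ g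
          exact ⟨i, by rw [← conj_zpow, hcent]⟩⟩
        exact Core.le_pCore (isPGroup_zpowers_of_pow (k := 1) (by rw [pow_one, pow_two, hkk]))
      rw [hO2] at h4
      exact hk1 (h4 (mem_zpowers k)))
  obtain ⟨Φ, h1, h2, h3⟩ := exists_equiv h hz
  let E : PSp 2 (ZMod 3) ≃* PSp 2 F := Classical.centerQuotEquiv (Classical.spMapEquiv
    (FiniteField.ringEquivOfCardEq (K := ZMod 3) (by rw [hF, ZMod.card])))
  let Θ : X →* PSp 2 F := E.toMonoidHom.comp
    (MonoidHom.mk' (fun g => pm (Φ.symm g)) fun a b => by rw [map_mul, pm_mul])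
  have hΘ : Function.Injective Θ := E.injective.comp (pm_inj.comp Φ.symm.injective)
  have hc := Symp.card_PSp (F := F) (m := 2) (by norm_num)
  rw [hF] at hc
  have hc' : Nat.card (PSp 2 F) = 81 * 320 := by simp [Finset.prod_range_succ] at hc; omega
  have hfin : Finite (PSp 2 F) := Nat.finite_of_card_ne_zero (by omega)
  have hS : Nat.card ((J ⊔ Q).map Θ) = 3 ^ 4 := by rw [card_map_of_injective hΘ, h.card_S]; rfl
  have hi : ((J ⊔ Q).map Θ).index = 320 := by
    have := ((J ⊔ Q).map Θ).card_mul_index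
    rw [hS, hc'] at this
    omega
  have hr : Θ.range = centralizer {Θ (Φ zc)} := by
    ext g
    rw [mem_centralizer_singleton_iff]
    constructor
    · rintro ⟨g, rfl⟩
      rw [← map_mul, ← map_mul, (h3 g).eq]
    · intro hg
      obtain ⟨g, rfl⟩ := E.surjective g
      obtain ⟨m, rfl⟩ := cent g (E.injective (by simpa [Θ] using hg))
      exact ⟨Φ m, by simp [Θ]⟩
  refine ⟨Θ (Φ zc), (IsPGroup.of_card hS).toSylow (by rw [hi]; decide),
    (orderOf_injective Θ hΘ _).trans h2, mem_map_of_mem Θ (mem_sup_right h1), ?_,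
    ⟨(MonoidHom.ofInjective hΘ).trans (MulEquiv.subgroupCongr hr)⟩⟩
  rw [mem_centralizer_iff]
  rintro _ ⟨g, -, rfl⟩
  rw [← map_mul, ← map_mul, (h3 g).eq]

end Cfsg.Agent.S3366
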