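import Mathlib
import Cfsg.Statements.S2182
import Cfsg.Agent.Lib.ChevInv.DataT
import Cfsg.Agent.Lib.ChevInv.CentF4

set_option autoImplicit false
open Cfsg

namespace Cfsg.Agent.S2182

open CfsgLib.ChevInv CfsgLib.Chev CfsgLib.Twist Cfsg.Lie

theorem exists_add_eq_one {K : Type*} [Field K] [CharP K 2] {φ : K →+* K} (h : ∃ a, φ a ≠ a)
    (h2 : ∀ a, φ (φ a) = a) : ∃ u, φ u + u = 1 := by
  obtain ⟨a, ha⟩ := h
  have h1 : φ a + a ≠ 0 := fun e => ha (by rwa [← CharTwo.sub_eq_add, sub_eq_zero] at e)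
  exact ⟨a / (φ a + a), by rw [map_div₀, map_add, h2, add_comm a, ← add_div, div_self h1]⟩

theorem fuse {K : Type*} [Field K] [CharP K 2] {u v : K} (h : v + u = 1) :
    wd chevE6 K [43, 40] * (xU chevE6 K 42 u * xU chevE6 K 37 v) =
      xU chevE6 K 42 u * xU chevE6 K 37 v * wd chevE6 K [43, 40, 44] := by
  rw [← mul_one (xU chevE6 K 37 v)]
  simp only [wd_cons, wd_nil, mul_assoc, one_mul, mul_one (_ : K), mul_right_inj,
    swap_comm (D := chevE6) (r := 42) (s := 43) (by decide +kernel),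
    swap_comm (D := chevE6) (r := 37) (s := 40) (by decide +kernel),
    swap_comm (D := chevE6) (r := 37) (s := 44) (by decide +kernel),
    swap_comm (D := chevE6) (r := 40) (s := 44) (by decide +kernel),
    swap_single (D := chevE6) (r := 42) (s := 40) (k := 44) (-1) (by decide +kernel),
    swap_single (D := chevE6) (r := 37) (s := 43) (k := 44) 0 (by decide +kernel)]
  rw [← mul_assoc, ← xU_add, h]


/-- The twisted group ²E₆(q), q even, realised inside the Chevalley group of type E₆ over the field K with q² elements, has exactly three conjugacy classes of elements of order 2. -/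
theorem result {K : Type*} [Field K] [Fintype K] [CharP K 2] (q : ℕ) (hK : Fintype.card K = q ^ 2) :
    (ConjClasses.mk '' {g : ↥(Cfsg.Lie.twistedE6 K q) | orderOf g = 2}).ncard = 3 := by
  obtain ⟨φ, hφ⟩ := exists_frob ((isPrimePow_pow_iff two_ne_zero).mp (hK ▸ FiniteField.isPrimePow_card K)) hK
  obtain ⟨u, hu⟩ := exists_add_eq_one (φ := φ) (by
    by_contra! h
    have h1 := card_fix_frob hφ hK
    rw [Nat.card_congr (Equiv.subtypeUnivEquiv h), Nat.card_eq_fintype_card, hK] at h1
    have := Fintype.one_lt_card (α := K)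
    nlinarith) (frob2 hφ hK)
  obtain ⟨h1, h2⟩ := classesTE6 hφ (frob2 hφ hK)
  have h3 := rkTE6
  simp only [List.map, List.cons.injEq] at h3
  refine ncard_of (wd chevE6 K) (ys := [[71], [43, 40, 44], [56, 36, 46]]) ⟨fun y hy => h1 y (by grind),
    fun t ht h4 => ?_⟩ (pairwise_of_rk matchE6.ofD_eq rfl (by simp [h3]) _)
  obtain ⟨g, hg, y, hy, e⟩ := h2 t ht h4
  by_cases h5 : y = [43, 40]
  · have h6 := x2_mem_E6 hφ (r := 42) (s := 37) (by decide) u
    refine ⟨_, mul_mem (inv_mem h6) hg, [43, 40, 44], by simp, ?_⟩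
    rw [show ∀ a : GL chevE6.Idx K, a⁻¹ * g * t * (a⁻¹ * g)⁻¹ = a⁻¹ * (g * t * g⁻¹ * a) from fun a => by group,
      e, h5, fuse hu, inv_mul_cancel_left]
  · exact ⟨g, hg, y, by grind, e⟩

end Cfsg.Agent.S2182
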