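import Mathlib
import Cfsg.Statements.S4215
import Cfsg.Agent.Lib.Transfer.Yoshida
import Cfsg.Agent.Lib.Transfer.Tate

set_option autoImplicit false
open Cfsg

namespace Cfsg.Agent.S4215

/-- Let `P` be a Sylow `p`-subgroup of the finite group `G`, `Q` a subgroup of `P` weakly closed in `P` with respect to `G`, and `H` the normalizer of `Q`. Suppose that for all `u ∈ P` and `z ∈ Q` the iterated commutator `[u, z, …, z]` with `p - 1` entries `z` is trivial, where `[x, z] = x⁻¹z⁻¹xz` and `[x, z, z] = [[x, z], z]`. Then `O^p(H) = O^p(G) ∩ H`, where `O^p` denotes the subgroup generated by the elements of order prime to `p`; so the largest `p`-factor groups of `G` and of `H` are isomorphic. -/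
theorem result {G : Type*} [Group G] [Finite G] {p : ℕ} [Fact p.Prime] (P : Sylow p G) (Q : Subgroup G) (hQ : Cfsg.IsWeaklyClosed Q (P : Subgroup G)) (h : ∀ u ∈ (P : Subgroup G), ∀ z ∈ Q, (fun y : G => y⁻¹ * z⁻¹ * y * z)^[p - 1] u = 1) : Cfsg.pResidualOf p (Subgroup.normalizer (Q : Set G)) = Cfsg.pResidual p G ⊓ Subgroup.normalizer (Q : Set G) := by
  have hSN : (P : Subgroup G) ≤ Subgroup.normalizer (Q : Set G) := fun s hs => by
    have h1 : Q.map (MulAut.conj s).toMonoidHom = Q := hQ.2 s (by
      rintro _ ⟨x, hx, rfl⟩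
      exact mul_mem (mul_mem hs (hQ.1 hx)) (inv_mem hs))
    rw [Subgroup.mem_normalizer_iff]
    intro x
    constructor
    · intro hx
      rw [← h1]
      exact ⟨x, hx, rfl⟩
    · intro hx
      rw [← h1] at hx
      obtain ⟨y, hy, e⟩ := hx
      have : y = x := by simpa using e
      exact this ▸ hy
  rw [inf_comm, CfsgLib.Transfer.tate_of_commutator_inf_le P hSN]
  · rfl
  by_cases hne : (P : Subgroup G) ⊓ _root_.commutator G = (P : Subgroup G) ⊓
      ⁅Subgroup.normalizer (Q : Set G), Subgroup.normalizer (Q : Set G)⁆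
  · rw [inf_comm, hne]
    exact inf_le_right
  obtain ⟨T, ψ, x, z, h1, -, -, h4, h5, h6, h7⟩ := CfsgLib.Transfer.yoshida_core P hQ hne
  rw [h x (h1 h4) z h5] at h7
  exact absurd (by simpa using h6 1 T.one_mem 1 T.one_mem) h7

end Cfsg.Agent.S4215
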