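import Mathlib
import Cfsg.Statements.S3338
import Cfsg.Agent.Lib.E62.SLoc
import Cfsg.Agent.Lib.U62K.Main

set_option autoImplicit false
open Cfsg

namespace Cfsg.Agent.S3338

open Subgroup CfsgLib.E62.S38 CfsgLib.U62K CfsgLib.W2 CfsgLib.Tech

theorem exists_loc {G K F : Type*} [Group G] [Finite G] [Group K] [Field F] [Fintype F] {ω : F} (C : Ctx ω)
    {ι : SU 6 F 2 →* K} (U : UK ι) {p : G →* K} {j : K →* G} (hp : ∀ k, p (j k) = k)
    (hc : ∀ x ∈ p.ker, ∀ y ∈ p.ker, x * y = y * x) (h2 : ∀ x ∈ p.ker, x * x = 1) (hA : Nat.card p.ker = 2 ^ 20)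
    (hf : ∀ x ∈ p.ker, (∀ k, j k * x * (j k)⁻¹ = x) → x = 1) : ∃ J, Loc p.ker J := by
  let _ : CommGroup p.ker := { (inferInstance : Group p.ker) with mul_comm := fun a b => Subtype.ext (hc _ a.2 _ b.2) }
  let _ : DistribMulAction G (Additive p.ker) :=
    { smul := fun g v => Additive.ofMul (MulAut.conjNormal g v.toMul)
      one_smul := fun v => Subtype.ext (show (1 : G) * _ * 1⁻¹ = _ by rw [one_mul, inv_one, mul_one]; rfl)
      mul_smul := fun g h v => Subtype.ext (show g * h * _ * (g * h)⁻¹ = g * (h * _ * h⁻¹) * g⁻¹ by group)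
      smul_zero := fun g => map_one (MulAut.conjNormal (H := p.ker) g)
      smul_add := fun g a b => map_mul (MulAut.conjNormal (H := p.ker) g) _ _ }
  have : Nontrivial (Additive p.ker) := Finite.one_lt_card_iff_nontrivial.1 (hA ▸ by norm_num : 1 < Nat.card p.ker)
  exact U.loc C hp (U.sd (V := Additive p.ker) (tr := p.ker.subtype) hp (fun v => Subtype.ext (h2 _ v.2))
    Subtype.val_injective (range_subtype _).symm (fun _ _ => rfl)
    fun v h => Subtype.ext (hf _ v.2 fun k => congrArg Subtype.val (h k))) hA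

/-- Let X be a finite group with O_{2'}(X) = 1, and let A ≤ X be a subgroup of order 2^20 whose normalizer H = N_X(A) is a product H = AK with A ∩ K = 1, where K is isomorphic either to the unitary group U₆(2) or to a group having a normal subgroup of index 2 isomorphic to U₆(2) with trivial centralizer; suppose A is a minimal normal subgroup of H. Then H is not strongly 3-embedded in X: either H = X, or some conjugate of H by an element outside H meets H in a subgroup of order divisible by 3. -/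
theorem result {X : Type*} [Group X] [Finite X]
    (hO : Cfsg.oddCore X = ⊥) (A : Subgroup X) (hA : Nat.card A = 2 ^ 20)
    (H : Subgroup X) (hH : H = Subgroup.normalizer (A : Set X))
    (K : Subgroup X) (hKH : K ≤ H) (hAK : A ⊓ K = ⊥) (hHAK : A ⊔ K = H)
    (F : Type*) [Field F] [Fintype F] (hF : Fintype.card F = 4)
    (hK : Nonempty (K ≃* Cfsg.PSU 6 F 2) ∨
      ∃ K₀ : Subgroup K, K₀.Normal ∧ K₀.index = 2 ∧ Nonempty (K₀ ≃* Cfsg.PSU 6 F 2) ∧
        Subgroup.centralizer (K₀ : Set K) = ⊥)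
    (hmin : ∀ B : Subgroup X, B ≤ A → (∀ h ∈ H, ∀ b ∈ B, h * b * h⁻¹ ∈ B) → B = ⊥ ∨ B = A) :
    H = ⊤ ∨ ∃ g : X, g ∉ H ∧ 3 ∣ Nat.card ↥(H ⊓ H.map (MulAut.conj g).toMonoidHom) := by
  have : Fact (Nat.Prime 2) := ⟨Nat.prime_two⟩
  obtain ⟨ω, C⟩ := exists_ctx hF
  obtain ⟨ι, U⟩ := exists_UK C hK
  have hAH : A ≤ H := hH ▸ le_normalizer
  have hn : ∀ h ∈ H, ∀ a ∈ A, h * a * h⁻¹ ∈ A := fun h hh a => conj_mem_of_mem_normalizer (hH ▸ hh)
  have : Nontrivial A := Finite.one_lt_card_iff_nontrivial.1 (hA ▸ by norm_num)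
  have hc : ∀ x ∈ A, ∀ y ∈ A, x * y = y * x := by
    refine (hmin (A ⊓ centralizer A) inf_le_left fun h hh b hb => ⟨hn h hh b hb.1, fun a ha => ?_⟩).elim
      (fun h => ?_) fun h x hx y hy => (h.ge hy).2 x hx
    · have := hb.2 _ (hn _ (inv_mem hh) a ha)
      calc _ = h * (h⁻¹ * a * h⁻¹⁻¹ * b) * h⁻¹ := by group
        _ = _ := by rw [this]; group
    · obtain ⟨z, hz⟩ := (nontrivial_iff_exists_ne_one _).1 (IsPGroup.of_card hA).center_nontrivial
      exact absurd (Subtype.ext (mem_bot.1 (h.le ⟨z.2, fun a ha => congrArg Subtype.val (mem_center_iff.1 hz.1 ⟨a, ha⟩)⟩)))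
        hz.2
  have h2 : ∀ x ∈ A, x * x = 1 := by
    let B : Subgroup X :=
      { carrier := {x | x ∈ A ∧ x * x = 1}
        one_mem' := ⟨one_mem _, one_mul _⟩
        inv_mem' := fun h => ⟨inv_mem h.1, by rw [← mul_inv_rev, h.2, inv_one]⟩
        mul_mem' := fun {a b} ha hb => ⟨mul_mem ha.1 hb.1, by
          rw [mul_assoc, ← mul_assoc b, hc b hb.1 a ha.1, mul_assoc, hb.2, mul_one, ha.2]⟩ }
    refine (hmin B (fun _ h => h.1) fun h hh b hb => ⟨hn h hh b hb.1, by simpa using hb.2⟩).elim (fun h => ?_)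
      fun h x hx => (h.ge hx).2
    obtain ⟨z, hz⟩ := exists_prime_orderOf_dvd_card' (G := A) 2 (hA ▸ by norm_num)
    exact absurd (Subtype.ext (mem_bot.1 (h.le ⟨z.2, congrArg Subtype.val (sq_of_ord hz)⟩))) (ne_one_of_ord hz)
  have : (A.subgroupOf H).Normal := hH ▸ normal_in_normalizer
  have hb : Function.Bijective ((QuotientGroup.mk' (A.subgroupOf H)).comp (inclusion hKH)) := by
    refine ⟨(injective_iff_map_eq_one _).2 fun k h =>
      Subtype.ext (mem_bot.1 (hAK.le ⟨(QuotientGroup.eq_one_iff (inclusion hKH k)).1 h, k.2⟩)), fun x => ?_⟩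
    obtain ⟨⟨x, hx⟩, rfl⟩ := QuotientGroup.mk_surjective x
    have h3 : x ∈ ((K ⊔ A : Subgroup X) : Set X) := by rwa [sup_comm, hHAK]
    rw [coe_mul_of_left_le_normalizer_right _ _ (hH ▸ hKH)] at h3
    obtain ⟨k, hk, a, ha, rfl⟩ := h3
    exact ⟨⟨k, hk⟩, QuotientGroup.eq.2 (by simpa [mem_subgroupOf] using ha)⟩
  obtain ⟨p, hp, e⟩ : ∃ p : H →* K, (∀ k, p (inclusion hKH k) = k) ∧ p.ker = A.subgroupOf H :=
    ⟨(MulEquiv.ofBijective _ hb).symm.toMonoidHom.comp (QuotientGroup.mk' _),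
      (MulEquiv.ofBijective _ hb).symm_apply_apply, by ext; simp⟩
  obtain ⟨J, L⟩ := exists_loc C U hp (e ▸ fun x hx y hy => Subtype.ext (hc _ hx _ hy))
    (e ▸ fun x hx => Subtype.ext (h2 _ hx)) (by rw [e, Nat.card_congr (subgroupOfEquivOfLe hAH).toEquiv, hA])
    (e ▸ fun x hx h => by
      have h3 : H ≤ Cx x.1 := hHAK.ge.trans (sup_le (fun a ha => mem_Cx.2 (hc a ha _ hx))
        fun k hk => mem_Cx'.2 (congrArg Subtype.val (h ⟨k, hk⟩)))
      refine (hmin (zpowers x.1) (zpowers_le.2 hx) fun g hg b hb => ?_).elim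
        (fun h => Subtype.ext (zpowers_eq_bot.1 h)) fun h4 => ?_
      · rwa [mem_Cx'.1 (Cx_comm.1 (zpowers_le.2 (Cx_comm.1 (h3 hg)) hb))]
      · rw [← h4, Nat.card_zpowers] at hA
        exact absurd (hA ▸ orderOf_le_of_pow_eq_one two_pos ((pow_two x.1).trans (h2 _ hx))) (by norm_num))
  rw [e] at L
  by_contra hq
  push Not at hq
  have := L.normal Subtype.val_injective ((range_subtype H).trans hH) hO fun g d h3 h4 h5 => by_contra fun h6 => by
    rw [range_subtype] at h5 h6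
    have : Fact (Nat.Prime 3) := ⟨by norm_num⟩
    refine hq.2 g h6 ?_
    rw [← orderOf_eq_prime h3 h4, ← orderOf_coe, ← ord_conj g]
    exact orderOf_dvd_natCard _ ⟨h5, conj_mem_cj.2 d.2⟩
  exact hq.1 (hH.trans (normalizer_eq_top A))

end Cfsg.Agent.S3338
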