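import Mathlib
import Cfsg.Statements.S1772
import Cfsg.Agent.Lib.SzS.All
import Cfsg.Agent.Lib.Sz.Models
import Cfsg.Agent.Lib.StdInt.Wrap

set_option autoImplicit false
open Cfsg

namespace Cfsg.Agent.S1772

/-- Let G be a finite group with no nontrivial normal subgroup of odd order in which every section has the B-property; let A be a standard subgroup of G which is not normal in G, whose centralizer has cyclic Sylow 2-subgroups, and let t be an involution centralizing A. Suppose A modulo its centre is isomorphic to the Suzuki group over the field with 2^(2m+1) elements, m ≥ 1. Then either the layer E(G) is isomorphic to A × A, or E(G) is a group of Lie type in characteristic 2 (here including the Tits group) on which t induces an outer automorphism (no element of E(G) induces the same conjugation action on E(G) as t), or A is isomorphic to the Suzuki group over the field with 8 elements and E(G) to the Rudvalis group. -/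
theorem result {G : Type*} [Group G] [Finite G] (hO : Cfsg.oddCore G = ⊥) (hB : Cfsg.HasStrongBProperty G)
    (A : Subgroup G) (hA : Cfsg.IsStandardSubgroup A) (hnA : ¬ A.Normal)
    (hR : ∀ R : Sylow 2 ↥(Subgroup.centralizer (A : Set G)), IsCyclic ↥(R : Subgroup ↥(Subgroup.centralizer (A : Set G))))
    (t : G) (ht : orderOf t = 2) (htA : t ∈ Subgroup.centralizer (A : Set G))
    {F : Type*} [Field F] [Fintype F] (m : ℕ) (hm : 1 ≤ m) (hF : Fintype.card F = 2 ^ (2 * m + 1))
    (hAX : Nonempty (↥A ⧸ Subgroup.center ↥A ≃* ↥(Cfsg.Lie.Sz F (2 ^ (m + 1))))) :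
    Nonempty (↥(Cfsg.layer G) ≃* ↥A × ↥A) ∨ ((Cfsg.IsLieTypeChar 2 ↥(Cfsg.layer G) ∨ Cfsg.Lie.IsoTits ↥(Cfsg.layer G)) ∧ ¬ (∃ e : G, e ∈ Cfsg.layer G ∧ ∀ x ∈ Cfsg.layer G, t * x * t⁻¹ = e * x * e⁻¹)) ∨
      (Nonempty (↥A ≃* ↥(Cfsg.Lie.Sz F 4)) ∧ Fintype.card F = 8 ∧ Cfsg.Spor.IsoRu ↥(Cfsg.layer G)) := by
  obtain ⟨e⟩ := hAX
  refine (CfsgLib.SzS.std_reduce hO hA hnA hR ht htA ?_).imp id fun h => Or.inl ⟨Or.inl h.1, h.2⟩
  intro G₀ _ _ A₀ L t₀ ⟨e₀⟩ h1 h2 h3 h4 h5 h6 h7 h8 h9
  let π : A₀ →* (CfsgLib.Sz.tits hF).grp := ((CfsgLib.Sz.lieSzEquiv hF).symm.toMonoidHom.comp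
    (e.toMonoidHom.comp (QuotientGroup.mk' _))).comp e₀.toMonoidHom
  have hp := CfsgLib.StdInt.commutator_of_standard hA
  have H : CfsgLib.SzS.Hyp (CfsgLib.Sz.tits hF) A₀ t₀ π :=
    { big := CfsgLib.Sz.exists_ne_zero_one hm hF
      surj := ((CfsgLib.Sz.lieSzEquiv hF).symm.surjective.comp (e.surjective.comp
        (QuotientGroup.mk'_surjective _))).comp e₀.surjective
      ker := by
        ext a
        simp only [π, MonoidHom.mem_ker, MonoidHom.comp_apply, MulEquiv.coe_toMonoidHom, MulEquiv.map_eq_one_iff,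
          QuotientGroup.mk'_apply, QuotientGroup.eq_one_iff, Subgroup.mem_center_iff]
        exact ⟨fun h g => e₀.injective (by rw [map_mul, map_mul, h]), fun h g => by
          rw [← e₀.apply_symm_apply g, ← map_mul, ← map_mul, h]⟩
      perf := by
        have := congrArg (Subgroup.map e₀.symm.toMonoidHom) hp
        rwa [commutator_def, Subgroup.map_commutator, Subgroup.map_top_of_surjective _ e₀.symm.surjective] at this
      tt := h1, t1 := h2, tA := h3, nA := h4, cyc := h5 }
  exact H.main h6 h8 h9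

end Cfsg.Agent.S1772
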