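import Cfsg.Statements.S1678
import Cfsg.Agent.Lib.Co3Rec.Main
import Cfsg.Agent.Lib.Leech.Spor

set_option autoImplicit false
open Cfsg

namespace Cfsg.Agent.S1678

/-- The third Conway group from an involution centraliser: let G be a finite group with no non-trivial normal subgroup of odd order and trivial centre, having an involution t whose centraliser is a non-split double cover of the symplectic group Sp(6, 2). Then G is isomorphic to the third Conway group (the stabiliser in the Leech lattice automorphism group of a vector of the second shortest length). -/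
theorem result {G : Type*} [Group G] [Finite G] (hO : Cfsg.oddCore G = ⊥) (hZ : Subgroup.center G = ⊥) (t : G) (ht : orderOf t = 2) (hC : Cfsg.IsNonsplitDoubleCover (Subgroup.centralizer ({t} : Set G)) (Matrix.symplecticGroup (Fin 3) (ZMod 2))) : Cfsg.Spor.IsoCo3 G := by
  obtain ⟨s, H⟩ := CfsgLib.Co3Rec.exists_hyp ht hC
  obtain ⟨e⟩ := H.iso hO hZ
  obtain ⟨e', -⟩ := CfsgLib.Leech.CCo3.exists_iso (CfsgLib.Leech.card_stabilizer_48 _ CfsgLib.Leech.sqNorm_V).le
  exact ⟨e.symm.trans (e'.symm.trans CfsgLib.Leech.co3Equiv.symm)⟩

end Cfsg.Agent.S1678
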