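import Cfsg.Statements.S2099
import Cfsg.Agent.Lib.LieMult.OmegaMinus
import Cfsg.Agent.S0791

set_option autoImplicit false
open Cfsg

namespace Cfsg.Agent.S2099

/-- Schur multipliers of the even-dimensional orthogonal groups of minus type: for l ≥ 4 and a field F with q elements, the Schur multiplier of PΩ⁻_2l(F) (for the form Σ_{i<l−1} xᵢyᵢ + z₁² + a z₁z₂ + b z₂² with the binary part anisotropic) is cyclic of order gcd(4, q^l + 1); here the Schur multiplier is described through stem extensions, as in the definitions. -/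
theorem result {F : Type*} [Field F] [Fintype F] {q : ℕ} (hF : Fintype.card F = q) (l : ℕ) (hl : 4 ≤ l) (a b : F) (hab : ∀ z₁ z₂ : F, z₁ ^ 2 + a * z₁ * z₂ + b * z₂ ^ 2 = 0 → z₁ = 0 ∧ z₂ = 0) : Cfsg.HasCyclicSchurMultiplier (Cfsg.POmega F (Cfsg.quadFormMinus (l - 1) F a b)) (Nat.gcd 4 (q ^ l + 1)) := by
  subst hF
  obtain ⟨k, rfl⟩ : ∃ k, l = k + 1 := ⟨l - 1, by omega⟩
  have := CfsgLib.OrthE.fact_QA hab
  have h0 := fun h => Cfsg.Agent.S0791.result (F := F) rfl h (k + 1) (by omega) a b hab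
  change Cfsg.HasCyclicSchurMultiplier (Cfsg.POmega F (Cfsg.quadFormMinus k F a b)) _
  refine CfsgLib.LieMult.pomega_mult_gcd (CfsgLib.OrthE.qMinus_eq (F := F) k a b)
    (CfsgLib.OrthE.nondeg_qMinus _ hab) (by simp; omega)
    (CfsgLib.LieMult.spinBound_minus hab (by omega)) (k := k + 1) (by simp; omega) _
    (fun h2 =>
      ((CfsgLib.OrthE.even_card_of_two_eq_zero h2).pow_of_ne_zero (Nat.succ_ne_zero k)).add_one)
    (fun h2 => (CfsgLib.OrthE.odd_card_of_two_ne_zero h2).pow.add_one)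
    (fun h2 => by
      rw [CfsgLib.OrthE.negO_mem_commutator_iff (CfsgLib.OrthE.qMinus_eq (F := F) k a b)]
      refine (h0 (CfsgLib.OrthE.odd_card_of_two_ne_zero h2)).trans ?_
      omega) fun h2 h4 => ?_
  by_contra hk
  obtain ⟨j, hj⟩ := Nat.not_odd_iff_even.1 hk
  obtain ⟨i, hi⟩ := (CfsgLib.OrthE.odd_card_of_two_ne_zero h2).pow (n := j)
  rw [hj, pow_add, hi, show (2 * i + 1) * (2 * i + 1) = 4 * (i * i + i) + 1 by ring] at h4
  omega

end Cfsg.Agent.S2099
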