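import Cfsg.Statements.S3171
import Cfsg.Agent.Lib.Mathieu.AGL
import Cfsg.Agent.Lib.PGroup.Basic

set_option autoImplicit false
open Cfsg

namespace Cfsg.Agent.S3171

open CfsgLib.Mathieu CfsgLib.Golay

def gT : List ℕ := [112498419363478465068426720085990401, 984612649355406094121217942427387040, 984724508489452699215480746259449888, 979121071158219704299181131031480352]
def uT : List ℕ := [965011074703115379814735225140217888, 979178064215976754201978316326897696, 979159042028174988831491299152593984, 984479654942482537185729562620150944, 112297890762565839005336512005060705, 112175050318107074677377237438860737]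
def wT : List (List ℕ) := [[0], [1], [0, 1, 0, 1], [2], [1, 2, 1, 2], [0, 1, 2, 1, 0, 1, 2, 1], [3], [1, 0, 3, 0, 1, 3], [2, 1, 3, 1, 3, 2], [0, 1, 0, 3, 0, 1, 0, 3]]
def qT : List ℕ := [610891819688408784217528559055410723, 70892934527919042185996746700784354, 112424983097229755092343687492459521, 968708902336673183175954409307867168, 979121071158219704299181131031480352, 965128854020860192151391391390468128, 961365507626256404119956257276790816]
def qSlp : List (ℕ × List ℕ) := [(963721886883755259286232606933354528, [5, 6])]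
def qChain : List (ℕ × List ℕ) := [(4, [965128854020860192151391391390468128, 963721886883755259286232606933354528, 979121071158219704299181131031480352, 968708902336673183175954409307867168, 112424983097229755092343687492459521, 70892934527919042185996746700784354, 610891819688408784217528559055410723]), (0, [112424983097229755092343687492459521, 70892934527919042185996746700784354, 610891819688408784217528559055410723])]
def dT : List ℕ := [984612649355406094121217942427387040, 984721978136738731986858641841030208, 984724508489452699215480746259449888]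
def wT2 : List (List ℕ) := [[2, 5], [0], [1, 3], [2], [1], [4, 5], [7], [6, 7, 8, 9], [8], [9]]
def wT3 : List (List ℕ) := [[1], [4], [3], [2, 4], [0, 3, 5], [0, 3], [6, 7, 8, 9], [6], [8], [9]]
def wG : List (List ℕ) := [[0], [1], [3], [6], [3, 8, 9], [3, 6, 7, 9], [4, 6, 8], [1, 3], [0, 1], [0, 1, 4]]

theorem exists_mul_of_mem_pcL {l₁ l₂ : List ℕ} (h₁ : ∀ a ∈ l₁, Has ⊤ a) (h₂ : ∀ a ∈ l₂, Has ⊤ a) :
    ∀ a ∈ pcL (l₁ ++ l₂), ∃ d q : P24, code d ∈ pcL l₁ ∧ q ∈ gp l₂ ∧ code (d * q) = a := by
  induction l₁ with
  | nil =>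
    intro a ha
    obtain ⟨q, hq, rfl⟩ := has_pcL (has_gp h₂) a ha
    exact ⟨1, q, by rw [code_one]; exact List.mem_singleton.2 rfl, hq, by rw [one_mul]⟩
  | cons g r ih =>
    intro a ha
    have ih' := ih fun b hb => h₁ b (by simp [hb])
    rw [List.cons_append, pcL_cons, List.mem_append, List.mem_map] at ha
    rcases ha with ha | ⟨b, hb, rfl⟩
    · obtain ⟨d, q, h1, h2, h3⟩ := ih' a ha
      exact ⟨d, q, List.mem_append_left _ h1, h2, h3⟩
    · obtain ⟨d, q, h1, h2, rfl⟩ := ih' b hb
      obtain ⟨x, _, rfl⟩ := h₁ g (by simp)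
      exact ⟨x * d, q, List.mem_append_right _ (List.mem_map.2 ⟨_, h1, (code_mul _ _).symm⟩), h2,
        by rw [mul_assoc, code_mul]⟩

theorem has_of_words {H : Subgroup P24} {l l' : List ℕ} (w : List (List ℕ)) (hl : ∀ a ∈ l, Has H a)
    (h : w.map (word l) = l') : ∀ a ∈ l', Has H a := by
  intro a ha
  obtain ⟨u, _, rfl⟩ := List.mem_map.1 (h ▸ ha)
  exact has_word hl u

/-- commutation modulo the centre -/
noncomputable def cz (a b : ℕ) : Bool :=
  or (Nat.beq (comp a b) (comp b a)) (Nat.beq (comp a b) (comp sylZ24 (comp b a)))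

abbrev T : Subgroup P24 := gp syl24

theorem hasT : ∀ a ∈ syl24, Has T a := has_gp has_top_syl24
theorem has_dq : ∀ a ∈ dT ++ qT, Has T a := has_of_words wT3 hasT (by decide +kernel)
theorem has_gu : ∀ a ∈ gT ++ uT, Has T a := has_of_words wG hasT (by decide +kernel)
theorem has_q : ∀ a ∈ qT, Has ⊤ a := fun a ha => (has_dq a (List.mem_append_right _ ha)).mono le_top
theorem has_d : ∀ a ∈ dT, Has T a := fun a ha => has_dq a (List.mem_append_left _ ha)
theorem pcOK_q : pcOK qT = true := by decide +kernel
theorem card_Q : Nat.card (gp qT) = 2 ^ 7 :=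
  card_gp has_q pcOK_q qSlp qChain (by decide +kernel) (by decide +kernel) (by decide +kernel)
theorem Q_le : gp qT ≤ T := gp_le fun a ha => has_dq a (List.mem_append_right _ ha)

theorem decomp {x : P24} (hx : x ∈ T) : ∃ d q : P24, code d ∈ pcL dT ∧ q ∈ gp qT ∧ x = d * q := by
  have h1 : ∀ a ∈ dT ++ qT, Has ⊤ a := fun a ha => (has_dq a ha).mono le_top
  have h2 : T ≤ gp (dT ++ qT) := gp_le (has_of_words wT2 (has_gp h1) (by decide +kernel))
  obtain ⟨d, q, h3, h4, h5⟩ := exists_mul_of_mem_pcL (fun a ha => (has_d a ha).mono le_top) has_q _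
    (code_mem_pcL h1 (by decide +kernel) x (h2 hx))
  exact ⟨d, q, h3, h4, (code_injective h5).symm⟩

variable {S : Type*} [Group S] (π : T →* S)

/-- preimage in the ambient group -/
def amb (K : Subgroup S) : Subgroup P24 := (K.comap π).map T.subtype

theorem mem_amb {K : Subgroup S} {x : T} : (x : P24) ∈ amb π K ↔ π x ∈ K :=
  ⟨fun ⟨_, hy, e⟩ => Subtype.ext e ▸ hy, fun h => ⟨x, h, rfl⟩⟩

theorem amb_le (K : Subgroup S) : amb π K ≤ T := by rintro _ ⟨y, _, rfl⟩; exact y.2

variable {π} (hs : Function.Surjective π) (hk : ∀ x, π x = 1 ↔ code x = idc ∨ code x = sylZ24)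

theorem exists_z : ∃ z : T, code z = sylZ24 := by
  obtain ⟨z, hz, e⟩ := hasT sylZ24 (by decide)
  exact ⟨⟨z, hz⟩, e⟩

include hk in
theorem eq_iff (u v : T) : π u = π v ↔ code u = code v ∨ code u = comp sylZ24 (code v) := by
  obtain ⟨z, hz⟩ := exists_z
  rw [← mul_inv_eq_one, ← map_inv, ← map_mul, hk, code_eq_idc, ← hz, ← code_mul, code_injective.eq_iff,
    code_injective.eq_iff, code_injective.eq_iff]
  simp only [Subgroup.coe_mul, Subgroup.coe_inv, mul_inv_eq_iff_eq_mul, one_mul]

include hk in
theorem comm_iff (u v : T) : π u * π v = π v * π u ↔ cz (code u) (code v) = true := by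
  rw [← map_mul, ← map_mul, eq_iff hk]
  simp [cz, code_mul, Nat.beq_eq]

include hs hk in
theorem card_S : Nat.card S = 512 := by
  have h1 : Nat.card π.ker = 2 := by
    obtain ⟨z, hz⟩ := exists_z
    refine (Nat.card_eq_two_iff' 1).2 ⟨⟨z, (hk z).2 (Or.inr hz)⟩, fun h => ?_, fun y hy => ?_⟩
    · have : code z = idc := code_eq_idc.2 (congrArg (fun t : π.ker => ((t : T) : P24)) h)
      exact absurd (hz.symm.trans this) (by decide)
    · rcases (hk y).1 y.2 with h | h
      · exact absurd (Subtype.ext (Subtype.ext (code_eq_idc.1 h))) hy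
      · exact Subtype.ext (Subtype.ext (code_injective (h.trans hz.symm)))
  have h2 := π.ker.card_mul_index
  rw [h1, Subgroup.index_ker, MonoidHom.range_eq_top.2 hs, Subgroup.card_top, card_syl24] at h2
  omega

include hs hk in
theorem card_amb (K : Subgroup S) : Nat.card (amb π K) = 2 * Nat.card K := by
  have h1 := (K.comap π).card_mul_index
  have h2 := K.card_mul_index
  rw [Subgroup.index_comap_of_surjective _ hs, card_syl24] at h1
  rw [card_S hs hk] at h2
  rw [amb, Subgroup.card_subtype]
  have h3 : 0 < K.index := Nat.pos_of_ne_zero fun h => by rw [h] at h2; omega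
  apply Nat.eq_of_mul_eq_mul_right h3
  rw [h1, mul_assoc, h2]; norm_num

include hs hk in
theorem bound (K : Subgroup S) (tests L : List ℕ) (n : ℕ)
    (h : ∀ a ∈ tests, Has (amb π (Subgroup.centralizer K)) a) (hL : ∀ x ∈ amb π K, code x ∈ L)
    (hc : Nat.ble (L.filter fun a => allL tests fun t => cz a t).length (2 * n) = true) :
    Nat.card K ≤ n := by
  have h1 := card_le_of_code_mem (H := amb π K) (L := L.filter fun a => allL tests fun t => cz a t) (by
    intro x hx
    refine List.mem_filter.2 ⟨hL x hx, (allL_iff _ _).2 fun t ht => ?_⟩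
    obtain ⟨_, ⟨y, hy, rfl⟩, rfl⟩ := h t ht
    obtain ⟨u, hu, rfl⟩ := hx
    exact (comm_iff hk u y).1 (hy _ hu))
  rw [card_amb hs hk] at h1
  have := Nat.le_of_ble_eq_true hc
  omega

include hs hk in
theorem part1 (M : Subgroup S) (hM : IsCoatom M) : Nat.card (Subgroup.center M) ≤ 8 := by
  have : Finite S := Nat.finite_of_card_ne_zero (by rw [card_S hs hk]; norm_num)
  have hi : M.index = 2 := CfsgLib.PGroup.index_eq_prime_of_isCoatom
    (IsPGroup.of_card (n := 9) (by rw [card_S hs hk]; norm_num)) hM
  have hmul : ∀ a b, Has T a → Has T b → ¬ Has (amb π M) a → ¬ Has (amb π M) b →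
      Has (amb π M) (comp a b) := by
    rintro _ _ ⟨x, hx, rfl⟩ ⟨y, hy, rfl⟩ h1 h2
    refine ⟨x * y, (mem_amb π (x := ⟨x, hx⟩ * ⟨y, hy⟩)).2 ?_, code_mul _ _⟩
    rw [map_mul, Subgroup.mul_mem_iff_of_index_two hi]
    exact iff_of_false (fun h => h1 ⟨x, (mem_amb π (x := ⟨x, hx⟩)).2 h, rfl⟩)
      (fun h => h2 ⟨y, (mem_amb π (x := ⟨y, hy⟩)).2 h, rfl⟩)
  have hsq : ∀ a ∈ uT.map fun u => comp u u, Has (amb π M) a := by
    intro a ha
    obtain ⟨u, hu, rfl⟩ := List.mem_map.1 ha
    by_cases h : Has (amb π M) u
    · exact h.comp h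
    · exact hmul _ _ (has_gu u (List.mem_append_right _ hu)) (has_gu u (List.mem_append_right _ hu)) h h
  rw [← Subgroup.card_subtype M (Subgroup.center M)]
  have key : ∀ l : List ℕ, (∀ a ∈ l, Has (amb π M) a) → Nat.ble ((pcL syl24).filter fun a =>
      allL (l ++ uT.map fun u => comp u u) fun t => cz a t).length (2 * 8) = true →
      Nat.card ((Subgroup.center M).map M.subtype) ≤ 8 := by
    intro l hl
    refine bound hs hk _ _ _ 8 (fun a ha => Has.mono ?_ ((List.mem_append.1 ha).elim (hl a) (hsq a)))
      fun x hx => code_mem_pcL has_top_syl24 pcOK24 x (amb_le π _ hx)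
    refine Subgroup.map_mono (Subgroup.comap_mono fun m hm => ?_)
    rintro _ ⟨c, hc, rfl⟩
    exact congrArg Subtype.val (Subgroup.mem_center_iff.1 hc ⟨m, hm⟩).symm
  have g0 := has_gu 112498419363478465068426720085990401 (by decide)
  have g1 := has_gu 984612649355406094121217942427387040 (by decide)
  have g2 := has_gu 984724508489452699215480746259449888 (by decide)
  have g3 := has_gu 979121071158219704299181131031480352 (by decide)
  have three : ∀ {a b c : ℕ}, Has (amb π M) a → Has (amb π M) b → Has (amb π M) c →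
      ∀ x ∈ [a, b, c], Has (amb π M) x := by
    intro a b c ha hb hc x hx
    simp only [List.mem_cons, List.not_mem_nil, or_false] at hx
    rcases hx with rfl | rfl | rfl <;> assumption
  by_cases h0 : Has (amb π M) 112498419363478465068426720085990401
  · by_cases h1 : Has (amb π M) 984612649355406094121217942427387040
    · by_cases h2 : Has (amb π M) 984724508489452699215480746259449888
      · by_cases h3 : Has (amb π M) 979121071158219704299181131031480352
        · exfalso
          apply hM.1
          have h : T ≤ amb π M := gp_le (has_of_words (l := gT) wT (by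
            intro a ha
            simp only [gT, List.mem_cons, List.not_mem_nil, or_false] at ha
            rcases ha with rfl | rfl | rfl | rfl <;> assumption) (by decide +kernel))
          rw [eq_top_iff]
          intro s _
          obtain ⟨x, rfl⟩ := hs s
          exact (mem_amb π).1 (h x.2)
        · exact key [112498419363478465068426720085990401, 984612649355406094121217942427387040, 984724508489452699215480746259449888] (three (h0) (h1) (h2)) (by decide +kernel)
      · by_cases h3 : Has (amb π M) 979121071158219704299181131031480352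
        · exact key [112498419363478465068426720085990401, 984612649355406094121217942427387040, 979121071158219704299181131031480352] (three (h0) (h1) (h3)) (by decide +kernel)
        · exact key [112498419363478465068426720085990401, 984612649355406094121217942427387040, comp 984724508489452699215480746259449888 979121071158219704299181131031480352] (three (h0) (h1) (hmul _ _ g2 g3 h2 h3)) (by decide +kernel)
    · by_cases h2 : Has (amb π M) 984724508489452699215480746259449888
      · by_cases h3 : Has (amb π M) 979121071158219704299181131031480352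
        · exact key [112498419363478465068426720085990401, 984724508489452699215480746259449888, 979121071158219704299181131031480352] (three (h0) (h2) (h3)) (by decide +kernel)
        · exact key [112498419363478465068426720085990401, 984724508489452699215480746259449888, comp 984612649355406094121217942427387040 979121071158219704299181131031480352] (three (h0) (h2) (hmul _ _ g1 g3 h1 h3)) (by decide +kernel)
      · by_cases h3 : Has (amb π M) 979121071158219704299181131031480352
        · exact key [112498419363478465068426720085990401, comp 984612649355406094121217942427387040 984724508489452699215480746259449888, 979121071158219704299181131031480352] (three (h0) (hmul _ _ g1 g2 h1 h2) (h3)) (by decide +kernel)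
        · exact key [112498419363478465068426720085990401, comp 984612649355406094121217942427387040 984724508489452699215480746259449888, comp 984612649355406094121217942427387040 979121071158219704299181131031480352] (three (h0) (hmul _ _ g1 g2 h1 h2) (hmul _ _ g1 g3 h1 h3)) (by decide +kernel)
  · by_cases h1 : Has (amb π M) 984612649355406094121217942427387040
    · by_cases h2 : Has (amb π M) 984724508489452699215480746259449888
      · by_cases h3 : Has (amb π M) 979121071158219704299181131031480352
        · exact key [984612649355406094121217942427387040, 984724508489452699215480746259449888, 979121071158219704299181131031480352] (three (h1) (h2) (h3)) (by decide +kernel)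
        · exact key [984612649355406094121217942427387040, 984724508489452699215480746259449888, comp 112498419363478465068426720085990401 979121071158219704299181131031480352] (three (h1) (h2) (hmul _ _ g0 g3 h0 h3)) (by decide +kernel)
      · by_cases h3 : Has (amb π M) 979121071158219704299181131031480352
        · exact key [984612649355406094121217942427387040, comp 112498419363478465068426720085990401 984724508489452699215480746259449888, 979121071158219704299181131031480352] (three (h1) (hmul _ _ g0 g2 h0 h2) (h3)) (by decide +kernel)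
        · exact key [984612649355406094121217942427387040, comp 112498419363478465068426720085990401 984724508489452699215480746259449888, comp 112498419363478465068426720085990401 979121071158219704299181131031480352] (three (h1) (hmul _ _ g0 g2 h0 h2) (hmul _ _ g0 g3 h0 h3)) (by decide +kernel)
    · by_cases h2 : Has (amb π M) 984724508489452699215480746259449888
      · by_cases h3 : Has (amb π M) 979121071158219704299181131031480352
        · exact key [comp 112498419363478465068426720085990401 984612649355406094121217942427387040, 984724508489452699215480746259449888, 979121071158219704299181131031480352] (three (hmul _ _ g0 g1 h0 h1) (h2) (h3)) (by decide +kernel)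
        · exact key [comp 112498419363478465068426720085990401 984612649355406094121217942427387040, 984724508489452699215480746259449888, comp 112498419363478465068426720085990401 979121071158219704299181131031480352] (three (hmul _ _ g0 g1 h0 h1) (h2) (hmul _ _ g0 g3 h0 h3)) (by decide +kernel)
      · by_cases h3 : Has (amb π M) 979121071158219704299181131031480352
        · exact key [comp 112498419363478465068426720085990401 984612649355406094121217942427387040, comp 112498419363478465068426720085990401 984724508489452699215480746259449888, 979121071158219704299181131031480352] (three (hmul _ _ g0 g1 h0 h1) (hmul _ _ g0 g2 h0 h2) (h3)) (by decide +kernel)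
        · exact key [comp 112498419363478465068426720085990401 984612649355406094121217942427387040, comp 112498419363478465068426720085990401 984724508489452699215480746259449888, comp 112498419363478465068426720085990401 979121071158219704299181131031480352] (three (hmul _ _ g0 g1 h0 h1) (hmul _ _ g0 g2 h0 h2) (hmul _ _ g0 g3 h0 h3)) (by decide +kernel)

/-- the image of the extraspecial group -/
def A0 (π : T →* S) : Subgroup S := ((gp qT).subgroupOf T).map π

include hk in
theorem amb_A0 : amb π (A0 π) = gp qT := by
  refine le_antisymm ?_ fun x hx => (mem_amb π (K := A0 π) (x := ⟨x, Q_le hx⟩)).2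
    ⟨⟨x, Q_le hx⟩, hx, rfl⟩
  rintro _ ⟨x, ⟨y, hy, e⟩, rfl⟩
  rcases (eq_iff hk x y).1 e.symm with h | h
  · show (x : P24) ∈ _
    rw [code_injective h]; exact hy
  · apply Has.mem
    show Has _ (code (x : P24))
    rw [h]
    exact (has_gp has_q sylZ24 (by decide)).comp ⟨y, hy, rfl⟩

include hs hk in
theorem card_A0 : Nat.card (A0 π) = 64 := by
  have := card_amb hs hk (A0 π)
  rw [amb_A0 hk, card_Q] at this
  omega

include hk in
theorem A0_comm : ∀ a ∈ A0 π, ∀ b ∈ A0 π, a * b = b * a := by
  have h : ∀ a ∈ pcL qT, ∀ b ∈ qT, cz a b = true := by decide +kernel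
  rintro _ ⟨x, hx, rfl⟩ _ ⟨y, hy, rfl⟩
  have h2 : gp qT ≤ amb π (Subgroup.centralizer {π x}) := gp_le fun b hb => by
    obtain ⟨u, hu, rfl⟩ := has_dq b (List.mem_append_right _ hb)
    exact ⟨u, (mem_amb π (x := ⟨u, hu⟩)).2 (Subgroup.mem_centralizer_singleton_iff.2
      ((comm_iff hk x ⟨u, hu⟩).2 (h _ (code_mem_pcL has_q pcOK_q x hx) _ hb)).symm), rfl⟩
  exact (Subgroup.mem_centralizer_singleton_iff.1 ((mem_amb π).1 (h2 hy))).symm

include hk in
theorem A0_sq : ∀ a ∈ A0 π, a ^ 2 = 1 := by
  have h : ∀ a ∈ pcL qT, comp a a = idc ∨ comp a a = sylZ24 := by decide +kernel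
  rintro _ ⟨x, hx, rfl⟩
  rw [← map_pow, hk, pow_two, Subgroup.coe_mul, code_mul]
  exact h _ (code_mem_pcL has_q pcOK_q x hx)

include hs hk in
theorem part3 (A : Subgroup S) (hA : ∀ a ∈ A, ∀ b ∈ A, a * b = b * a) (hc : Nat.card A = 64) :
    A = A0 π := by
  classical
  have : Finite S := Nat.finite_of_card_ne_zero (by rw [card_S hs hk]; norm_num)
  let hit : ℕ → Prop := fun a => ∃ d : T, code d = a ∧ ∃ q ∈ A0 π, π d * q ∈ A
  let H : Finset ℕ := (pcL dT).toFinset.filter hit
  have hcen : ∀ a ∈ H, Has (amb π (Subgroup.centralizer (A ⊓ A0 π : Subgroup S))) a := by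
    intro a ha
    obtain ⟨d, rfl, q, hq, h⟩ := (Finset.mem_filter.1 ha).2
    refine ⟨d, (mem_amb π).2 fun b hb => ?_, rfl⟩
    have h1 := hA b hb.1 _ h
    have h2 := A0_comm hk b hb.2 q hq
    apply mul_right_cancel (b := q)
    rw [mul_assoc, h1, mul_assoc, mul_assoc, h2]
  have hL : ∀ x ∈ amb π (A ⊓ A0 π), code x ∈ pcL qT := fun x hx =>
    code_mem_pcL has_q pcOK_q x (amb_A0 hk ▸ Subgroup.map_mono (Subgroup.comap_mono inf_le_right) hx)
  have hdec : ∀ a ∈ A, ∃ d : T, code d ∈ H ∧ ∃ q ∈ A0 π, π d * q = a := by
    intro a ha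
    obtain ⟨x, rfl⟩ := hs a
    obtain ⟨d, q, h1, h2, h3⟩ := decomp x.2
    have hd : d ∈ T := (has_pcL has_d _ h1).mem
    have e : π ⟨d, hd⟩ * π ⟨q, Q_le h2⟩ = π x := by rw [← map_mul]; congr 1; exact Subtype.ext h3.symm
    have hq : π ⟨q, Q_le h2⟩ ∈ A0 π := ⟨_, h2, rfl⟩
    exact ⟨⟨d, hd⟩, Finset.mem_filter.2 ⟨List.mem_toFinset.2 h1, ⟨d, hd⟩, rfl, _, hq, e ▸ ha⟩, _, hq, e⟩
  have hcount : Nat.card A ≤ H.card * Nat.card (A ⊓ A0 π : Subgroup S) := by
    have h1 : ∀ a : H, ∃ d : T, code d = a ∧ ∃ q ∈ A0 π, π d * q ∈ A := fun a =>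
      (Finset.mem_filter.1 a.2).2
    choose d hd q hq hdq using h1
    rw [← Nat.card_eq_finsetCard, ← Nat.card_prod]
    refine Nat.card_le_card_of_surjective
      (fun p : H × (A ⊓ A0 π : Subgroup S) => (⟨_, A.mul_mem (hdq p.1) p.2.2.1⟩ : A)) ?_
    rintro ⟨a, ha⟩
    obtain ⟨d', h2, q', h3, rfl⟩ := hdec a ha
    have e : d ⟨_, h2⟩ = d' := Subtype.ext (code_injective (hd ⟨_, h2⟩))
    have h4 := hdq ⟨_, h2⟩
    rw [e] at h4
    refine ⟨⟨⟨_, h2⟩, (q ⟨_, h2⟩)⁻¹ * q', ?_, (A0 π).mul_mem ((A0 π).inv_mem (hq _)) h3⟩, Subtype.ext ?_⟩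
    · have := A.mul_mem (A.inv_mem h4) ha
      rwa [show (π d' * q ⟨_, h2⟩)⁻¹ * (π d' * q') = (q ⟨_, h2⟩)⁻¹ * q' by group] at this
    · show π (d _) * q _ * _ = _
      rw [e]; group
  have hsub : H.erase idc ⊆ (pcL dT).toFinset.erase idc :=
    Finset.erase_subset_erase _ (Finset.filter_subset _ _)
  have h7 : ((pcL dT).toFinset.erase idc).card = 7 := by decide +kernel
  have h8 := Finset.pred_card_le_card_erase (s := H) (a := idc)
  rw [hc] at hcount
  by_cases h0 : (H.erase idc).card = 0
  · refine eq_of_le_of_card_le (fun a ha => ?_) (by rw [card_A0 hs hk, hc])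
    obtain ⟨d, h1, q, h2, rfl⟩ := hdec a ha
    have : code d = idc := by
      by_contra h
      exact Finset.notMem_empty _ (Finset.card_eq_zero.1 h0 ▸ Finset.mem_erase.2 ⟨h, h1⟩)
    rwa [(hk d).2 (Or.inl this), one_mul]
  exfalso
  have b1 : ∀ a ∈ pcL dT, a = idc ∨ Nat.ble ((pcL qT).filter fun x => allL [a] fun t => cz x t).length
    (2 * 16) = true := by decide +kernel
  have b2 : ∀ a ∈ pcL dT, ∀ b ∈ pcL dT, a = idc ∨ b = idc ∨ a = b ∨
    Nat.ble ((pcL qT).filter fun x => allL [a, b] fun t => cz x t).length (2 * 8) = true := by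
    decide +kernel
  have b3 : ∃ a ∈ pcL dT, a ≠ idc ∧
    Nat.ble ((pcL qT).filter fun x => allL [a] fun t => cz x t).length (2 * 4) = true := by
    decide +kernel
  have hD : ∀ a ∈ H, a ∈ pcL dT := fun a ha => List.mem_toFinset.1 (Finset.mem_filter.1 ha).1
  by_cases h1 : (H.erase idc).card = 1
  · obtain ⟨a, ha⟩ := Finset.card_pos.1 (Nat.pos_of_ne_zero h0)
    obtain ⟨ha1, ha2⟩ := Finset.mem_erase.1 ha
    have := bound hs hk _ [a] _ 16 (by simpa using hcen a ha2) hL ((b1 a (hD a ha2)).resolve_left ha1)
    have := Nat.mul_le_mul (show H.card ≤ 2 by omega) this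
    omega
  by_cases h2 : (H.erase idc).card = 7
  · obtain ⟨a, ha, ha1, ha2⟩ := b3
    have h3 : a ∈ H.erase idc := Finset.eq_of_subset_of_card_le hsub (by omega) ▸
      Finset.mem_erase.2 ⟨ha1, List.mem_toFinset.2 ha⟩
    have := bound hs hk _ [a] _ 4 (by simpa using hcen a (Finset.mem_erase.1 h3).2) hL ha2
    have := Nat.mul_le_mul (show H.card ≤ 8 by omega) this
    omega
  · obtain ⟨a, ha, b, hb, hab⟩ := Finset.one_lt_card.1 (show 1 < (H.erase idc).card by omega)
    obtain ⟨ha1, ha2⟩ := Finset.mem_erase.1 ha
    obtain ⟨hb1, hb2⟩ := Finset.mem_erase.1 hb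
    have := bound hs hk _ [a, b] _ 8 (by simpa using ⟨hcen a ha2, hcen b hb2⟩) hL
      ((((b2 a (hD a ha2) b (hD b hb2)).resolve_left ha1).resolve_left hb1).resolve_left hab)
    have h4 := Finset.card_le_card hsub
    have := Nat.mul_le_mul (show H.card ≤ 7 by omega) this
    omega

/-- Let P be a Sylow 2-subgroup of the Mathieu group of degree 24 and S the quotient of P by its centre. Then the centre of every maximal subgroup of S has order at most 8; S has an elementary abelian subgroup of order 64; and S has only one abelian subgroup of order 64. -/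
theorem result (P : Sylow 2 ↥Cfsg.M24) :
    (∀ M : Subgroup (↥(P : Subgroup ↥Cfsg.M24) ⧸ Subgroup.center ↥(P : Subgroup ↥Cfsg.M24)), IsCoatom M →
        Nat.card ↥(Subgroup.center ↥M) ≤ 8) ∧
      (∃ A : Subgroup (↥(P : Subgroup ↥Cfsg.M24) ⧸ Subgroup.center ↥(P : Subgroup ↥Cfsg.M24)),
        Cfsg.IsElementaryAbelian 2 A ∧ Nat.card ↥A = 64) ∧
      ∀ A B : Subgroup (↥(P : Subgroup ↥Cfsg.M24) ⧸ Subgroup.center ↥(P : Subgroup ↥Cfsg.M24)),
        IsMulCommutative ↥A → Nat.card ↥A = 64 → IsMulCommutative ↥B → Nat.card ↥B = 64 → A = B := by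
  obtain ⟨e⟩ := sylow24_equiv P
  let π : T →* _ := (QuotientGroup.mk' (Subgroup.center (P : Subgroup M24))).comp e.symm.toMonoidHom
  have hs : Function.Surjective π := (QuotientGroup.mk'_surjective _).comp e.symm.surjective
  have hk : ∀ x, π x = 1 ↔ code x = idc ∨ code x = sylZ24 := by
    intro x
    have h1 : π x = 1 ↔ ∀ t : T, t * x = x * t := by
      refine (QuotientGroup.eq_one_iff _).trans (Subgroup.mem_center_iff.trans
        ⟨fun h t => e.symm.injective (by rw [map_mul, map_mul]; exact h _), fun h t => ?_⟩)
      apply e.injective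
      simpa using h (e t)
    rw [h1]
    constructor
    · intro h
      by_cases h2 : (x : P24) = 1
      · exact Or.inl (code_eq_idc.2 h2)
      · exact Or.inr (code_eq_of_cenOK has_top_syl24 pcOK24 cenOK24 x.2 h2
          fun t ht => congrArg Subtype.val (h ⟨t, ht⟩))
    · rintro (h | h) t
      · rw [show x = 1 from Subtype.ext (code_eq_idc.1 h), mul_one, one_mul]
      · have h2 : (x : P24) = z2A := code_injective (h.trans code_z2A.symm)
        exact Subtype.ext (by
          have := Subgroup.mem_centralizer_singleton_iff.1 (syl24_le_cent t.2).2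
          rwa [← h2] at this)
  have h3 : ∀ A : Subgroup (_ ⧸ Subgroup.center (P : Subgroup M24)), IsMulCommutative ↥A → Nat.card ↥A = 64 → A = A0 π := fun A hA hc =>
    part3 hs hk A (fun a ha b hb => congrArg Subtype.val (hA.is_comm.comm ⟨a, ha⟩ ⟨b, hb⟩)) hc
  exact ⟨part1 hs hk, ⟨A0 π, ⟨⟨⟨fun a b => Subtype.ext (A0_comm hk _ a.2 _ b.2)⟩⟩, A0_sq hk⟩,
    card_A0 hs hk⟩, fun A B hA hAc hB hBc => (h3 A hA hAc).trans (h3 B hB hBc).symm⟩

end Cfsg.Agent.S3171
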