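import Cfsg.Statements.S1762
import Cfsg.Agent.Lib.LXQ.Main
import Cfsg.Agent.Lib.SylT.L5i

set_option autoImplicit false
open Cfsg CfsgLib CfsgLib.LXQ CfsgLib.LargeExtra

namespace Cfsg.Agent.S1762

/-- Let G be a non-abelian finite simple group and let z be an involution of G such that Q, the generalized Fitting subgroup of the centralizer C of z, is a 2-group of symplectic type (every characteristic abelian subgroup of Q is cyclic); suppose moreover that Q is extraspecial of order 2^7. Then G is isomorphic to the projective special linear group of dimension 5 over the field with 2 elements, the projective special unitary group of dimension 5 over the field with 4 elements, the Mathieu group of degree 24, the Held group, or the sporadic Suzuki group. -/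
theorem result {G : Type*} [Group G] [Finite G] [IsSimpleGroup G]
    (hG : ¬ IsMulCommutative G) (z : G) (hz : orderOf z = 2) (hQ : Cfsg.IsOfSymplecticType ↥(Cfsg.generalizedFittingSubgroup ↥(Subgroup.centralizer ({z} : Set G)))) (hE : Cfsg.IsExtraspecial 2 ↥(Cfsg.generalizedFittingSubgroup ↥(Subgroup.centralizer ({z} : Set G)))) (hcard : Nat.card ↥(Cfsg.generalizedFittingSubgroup ↥(Subgroup.centralizer ({z} : Set G))) = 2 ^ 7) :
    (∃ (F : Type) (_ : Field F) (_ : Fintype F), Fintype.card F = 2 ∧ Nonempty (G ≃* Matrix.ProjectiveSpecialLinearGroup (Fin 5) F)) ∨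
      (∃ (F : Type) (_ : Field F) (_ : Fintype F), Fintype.card F = 4 ∧ Nonempty (G ≃* Cfsg.PSU 5 F 2)) ∨
      Cfsg.Spor.IsoM24 G ∨ Cfsg.Spor.IsoHe G ∨ Cfsg.Spor.IsoSuz G := by
  have hp := pre_of_fstar hz _ rfl hE
  have hF := pCore_eq_of_fstar rfl (IsPGroup.of_card hcard)
  have h : Hyp z := ⟨by rwa [Qx, hF], by rw [Qx, hF, card_amb, hcard]; rfl⟩
  by_cases wc : WC z
  · exact .inr (.inl ⟨_, _, _, Classical.card_GF4, h.psu wc⟩)
  obtain ⟨c⟩ := h.exists_cd
  simp only [WC, not_forall] at wc
  obtain ⟨t, h1, h2, h3⟩ := wc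
  obtain ⟨ε⟩ := SylT.TL.psl_equiv (ZMod.card 2)
  rcases c.suz hF.symm (hF ▸ hE) h2 h1 h3 with (⟨⟨e⟩⟩ | e | e) | e
  exacts [.inl ⟨_, _, _, ZMod.card 2, ⟨e.trans ε⟩⟩, .inr (.inr (.inl e)),
    .inr (.inr (.inr (.inl e))), .inr (.inr (.inr (.inr e)))]

end Cfsg.Agent.S1762
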