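import Mathlib
-- Template for statement S3017 (row 3017; see /opt/grader/pristine/manifest.json for weights).
-- Copy to Cfsg/Agent/S3017.lean and replace the sorry. The statement below is byte-identical to the frozen
-- statement Cfsg.CfsgFrozen.S3017 (Cfsg/Statements/S3017.lean; the theorem Cfsg.lsp3_extremely_closed_abelian_two_subgroup_factorization);
-- the grader kernel-checks Cfsg.Agent.S3017.result against that frozen type. Keep the theorem IN THIS FILE
-- (a `result` declared elsewhere and merely imported here is not credited); helpers may live anywhere
-- under Cfsg/Agent/.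
import Cfsg.Statements.S3017
import Cfsg.Agent.Lib.Gold.All
import Cfsg.Agent.Lib.Gold.Cor2

set_option autoImplicit false
open Cfsg

namespace Cfsg.Agent.S3017

/-- Let G be a finite group and H an abelian 2-subgroup of G that is extremely closed (for every g, the subgroup generated by H and g H g⁻¹ meets N_G(H) exactly in H). Then G = N_G(H) O(G), where O(G) is the largest normal subgroup of odd order. For H of order 2 this is Glauberman's Z*-statement. -/
theorem result {G : Type*} [Group G] [Finite G] (H : Subgroup G) (hH2 : IsPGroup 2 H) (hHab : IsMulCommutative H) (hcl : Cfsg.IsExtremelyClosed H) : Subgroup.normalizer (H : Set G) ⊔ Cfsg.oddCore G = ⊤ := by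
  exact CfsgLib.Gold.Cor.s3017 CfsgLib.Gold.all.inp H hH2 hHab hcl

end Cfsg.Agent.S3017
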