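import Mathlib
import Cfsg.Statements.S0082
import Cfsg.Agent.Lib.Transfer.Abelian

set_option autoImplicit false
open Cfsg

namespace Cfsg.Agent.S0082

theorem eq_top_or_eq_top {P : Type*} [Group P] [Finite P] {p : ℕ} [hp : Fact p.Prime]
    (hP : IsPGroup p P) [IsCyclic P] (A C : Subgroup P) (h : A ⊔ C = ⊤) : A = ⊤ ∨ C = ⊤ := by
  by_contra hc
  rw [not_or] at hc
  obtain ⟨g, hg⟩ := IsCyclic.exists_ofOrder_eq_natCard (α := P)
  obtain ⟨n, hn⟩ := hP.exists_card_eq
  have key : ∀ B : Subgroup P, B ≠ ⊤ → n ≠ 0 ∧ ∀ b ∈ B, b ^ p ^ (n - 1) = 1 := by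
    intro B hB
    obtain ⟨m, hm, e⟩ := (Nat.dvd_prime_pow hp.out).mp (hn ▸ B.card_subgroup_dvd_card)
    have h1 := CfsgLib.Core.card_lt_of_ne_top hB
    rw [e, hn, Nat.pow_lt_pow_iff_right hp.out.one_lt] at h1
    refine ⟨by omega, fun b hb => orderOf_dvd_iff_pow_eq_one.mp ?_⟩
    exact (B.orderOf_dvd_natCard hb).trans (e ▸ pow_dvd_pow p (by omega))
  have hA : A.Normal := Subgroup.normal_of_isMulCommutative A
  have : g ∈ A ⊔ C := h ▸ Subgroup.mem_top g
  rw [← SetLike.mem_coe, Subgroup.normal_mul] at this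
  obtain ⟨a, ha, c, hc', rfl⟩ := this
  have hcomm : Commute a c := mul_comm' a c
  have h2 : (a * c) ^ p ^ (n - 1) = 1 := by
    rw [hcomm.mul_pow, (key A hc.1).2 a ha, (key C hc.2).2 c hc', one_mul]
  have h3 := orderOf_dvd_of_pow_eq_one h2
  rw [hg, hn, Nat.pow_dvd_pow_iff_le_right hp.out.one_lt] at h3
  have := (key A hc.1).1
  omega


/-- With a cyclic Sylow p-subgroup, either there is a normal p-complement or the elements of order prime to p generate the whole group. -/
theorem result {G : Type*} [Group G] [Finite G] {p : ℕ} [Fact p.Prime] (P : Sylow p G) (hP : IsCyclic P) : Cfsg.HasNormalPComplement p G ∨ Cfsg.pResidual p G = ⊤ := by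
  have hc : IsMulCommutative P := IsCyclic.isMulCommutative
  have h2 := CfsgLib.Transfer.commutator_normalizer_sup_centralizer_of_abelian_sylow P hc
  rw [← CfsgLib.Transfer.pResidual_inf_eq_of_abelian_sylow P hc] at h2
  have hc' : IsCyclic (P : Subgroup G) := hP
  have h3 := eq_top_or_eq_top P.isPGroup' ((pResidual p G ⊓ P).subgroupOf P)
    (((P : Subgroup G) ⊓ Subgroup.centralizer
      (Subgroup.normalizer ((P : Subgroup G) : Set G) : Set G)).subgroupOf P) (by
    rw [← Subgroup.subgroupOf_sup inf_le_right inf_le_left, h2, Subgroup.subgroupOf_self])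
  rcases h3 with h3 | h3
  · right
    rw [Subgroup.subgroupOf_eq_top] at h3
    rw [eq_top_iff, ← CfsgLib.Transfer.pResidual_sup_sylow P]
    exact sup_le le_rfl (h3.trans inf_le_left)
  · left
    rw [Subgroup.subgroupOf_eq_top] at h3
    exact CfsgLib.Transfer.burnside_normal_complement P
      (Subgroup.le_centralizer_iff.mp (h3.trans inf_le_right))

end Cfsg.Agent.S0082
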