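import Cfsg.Statements.S0224
import Cfsg.Agent.Lib.StrEmb.Basic

set_option autoImplicit false
open Cfsg

namespace Cfsg.Agent.S0224

open CfsgLib.StrEmb

/-- Let H be a proper subgroup of even order of the finite group G. Then H is strongly embedded if and only if each involution of H fixes exactly one point (namely the coset H) in the action of G on the cosets of H. -/
theorem result {G : Type*} [Group G] [Finite G] (H : Subgroup G) (hH : H ≠ ⊤) (heven : Even (Nat.card H)) : Cfsg.IsStronglyEmbedded H ↔ ∀ t ∈ H, orderOf t = 2 → Nat.card {c : G ⧸ H // t • c = c} = 1 := by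
  constructor
  · intro h t _ ht
    obtain ⟨x, hx, hu⟩ := uniqueFix_of_isStronglyEmbedded h t ht
    exact Nat.card_eq_one_iff_exists.2 ⟨⟨x, hx⟩, fun y => Subtype.ext (hu y y.2)⟩
  · intro h
    refine isStronglyEmbedded_of hH (exists_involution_of_even heven) fun t htH ht g hg => ?_
    have := (Nat.card_eq_one_iff_unique.1 (h t htH ht)).1.elim ⟨_, smul_one_eq_iff.2 htH⟩
      ⟨_, smul_mk_eq_iff.2 hg⟩
    simpa using QuotientGroup.eq.1 (congrArg Subtype.val this)

end Cfsg.Agent.S0224
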