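import Cfsg.Statements.S0449
import Cfsg.Agent.Lib.JK.Main

set_option autoImplicit false
open Cfsg

namespace Cfsg.Agent.S0449

/-- Uniqueness of Janko's first group: two finite simple groups, each with a 2-central involution whose centraliser is isomorphic to (cyclic of order 2) × (alternating group of degree 5), are isomorphic. -/
theorem result {G H : Type*} [Group G] [Finite G] [IsSimpleGroup G] [Group H] [Finite H] [IsSimpleGroup H] (t : G) (u : H) (ht : Cfsg.IsTwoCentralInvolution t) (hu : Cfsg.IsTwoCentralInvolution u) (e : Subgroup.centralizer ({t} : Set G) ≃* Multiplicative (ZMod 2) × alternatingGroup (Fin 5)) (f : Subgroup.centralizer ({u} : Set H) ≃* Multiplicative (ZMod 2) × alternatingGroup (Fin 5)) : Nonempty (G ≃* H) := by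
  obtain ⟨h1, P, -, h2⟩ := ht
  obtain ⟨h3, Q, -, h4⟩ := hu
  exact ⟨(CfsgLib.JK.isoJ1_of_simple h1 P
    (fun x hx => Subgroup.mem_centralizer_singleton_iff.2 (h2 x hx)) e).some.trans
      (CfsgLib.JK.isoJ1_of_simple h3 Q
        (fun x hx => Subgroup.mem_centralizer_singleton_iff.2 (h4 x hx)) f).some.symm⟩

end Cfsg.Agent.S0449
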