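import Cfsg.Statements.S0470
import Cfsg.Agent.Lib.MonS.Main

set_option autoImplicit false
open Cfsg

namespace Cfsg.Agent.S0470

/-- In some simple group of the Monster's order there are elements of orders 3, 5 and 7 whose centralisers contain simple subgroups of the Thompson, Harada–Norton and Held orders respectively; the centraliser of the element of order 3 has order 3 · 90745943887872000. -/
theorem result : ∃ (G : Type) (_ : Group G) (_ : Finite G), Cfsg.IsM G ∧ (∃ x : G, orderOf x = 3 ∧ Nat.card (Subgroup.centralizer ({x} : Set G)) = 272237831663616000 ∧ ∃ K : Subgroup G, K ≤ Subgroup.centralizer ({x} : Set G) ∧ Cfsg.IsTh K) ∧ (∃ x : G, orderOf x = 5 ∧ ∃ K : Subgroup G, K ≤ Subgroup.centralizer ({x} : Set G) ∧ Cfsg.IsHN K) ∧ (∃ x : G, orderOf x = 7 ∧ ∃ K : Subgroup G, K ≤ Subgroup.centralizer ({x} : Set G) ∧ Cfsg.IsHe K) := by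
  have h := CfsgLib.MonK.ms_MU
  exact ⟨_, _, h.finite, h.isM, CfsgLib.MonS.odd_centralizers h⟩

end Cfsg.Agent.S0470
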