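import Cfsg.Statements.S0476
import Cfsg.Agent.Lib.J4.CBase
import Cfsg.Agent.Lib.LargeExtra.Setting

set_option autoImplicit false
open Cfsg

namespace Cfsg.Agent.S0476

open CfsgLib CfsgLib.J4 in

/-- In some simple group of the order of Janko's fourth group there is an involution whose centraliser C has a normal extraspecial subgroup Q of order 2 ^ 13, a normal subgroup N of order 3 · 2 ^ 13 containing Q, and a subgroup M of index 2 containing N as a normal subgroup with M / N simple of order 443520. -/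
theorem result : ∃ (G : Type) (_ : Group G) (_ : Finite G), Cfsg.IsJ4 G ∧ ∃ z : G, orderOf z = 2 ∧ ∃ (Q N M : Subgroup (Subgroup.centralizer ({z} : Set G))), Q.Normal ∧ N.Normal ∧ Q ≤ N ∧ N ≤ M ∧ Nat.card Q = 2 ^ 13 ∧ Cfsg.IsExtraspecial 2 Q ∧ Nat.card N = 3 * 2 ^ 13 ∧ M.index = 2 ∧ ∃ (_ : (N.subgroupOf M).Normal), Cfsg.IsM22 (M ⧸ N.subgroupOf M) := by
  let θ : Subgroup.centralizer ({uJ} : Set Spor.J4) →* M24E.P24 := MonoidHom.mk' (fun x => thJ x) fun x y =>
    baseJ.θ_mul _ _ (LargeExtra.mem_cent.1 x.2) (LargeExtra.mem_cent.1 y.2)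
  have h1 : θ.range = J4T.DD := le_antisymm (by rintro _ ⟨x, rfl⟩; exact baseJ.θ_mem _ (LargeExtra.mem_cent.1 x.2))
    fun p hp => let ⟨g, hg, e⟩ := baseJ.θ_surj p hp; ⟨⟨g, LargeExtra.mem_cent.2 hg⟩, e⟩
  have h2 : θ.ker = KJ.subgroupOf _ := Subgroup.ext fun x =>
    ⟨fun h => mem_KJ.2 ((show thJ x = 1 from h) ▸ thJ_spec (LargeExtra.mem_cent.1 x.2)), fun h => thJ_eq h⟩
  have h3 : Spor.M22 ≤ J4T.DD := fun g hg => (J4T.mem_M22.1 hg).1
  let φ : Spor.M22.comap θ →* Spor.M22 := (θ.comp (Subgroup.subtype _)).codRestrict _ fun x => x.2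
  have h4 : Function.Surjective φ := fun g => by
    obtain ⟨x, e⟩ := h1.ge (h3 g.2)
    exact ⟨⟨x, Subgroup.mem_comap.2 (e ▸ g.2)⟩, Subtype.ext e⟩
  have e := (QuotientGroup.quotientMulEquivOfEq (show θ.ker.subgroupOf (Spor.M22.comap θ) = φ.ker from
    Subgroup.ext fun x => ⟨fun h => Subtype.ext h, fun h => congrArg Subtype.val h⟩)).trans
    (QuotientGroup.quotientKerEquivOfSurjective φ h4)
  have := Mathieu.simple_M22
  refine ⟨Spor.J4, inferInstance, inferInstance, isJ4, uJ, es_EJ.orderOf_eq, EJ.subgroupOf _, θ.ker, Spor.M22.comap θ,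
    baseJ.pre.normal_subgroupOf, inferInstance, h2 ▸ Subgroup.subgroupOf_mono _ EJ_le,
    fun x hx => Subgroup.mem_comap.2 ((show θ x = 1 from hx) ▸ one_mem _),
    (Nat.card_congr (Subgroup.subgroupOfEquivOfLe baseJ.pre.le_cent).toEquiv).trans card_EJ,
    (es_EJ.subgroupOf baseJ.pre.le_cent).isExtraspecial, ?_, ?_, inferInstance, e.isSimpleGroup,
    (Nat.card_congr e.toEquiv).trans Mathieu.card_M22⟩
  · rw [h2, Nat.card_congr (Subgroup.subgroupOfEquivOfLe (H := KJ) fun x hx => LargeExtra.mem_cent.2 hx.1).toEquiv]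
    have h5 := Subgroup.card_dvd_of_le EJ_le
    have h6 := Subgroup.card_dvd_of_le (Subgroup.zpowers_le.2 rJ_mem)
    have : Fact (Nat.Prime 3) := ⟨by norm_num⟩
    rw [Nat.card_zpowers, orderOf_eq_prime rJ_three rJ_ne] at h6
    rw [card_EJ] at h5
    have h7 := card_KJ_le
    have h8 : 0 < Nat.card KJ := Nat.card_pos
    omega
  · have h5 := (Spor.M22.subgroupOf J4T.DD).card_mul_index
    rw [Nat.card_congr (Subgroup.subgroupOfEquivOfLe h3).toEquiv, Mathieu.card_M22, J4T.card_DD] at h5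
    rw [Subgroup.index_comap, h1, Subgroup.relIndex]
    omega

end Cfsg.Agent.S0476
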