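import Mathlib
-- Template for statement S0504 (row 504; see /opt/grader/pristine/manifest.json for weights).
-- Copy to Cfsg/Agent/S0504.lean and replace the sorry. The statement below is byte-identical to the frozen
-- statement Cfsg.CfsgFrozen.S0504 (Cfsg/Statements/S0504.lean; the theorem Cfsg.noncomponent_type_connected_is_characteristic_two_type);
-- the grader kernel-checks Cfsg.Agent.S0504.result against that frozen type. Keep the theorem IN THIS FILE
-- (a `result` declared elsewhere and merely imported here is not credited); helpers may live anywhere
-- under Cfsg/Agent/.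
import Cfsg.Statements.S0504
import Cfsg.Agent.Lib.Signal.App3
import Cfsg.Agent.Lib.Signal.SFT
import Cfsg.Agent.S1221

set_option autoImplicit false
open Cfsg

namespace Cfsg.Agent.S0504

/-- Let G be a finite group containing an elementary abelian subgroup of order 8, with no nontrivial normal subgroup of
odd order, not of component type, and with a Sylow 2-subgroup whose commuting graph of Klein four-subgroups is
connected. Then every 2-local subgroup H of G satisfies C_H(O₂(H)) ≤ O₂(H). -/
theorem result {G : Type*} [Group G] [Finite G]
    (h3 : ¬ Cfsg.PRankLE 2 2 G) (hO : Cfsg.oddCore G = ⊥) (hc : ¬ Cfsg.IsComponentType G) (S : Sylow 2 G)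
    (hS : Cfsg.IsFourConnected (S : Subgroup G)) : Cfsg.IsCharacteristicTwoType G := by
  exact CfsgLib.Signal.s0504 (CfsgLib.Signal.sftIn G) (fun H hH => Cfsg.Agent.S1221.result H hH) h3 hO hc S hS

end Cfsg.Agent.S0504
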