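import Cfsg.Statements.S0512
import Cfsg.Agent.Lib.SylT.L5i

set_option autoImplicit false
open Cfsg

namespace Cfsg.Agent.S0512

/-- A finite simple group whose Sylow 2-subgroups are isomorphic to a Sylow 2-subgroup of the projective special
linear group of dimension 5 over the field with 2 elements is isomorphic to that linear group, or is simple of order
244823040 or 4030387200 (the orders of the largest Mathieu group and of the Held group). -/
theorem result {G : Type*} [Group G] [Finite G] [IsSimpleGroup G]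
    {F : Type*} [Field F] [Fintype F] (hF : Fintype.card F = 2) (S : Sylow 2 G)
    (P : Sylow 2 (Matrix.ProjectiveSpecialLinearGroup (Fin 5) F))
    (hS : Nonempty ((S : Subgroup G) ≃* (P : Subgroup (Matrix.ProjectiveSpecialLinearGroup (Fin 5) F)))) :
    Nonempty (G ≃* Matrix.ProjectiveSpecialLinearGroup (Fin 5) F) ∨ Cfsg.IsM24 G ∨ Cfsg.IsHe G := by
  obtain ⟨e⟩ := hS
  obtain ⟨f⟩ := CfsgLib.SylT.TL.psl_equiv hF
  obtain ⟨e1⟩ := CfsgLib.SylT.TL.equiv_SL5 (P.mapSurjective (f := f.symm.toMonoidHom) f.symm.surjective)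
  obtain ⟨φ, h⟩ := CfsgLib.SylT.TL.SL.of_equiv S
    ((e1.trans (f.symm.subgroupMap (P : Subgroup _)).symm).trans e.symm)
  refine h.core.imp (fun ⟨g⟩ => ⟨g.trans f⟩) (Or.imp ?_ ?_)
  · exact fun ⟨g⟩ => ⟨inferInstance, (Nat.card_congr g.toEquiv).trans CfsgLib.Mathieu.card_M24⟩
  · exact fun ⟨g⟩ => ⟨inferInstance, (Nat.card_congr g.toEquiv).trans CfsgLib.He.card_eq⟩

end Cfsg.Agent.S0512
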