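import Mathlib
-- Template for statement S0515 (row 515; see /opt/grader/pristine/manifest.json for weights).
-- Copy to Cfsg/Agent/S0515.lean and replace the sorry. The statement below is byte-identical to the frozen
-- statement Cfsg.CfsgFrozen.S0515 (Cfsg/Statements/S0515.lean; the theorem Cfsg.solvable_of_elementary_rank_three_action_with_solvable_centralizers);
-- the grader kernel-checks Cfsg.Agent.S0515.result against that frozen type. Keep the theorem IN THIS FILE
-- (a `result` declared elsewhere and merely imported here is not credited); helpers may live anywhere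
-- under Cfsg/Agent/.
import Cfsg.Statements.S0515
import Cfsg.Agent.Lib.Signal.App3
import Cfsg.Agent.Lib.Signal.SFT

set_option autoImplicit false
open Cfsg

namespace Cfsg.Agent.S0515

/-- Inside a finite group, let A be an elementary abelian p-subgroup of order at least p^3 normalizing a subgroup K of
order prime to p. If the centralizer in K of every non-identity element of A is solvable, then K is solvable. -/
theorem result {X : Type*} [Group X] [Finite X]
    (p : ℕ) [Fact p.Prime] (A K : Subgroup X) (hA : IsMulCommutative A) (hAp : ∀ a ∈ A, a ^ p = 1)
    (hA3 : p ^ 3 ≤ Nat.card A) (hK : (Nat.card K).Coprime p) (hAK : A ≤ Subgroup.normalizer (K : Set X))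
    (hC : ∀ a ∈ A, a ≠ 1 → Group.IsSolvable ((K ⊓ Subgroup.centralizer ({a} : Set X) : Subgroup X))) :
    Group.IsSolvable K := by
  exact CfsgLib.Signal.s0515 (CfsgLib.Signal.sftIn X) p A K hA hAp hA3 hK hAK hC

end Cfsg.Agent.S0515
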