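import Mathlib
import Cfsg.Statements.S0647
import Cfsg.Agent.Lib.ZJ.Comm

set_option autoImplicit false
open Cfsg

namespace Cfsg.Agent.S0647

/-- For a nonempty family of maximal abelian subgroups of a finite group, the intersection of the family is the centre of the subgroup it generates, which is also the full centralizer of that subgroup. -/
theorem result {S : Type*} [Group S] [Finite S] (𝒜 : Set (Subgroup S)) (hne : 𝒜.Nonempty) (hab : ∀ A ∈ 𝒜, IsMulCommutative A) (hmax : ∀ A ∈ 𝒜, ∀ B : Subgroup S, IsMulCommutative B → A ≤ B → B = A) : sInf 𝒜 = sSup 𝒜 ⊓ Subgroup.centralizer ((sSup 𝒜 : Subgroup S) : Set S) ∧ sInf 𝒜 = Subgroup.centralizer ((sSup 𝒜 : Subgroup S) : Set S) := by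
  have h1 : sInf 𝒜 ≤ sSup 𝒜 := by
    obtain ⟨A, hA⟩ := hne
    exact (sInf_le hA).trans (le_sSup hA)
  have h2 : sInf 𝒜 ≤ Subgroup.centralizer ((sSup 𝒜 : Subgroup S) : Set S) := by
    rw [Subgroup.le_centralizer_iff]
    apply sSup_le
    intro A hA x hx y hy
    exact CfsgLib.ZJ.mul_comm_of_isMulCommutative (hab A hA) (sInf_le hA hy) hx
  have h3 : Subgroup.centralizer ((sSup 𝒜 : Subgroup S) : Set S) ≤ sInf 𝒜 := by
    apply le_sInf
    intro A hA x hx
    have hxA : A ≤ Subgroup.centralizer {x} := by
      intro y hy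
      rw [Subgroup.mem_centralizer_singleton_iff]
      exact hx y (le_sSup hA hy)
    have hcomm : IsMulCommutative (A ⊔ Subgroup.zpowers x : Subgroup S) := by
      rw [← Subgroup.le_centralizer_iff_isMulCommutative]
      have e1 : A ≤ Subgroup.centralizer ((A ⊔ Subgroup.zpowers x : Subgroup S) : Set S) := by
        rw [Subgroup.le_centralizer_iff]
        apply sup_le
        · exact Subgroup.le_centralizer_iff_isMulCommutative.mpr (hab A hA)
        · rw [Subgroup.zpowers_le]
          intro y hy
          exact hx y (le_sSup hA hy)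
      apply sup_le e1
      rw [Subgroup.zpowers_le, ← Subgroup.zpowers_le, Subgroup.le_centralizer_iff]
      apply sup_le
      · rw [Subgroup.zpowers_eq_closure, Subgroup.centralizer_closure]
        exact hxA
      · exact Subgroup.le_centralizer_iff_isMulCommutative.mpr inferInstance
    have := hmax A hA _ hcomm le_sup_left
    rw [← this]
    exact Subgroup.mem_sup_right (Subgroup.mem_zpowers x)
  exact ⟨le_antisymm (le_inf h1 h2) (inf_le_right.trans h3), le_antisymm h2 h3⟩

end Cfsg.Agent.S0647
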