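import Mathlib
import Cfsg.Statements.S0650
import Cfsg.Agent.Lib.ZJ.Replacement

set_option autoImplicit false
open Cfsg

namespace Cfsg.Agent.S0650

/-- The Glauberman replacement Theorem: from an abelian A ⊇ [B, B] not normalized by the normal subgroup B and a suitable b ∈ B one gets the abelian subgroup A* = (A ∩ b⁻¹Ab)[A, b] of the same order, containing [B, B], meeting B strictly more than A does but not containing B, mutually normalizing with A, with strictly larger normalizer containing b, and (p odd) of no larger exponent. -/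
theorem result {S : Type*} [Group S] [Finite S] {p : ℕ} [Fact p.Prime] (hS : IsPGroup p S) (B : Subgroup S) [B.Normal] (hB2 : p = 2 → IsMulCommutative B) (A : Subgroup S) (hA : IsMulCommutative A) (hBA : ⁅B, B⁆ ≤ A) (hnot : ¬ B ≤ Subgroup.normalizer (A : Set S)) (b : S) (hb : b ∈ B) (hbN : b ∈ Subgroup.normalizer ((Subgroup.normalizer (A : Set S)) : Set S)) (hbA : b ∉ Subgroup.normalizer (A : Set S)) : Nat.card ↥((A ⊓ A.map (MulAut.conj (b⁻¹)).toMonoidHom) ⊔ Subgroup.closure {g : S | ∃ a ∈ A, g = a * b⁻¹ * a⁻¹ * b}) = Nat.card A ∧ IsMulCommutative ↥((A ⊓ A.map (MulAut.conj (b⁻¹)).toMonoidHom) ⊔ Subgroup.closure {g : S | ∃ a ∈ A, g = a * b⁻¹ * a⁻¹ * b}) ∧ ⁅B, B⁆ ≤ ((A ⊓ A.map (MulAut.conj (b⁻¹)).toMonoidHom) ⊔ Subgroup.closure {g : S | ∃ a ∈ A, g = a * b⁻¹ * a⁻¹ * b}) ∧ A ⊓ B < ((A ⊓ A.map (MulAut.conj (b⁻¹)).toMonoidHom) ⊔ Subgroup.closure {g : S | ∃ a ∈ A, g = a * b⁻¹ * a⁻¹ *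 b}) ⊓ B ∧ ((A ⊓ A.map (MulAut.conj (b⁻¹)).toMonoidHom) ⊔ Subgroup.closure {g : S | ∃ a ∈ A, g = a * b⁻¹ * a⁻¹ * b}) ⊓ B < B ∧ A ≤ Subgroup.normalizer (((A ⊓ A.map (MulAut.conj (b⁻¹)).toMonoidHom) ⊔ Subgroup.closure {g : S | ∃ a ∈ A, g = a * b⁻¹ * a⁻¹ * b} : Subgroup S) : Set S) ∧ ((A ⊓ A.map (MulAut.conj (b⁻¹)).toMonoidHom) ⊔ Subgroup.closure {g : S | ∃ a ∈ A, g = a * b⁻¹ * a⁻¹ * b}) ≤ Subgroup.normalizer (A : Set S) ∧ b ∈ Subgroup.normalizer (((A ⊓ A.map (MulAut.conj (b⁻¹)).toMonoidHom) ⊔ Subgroup.closure {g : S | ∃ a ∈ A, g = a * b⁻¹ * a⁻¹ * b} : Subgroup S) : Set S) ∧ Subgroup.normalizer (A : Set S) < Subgroup.normalizer (((A ⊓ A.map (MulAut.conj (b⁻¹)).toMonoidHom) ⊔ Subgroup.closure {g : S | ∃ a ∈ A, g = a * b⁻¹ * a⁻¹ * b} : Subgroup S) : Set S) ∧ (p ≠ 2 → Monoid.exponent ↥((A ⊓ A.map (MulAut.conj (b⁻¹)).toMonoidHom) ⊔ Subgroup.closure {g : S | ∃ a ∈ A, g = a * b⁻¹ * a⁻¹ *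 b}) ∣ Monoid.exponent A) := by
  have h : CfsgLib.ZJ.ReplSetup A (Subgroup.normalizer (A : Set S)) B b :=
    ⟨hA, Subgroup.le_normalizer, le_rfl, Subgroup.le_normalizer_of_normal, hb, hbN, hBA⟩
  have h2 : (∀ w ∈ B, w ^ 2 = 1 → w = 1) ∨ IsMulCommutative B := by
    by_cases hp : p = 2
    · exact Or.inr (hB2 hp)
    · exact Or.inl (CfsgLib.ZJ.eq_one_of_sq_eq_one_of_isPGroup hp (hS.to_subgroup B))
  refine ⟨h.card_repl, h.repl_comm h2, h.der_le_repl, h.inf_lt hbA, h.repl_inf_lt hbA,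
    h.le_N.trans h.N_le_normalizer_repl, h.repl_le_N, h.mem_normalizer_repl, ?_, ?_⟩
  · refine lt_of_le_of_ne h.N_le_normalizer_repl ?_
    intro heq
    exact hbA (heq ▸ h.mem_normalizer_repl)
  · intro hp
    rw [Monoid.exponent_dvd_iff_forall_pow_eq_one]
    have hodd : Odd (Monoid.exponent A) := by
      obtain ⟨k, hk⟩ := (hS.to_subgroup A).exists_card_eq
      have hd : Monoid.exponent A ∣ p ^ k := hk ▸ Group.exponent_dvd_nat_card
      exact Odd.of_dvd_nat (((Fact.out : p.Prime).odd_of_ne_two hp).pow) hd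
    intro g
    exact Subtype.ext (h.pow_eq_one (Or.inl hodd) (fun a ha =>
      congrArg Subtype.val (Monoid.pow_exponent_eq_one (⟨a, ha⟩ : A))) g.1 g.2)

end Cfsg.Agent.S0650
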