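import Cfsg.Statements.S0877
import Cfsg.Agent.Lib.Brauer.PiSplit
import Cfsg.Agent.Lib.Core.Basic

set_option autoImplicit false
open Cfsg

namespace Cfsg.Agent.S0877

/-- Let H be a subgroup of the finite group G whose order is coprime to its index. Suppose that elements of H conjugate in G are conjugate in H, and that every subgroup E of G that is elementary for some prime (in the sense used for Brauer's characterisation of characters) and whose order divides the order of H is conjugate to a subgroup of H. Then there is a normal subgroup K with K ⊔ H = ⊤ and K ⊓ H trivial. -/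
theorem result {G : Type*} [Group G] [Finite G] (H : Subgroup G) (hHall : Nat.Coprime (Nat.card H) H.index) (hfus : ∀ x ∈ H, ∀ y ∈ H, IsConj x y → ∃ h ∈ H, h * x * h⁻¹ = y) (helem : ∀ (E : Subgroup G) (p : ℕ), p.Prime → Cfsg.IsElementary p E → Nat.card E ∣ Nat.card H → ∃ g : G, E.map (MulAut.conj g).toMonoidHom ≤ H) : ∃ K : Subgroup G, K.Normal ∧ K ⊔ H = ⊤ ∧ K ⊓ H = ⊥ := by
  classical
  open CfsgLib.Brauer CfsgLib.Char Finset ComplexConjugate in
  have := Fintype.ofFinite G
  obtain ⟨a, b, hs⟩ := exists_splitExp hHall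
  have hmn : Nat.card H * H.index = Nat.card G := H.card_mul_index
  have hord : ∀ x : G, orderOf x ∣ Nat.card H * H.index := fun x => hmn ▸ orderOf_dvd_natCard x
  have hr : ∀ x : G, ∃ h : H, IsConj (x ^ a) h := by
    intro x
    obtain ⟨g, hg⟩ := helem (Subgroup.zpowers (x ^ a)) 2 Nat.prime_two (by
      obtain ⟨u, v, huv, hc, ⟨k, hu⟩, hv⟩ : ∃ u v : Subgroup.zpowers (x ^ a),
          u * v = ⟨x ^ a, Subgroup.mem_zpowers _⟩ ∧ Commute u v ∧ (∃ k, orderOf u = 2 ^ k) ∧
          (orderOf v).Coprime 2 := by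
        set y : Subgroup.zpowers (x ^ a) := ⟨x ^ a, Subgroup.mem_zpowers _⟩
        have h0 : orderOf y ≠ 0 := (orderOf_pos y).ne'
        have hc := (Nat.coprime_ordCompl Nat.prime_two h0).pow_left ((orderOf y).factorization 2)
        obtain ⟨c, d, hcd⟩ := exists_splitExp hc
        have h1 := (Nat.ordProj_mul_ordCompl_eq_self (orderOf y) 2).symm.dvd
        obtain ⟨k, -, hk⟩ := (Nat.dvd_prime_pow Nat.prime_two).mp (hcd.orderOf_pow_dvd h1)
        exact ⟨y ^ c, y ^ d, hcd.mul_eq h1, Commute.pow_pow_self y c d, ⟨k, hk⟩,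
          (Nat.coprime_ordCompl Nat.prime_two h0).symm.coprime_dvd_left
            (hcd.symm.orderOf_pow_dvd (by rwa [mul_comm]))⟩
      refine ⟨v, Subgroup.mem_center_iff.mpr fun w => mul_comm' _ _, hv, ?_⟩
      have h1 : (Subgroup.zpowers v).index ∣ 2 ^ k := by
        have hn : (Subgroup.zpowers v).Normal := inferInstance
        rw [Subgroup.index_eq_card, ← hu]
        have : Subgroup.zpowers (QuotientGroup.mk' (Subgroup.zpowers v) u) = ⊤ := by
          rw [eq_top_iff]
          rintro w -
          obtain ⟨⟨_, j, rfl⟩, rfl⟩ := QuotientGroup.mk'_surjective _ w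
          refine ⟨j, ?_⟩
          have h2 : QuotientGroup.mk' (Subgroup.zpowers v) u = QuotientGroup.mk' _ (u * v) := by
            rw [map_mul, show QuotientGroup.mk' (Subgroup.zpowers v) v = 1 from
              (QuotientGroup.eq_one_iff _).mpr (Subgroup.mem_zpowers v), mul_one]
          simp only [h2, huv, ← map_zpow]
          rfl
        rw [← Subgroup.card_top, ← this, Nat.card_zpowers]
        exact orderOf_map_dvd _ _
      obtain ⟨j, -, hj⟩ := (Nat.dvd_prime_pow Nat.prime_two).mp h1
      exact ⟨j, hj⟩) (by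
        rw [Nat.card_zpowers]; exact hs.orderOf_pow_dvd (hord x))
    exact ⟨⟨g * x ^ a * g⁻¹, hg ⟨_, Subgroup.mem_zpowers _, rfl⟩⟩, isConj_iff.mpr ⟨g, rfl⟩⟩
  choose r hr using hr
  have hfus' : ∀ x y : H, IsConj (x : G) y → IsConj x y := by
    intro x y h
    obtain ⟨k, hk, h⟩ := hfus x x.2 y y.2 h
    exact isConj_iff.mpr ⟨⟨k, hk⟩, Subtype.ext h⟩
  have hrH : ∀ h : H, IsConj (r h) h := by
    intro h
    have := hr h
    rw [hs.pow_eq_self (H.orderOf_dvd_natCard h.2)] at this
    exact hfus' _ _ this.symm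
  have hcl : ∀ θ : H → ℂ, IsClassFunction H θ → IsClassFunction G (fun x => θ (r x)) := by
    intro θ hθ x g
    refine classFun_eq_of_isConj hθ (hfus' _ _ ((hr _).symm.trans (IsConj.trans ?_ (hr x))))
    rw [conj_pow]
    exact (isConj_iff.mpr ⟨g, rfl⟩).symm
  have hgen : ∀ θ : H → ℂ, IsCharacter H θ → IsGeneralizedCharacter G (fun x => θ (r x)) := by
    intro θ hθ
    have hθc := isClassFunction_of_isCharacter hθ
    refine isGenChar_of_forall_elementary (hcl θ hθc) fun E p hp hE => ?_
    have := isNilpotent_of_isElementary hp hE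
    have hE' : Nat.card E ∣ Nat.card H * H.index := hmn ▸ Subgroup.card_subgroup_dvd_card E
    let φ := hs.powHom E hE'
    let e := φ.range.equivMapOfInjective E.subtype E.subtype_injective
    obtain ⟨g, hg⟩ := helem (φ.range.map E.subtype) p hp
      (isElementary_of_mulEquiv e (isElementary_subgroup hp hE φ.range)) (by
        rw [Subgroup.card_subtype]
        refine Nat.Coprime.dvd_of_dvd_mul_right ?_ ((Subgroup.card_subgroup_dvd_card _).trans hE')
        refine (CfsgLib.Core.coprime_card_pPrimeCore H.index E).coprime_dvd_left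
          (Subgroup.card_dvd_of_le ?_)
        rintro _ ⟨x, rfl⟩
        exact (hs.mem_core_iff hE').mpr (hs.orderOf_pow_dvd ((orderOf_dvd_natCard x).trans hE')))
    let ψ : E →* H := ((MulAut.conj g).toMonoidHom.comp (E.subtype.comp φ)).codRestrict H
      (fun x => hg ⟨_, ⟨_, ⟨x, rfl⟩, rfl⟩, rfl⟩)
    have : (fun x : E => θ (r x)) = fun x => θ (ψ x) := by
      funext x
      exact classFun_eq_of_isConj hθc (hfus' _ _ ((hr _).symm.trans (isConj_iff.mpr ⟨g, rfl⟩)))
    rw [this]
    exact isGenChar_of_isCharacter (isCharacter_comp ψ hθ)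
  choose c hc using fun φ : IrrCharacter H =>
    exists_classInner_eq_int isGenChar_one (hgen φ (irr_isCharacter φ))
  set W : H → ℂ := ∑ φ : IrrCharacter H, (c φ : ℂ) • (φ : H → ℂ) with hW
  have hWval : ∀ h : H, W h = (Nat.card G : ℂ)⁻¹ * ((univ.filter fun x => IsConj h (r x)).card *
      Nat.card (Subgroup.centralizer ({h} : Set H)) : ℕ) := by
    intro h
    simp only [hW, Finset.sum_apply, Pi.smul_apply, smul_eq_mul, ← hc, classInner_def, one_mul,
      mul_assoc, ← mul_sum, sum_mul]
    congr 1
    rw [sum_comm, Nat.cast_mul, ← nsmul_eq_mul, ← sum_const, sum_filter]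
    refine sum_congr rfl fun x _ => ?_
    simp only [mul_comm (conj _)]
    split_ifs with h'
    · exact column_orthogonality_of_isConj h'
    · exact column_orthogonality_of_not_isConj h'
  have hG0 : (Nat.card G : ℂ) ≠ 0 := natCard_ne_zero
  have hWint : ∀ h : H, ∃ w : ℕ, 1 ≤ w ∧ W h = w := by
    intro h
    have h1 : IsIntegral ℤ (W h) := isIntegral_genChar (isGenChar_sum_int c) h
    rw [hWval, mul_comm, ← div_eq_mul_inv] at h1
    obtain ⟨w, hw⟩ := nat_dvd_of_isIntegral_div Nat.card_pos.ne' h1
    refine ⟨w, Nat.pos_of_ne_zero ?_, ?_⟩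
    · rintro rfl
      rw [mul_zero, mul_eq_zero] at hw
      rcases hw with hw | hw
      · exact card_ne_zero.mpr ⟨(h : G), mem_filter.mpr ⟨mem_univ _, (hrH h).symm⟩⟩ hw
      · exact Nat.card_pos.ne' hw
    · rw [hWval, hw]
      push_cast
      field_simp
  choose w hw1 hw using hWint
  have hW1 : W = fun _ => 1 := by
    have h1 : classInner W (irrOne H) = 1 := by
      rw [hW, classInner_sum_irr, ← hc]
      exact classInner_one_one
    rw [irrOne_coe, classInner_one_right] at h1
    simp only [hw] at h1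
    have h0 : (Nat.card H : ℂ) ≠ 0 := natCard_ne_zero
    have h2 : ∑ _h : H, 1 = ∑ h, w h := by
      field_simp at h1
      rw [sum_const, card_univ, smul_eq_mul, mul_one, ← Nat.card_eq_fintype_card]
      exact_mod_cast h1.symm
    funext h
    rw [hw, ← (sum_eq_sum_iff_of_le (fun h _ => hw1 h)).mp h2 h (mem_univ h), Nat.cast_one]
  have hL : ∀ θ : H → ℂ, IsClassFunction H θ →
      classInner (fun _ => 1) (fun x => θ (r x)) = classInner (fun _ => 1) θ := by
    intro θ hθ
    have h1 : (fun x => θ (r x)) = ∑ φ : IrrCharacter H, classInner θ φ • fun x => (φ : H → ℂ) (r x) := by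
      funext x
      rw [classFun_apply_eq_sum hθ]
      simp
    rw [h1, ← hW1, hW, classInner_sum_left, classInner_sum_right]
    refine sum_congr rfl fun φ _ => ?_
    rw [classInner_smul_left, classInner_smul_right, hc, classInner_conj_symm, mul_comm]
  have hr1 : r 1 = 1 := isConj_one_left.mp (hrH 1)
  have hchar : ∀ φ : IrrCharacter H, IsCharacter G (fun x => (φ : H → ℂ) (r x)) := by
    intro φ
    refine isCharacter_of_isIrr (isIrr_of_genChar_norm_one (hgen φ (irr_isCharacter φ)) ?_ ?_)
    · have := hL (fun h => (φ : H → ℂ) h * conj ((φ : H → ℂ) h))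
        (isClassFunction_mul (irr_isClassFunction φ) (isClassFunction_conj (irr_isClassFunction φ)))
      rw [← classInner_conj_symm, ← classInner_conj_symm (fun h : H => _),
        classInner_mul_conj_one, classInner_mul_conj_one,
        classInner_irr_self φ.2, map_one] at this
      rw [← classInner_conj_symm, this]
    · obtain ⟨n, -, hn⟩ := exists_irr_one_eq_nat φ.2
      simp [hr1, hn]
  let K : Subgroup G := ⨅ φ : IrrCharacter H, charKer (fun x => (φ : H → ℂ) (r x))
  have hK : ∀ x, x ∈ K ↔ r x = 1 := by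
    intro x
    simp only [K, Subgroup.mem_iInf, mem_charKer (hchar _), hr1]
    exact ⟨fun h => eq_one_of_forall_irr_eq fun χ hχ => h ⟨χ, hχ⟩, fun h φ => by rw [h]⟩
  have hKn : K.Normal := Subgroup.normal_iInf_normal fun φ =>
    charKer_normal (hcl _ (irr_isClassFunction φ))
  have hKH : K ⊓ H = ⊥ := by
    rw [eq_bot_iff]
    rintro x ⟨hx, hxH⟩
    have := hrH ⟨x, hxH⟩
    rw [(hK x).mp hx, isConj_one_right] at this
    exact congrArg Subtype.val this
  refine ⟨K, hKn, ?_, hKH⟩
  have h1 := hWval 1
  rw [hW1, Subgroup.centralizer_eq_top_iff_subset.mpr (by simp), Subgroup.card_top] at h1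
  have h2 : (univ.filter fun x => IsConj 1 (r x)).card = Nat.card K := by
    rw [Nat.card_eq_fintype_card, Fintype.card_subtype]
    congr 1
    ext x
    simp [hK, eq_comm]
  have h3 := CfsgLib.Core.card_sup_mul_card_inf_of_normal H K
  rw [inf_comm, hKH, Subgroup.card_bot, mul_one, sup_comm] at h3
  refine Subgroup.eq_top_of_card_eq _ ?_
  rw [h3, mul_comm, ← h2]
  field_simp at h1
  exact_mod_cast h1.symm

end Cfsg.Agent.S0877
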