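import Cfsg.Statements.S0994
import Cfsg.Agent.Lib.PSL2Rec.Fix

set_option autoImplicit false
open Cfsg

namespace Cfsg.Agent.S0994


/-- No finite simple group has order 1188 = 2^2 * 3^3 * 11. -/
theorem result {G : Type*} [Group G] [Finite G] [IsSimpleGroup G] : Nat.card G ≠ 1188 := by
  intro h
  have : Fact (Nat.Prime 11) := ⟨by norm_num⟩
  obtain ⟨P⟩ : Nonempty (Sylow 11 G) := inferInstance
  obtain ⟨-, h1, h2, h3, e, h4, h5, h6, -, h8⟩ :=
    CfsgLib.PSL2Rec.sylow_prime_data (p := 11) (m := 108) (by rw [h]) (by norm_num) (by norm_num) P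
  have h9 : Nat.card (Sylow 11 G) = 12 := by
    have := Nat.le_of_dvd (by norm_num) h1
    generalize Nat.card (Sylow 11 G) = n at *
    interval_cases n <;> omega
  rw [h9] at h8
  have h10 : e ∣ 99 := ⟨Nat.card (Subgroup.centralizer ((P : Subgroup G) : Set G)), by rw [mul_comm, h6]; omega⟩
  have := Nat.dvd_gcd h4 h10
  norm_num at this
  exact h5 this

end Cfsg.Agent.S0994
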