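import Cfsg.Statements.S1154
import Cfsg.Agent.Lib.Ree.Simple
import Cfsg.Agent.Lib.Ree.Twisted

set_option autoImplicit false
open Cfsg

namespace Cfsg.Agent.S1154

open CfsgLib.Ree

theorem aux {K : Type*} [Field K] [CharP K 3] {φ : K →+* K} {G : Type*} [Group G] (M : Model G K φ)
    (hφ : IsTits φ) [Finite K] : Nat.card {u : M.U hφ // orderOf u = 3} = Nat.card K ^ 2 - 1 := by
  classical
  have : Fact (Nat.Prime 3) := ⟨Nat.prime_three⟩
  have key : ∀ p : {p : K × K // p ≠ 0}, orderOf (⟨M.u 0 p.1.1 p.1.2, M.u_mem_U hφ _ _ _⟩ : M.U hφ) = 3 := by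
    rintro ⟨⟨b, c⟩, hp⟩
    refine orderOf_eq_prime (Subtype.ext ?_) (fun h => hp ?_)
    · show M.u 0 b c ^ 3 = 1
      rw [M.u_pow_three hφ]; simp [M.u_zero]
    · obtain ⟨-, h2, h3⟩ := M.u_eq_one (congrArg Subtype.val h)
      exact Prod.ext h2 h3
  have e : Function.Bijective (fun p : {p : K × K // p ≠ 0} =>
      (⟨_, key p⟩ : {u : M.U hφ // orderOf u = 3})) := by
    constructor
    · rintro ⟨⟨b, c⟩, hp⟩ ⟨⟨y, z⟩, hq⟩ h
      obtain ⟨-, h2, h3⟩ := M.u_inj (congrArg (fun x => x.1.1) h)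
      exact Subtype.ext (Prod.ext h2 h3)
    · rintro ⟨⟨_, a, b, c, rfl⟩, h⟩
      have h1 := congrArg Subtype.val (h ▸ pow_orderOf_eq_one (⟨M.u a b c, a, b, c, rfl⟩ : M.U hφ))
      have h2 : M.u a b c ^ 3 = 1 := h1
      rw [M.u_pow_three hφ] at h2
      have h3 := (M.u_eq_one h2).2.2
      have ha : a = 0 := by
        by_contra ha
        exact neg_ne_zero.2 (mul_ne_zero ((map_ne_zero φ).2 ha) (pow_ne_zero 2 ha)) h3
      subst ha
      refine ⟨⟨(b, c), fun h0 => ?_⟩, rfl⟩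
      obtain ⟨rfl, rfl⟩ := Prod.mk.inj h0
      have : (⟨M.u 0 0 0, 0, 0, 0, rfl⟩ : M.U hφ) = 1 := Subtype.ext M.u_zero
      rw [this, orderOf_one] at h
      omega
  have := Fintype.ofFinite K
  rw [← Nat.card_eq_of_bijective _ e, Nat.card_eq_fintype_card, Fintype.card_subtype_compl, Nat.card_eq_fintype_card]
  simp [sq]

/-- In the small Ree group ²G₂(q), q = 3^(2m+1) with m ≥ 1, realised as G¹ inside the Chevalley group G₂ over the field with q elements (θ the 3^m-th power map), with `U¹ = G¹ ∩ U` (U the positive unipotent subgroup of the ambient G₂): `U¹` has exactly `q² - 1` elements of order 3. -/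
theorem result {K : Type*} [Field K] [Fintype K] {m : ℕ} (hm : 1 ≤ m) (hK : Fintype.card K = 3 ^ (2 * m + 1)) :
    Nat.card {u : ↥(Cfsg.Lie.chevG2.posUnipotent K ⊓ Cfsg.Lie.twistedG2 K (3 ^ m)) // orderOf u = 3} = (3 ^ (2 * m + 1)) ^ 2 - 1 := by
  have := charP_three hK
  rw [← natCard_eq hK, ← aux (reeModel hK) (isTits_tits hK), ← posUnipotent_subgroupOf hK]
  exact (Nat.card_congr ((infEquiv _ _).toEquiv.subtypeEquiv (fun x => by simp))).symm

end Cfsg.Agent.S1154
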