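import Cfsg.Statements.S1223
import Cfsg.Agent.Lib.BCor.Dim
import Cfsg.Agent.Lib.BenderRed.Final

set_option autoImplicit false
open Cfsg

namespace Cfsg.Agent.S1223

/-- Let H be a strongly embedded subgroup of the finite group G containing no nontrivial normal subgroup of G (so G acts faithfully on the cosets of H), u an involution of G outside H, and j ≠ 1 an element of H ∩ uHu⁻¹ with u j u⁻¹ = j⁻¹. Then C_G(j) has odd order. -/
theorem result {G : Type*} [Group G] [Finite G] (H : Subgroup G) (hH : Cfsg.IsStronglyEmbedded H) (hcore : H.normalCore = ⊥) (u : G) (hu : orderOf u = 2) (huH : u ∉ H) (j : G) (hj : j ∈ (H ⊓ H.map (MulAut.conj u).toMonoidHom)) (hj1 : j ≠ 1) (hinv : u * j * u⁻¹ = j⁻¹) : Odd (Nat.card (Subgroup.centralizer ({j} : Set G))) := by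
  open CfsgLib CfsgLib.StrEmb CfsgLib.RankOne in
  have hu2 := mul_self_of_orderOf hu
  have hj2 : j * j ≠ 1 := fun e => hj1 (eq_one_of_mul_self_eq_one (hH.2.2 u huH) hj e)
  by_cases h2 : Bender.Rank2 G
  · obtain ⟨S, L, h⟩ := BCor.exists_str BenderRed.benderSimple hH (eq_bot_iff.2
      (hcore ▸ Subgroup.normal_le_normalCore.2 (BCor.oddCore_le hH h2)))
    obtain ⟨t, hS⟩ := h.exists_setup
    have e : j * u * u = j := by rw [mul_assoc, hu2, mul_one]
    have := odd_card_centralizer_strongly_real hS (u := j * u) (v := u)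
      (fun e => huH (eq_inv_of_mul_eq_one_right e ▸ H.inv_mem hj.1))
      (by rw [inv_eq_of_mul_eq_one_right hu2] at hinv
          rw [mul_assoc, ← mul_assoc u, hinv, mul_inv_cancel])
      (ne_one_of_orderOf hu) hu2 (by rwa [e])
    rwa [e] at this
  by_contra hev
  obtain ⟨w, hw, hw2⟩ := exists_involution_of_even (Nat.not_odd_iff_even.1 hev)
  have hc : w * j = j * w := Subgroup.mem_centralizer_singleton_iff.1 hw
  have h3 : ∀ x : G, x * j * x⁻¹ = j⁻¹ → ¬ Commute x j := fun x h1 h => hj2 (by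
    rw [h.eq, mul_inv_cancel_right] at h1; exact mul_eq_one_iff_eq_inv.2 h1)
  have h4 : u * w * j * (u * w)⁻¹ = j⁻¹ := by
    rw [← hinv, mul_assoc u, hc]; group
  obtain ⟨z, z1, z2, e1, e2⟩ := exists_central_invol hu2 (mul_self_of_orderOf hw2) (by
    by_contra ho
    obtain ⟨k, hk⟩ := Nat.not_even_iff_odd.1 ho
    have h5 : Commute (u * w * (u * w)) j := by
      rw [Commute, SemiconjBy, ← mul_inv_eq_iff_eq_mul]
      calc _ = u * w * (u * w * j * (u * w)⁻¹) * (u * w)⁻¹ := by group
        _ = (u * w * j * (u * w)⁻¹)⁻¹ := by nth_rewrite 1 [h4]; group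
        _ = j := by rw [h4, inv_inv]
    have h6 := (h5.pow_left (k + 1))
    rw [← sq, ← pow_mul, show 2 * (k + 1) = orderOf (u * w) + 1 by omega, pow_succ,
      pow_orderOf_eq_one, one_mul] at h6
    exact h3 _ h4 h6)
  have hz := orderOf_eq_two z2 z1
  rw [BCor.eq_of_not_rank2 h2 hz hw2 e2, ← BCor.eq_of_not_rank2 h2 hz hu e1] at hc
  exact h3 u hinv hc

end Cfsg.Agent.S1223
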