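import Cfsg.Statements.S1245
import Cfsg.Agent.Lib.ReeRec.Walter

set_option autoImplicit false
open Cfsg

namespace Cfsg.Agent.S1245

/-- Let G be a non-abelian finite simple group with commutative Sylow 2-subgroups, and t an involution whose centralizer is the internal direct product of ⟨t⟩ and a subgroup E which has a normal subgroup E₀ ≅ PSL(2,F), |F| odd, with C_E(E₀) = 1 (so PSL(2,q) ≤ E ≤ Aut PSL(2,q)). Then C_G(t) is a maximal subgroup of G. -/
theorem result {G : Type*} [Group G] [Finite G] [IsSimpleGroup G] (hna : ¬ IsMulCommutative G) (S : Sylow 2 G) (hS : IsMulCommutative (S : Subgroup G)) (t : G) (ht : orderOf t = 2) (E E₀ : Subgroup G) (hprod : Cfsg.IsInternalDirectProduct (Subgroup.zpowers t) E (Subgroup.centralizer ({t} : Set G))) (hE₀E : E₀ ≤ E) (hE₀n : (E₀.subgroupOf E).Normal) (hE₀ : ∃ (F : Type) (_ : Field F) (_ : Fintype F), Odd (Fintype.card F) ∧ Nonempty (E₀ ≃* Matrix.ProjectiveSpecialLinearGroup (Fin 2) F)) (hCE :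 E ⊓ Subgroup.centralizer (E₀ : Set G) = ⊥) : IsCoatom (Subgroup.centralizer ({t} : Set G)) := by
  have hG := CfsgLib.Abel2.abelian_sylow_of_one S hS
  obtain ⟨T, hT⟩ := CfsgLib.Invol.exists_sylow_mem (CfsgLib.Invol.isPGroup_zpowers_of_mul_self
    (CfsgLib.Invol.mul_self_of_orderOf_two ht))
  have h1 := CfsgLib.Invol.ne_one_of_orderOf_two ht
  rcases (CfsgLib.Abel2.good_of_ab2 CfsgLib.WCor.inputs ‹_› hna hG).type with h | h
  · obtain ⟨F, _, _, -, ⟨e⟩⟩ := hE₀
    have h2 : E ≤ T := ((h T).1 t hT h1) ▸ hprod.2.1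
    have h3 : E₀ = ⊥ := eq_bot_iff.2 (hCE ▸ le_inf hE₀E fun x hx y hy => congrArg Subtype.val
      ((hG T).is_comm.comm (⟨y, h2 (hE₀E hy)⟩ : (T : Subgroup G)) ⟨x, h2 (hE₀E hx)⟩))
    subst h3
    let u : Matrix.SpecialLinearGroup (Fin 2) F := ⟨!![1, 1; 0, 1], by simp⟩
    have h4 := (QuotientGroup.eq_one_iff u).1
      (e.symm.injective (Subsingleton.elim _ _))
    obtain ⟨r, -, hr⟩ := Matrix.SpecialLinearGroup.mem_center_iff.1 h4
    simpa [u] using congrFun₂ hr 0 1
  · exact (h T t hT h1).1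

end Cfsg.Agent.S1245
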