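import Cfsg.Statements.S1249
import Cfsg.Agent.Lib.SylTools.Basic

set_option autoImplicit false
open Cfsg

namespace Cfsg.Agent.S1249

open CfsgLib.SylTools


/-- Let P and Q be Sylow p-subgroups of the finite group G both containing the subgroup A. If A is strongly closed in P, then A is strongly closed in Q. -/
theorem result {G : Type*} [Group G] [Finite G] {p : ℕ} [Fact p.Prime] (P Q : Sylow p G) (A : Subgroup G) (hAQ : A ≤ Q) (hA : Cfsg.IsStronglyClosed A (P : Subgroup G)) : Cfsg.IsStronglyClosed A (Q : Subgroup G) := by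
  obtain ⟨g, hg⟩ := exists_conj_sylow Q P
  have hn : g ∈ Subgroup.normalizer (A : Set G) :=
    mem_normalizer_of_conj_le fun x hx => hA.2 x hx g ((hg x).1 (hAQ hx))
  refine ⟨hAQ, fun x hx h hh => ?_⟩
  have h1 : (g * h) * x * (g * h)⁻¹ ∈ A := by
    apply hA.2 x hx
    have := (hg _).1 hh
    simpa [mul_assoc] using this
  rw [Subgroup.mem_normalizer_iff] at hn
  apply (hn _).2
  simpa [mul_assoc] using h1

end Cfsg.Agent.S1249
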