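import Cfsg.Statements.S1250
import Cfsg.Agent.Lib.SylTools.Basic

set_option autoImplicit false
open Cfsg

namespace Cfsg.Agent.S1250

open CfsgLib.SylTools
open scoped Pointwise


/-- Let S be a Sylow p-subgroup of the finite group G, A ≤ S strongly closed in S, and N a normal subgroup. Then the image of A in G ⧸ N is strongly closed in the image of S (which is a Sylow p-subgroup of G ⧸ N). -/
theorem result {G : Type*} [Group G] [Finite G] {p : ℕ} [Fact p.Prime] (S : Sylow p G) (A : Subgroup G) (hA : Cfsg.IsStronglyClosed A (S : Subgroup G)) (N : Subgroup G) [N.Normal] : Cfsg.IsStronglyClosed (A.map (QuotientGroup.mk' N)) ((S : Subgroup G).map (QuotientGroup.mk' N)) := by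
  refine ⟨Subgroup.map_mono hA.1, ?_⟩
  rintro _ ⟨x, hx, rfl⟩ gb hg
  obtain ⟨g, rfl⟩ := QuotientGroup.mk'_surjective N gb
  have hy : g * x * g⁻¹ ∈ (S : Subgroup G) ⊔ N := by
    have : g * x * g⁻¹ ∈ ((S : Subgroup G).map (QuotientGroup.mk' N)).comap (QuotientGroup.mk' N) := by
      rw [Subgroup.mem_comap, map_mul, map_mul, map_inv]; exact hg
    rwa [Subgroup.comap_map_eq, QuotientGroup.ker_mk'] at this
  obtain ⟨k, hk⟩ := exists_orderOf_eq_pow_of_mem S.isPGroup' (hA.1 hx)
  have hk' : orderOf (g * x * g⁻¹) = p ^ k := by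
    rw [← hk]; exact (MulAut.conj g).orderOf_eq x
  obtain ⟨m, hm, hmc⟩ := exists_conj_mem_sylow_of_mem hk' hy S le_sup_left
  have hm' : m ∈ ((S : Subgroup G) : Set G) * (N : Set G) := by
    rw [← Subgroup.mul_normal]; exact hm
  obtain ⟨s, hs, n, hn, rfl⟩ := hm'
  have h2 : (n * g) * x * (n * g)⁻¹ ∈ (S : Subgroup G) := by
    have := (S : Subgroup G).mul_mem ((S : Subgroup G).mul_mem ((S : Subgroup G).inv_mem hs) hmc) hs
    simpa [mul_assoc] using this
  refine ⟨_, hA.2 x hx _ h2, ?_⟩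
  have : (QuotientGroup.mk' N) n = 1 := (QuotientGroup.eq_one_iff n).2 hn
  simp only [map_mul, map_inv, this, one_mul]

end Cfsg.Agent.S1250
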