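import Cfsg.Statements.S1251
import Cfsg.Agent.Lib.ZStarApp.Basic

set_option autoImplicit false
open Cfsg

namespace Cfsg.Agent.S1251

open CfsgLib CfsgLib.SylTools CfsgLib.ZStarApp Subgroup

/-- Let S be a Sylow 2-subgroup of the finite group G and A ≤ S strongly closed in S. If H is a subgroup normalized by A with no nontrivial normal subgroup of odd order and A ∩ H = 1, then A ≤ C_G(H). -/
theorem result {G : Type*} [Group G] [Finite G] (S : Sylow 2 G) (A : Subgroup G) (hA : Cfsg.IsStronglyClosed A (S : Subgroup G)) (H : Subgroup G) (hAH : A ≤ Subgroup.normalizer (H : Set G)) (hO : Cfsg.oddCore ↥H = ⊥) (hdisj : A ⊓ H = ⊥) : A ≤ Subgroup.centralizer (H : Set G) := by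
  have hAp : IsPGroup 2 A := S.isPGroup'.to_le hA.1
  obtain ⟨R, hR, hAR, hRX, hi⟩ := exists_sylow_of_le hAp (le_sup_left : A ≤ A ⊔ H)
  obtain ⟨g, hg⟩ := exists_conj_le_sylow hR S
  have hgA : g ∈ normalizer (A : Set G) :=
    mem_normalizer_of_conj_le fun a ha => hA.2 a ha g (hg a (hAR ha))
  have hcl : ∀ a ∈ A, ∀ x : G, x * a * x⁻¹ ∈ R → x * a * x⁻¹ ∈ A := by
    intro a ha x hx
    have := hA.2 a ha (g * x) (by convert hg _ hx using 1; group)
    rw [mem_normalizer_iff.1 hgA]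
    convert this using 1; group
  have hXH : A ⊔ H ≤ normalizer (H : Set G) := sup_le hAH le_normalizer
  intro a ha
  set Y := zpowers a ⊔ H with hY
  have hYX : Y ≤ A ⊔ H := sup_le_sup_right (zpowers_le_of_mem ha) H
  have haY : a ∈ Y := mem_sup_left (mem_zpowers a)
  have hmod : ∀ y ∈ Y, a⁻¹ * (y * a * y⁻¹) ∈ H := by
    intro y hy
    obtain ⟨_, ⟨k, rfl⟩, h, hh, rfl⟩ := (Core.mem_sup_of_le_normalizer_right
      ((zpowers_le_of_mem ha).trans hAH)).1 hy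
    have h1 : a⁻¹ * h * a⁻¹⁻¹ ∈ H := (mem_normalizer_iff.1 (inv_mem (hAH ha)) h).1 hh
    have h2 := (mem_normalizer_iff.1 (zpow_mem (hAH ha) k) _).1 (mul_mem h1 (inv_mem hh))
    convert h2 using 1; group
  have hp : IsPGroup 2 (zpowers (⟨a, haY⟩ : Y)) := by
    obtain ⟨k, hk⟩ := exists_orderOf_eq_pow_of_mem hAp ha
    exact isPGroup_zpowers_of_orderOf (k := k) (by rw [← orderOf_coe]; exact hk)
  obtain ⟨P, hP⟩ := hp.exists_le_sylow
  have haP : (⟨a, haY⟩ : Y) ∈ (P : Subgroup Y) := hP (mem_zpowers _)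
  have hw : ∀ y : Y, y * ⟨a, haY⟩ * y⁻¹ ∈ (P : Subgroup Y) → y * ⟨a, haY⟩ * y⁻¹ = ⟨a, haY⟩ := by
    intro y hy
    obtain ⟨x, hx, h1⟩ := exists_conj_le_of_not_dvd_relIndex (P.isPGroup'.map Y.subtype)
      ((map_subtype_le _).trans hYX) hR hi
    have h2 := hcl a ha x (h1 _ ⟨_, haP, rfl⟩)
    have h3 := hcl a ha (x * y) (by
      convert h1 _ ⟨_, hy, rfl⟩ using 1; simp [mul_assoc])
    have h4 := (mem_normalizer_iff.1 (hXH hx) _).1 (hmod y y.2)
    have h5 : x * (a⁻¹ * (y * a * (y : G)⁻¹)) * x⁻¹ ∈ A ⊓ H := by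
      refine mem_inf.2 ⟨?_, h4⟩
      convert mul_mem (inv_mem h2) h3 using 1; group
    rw [hdisj, mem_bot, conj_eq_one_iff, inv_mul_eq_one] at h5
    exact Subtype.ext h5.symm
  rw [mem_centralizer_iff]
  intro h hh
  have h1 := commutator_mem_of_weaklyClosed P haP hw ⟨h, mem_sup_right hh⟩
  have h2 : a * h * a⁻¹ * h⁻¹ ∈ (pPrimeCore 2 Y).map Y.subtype ⊓ H :=
    mem_inf.2 ⟨⟨_, h1, rfl⟩, mul_mem ((mem_normalizer_iff.1 (hAH ha) h).1 hh) (inv_mem hh)⟩
  have h3 := Core.map_pPrimeCore_inf_le (le_sup_right : H ≤ Y) h2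
  rw [show pPrimeCore 2 H = ⊥ from hO, Subgroup.map_bot, mem_bot, mul_inv_eq_one,
    mul_inv_eq_iff_eq_mul] at h3
  exact h3.symm

end Cfsg.Agent.S1251
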