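import Mathlib
-- Template for statement S1293 (row 1293; see /opt/grader/pristine/manifest.json for weights).
-- Copy to Cfsg/Agent/S1293.lean and replace the sorry. The statement below is byte-identical to the frozen
-- statement Cfsg.CfsgFrozen.S1293 (Cfsg/Statements/S1293.lean; the theorem Cfsg.p_locals_of_trivial_p_layer);
-- the grader kernel-checks Cfsg.Agent.S1293.result against that frozen type. Keep the theorem IN THIS FILE
-- (a `result` declared elsewhere and merely imported here is not credited); helpers may live anywhere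
-- under Cfsg/Agent/.
import Cfsg.Statements.S1293
import Cfsg.Agent.Lib.Signal.App2

set_option autoImplicit false
open Cfsg

namespace Cfsg.Agent.S1293

/-- Let G be finite with L_{p'}(G) = 1, and H = N_G(P) for a nontrivial p-subgroup P. Then L_{p'}(H) = 1 and O_{p'}(H) ≤ O_{p'}(G). -/
theorem result {G : Type*} [Group G] [Finite G] (p : ℕ) [Fact p.Prime] (hL : Cfsg.pLayer p G = ⊥) (P : Subgroup G) (hP : IsPGroup p ↥P) (hP1 : P ≠ ⊥) : Cfsg.pLayer p ↥(Subgroup.normalizer (P : Set G)) = ⊥ ∧ (Cfsg.pPrimeCore p ↥(Subgroup.normalizer (P : Set G))).map (Subgroup.normalizer (P : Set G)).subtype ≤ Cfsg.pPrimeCore p G := by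
  have h := CfsgLib.PLocal.Constr.normalizer_of_isPConstrained (CfsgLib.Signal.constr_of_pLayer hL) hP
  exact ⟨CfsgLib.Signal.pLayer_of_constr h.1, h.2 ▸ inf_le_left⟩

end Cfsg.Agent.S1293
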