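import Mathlib
-- Template for statement S1308 (row 1308; see /opt/grader/pristine/manifest.json for weights).
-- Copy to Cfsg/Agent/S1308.lean and replace the sorry. The statement below is byte-identical to the frozen
-- statement Cfsg.CfsgFrozen.S1308 (Cfsg/Statements/S1308.lean; the theorem Cfsg.aschbacher_component_theorem);
-- the grader kernel-checks Cfsg.Agent.S1308.result against that frozen type. Keep the theorem IN THIS FILE
-- (a `result` declared elsewhere and merely imported here is not credited); helpers may live anywhere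
-- under Cfsg/Agent/.
import Cfsg.Statements.S1308
import Cfsg.Agent.Lib.ACT.FTOP
import Cfsg.Agent.Lib.ACT.Wrap
import Cfsg.Agent.Lib.ACT.STOP
-- import your own Cfsg.Agent.* helpers here

set_option autoImplicit false
open Cfsg

namespace Cfsg.Agent.S1308

/-- Aschbacher's Component Theorem. Let G be a non-abelian finite simple group with the B-property such that E(C_G(t)) ≠ 1 for some involution t. Then either some involution centralizer of G has a component of 2-rank 1, or there are an involution z and a subgroup K ≤ C = C_G(z) which is a component of C and a standard subgroup of G, such that C_C(K) has 2-rank 1, or C_C(K) is solvable and its Sylow 2-subgroups are elementary abelian or dihedral; moreover K is normal in C unless K has 2-rank 1. -/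
theorem result {G : Type*} [Group G] [Finite G] [IsSimpleGroup G] (hna : ¬ IsMulCommutative G) (hB : Cfsg.HasBProperty G) (t : G) (ht : orderOf t = 2) (hE : Cfsg.layer ↥(Subgroup.centralizer ({t} : Set G)) ≠ ⊥) :
    (∃ z : G, orderOf z = 2 ∧ ∃ K : Subgroup G, K ≤ Subgroup.centralizer ({z} : Set G) ∧
        Cfsg.IsComponent (K.subgroupOf (Subgroup.centralizer ({z} : Set G))) ∧ Cfsg.PRankLE 2 1 ↥K) ∨
    (∃ z : G, orderOf z = 2 ∧ ∃ K : Subgroup G, K ≤ Subgroup.centralizer ({z} : Set G) ∧ Cfsg.IsComponent (K.subgroupOf (Subgroup.centralizer ({z} : Set G))) ∧ Cfsg.IsStandardSubgroup K ∧ (Cfsg.PRankLE 2 1 ↥(Subgroup.centralizer ({z} : Set G) ⊓ Subgroup.centralizer (K : Set G)) ∨ (Group.IsSolvable ↥(Subgroup.centralizer ({z} : Set G) ⊓ Subgroup.centralizer (K : Set G)) ∧ ∀ S : Sylow 2 ↥(Subgroup.centralizer ({z} : Set G) ⊓ Subgroup.centralizer (K : Set G)), Cfsg.IsElementaryAbelian 2 (S : Subgroup ↥(Subgroup.centralizer ({z} : Set G) ⊓ Subgroup.centralizer (K : Set G))) ∨ ∃ n : ℕ, Nonempty (↥(S : Subgroup ↥(Subgroup.centralizer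 ({z} : Set G) ⊓ Subgroup.centralizer (K : Set G))) ≃* DihedralGroup n))) ∧ (Cfsg.PRankLE 2 1 ↥K ∨ (K.subgroupOf (Subgroup.centralizer ({z} : Set G))).Normal)) := by
  open CfsgLib CfsgLib.ACT CfsgLib.LBal in
  obtain ⟨x, K, hT⟩ := exists_terminal (core_bot ht) hB ht hE
  by_cases hr : PRankLE 2 1 K
  · exact Or.inl ⟨x, hT.1, K, hT.2.1.1, hT.2.1.2, hr⟩
  have hS := standard hT.1 (rc_iff.2 hT.2.1) (rk2_of_not_le hr) fun y hy hc => rc_iff.2 (hT.2.2.2 y hc hy)
  obtain ⟨z, hz, h2, h3⟩ := second hS
  have h4 := std_rc hS h2 hz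
  exact Or.inr ⟨z, h2, K, h4.le, h4.comp, hS, h3, Or.inr
    ((Subgroup.normal_subgroupOf_iff_le_normalizer h4.le).2 (std_centralizer_le hS h2 hz))⟩

end Cfsg.Agent.S1308
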