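import Cfsg.Statements.S1323
import Cfsg.Agent.Lib.Comp.Quasisimple

set_option autoImplicit false
open Cfsg

namespace Cfsg.Agent.S1323

open Subgroup Equiv Equiv.Perm CfsgLib.Comp in
/-- the even permutations supported on `s` -/
def A {α : Type*} [Fintype α] [DecidableEq α] (s : Finset α) : Subgroup (alternatingGroup α) :=
  (alternatingGroup.ofSubtype s).range

section
open Subgroup Equiv Equiv.Perm
variable {α : Type*} [Fintype α] [DecidableEq α]

theorem mem_A {s : Finset α} {k : alternatingGroup α} :
    k ∈ A s ↔ ∀ x, x ∉ s → (k : Perm α) x = x := by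
  rw [A, alternatingGroup.mem_range_ofSubtype_iff]
  constructor
  · intro h x hx
    by_contra hne
    exact hx (h (mem_support.2 hne))
  · intro h x hx
    by_contra hs
    exact (mem_support.1 hx) (h x hs)

theorem map_A (s : Finset α) (g : alternatingGroup α) :
    (A s).map (MulAut.conj g).toMonoidHom = A (s.map (g : Perm α).toEmbedding) := by
  ext k
  rw [mem_map_equiv, mem_A, mem_A]
  constructor
  · intro h x hx
    have h1 := h ((g : Perm α)⁻¹ x) (fun hs => hx (Finset.mem_map.2 ⟨_, hs, by simp⟩))
    have h2 : (g : Perm α)⁻¹ ((k : Perm α) ((g : Perm α) ((g : Perm α)⁻¹ x))) = (g : Perm α)⁻¹ x := h1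
    have h3 := (g : Perm α)⁻¹.injective h2
    simpa using h3
  · intro h x hx
    have h1 := h ((g : Perm α) x) (by simpa using hx)
    show (g : Perm α)⁻¹ ((k : Perm α) ((g : Perm α) x)) = x
    rw [h1]; simp

/-- a three-cycle on `s` moving `y` and fixing `x` -/
theorem exists_move {s : Finset α} (hs : 4 ≤ s.card) {y : α} (hy : y ∈ s) (x : α) (hxy : x ≠ y) :
    ∃ σ ∈ A s, (σ : Perm α) x = x ∧ (σ : Perm α) y ≠ y := by
  have h2 : 1 < ((s.erase y).erase x).card := by
    have h1 := Finset.pred_card_le_card_erase (s := s.erase y) (a := x)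
    have h3 := Finset.card_erase_of_mem hy
    omega
  obtain ⟨a, ha, b, hb, hab⟩ := Finset.one_lt_card.1 h2
  simp only [Finset.mem_erase] at ha hb
  refine ⟨⟨swap y a * swap y b, ?_⟩, mem_A.2 ?_, ?_, ?_⟩
  · rw [mem_alternatingGroup, Perm.sign_mul, sign_swap ha.2.1.symm, sign_swap hb.2.1.symm]; simp
  · intro z hz
    have h1 : z ≠ y := fun h => hz (h ▸ hy)
    have h2 : z ≠ a := fun h => hz (h ▸ ha.2.2)
    have h3 : z ≠ b := fun h => hz (h ▸ hb.2.2)
    simp [swap_apply_of_ne_of_ne h1 h3, swap_apply_of_ne_of_ne h1 h2]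
  · simp [swap_apply_of_ne_of_ne hxy hb.1.symm, swap_apply_of_ne_of_ne hxy ha.1.symm]
  · simp [swap_apply_of_ne_of_ne hb.2.1 hab.symm, hb.2.1]

theorem cent_A {s : Finset α} (hs : 4 ≤ s.card) :
    centralizer (A s : Set (alternatingGroup α)) = A sᶜ := by
  ext g
  rw [mem_centralizer_iff, mem_A]
  constructor
  · intro h x hx
    have hx' : x ∈ s := by simpa using hx
    by_contra hne
    by_cases hy : (g : Perm α) x ∈ s
    · obtain ⟨σ, hσ, h1, h2⟩ := exists_move hs hy x (Ne.symm hne)
      have := congrArg (fun k : alternatingGroup α => (k : Perm α) x) (h σ hσ)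
      simp only [Subgroup.coe_mul, Perm.coe_mul, Function.comp_apply, h1] at this
      exact h2 this
    · obtain ⟨σ, hσ, h1, h2⟩ := exists_move hs hx' ((g : Perm α) x) hne
      have := congrArg (fun k : alternatingGroup α => (k : Perm α) x) (h σ hσ)
      simp only [Subgroup.coe_mul, Perm.coe_mul, Function.comp_apply, h1] at this
      exact h2 ((g : Perm α).injective this).symm
  · intro h σ hσ
    have hσ' := mem_A.1 hσ
    apply Subtype.ext
    have : Perm.Disjoint (σ : Perm α) (g : Perm α) := by
      intro x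
      by_cases hx : x ∈ s
      · exact Or.inr (h x (by simpa using hx))
      · exact Or.inl (hσ' x hx)
    exact this.commute.eq

theorem odd_card_A {s : Finset α} (hs : s.card ≤ 3) : Odd (Nat.card (A s)) := by
  rw [← Nat.not_even_iff_odd, even_iff_two_dvd]
  intro h2
  haveI : Fact (Nat.Prime 2) := ⟨Nat.prime_two⟩
  obtain ⟨σ, hσ⟩ := exists_prime_orderOf_dvd_card' 2 h2
  have ho : orderOf ((σ : alternatingGroup α) : Perm α) = 2 := by
    rw [Subgroup.orderOf_coe, Subgroup.orderOf_coe, hσ]
  have hsupp : ((σ : alternatingGroup α) : Perm α).support ⊆ s :=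
    (alternatingGroup.mem_range_ofSubtype_iff s _).1 σ.2
  have hc := Finset.card_le_card hsupp
  have hsign := mem_alternatingGroup.1 (σ : alternatingGroup α).2
  obtain ⟨m, hm⟩ := cycleType_prime_order (σ := ((σ : alternatingGroup α) : Perm α))
    (by rw [ho]; exact Nat.prime_two)
  rw [ho] at hm
  have h1 := sum_cycleType ((σ : alternatingGroup α) : Perm α)
  rw [hm, Multiset.sum_replicate, smul_eq_mul] at h1
  have hm0 : m = 0 := by omega
  subst hm0
  rw [sign_of_cycleType, hm] at hsign
  simp at hsign
  exact absurd hsign (by decide)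

theorem even_card_A {s : Finset α} (hs : 4 ≤ s.card) : Even (Nat.card (A s)) := by
  have e : alternatingGroup s ≃* A s :=
    MonoidHom.ofInjective (alternatingGroup.ofSubtype_injective (s := s))
  rw [← Nat.card_congr e.toEquiv]
  haveI : Nontrivial s := by
    rw [← Fintype.one_lt_card_iff_nontrivial]; simp; omega
  have h := two_mul_nat_card_alternatingGroup (α := s)
  rw [Nat.card_perm] at h
  have h4 : 4 ∣ (Nat.card s).factorial := Nat.dvd_factorial (by norm_num) (by simpa using hs)
  rw [← h] at h4
  rw [even_iff_two_dvd]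
  omega

theorem qs_A {s : Finset α} (hs : 5 ≤ s.card) : IsQuasisimple (A s) := by
  have e : alternatingGroup s ≃* A s :=
    MonoidHom.ofInjective (alternatingGroup.ofSubtype_injective (s := s))
  haveI := alternatingGroup.isSimpleGroup (α := s) (by simpa using hs)
  refine CfsgLib.Comp.qs_of_mulEquiv (CfsgLib.Comp.qs_of_isSimpleGroup ?_) e
  rw [alternatingGroup.isMulCommutative_iff_card_le_three]
  simp; omega

theorem normalizer_le_normalizer_centralizer' {G : Type*} [Group G] (L : Subgroup G) :
    normalizer (L : Set G) ≤ normalizer (centralizer (L : Set G) : Set G) := by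
  intro g hg
  rw [mem_normalizer_iff] at hg ⊢
  intro h
  simp only [SetLike.mem_coe, mem_centralizer_iff] at hg ⊢
  constructor
  · intro hh l hl
    have := hh (g⁻¹ * l * g) ((hg _).2 (by simpa [mul_assoc] using hl))
    calc l * (g * h * g⁻¹) = g * (g⁻¹ * l * g * h) * g⁻¹ := by group
      _ = g * (h * (g⁻¹ * l * g)) * g⁻¹ := by rw [this]
      _ = g * h * g⁻¹ * l := by group
  · intro hh l hl
    have := hh (g * l * g⁻¹) ((hg _).1 hl)
    calc l * h = g⁻¹ * (g * l * g⁻¹ * (g * h * g⁻¹)) * g := by group
      _ = g⁻¹ * (g * h * g⁻¹ * (g * l * g⁻¹)) * g := by rw [this]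
      _ = h * l := by group

theorem standard_A {s : Finset α} (h4 : sᶜ.card = 4) (h5 : 5 ≤ s.card) :
    IsStandardSubgroup (A s) := by
  have hC := cent_A (s := s) (by omega)
  have hCC := cent_A (s := sᶜ) (by omega)
  rw [compl_compl] at hCC
  refine ⟨qs_A h5, ?_, ?_, ?_⟩
  · rw [hC]
    refine ⟨even_card_A h4.ge, fun g hg => ?_⟩
    rw [map_A]
    have hne : sᶜ.map (g : Perm α).toEmbedding ≠ sᶜ := by
      intro h
      apply hg
      have h1 := map_A sᶜ g
      rw [h] at h1
      rw [mem_normalizer_iff]
      intro k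
      constructor
      · intro hk
        have : (MulAut.conj g).toMonoidHom k ∈ (A sᶜ).map (MulAut.conj g).toMonoidHom :=
          mem_map_of_mem _ hk
        rw [h1] at this
        exact this
      · intro hk
        have : g * k * g⁻¹ ∈ (A sᶜ).map (MulAut.conj g).toMonoidHom := by rw [h1]; exact hk
        rw [mem_map_equiv] at this
        simpa [mul_assoc] using this
    have heq : A sᶜ ⊓ A (sᶜ.map (g : Perm α).toEmbedding) =
        A (sᶜ ∩ sᶜ.map (g : Perm α).toEmbedding) := by
      ext k
      simp only [mem_inf, mem_A, Finset.mem_inter, not_and_or]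
      constructor
      · rintro ⟨h1, h2⟩ x (hx | hx)
        · exact h1 x hx
        · exact h2 x hx
      · intro h
        exact ⟨fun x hx => h x (Or.inl hx), fun x hx => h x (Or.inr hx)⟩
    rw [heq]
    apply odd_card_A
    by_contra hlt
    apply hne
    have h1 : sᶜ ∩ sᶜ.map (g : Perm α).toEmbedding = sᶜ.map (g : Perm α).toEmbedding :=
      Finset.eq_of_subset_of_card_le Finset.inter_subset_right (by rw [Finset.card_map]; omega)
    have h2 : sᶜ ∩ sᶜ.map (g : Perm α).toEmbedding = sᶜ :=
      Finset.eq_of_subset_of_card_le Finset.inter_subset_left (by omega)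
    rw [← h1, h2]
  · intro g _ hbot
    rw [commutator_comm, commutator_eq_bot_iff_le_centralizer, hC, map_A] at hbot
    have hns : ¬ s.map (g : Perm α).toEmbedding ⊆ sᶜ := by
      intro h
      have := Finset.card_le_card h
      rw [Finset.card_map] at this
      omega
    obtain ⟨y, hy, hy'⟩ := Finset.not_subset.1 hns
    obtain ⟨x, hx⟩ : ∃ x : α, x ≠ y := by
      have : 1 < Fintype.card α := by
        have := Finset.card_le_univ s
        omega
      haveI := Fintype.one_lt_card_iff_nontrivial.1 this
      exact exists_ne y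
    obtain ⟨σ, hσ, -, h2⟩ := exists_move (by rw [Finset.card_map]; omega) hy x hx
    exact h2 (mem_A.1 (hbot hσ) y hy')
  · apply le_antisymm (normalizer_le_normalizer_centralizer' _)
    have := normalizer_le_normalizer_centralizer' (centralizer (A s : Set (alternatingGroup α)))
    rw [hC, hCC] at this
    rw [hC]
    exact this

end

/-- For n ≥ 9, the subgroup of the alternating group on Fin n fixing each of the points 0, 1, 2, 3 is a standard subgroup. -/
theorem result (n : ℕ) (h4 : 4 ≤ n) (hn : 9 ≤ n) : Cfsg.IsStandardSubgroup (⨅ i : Fin 4, MulAction.stabilizer ↥(alternatingGroup (Fin n)) (Fin.castLE h4 i : Fin n)) := by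
  classical
  let D : Finset (Fin n) := Finset.univ.map (Fin.castLEEmb h4)
  have hD : D.card = 4 := by simp [D]
  have heq : (⨅ i : Fin 4, MulAction.stabilizer ↥(alternatingGroup (Fin n)) (Fin.castLE h4 i : Fin n)) = A Dᶜ := by
    ext g
    rw [Subgroup.mem_iInf, mem_A]
    constructor
    · intro h x hx
      have hx' : x ∈ D := by simpa using hx
      obtain ⟨i, -, rfl⟩ := Finset.mem_map.1 hx'
      exact h i
    · intro h i
      exact h (Fin.castLE h4 i) (by
        rw [Finset.mem_compl, not_not]; exact Finset.mem_map.2 ⟨i, Finset.mem_univ _, rfl⟩)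
  rw [heq]
  apply standard_A
  · rw [compl_compl, hD]
  · rw [Finset.card_compl, hD]; simp; omega

end Cfsg.Agent.S1323
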