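import Mathlib
import Cfsg.Statements.S1334
import Cfsg.Agent.Lib.KRow.Cond
import Cfsg.Agent.Lib.KRow.SporOut
-- import your own Cfsg.Agent.* helpers here

set_option autoImplicit false
open Cfsg

namespace Cfsg.Agent.S1334

/-- Let G be finite such that every p-local subgroup has all its non-abelian composition factors among the known simple groups, and let a, b be commuting elements of order p. Then the p-layer of L_{p'}(C_G(a)) ∩ C_G(b) equals the p-layer of L_{p'}(C_G(b)) ∩ C_G(a) (both viewed in G). -/
theorem result {G : Type*} [Group G] [Finite G] (p : ℕ) [Fact p.Prime] (hK : ∀ T : Subgroup G, IsPGroup p ↥T → T ≠ ⊥ → Cfsg.IsCompositionKGroup ↥(Subgroup.normalizer (T : Set G))) (a b : G) (ha : orderOf a = p) (hb : orderOf b = p) (hab : a * b = b * a) : (Cfsg.pLayer p ↥((Cfsg.pLayer p ↥(Subgroup.centralizer ({a} : Set G))).map (Subgroup.centralizer ({a} : Set G)).subtype ⊓ Subgroup.centralizer ({b} : Set G))).map ((Cfsg.pLayer p ↥(Subgroup.centralizer ({a} : Set G))).map (Subgroup.centralizer ({a} : Set G)).subtype ⊓ Subgroup.centralizer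 ({b} : Set G)).subtype = (Cfsg.pLayer p ↥((Cfsg.pLayer p ↥(Subgroup.centralizer ({b} : Set G))).map (Subgroup.centralizer ({b} : Set G)).subtype ⊓ Subgroup.centralizer ({a} : Set G))).map ((Cfsg.pLayer p ↥(Subgroup.centralizer ({b} : Set G))).map (Subgroup.centralizer ({b} : Set G)).subtype ⊓ Subgroup.centralizer ({a} : Set G)).subtype := by
  exact CfsgLib.KRow.c1334 CfsgLib.KRow.sporOut p hK a b ha hb hab

end Cfsg.Agent.S1334
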