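import Cfsg.Statements.S1339
import Cfsg.Agent.Lib.Comp.FStar

set_option autoImplicit false
open Cfsg

namespace Cfsg.Agent.S1339

/-- Let F be a field with 2 elements, n ≥ 3, and t ∈ SL(n, F) a transvection (t = 1 + E_{ij}, i ≠ j). Then the generalized Fitting subgroup of C(t) is O_2(C(t)). -/
theorem result {F : Type*} [Field F] [Fintype F] [DecidableEq F] (hF : Fintype.card F = 2) (n : ℕ) (hn : 3 ≤ n) (i j : Fin n) (hij : i ≠ j) (t : Matrix.SpecialLinearGroup (Fin n) F) (ht : (t : Matrix (Fin n) (Fin n) F) = Matrix.transvection i j 1) : Cfsg.generalizedFittingSubgroup ↥(Subgroup.centralizer ({t} : Set (Matrix.SpecialLinearGroup (Fin n) F))) = Cfsg.pCore 2 ↥(Subgroup.centralizer ({t} : Set (Matrix.SpecialLinearGroup (Fin n) F))) := by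
  classical
  have : Fact (Nat.Prime 2) := ⟨Nat.prime_two⟩
  have h01 : ∀ c : F, c ≠ 0 → c = 1 := fun c hc => by
    have := FiniteField.pow_card_sub_one_eq_one c hc
    rwa [hF, show 2 - 1 = 1 from rfl, pow_one] at this
  have h2 : ∀ c : F, c + c = 0 := fun c => by
    have := card_nsmul_eq_zero (G := F) (x := c)
    rwa [hF, two_nsmul] at this
  set C := Subgroup.centralizer ({t} : Set (Matrix.SpecialLinearGroup (Fin n) F)) with hC
  let e : Fin n → F := Pi.single i 1
  have hmul : ∀ (g h : C) (w : Fin n → F), (g * h).1.1.mulVec w = g.1.1.mulVec (h.1.1.mulVec w) :=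
    fun g h w => by rw [Matrix.mulVec_mulVec]; rfl
  have hone : ∀ w : Fin n → F, (1 : C).1.1.mulVec w = w := fun w => Matrix.one_mulVec w
  have hfix : ∀ g : C, g.1.1.mulVec e = e := fun g => by
    have h1 : g.1.1 * Matrix.transvection i j 1 = Matrix.transvection i j 1 * g.1.1 := by
      rw [← ht]
      have h0 : g.1 * t = t * g.1 := Subgroup.mem_centralizer_singleton_iff.1 g.2
      exact congrArg Subtype.val h0
    have h3 : g.1.1.mulVec e = g.1.1 j j • e := by
      funext k
      have h4 := congrFun (congrFun h1 k) j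
      rw [Matrix.mul_transvection_apply_same] at h4
      by_cases hk : k = i
      · subst hk
        rw [Matrix.transvection_mul_apply_same] at h4
        simpa [e] using h4
      · rw [Matrix.transvection_mul_apply_of_ne _ _ _ _ hk] at h4
        simpa [e, hk] using h4
    rw [h3, h01 (g.1.1 j j), one_smul]
    intro h0
    have h5 := hmul g⁻¹ g e
    rw [inv_mul_cancel, hone, h3, h0, zero_smul, Matrix.mulVec_zero] at h5
    simpa [e] using congrFun h5 i
  let A : Subgroup C :=
    { carrier := {g | ∀ w, ∃ c : F, g.1.1.mulVec w = w + c • e}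
      one_mem' := fun w => ⟨0, by rw [hone, zero_smul, add_zero]⟩
      mul_mem' := fun {g h} hg hh w => by
        obtain ⟨c, hc⟩ := hh w
        obtain ⟨c', hc'⟩ := hg w
        exact ⟨c' + c, by
          rw [hmul, hc, Matrix.mulVec_add, Matrix.mulVec_smul, hfix, hc', add_smul, add_assoc]⟩
      inv_mem' := fun {g} hg w => by
        obtain ⟨c, hc⟩ := hg (g⁻¹.1.1.mulVec w)
        rw [← hmul, mul_inv_cancel, hone] at hc
        exact ⟨-c, by rw [neg_smul, ← sub_eq_add_neg, eq_sub_iff_add_eq, ← hc]⟩ }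
  have hA : A.Normal := ⟨fun g hg h w => by
    obtain ⟨c, hc⟩ := hg (h⁻¹.1.1.mulVec w)
    exact ⟨c, by rw [hmul, hmul, hc, Matrix.mulVec_add, Matrix.mulVec_smul, hfix, ← hmul,
      mul_inv_cancel, hone]⟩⟩
  have hp : IsPGroup 2 A := fun g => ⟨1, by
    refine Subtype.ext (Subtype.ext (Subtype.ext (Matrix.ext_of_mulVec_single fun k => ?_)))
    obtain ⟨c, hc⟩ := g.2 (Pi.single k 1)
    change ((g.1 ^ 2 ^ 1 : C)).1.1.mulVec _ = (1 : C).1.1.mulVec _
    rw [pow_one, sq, hmul, hc, Matrix.mulVec_add, Matrix.mulVec_smul, hfix, hc, hone, add_assoc,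
      ← add_smul, h2, zero_smul, add_zero]⟩
  have hle : A ≤ Cfsg.pCore 2 C := CfsgLib.Core.le_pCore hp
  refine CfsgLib.Comp.fstar_eq_pCore_iff.2 fun x hx => hle fun w => ?_
  refine ⟨x.1.1.mulVec w i - w i, funext fun k => ?_⟩
  by_cases hk : k = i
  · subst hk
    simp [e]
  have hki : i ≠ k := Ne.symm hk
  let s : Matrix.SpecialLinearGroup (Fin n) F :=
    ⟨Matrix.transvection i k 1, Matrix.det_transvection_of_ne i k hki 1⟩
  have hs : s ∈ C := Subgroup.mem_centralizer_singleton_iff.2 (Subtype.ext (by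
    change Matrix.transvection i k 1 * t.1 = t.1 * Matrix.transvection i k 1
    rw [ht]
    simp [Matrix.transvection, mul_add, add_mul, Matrix.single_mul_single_of_ne _ _ _ _ hk,
      Matrix.single_mul_single_of_ne _ _ _ _ hij.symm, add_comm, add_left_comm]))
  have hsA : (⟨s, hs⟩ : C) ∈ A := fun w => ⟨w k, by
    change (Matrix.transvection i k 1).mulVec w = _
    rw [Matrix.transvection, Matrix.add_mulVec, Matrix.one_mulVec, Matrix.single_mulVec]
    congr 1
    funext l
    by_cases hl : l = i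
    · subst hl; simp [e]
    · simp [e, hl]⟩
  have h6 := hmul ⟨s, hs⟩ x w
  rw [hx _ (hle hsA), hmul] at h6
  change x.1.1.mulVec ((Matrix.transvection i k 1).mulVec w) =
    (Matrix.transvection i k 1).mulVec (x.1.1.mulVec w) at h6
  have h7 : ∀ w : Fin n → F, (Matrix.transvection i k (1 : F)).mulVec w = w + w k • e := fun w => by
    rw [Matrix.transvection, Matrix.add_mulVec, Matrix.one_mulVec, Matrix.single_mulVec]
    congr 1
    funext l
    by_cases hl : l = i
    · subst hl; simp [e]
    · simp [e, hl]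
  rw [h7, h7, Matrix.mulVec_add, Matrix.mulVec_smul, hfix] at h6
  have h8 := congrFun (add_left_cancel h6) i
  simp [e] at h8
  simp [e, hk, h8]

end Cfsg.Agent.S1339
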