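import Cfsg.Statements.S1340
import Cfsg.Agent.Lib.StdEx.Block

set_option autoImplicit false
open Cfsg

namespace Cfsg.Agent.S1340

open CfsgLib.StdEx CfsgLib.Law

/-- Let F be a finite field of odd order and n ≥ 3 with (n, |F|) ≠ (3, 3). Then GL(n, F) has a non-central involution t such that C(t) / O(C(t)) has a component. -/
theorem result {F : Type*} [Field F] [Fintype F] [DecidableEq F] (hF : Odd (Fintype.card F)) (n : ℕ) (hn : 3 ≤ n) (h33 : ¬ (n = 3 ∧ Fintype.card F = 3)) : ∃ t : Matrix.GeneralLinearGroup (Fin n) F, orderOf t = 2 ∧ t ∉ Subgroup.center (Matrix.GeneralLinearGroup (Fin n) F) ∧ Cfsg.HasComponent (↥(Subgroup.centralizer ({t} : Set (Matrix.GeneralLinearGroup (Fin n) F))) ⧸ Cfsg.oddCore ↥(Subgroup.centralizer ({t} : Set (Matrix.GeneralLinearGroup (Fin n) F)))) := by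
  obtain ⟨m, rfl⟩ : ∃ m, n = m + 1 := ⟨n - 1, by omega⟩
  have h2 := two_ne hF
  haveI : Nontrivial (Fin m) := Fin.nontrivial_iff_two_le.2 (by omega)
  let ρ : Matrix.GeneralLinearGroup (Fin (m + 1)) F →* Matrix (Fin (m + 1)) (Fin (m + 1)) F :=
    Units.coeHom _
  have hρ : Function.Injective ρ := Units.val_injective
  let φ := (Matrix.SpecialLinearGroup.toGL (n := Fin (m + 1)) (R := F)).comp
    (blockSL (F := F) (eLast m))
  have hφ : ∀ X, ρ (φ X) = blockHom (eLast m) X.1 := fun _ => rfl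
  have hsq : blockHom (eLast m) (-1 : Matrix (Fin m) (Fin m) F) * blockHom (eLast m) (-1) = 1 := by
    rw [← map_mul]; simp
  let t : Matrix.GeneralLinearGroup (Fin (m + 1)) F :=
    ⟨blockHom (eLast m) (-1), blockHom (eLast m) (-1), hsq, hsq⟩
  have ht' : ρ t = blockHom (eLast m) (-1) := rfl
  have hperf : commutator (Matrix.SpecialLinearGroup (Fin m) F) = ⊤ := by
    refine CfsgLib.Classical.sl_fin_commutator_eq_top m (by omega) fun hm => ?_
    have h1 : 1 < Fintype.card F := Fintype.one_lt_card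
    rw [Nat.odd_iff] at hF
    omega
  refine ⟨t, orderOf_t (eLast m) ρ hρ t ht' h2, ?_,
    hasComponent_quot (eLast m) ρ hρ φ hφ t ht' hperf h2⟩
  rw [Matrix.GeneralLinearGroup.mem_center_iff_val_mem_range_scalar]
  rintro ⟨a, ha⟩
  have h1 : Matrix.scalar (Fin (m + 1)) a = blockHom (eLast m) (-1) := ha
  rw [blockHom_eLast, Matrix.scalar_apply] at h1
  have h3 := Matrix.diagonal_injective h1
  have h4 := congrFun h3 0
  have h5 := congrFun h3 (Fin.last m)
  simp only [Fin.val_last, if_true] at h5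
  rw [if_neg (by simp; omega), h5] at h4
  exact h2 (by linear_combination h4)

end Cfsg.Agent.S1340
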