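import Mathlib
-- Template for statement S1341 (row 1341; see /opt/grader/pristine/manifest.json for weights).
-- Copy to Cfsg/Agent/S1341.lean and replace the sorry. The statement below is byte-identical to the frozen
-- statement Cfsg.CfsgFrozen.S1341 (Cfsg/Statements/S1341.lean; the theorem Cfsg.extended_two_layer_eq_of_sylow);
-- the grader kernel-checks Cfsg.Agent.S1341.result against that frozen type. Keep the theorem IN THIS FILE
-- (a `result` declared elsewhere and merely imported here is not credited); helpers may live anywhere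
-- under Cfsg/Agent/.
import Cfsg.Statements.S1341
import Cfsg.Agent.Lib.LBal.App
import Cfsg.Agent.Lib.Tech.SylowIn

set_option autoImplicit false
open Cfsg

namespace Cfsg.Agent.S1341

open Subgroup CfsgLib.LBal CfsgLib.PComp CfsgLib.Comp


/-- Let X be finite and T a Sylow 2-subgroup of L_{2'}(X) O_{2',2}(X). Then L*_{2'}(X) = L_{2'}(X) ⊔ O(X) ⊔ O(C_X(T)). -/
theorem result {X : Type*} [Group X] [Finite X] (T : Sylow 2 ↥(Cfsg.pLayer 2 X ⊔ Cfsg.pPrimePCore 2 X)) : Cfsg.extendedTwoLayer X = Cfsg.pLayer 2 X ⊔ Cfsg.oddCore X ⊔ ((Cfsg.oddCore ↥(Subgroup.centralizer (((T : Subgroup ↥(Cfsg.pLayer 2 X ⊔ Cfsg.pPrimePCore 2 X)).map (Cfsg.pLayer 2 X ⊔ Cfsg.pPrimePCore 2 X).subtype : Subgroup X) : Set X))).map (Subgroup.centralizer (((T : Subgroup ↥(Cfsg.pLayer 2 X ⊔ Cfsg.pPrimePCore 2 X)).map (Cfsg.pLayer 2 X ⊔ Cfsg.pPrimePCore 2 X).subtype : Subgroup X) : Set X)).subtype) := by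
  haveI := pLayer_normal (p := 2) (G := X)
  haveI := sup_pPrimePCore_normal (G := X)
  revert T
  rw [extendedTwoLayer_eq]
  set N := pLayer 2 X ⊔ pPrimePCore 2 X with hN
  intro T
  have hT := CfsgLib.Tech.IsSylowIn.of_sylow_subgroup T
  obtain ⟨S, hS⟩ := hT.2.exists_le_sylow
  have hT' : (T : Subgroup N).map N.subtype = (S : Subgroup X) ⊓ N :=
    (hT.eq_of_le S.isPGroup'.to_inf_left (le_inf hS hT.le) inf_le_right).symm
  change _ = pLayer 2 X ⊔ pPrimeCore 2 X ⊔
    opOf 2 (centralizer (((T : Subgroup N).map N.subtype : Subgroup X) : Set X))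
  refine le_antisymm (sup_le le_sup_left (iSup_le fun T' => ?_)) (sup_le_sup_left ?_ _)
  · obtain ⟨n, rfl⟩ := MulAction.exists_smul_eq N T T'
    have hn : (n : X) ∈ ((pLayer 2 X ⊔ pPrimeCore 2 X) ⊔ ((S : Subgroup X) ⊓ N) : Subgroup X) := by
      refine (sup_le (le_sup_left.trans le_sup_left) fun x hx => ?_ : N ≤ _) n.2
      have h1 : piO 2 X x ∈ (S : Subgroup X).map (piO 2 X) :=
        CfsgLib.Core.pCore_le_sylow (S.mapSurjective piO_surjective) hx
      obtain ⟨s, hs, h2⟩ := h1
      have h3 : x * s⁻¹ ∈ pPrimeCore 2 X := by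
        rw [← ker_piO, MonoidHom.mem_ker, map_mul, map_inv, h2, mul_inv_cancel]
      have h4 : s ∈ N := mem_sup_right (show piO 2 X s ∈ pCore 2 _ by rw [h2]; exact hx)
      simpa using mul_mem (mem_sup_left (T := (S : Subgroup X) ⊓ N) (mem_sup_right
        (S := pLayer 2 X) h3)) (mem_sup_right (show s ∈ (S : Subgroup X) ⊓ N from ⟨hs, h4⟩))
    rw [← SetLike.mem_coe, normal_mul] at hn
    obtain ⟨m, hm, s, hs, e⟩ := hn
    have h5 : ((n • T : Sylow 2 N) : Subgroup N).map N.subtype =
        ((T : Subgroup N).map N.subtype).map (MulAut.conj m).toMonoidHom := by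
      have h6 : ((T : Subgroup N).map N.subtype).map (MulAut.conj s).toMonoidHom =
          (T : Subgroup N).map N.subtype :=
        mem_normalizer_iff_map.1 (Subgroup.le_normalizer (by rw [hT']; exact hs))
      conv_rhs => rw [← h6, ← map_conj_mul, show m * s = n from e]
      rw [Sylow.coe_subgroup_smul, map_map]
      exact map_map _ N.subtype (MulAut.conj n).toMonoidHom
    rw [h5, ← map_conj_centralizer, ← map_conj_opOf]
    rintro _ ⟨u, hu, rfl⟩
    exact mul_mem (mul_mem (mem_sup_left hm) (mem_sup_right hu)) (inv_mem (mem_sup_left hm))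
  · exact le_iSup (fun T : Sylow 2 N => opOf 2 (centralizer
      (((T : Subgroup N).map N.subtype : Subgroup X) : Set X))) T

end Cfsg.Agent.S1341
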