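import Cfsg.Statements.S1598
import Cfsg.Agent.Lib.MOrb.Iso
import Cfsg.Agent.Lib.MOrb.Quart

set_option autoImplicit false
open scoped Pointwise
open Cfsg

namespace Cfsg.Agent.S1598

open CfsgLib.MOrb CfsgLib.Golay
open CfsgLib.Mathieu (idc inM24)

/-- the normal subgroup of order nine -/
def tl : List ℕ := [984818244535754528103549039458486304, 487655643029606470073469406179395616, 929000492124499343650182431580424224, 228040621104547906519190828822396993, 796596989235290860699862416851632193, 648616937721000595807566695070498881, 716116564721501602909360121069011970, 438329100525780770555707076251124738, 304627508251958497223725218456470530]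

/-- the translation by a vector -/
def f (v : Fin 2 → ZMod 3) : ℕ := tl.getD ((v 0).val + 3 * (v 1).val) 0

theorem std : ∃ φ : HQ →* GL (Fin 2) (ZMod 3), Function.Surjective φ ∧ Nat.card φ.ker = 9 := by
  have hf : ∀ y, inM24 (f y) = true := by decide +kernel
  obtain ⟨φ, h1, -⟩ := exists_hom_of_chain (MonoidHom.id (GL (Fin 2) (ZMod 3)))
    (fun y => Cj.of (mk (f y))) chQ_mem chQ_ok card_HQ.le (match_cj hf chQ_mem
      (ks := [⟨!![1, 1; 2, 0], !![0, 2; 1, 1], by decide, by decide⟩, ⟨!![2, 0; 0, 2], !![2, 0; 0, 2], by decide, by decide⟩, ⟨!![2, 1; 0, 2], !![2, 2; 0, 2], by decide, by decide⟩, ⟨!![1, 0; 0, 2], !![1, 0; 0, 2], by decide, by decide⟩, ⟨!![2, 2; 0, 1], !![2, 2; 0, 1], by decide, by decide⟩, ⟨!![2, 2; 2, 0], !![0, 2; 2, 1], by decide, by decide⟩]) (by decide +kernel)) (fun k hk => gl_eq_one fun y => by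
      have h : ∀ a b, f a = f b → a = b := by decide +kernel
      exact h _ _ (mk_inj (hf _) (hf _) (Cj.of_injective (hk y))))
  refine ⟨φ, surjective_of_card_ker_le φ ?_ (by rw [card_HQ, card_GL23])⟩
  have h2 : ∀ g : φ.ker, cd g ∈ tl.toFinset := by
    rintro ⟨g, hg⟩
    obtain ⟨k, h2, h3⟩ := h1 g
    rw [MonoidHom.mem_ker.1 hg] at h2
    rw [← show 1 = k from h2] at h3
    have h4 : ∀ y, cj (cd g) (f y) = f y := fun y =>
      cj_eq_of_smul (hf y) (hf y) (by simpa only [one_smul] using h3 y)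
    have := forall_eltS (hash := chd 521 113 0x22000300250004000600010001000d00010004003c0035001c000b00070001000000040001000a0015001300060004001000040000002f000500230000000b000000140000001b0002000000370000000100380000000400000001005d001800010000001f00540012000a000200040003000a00010067003c000200110006001e000300430058000d0008000f0005000100030007000b00030012000500030002000d00070008000e000b00120032000700000006001500310005000b000700000016003400020001004c00060000000e00150001001800020041000200050001) (N := 521) (n := 432) (K := HQ)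
      (gens := [435448343473050800973518634131833132, 731686305031343677272880461440361872])
      (f := fun a => or (not (and (Nat.beq (cj a (f ![1, 0])) (f ![1, 0]))
        (Nat.beq (cj a (f ![0, 1])) (f ![0, 1])))) (anyL tl fun x => Nat.beq x a))
      (okF_mem (F := [D0]) (k := 4) (m := Q0) (by decide +kernel)
        fun _ h e => ⟨h _ List.mem_cons_self, e⟩) (by decide +kernel) card_HQ.le g.2
    rw [h4, h4] at this
    simpa [anyL_iff] using this
  have h3 := Nat.card_le_card_of_injective (fun g : φ.ker => (⟨cd g, h2 g⟩ : tl.toFinset))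
    fun a b e => Subtype.ext (Subtype.ext (cd_injective (congrArg Subtype.val e)))
  rw [Nat.card_eq_fintype_card (α := tl.toFinset), Fintype.card_coe] at h3
  exact h3.trans (List.toFinset_card_le tl)

theorem trans_of_reach {K : Subgroup M24} {gens : List ℕ} (hg : ∀ p ∈ gens, okP p = true ∧ mk p ∈ K)
    {b n : ℕ} {A : Finset GolayPt} (hb : b < 24)
    (h : (maskModel syn).reachS gens [2 ^ b] 4096 n = true) (hA : A.card ≤ n)
    (hinv : ∀ k ∈ K, k • pt b ∈ A) : ∀ z ∈ A, ∃ k ∈ K, k • pt b = z := by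
  intro z hz
  have e : (maskModel syn).dec (2 ^ b) = {pt b} := ofMask_two_pow' hb
  obtain ⟨k, hk, e2⟩ := Model.cover1S (Ω := (fun x : GolayPt => ({x} : Finset GolayPt)) '' ↑A)
    (Set.toFinite _) hg h ((Set.ncard_image_le (Set.toFinite _)).trans (by rwa [Set.ncard_coe_finset]))
    (fun k hk => ⟨k • pt b, hinv k hk, by rw [e, Finset.smul_finset_singleton]⟩) ⟨z, hz, rfl⟩
  rw [e, smul_single_iff] at e2
  exact ⟨k, hk, e2⟩

set_option maxRecDepth 100000 in

/-- A quartet stabiliser inside the dodecad stabiliser has order 432, a normal subgroup of order 9 with quotient GL(2, 3), and is transitive on the dodecad. -/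
theorem result (d : Finset Cfsg.GolayPt) (hd : d ∈ Cfsg.dodecads) (Q : Finset (Finset Cfsg.GolayPt)) (hQ : Q ∈ Cfsg.quartets d) : Nat.card ↥(MulAction.stabilizer Cfsg.M24 d ⊓ MulAction.stabilizer Cfsg.M24 Q) = 432 ∧ (∃ (N : Subgroup ↥(MulAction.stabilizer Cfsg.M24 d ⊓ MulAction.stabilizer Cfsg.M24 Q)) (_ : N.Normal), Nat.card N = 9 ∧ Nonempty (↥(MulAction.stabilizer Cfsg.M24 d ⊓ MulAction.stabilizer Cfsg.M24 Q) ⧸ N ≃* GL (Fin 2) (ZMod 3))) ∧ ∀ p ∈ d, ∀ q ∈ d, ∃ g ∈ (MulAction.stabilizer Cfsg.M24 d ⊓ MulAction.stabilizer Cfsg.M24 Q), ((g : ↥Cfsg.M24) : Equiv.Perm Cfsg.GolayPt) p = q := by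
  obtain ⟨g, rfl, rfl⟩ := trans_quartet hd hQ
  refine ⟨(Nat.card_congr (conjEquiv g (mem_HQ_conj g)).toEquiv).trans card_HQ, ?_, ?_⟩
  · obtain ⟨φ, h1, h2⟩ := std
    obtain ⟨N, hN, h3, -, h4⟩ := exists_ker (conjEquiv g (mem_HQ_conj g)) φ h1
    exact ⟨N, hN, h3.trans h2, h4⟩
  · intro x hx y hy
    have h : ∀ z ∈ ofMask D0, ∃ k ∈ HQ, k • pt 0 = z :=
      trans_of_reach chQ_mem (b := 0) (n := 12) (by norm_num) (by decide +kernel) D0_mem.2.le
        fun k hk => (smul_mem_iff_of_stab (s := ofMask D0) hk.1 _).2 (by decide)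
    obtain ⟨x, rfl⟩ := MulAction.surjective g x
    obtain ⟨y, rfl⟩ := MulAction.surjective g y
    rw [Finset.smul_mem_smul_finset_iff] at hx hy
    obtain ⟨a, ha, ea⟩ := h x hx
    obtain ⟨b, hb, eb⟩ := h y hy
    refine ⟨g * (b * a⁻¹) * g⁻¹, (mem_HQ_conj g _).2 (by
      rw [show g⁻¹ * (g * (b * a⁻¹) * g⁻¹) * g = b * a⁻¹ by group]
      exact HQ.mul_mem hb (HQ.inv_mem ha)), ?_⟩
    change (g * (b * a⁻¹) * g⁻¹) • g • x = _
    rw [conj_smul, ← ea, ← eb, mul_smul, inv_smul_smul]

end Cfsg.Agent.S1598
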