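import Cfsg.Statements.S1628
import Cfsg.Agent.Lib.Ru.Main

set_option autoImplicit false
open Cfsg

namespace Cfsg.Agent.S1628

/-- The Conway–Wales lattice as stored is even with no vectors of true norm 2: stored norms are multiples of 8, never equal to 8, and the minimum over nonzero vectors is 16. -/
theorem result : (∀ x ∈ Cfsg.Spor.ruLattice, (8 : ℤ) ∣ Cfsg.Spor.ruNorm x) ∧ (∀ x ∈ Cfsg.Spor.ruLattice, Cfsg.Spor.ruNorm x ≠ 8) ∧ (∀ x ∈ Cfsg.Spor.ruLattice, x ≠ 0 → 16 ≤ Cfsg.Spor.ruNorm x) ∧ ∃ x ∈ Cfsg.Spor.ruLattice, Cfsg.Spor.ruNorm x = 16 := by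
  open CfsgLib.Ru in
  have h : ∀ x ∈ Cfsg.Spor.ruLattice, x ≠ 0 → 16 ≤ Cfsg.Spor.ruNorm x := fun x hx h0 => by
    by_contra hn
    obtain ⟨i, k, e⟩ := short_eq (v := ⟨x, hx⟩) (fun e => h0 (congrArg Subtype.val e)) (not_le.1 hn).le
    rw [show x = _ from (congrArg Subtype.val e).trans (coe_it _ _), norm_gI_smul] at hn
    exact hn (norm_xr i).ge
  open CfsgLib.Ru in
  refine ⟨fun x hx => norm_co x ▸ even_of_OK orth_ok (mem_iff.1 hx), fun x hx e => ?_, h,
    _, (xL 0).2, norm_xr 0⟩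
  have := h x hx (by rintro rfl; exact absurd e (by decide +kernel))
  omega

end Cfsg.Agent.S1628
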