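import Cfsg.Statements.S1729
import Cfsg.Agent.Lib.Holt.Wrap

set_option autoImplicit false
open Cfsg

namespace Cfsg.Agent.S1729

/-- Let G be a finite simple group acting faithfully and primitively on a finite set Ω, with no nontrivial normal subgroup of odd order and trivial centre. If some involution of G lying in the centre of a Sylow 2-subgroup fixes exactly one point of Ω, then either G has a strongly embedded subgroup, or G is isomorphic to the alternating or the symmetric group of some odd degree. For a simple group the symmetric alternative cannot occur, since no symmetric group of degree at least 3 is simple. -/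
theorem result {G : Type*} [Group G] [Finite G] [IsSimpleGroup G] {Ω : Type*} [Finite Ω]
    [MulAction G Ω] [FaithfulSMul G Ω] [MulAction.IsPreprimitive G Ω] (hO : Cfsg.oddCore G = ⊥)
    (hZ : Subgroup.center G = ⊥) (t : G) (ht : Cfsg.IsTwoCentralInvolution t) (hfix : ∃! ω : Ω, t • ω = ω) :
    (∃ H : Subgroup G, Cfsg.IsStronglyEmbedded H) ∨
      ∃ n : ℕ, Odd n ∧ (Nonempty (G ≃* alternatingGroup (Fin n)) ∨ Nonempty (G ≃* Equiv.Perm (Fin n))) := by
  obtain ⟨ω, hω, hu⟩ := hfix
  have hn : ¬ IsMulCommutative G := fun h => by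
    have : t ∈ Subgroup.center G := Subgroup.mem_center_iff.2 fun g => h.is_comm.comm g t
    rw [hZ, Subgroup.mem_bot] at this
    simpa [this] using ht.1
  have hP : MulAction.stabilizer G ω ≠ ⊤ := fun h => by
    have : t = 1 := eq_of_smul_eq_smul (α := Ω) fun a => by
      obtain ⟨g, rfl⟩ := MulAction.exists_smul_eq G ω a
      rw [one_smul, show g • ω = ω from h.ge (Subgroup.mem_top g), hω]
    simpa [this] using ht.1
  have hf : ∃! a : G ⧸ MulAction.stabilizer G ω, t • a = a := by
    refine ⟨QuotientGroup.mk 1, CfsgLib.StrEmb.smul_mk_eq_iff.2 (by simpa using hω), fun a ha => ?_⟩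
    obtain ⟨g, rfl⟩ := QuotientGroup.mk_surjective a
    have h := CfsgLib.StrEmb.smul_mk_eq_iff.1 ha
    rw [MulAction.mem_stabilizer_iff, mul_smul, mul_smul, inv_smul_eq_iff] at h
    rw [QuotientGroup.eq, mul_one, inv_mem_iff]
    exact hu _ h
  rcases CfsgLib.Holt.holt_sub hn hP ht hf with ⟨h, S, -⟩ | ⟨n, -, h, -, e, -⟩
  · exact Or.inl ⟨_, h.isStronglyEmbedded S⟩
  · exact Or.inr ⟨n, h, Or.inl e⟩

end Cfsg.Agent.S1729
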