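import Cfsg.Statements.S1732
import Cfsg.Agent.Lib.RuS.Simple
-- import your own Cfsg.Agent.* helpers here

set_option autoImplicit false
open Cfsg

namespace Cfsg.Agent.S1732

/-- Let G be a non-abelian finite simple group which is locally balanced (the centralizer of every involution has no nontrivial normal subgroup of odd order) and has the strong B-property (every section of G has the B-property), and let L be a standard subgroup of G isomorphic to the Suzuki group over the field with 8 elements. Then G is isomorphic to the Rudvalis group. -/
theorem result {G : Type*} [Group G] [Finite G] [IsSimpleGroup G] (hG : ¬ IsMulCommutative G)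
    (hbal : ∀ t : G, orderOf t = 2 → Cfsg.centralizerPPrimeCore 2 t = ⊥) (hB : Cfsg.HasStrongBProperty G)
    (L : Subgroup G) (hL : Cfsg.IsStandardSubgroup L)
    {F : Type*} [Field F] [Fintype F] (hF : Fintype.card F = 8) (hLX : Nonempty (↥L ≃* ↥(Cfsg.Lie.Sz F 4))) :
    Cfsg.Spor.IsoRu G :=
  CfsgLib.RuS.simple hG hB L hL hF hLX

end Cfsg.Agent.S1732
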