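import Cfsg.Statements.S1733
import Cfsg.Agent.Lib.StdInt.Wrap
import Cfsg.Agent.Lib.StdInt.Sp62
import Cfsg.Agent.Lib.LieModel.Sp62.Iso
import Cfsg.Agent.S1678

set_option autoImplicit false
open Cfsg

namespace Cfsg.Agent.S1733

open CfsgLib in
theorem psp_equiv {F : Type*} [Field F] [Fintype F] (hF : Fintype.card F = 2) :
    Nonempty (Cfsg.PSp 3 F ≃* Sp62.Sp) := by
  obtain ⟨e⟩ := LieModel.Sp62.iso hF
  obtain ⟨e'⟩ := LieModel.Sp62.iso (F := ZMod 2) (ZMod.card 2)
  have : Finite Sp62.Sp := Nat.finite_of_card_ne_zero (by rw [Sp62.card_Sp]; norm_num)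
  exact ⟨(e.trans e'.symm).trans (MulEquiv.ofBijective (QuotientGroup.mk' (Subgroup.center Sp62.Sp))
    ((Nat.bijective_iff_surjective_and_card _).2 ⟨QuotientGroup.mk'_surjective _,
      Sp62.card_Sp.trans LieModel.Sp62.card_G.symm⟩)).symm⟩

/-- Let G be a non-abelian finite simple group which is locally balanced (the centralizer of every involution has no nontrivial normal subgroup of odd order) and has the strong B-property (every section of G has the B-property), and let L be a standard subgroup of G whose centre has order 2 with quotient isomorphic to the symplectic group of dimension 6 over the field with 2 elements. Then G is isomorphic to the third Conway group. -/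
theorem result {G : Type*} [Group G] [Finite G] [IsSimpleGroup G] (hG : ¬ IsMulCommutative G)
    (hbal : ∀ t : G, orderOf t = 2 → Cfsg.centralizerPPrimeCore 2 t = ⊥) (hB : Cfsg.HasStrongBProperty G)
    (L : Subgroup G) (hL : Cfsg.IsStandardSubgroup L)
    {F : Type*} [Field F] [Fintype F] (hF : Fintype.card F = 2) (hLX : (Nat.card ↥(Subgroup.center ↥L) = 2 ∧ Nonempty (↥L ⧸ Subgroup.center ↥L ≃* Cfsg.PSp 3 F))) :
    Cfsg.Spor.IsoCo3 G := by
  obtain ⟨h1, ⟨e⟩⟩ := hLX
  obtain ⟨e'⟩ := psp_equiv hF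
  have h2 := CfsgLib.StdInt.nonsplit_of_perfect (CfsgLib.StdInt.commutator_of_standard hL) h1 (e.trans e')
  obtain ⟨t, σ, h3⟩ := CfsgLib.StdInt.exists_dbl' h2
  obtain ⟨h4, h5⟩ := CfsgLib.StdInt.sp62_good h3
  have ht : orderOf (t : G) = 2 := (Subgroup.orderOf_coe t).trans h3.ord
  have h6 := CfsgLib.StdInt.cent_eq_of_bal hG hL h4 h5 (hbal _ ht)
  refine Cfsg.Agent.S1678.result ?_ ?_ (t : G) ht (by rw [h6]; exact h2)
  · refine (Subgroup.Normal.eq_bot_or_eq_top inferInstance).resolve_right fun e => ?_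
    have h7 := CfsgLib.Core.odd_card_oddCore G
    rw [show pPrimeCore 2 G = ⊤ from e, Subgroup.card_top] at h7
    exact absurd (h7.of_dvd_nat (ht ▸ orderOf_dvd_natCard (t : G))) (by decide)
  · exact (Subgroup.Normal.eq_bot_or_eq_top inferInstance).resolve_right fun e =>
      hG ⟨⟨fun a b => (Subgroup.mem_center_iff.1 (e ▸ Subgroup.mem_top b : b ∈ Subgroup.center G) a)⟩⟩

end Cfsg.Agent.S1733
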