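import Cfsg.Statements.S1740
import Cfsg.Agent.Lib.Class2.Small
import Cfsg.Agent.Lib.Gold.All

set_option autoImplicit false
open Cfsg

namespace Cfsg.Agent.S1740

/-- Let G be a non-abelian finite simple group containing an elementary abelian subgroup of order 8, and S a Sylow 2-subgroup of G. Suppose S is isomorphic to a Sylow 2-subgroup of one of: the projective special linear group of dimension 2 or 3 over a field F with 2^n elements, the projective symplectic group of dimension 4 over such F (n ≥ 2), the projective special unitary group of dimension 3 over the field with 4^n elements, or the Suzuki group over the field with 2^n elements (n odd, n ≥ 3). Then G is isomorphic to that same group over the same field, or G is a Ree group of type G₂ in characteristic 3, or G is the first Janko group. -/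
theorem result {G : Type*} [Group G] [Finite G] [IsSimpleGroup G]
    (hG : ¬ IsMulCommutative G) (h3 : ¬ Cfsg.PRankLE 2 2 G) (S : Sylow 2 G) (n : ℕ)
    (hS : (∃ (F : Type) (_ : Field F) (_ : Fintype F), Fintype.card F = 2 ^ n ∧ ((∃ P : Sylow 2 (Matrix.ProjectiveSpecialLinearGroup (Fin 2) F), Nonempty (↥(S : Subgroup G) ≃* ↥(P : Subgroup (Matrix.ProjectiveSpecialLinearGroup (Fin 2) F)))) ∨ (∃ P : Sylow 2 (Matrix.ProjectiveSpecialLinearGroup (Fin 3) F), Nonempty (↥(S : Subgroup G) ≃* ↥(P : Subgroup (Matrix.ProjectiveSpecialLinearGroup (Fin 3) F)))) ∨ (2 ≤ n ∧ (∃ P : Sylow 2 (Cfsg.PSp 2 F), Nonempty (↥(S : Subgroup G) ≃* ↥(P : Subgroup (Cfsg.PSp 2 F))))))) ∨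
      (∃ (F : Type) (_ : Field F) (_ : Fintype F), Fintype.card F = 4 ^ n ∧ (∃ P : Sylow 2 (Cfsg.PSU 3 F (2 ^ n)), Nonempty (↥(S : Subgroup G) ≃* ↥(P : Subgroup (Cfsg.PSU 3 F (2 ^ n)))))) ∨
      (∃ m : ℕ, 1 ≤ m ∧ n = 2 * m + 1 ∧ ∃ (F : Type) (_ : Field F) (_ : Fintype F), Fintype.card F = 2 ^ n ∧ (∃ P : Sylow 2 ↥(Cfsg.Lie.Sz F (2 ^ (m + 1))), Nonempty (↥(S : Subgroup G) ≃* ↥(P : Subgroup ↥(Cfsg.Lie.Sz F (2 ^ (m + 1)))))))) :
    (∃ (F : Type) (_ : Field F) (_ : Fintype F), Fintype.card F = 2 ^ n ∧ (Nonempty (G ≃* Matrix.ProjectiveSpecialLinearGroup (Fin 2) F) ∨ Nonempty (G ≃* Matrix.ProjectiveSpecialLinearGroup (Fin 3) F) ∨ Nonempty (G ≃* Cfsg.PSp 2 F))) ∨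
      (∃ (F : Type) (_ : Field F) (_ : Fintype F), Fintype.card F = 4 ^ n ∧ Nonempty (G ≃* Cfsg.PSU 3 F (2 ^ n))) ∨
      (∃ m : ℕ, 1 ≤ m ∧ n = 2 * m + 1 ∧ ∃ (F : Type) (_ : Field F) (_ : Fintype F), Fintype.card F = 2 ^ n ∧ Nonempty (G ≃* ↥(Cfsg.Lie.Sz F (2 ^ (m + 1))))) ∨
      Cfsg.Lie.IsoRee G ∨ Cfsg.Spor.IsoJ1 G := by
  have hI := CfsgLib.Gold.all
  rcases hS with ⟨F, _, _, hF, ⟨P, ⟨e⟩⟩ | ⟨P, ⟨e⟩⟩ | ⟨hn, P, ⟨e⟩⟩⟩ | ⟨F, _, _, hF, P, ⟨e⟩⟩ | ⟨m, hm, rfl, F, _, _, hF, P, ⟨e⟩⟩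
  · exact (CfsgLib.Class2.of_psl2 hG h3 S hF P e).imp (fun ⟨K, _, _, h1, h2⟩ => ⟨K, _, _, h1, Or.inl h2⟩)
      fun h => Or.inr (Or.inr h)
  · obtain ⟨K, _, _, h1, h2⟩ := CfsgLib.Class2.of_psl3 hG h3 S hI hF P e
    exact Or.inl ⟨K, _, _, h1, Or.inr h2⟩
  · obtain ⟨A, B, h, h4⟩ := CfsgLib.Class2.cfg_of_psp hF S P e
    obtain ⟨K, _, _, h1, h2⟩ := h.simple_iso hI (h4 ▸ Nat.pow_le_pow_right (n := 2) two_pos hn)
    exact Or.inl ⟨K, _, _, h1.trans h4, Or.inr h2⟩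
  · exact Or.inr (Or.inl ⟨F, _, _, hF, CfsgLib.Class2.of_psu hG h3 S hI hF P e⟩)
  · exact Or.inr (Or.inr (Or.inl ⟨m, hm, rfl, CfsgLib.Class2.of_sz hG S hI hm hF P e⟩))

end Cfsg.Agent.S1740
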