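import Cfsg.Statements.S1745
import Cfsg.Agent.Lib.StdInt.Wrap
import Cfsg.Agent.Lib.StdInt.Alt
import Cfsg.Agent.S3334

set_option autoImplicit false
open Cfsg

namespace Cfsg.Agent.S1745

/-- Let G be a non-abelian finite simple group with the strong B-property (every section of G has the B-property) possessing a standard subgroup L which is a non-split double cover of the alternating group of degree 8. Then G is a group of Lie type in characteristic 3, or an alternating group of degree at least 9, or G is isomorphic to the McLaughlin group. -/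
theorem result {G : Type*} [Group G] [Finite G] [IsSimpleGroup G] (hG : ¬ IsMulCommutative G)
    (hB : Cfsg.HasStrongBProperty G) (L : Subgroup G) (hL : Cfsg.IsStandardSubgroup L)
    (hLX : Cfsg.IsNonsplitDoubleCover ↥L ↥(alternatingGroup (Fin 8))) :
    Cfsg.IsLieTypeChar 3 G ∨ (∃ n : ℕ, 9 ≤ n ∧ Nonempty (G ≃* ↥(alternatingGroup (Fin n)))) ∨ Cfsg.Spor.IsoMcL G := by
  obtain ⟨t, σ, h3⟩ := CfsgLib.StdInt.exists_dbl' hLX
  have ht : orderOf (t : G) = 2 := (Subgroup.orderOf_coe t).trans h3.ord
  have h6 := CfsgLib.StdInt.cent_eq_of_good3 hG hL (CfsgLib.StdInt.alt_good3 h3 le_rfl (by norm_num))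
  refine Or.inr (Or.inr ((Cfsg.Agent.S3334.result (t : G) ht (by rw [h6]; exact hLX)).resolve_left fun h => ?_))
  have h8 : oddCore G = ⊥ := by
    refine (Subgroup.Normal.eq_bot_or_eq_top inferInstance).resolve_right fun e => ?_
    have h7 := CfsgLib.Core.odd_card_oddCore G
    rw [show pPrimeCore 2 G = ⊤ from e, Subgroup.card_top] at h7
    exact absurd (h7.of_dvd_nat (ht ▸ orderOf_dvd_natCard (t : G))) (by decide)
  rw [h8, sup_bot_eq] at h
  have h9 : (t : G) ∈ Subgroup.center G := Subgroup.mem_center_iff.2 fun g =>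
    Subgroup.mem_centralizer_singleton_iff.1 (h ▸ Subgroup.mem_top g)
  rcases (Subgroup.Normal.eq_bot_or_eq_top (inferInstance : (Subgroup.center G).Normal)) with e | e
  · rw [e, Subgroup.mem_bot] at h9
    simp [h9] at ht
  · exact hG ⟨⟨fun a b => (Subgroup.mem_center_iff.1 (e ▸ Subgroup.mem_top b : b ∈ Subgroup.center G) a)⟩⟩

end Cfsg.Agent.S1745
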