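import Cfsg.Statements.S1761
import Cfsg.Agent.Lib.LXR.Main
import Cfsg.Agent.Lib.SylT.L5i

set_option autoImplicit false
open Cfsg CfsgLib CfsgLib.LXR CfsgLib.LargeExtra

namespace Cfsg.Agent.S1761

/-- Let G be a finite simple group and let z be an involution of G such that Q, the generalized Fitting subgroup of the centralizer C of z, is a 2-group of symplectic type (every characteristic abelian subgroup of Q is cyclic); suppose moreover that Q is extraspecial of order 2^(2n+1) with n ≥ 3. Then G is isomorphic to the projective special linear group of dimension n + 2 over the field with 2 elements, or n = 3 and G is isomorphic to the Mathieu group of degree 24 or to the Held group, or C acts irreducibly on Q/⟨z⟩: every normal subgroup of C lying between the subgroup generated by z and Q is one of these two. -/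
theorem result {G : Type*} [Group G] [Finite G] [IsSimpleGroup G] (z : G) (hz : orderOf z = 2) (hQ : Cfsg.IsOfSymplecticType ↥(Cfsg.generalizedFittingSubgroup ↥(Subgroup.centralizer ({z} : Set G)))) (hE : Cfsg.IsExtraspecial 2 ↥(Cfsg.generalizedFittingSubgroup ↥(Subgroup.centralizer ({z} : Set G))))
    (n : ℕ) (hn : 3 ≤ n) (hcard : Nat.card ↥(Cfsg.generalizedFittingSubgroup ↥(Subgroup.centralizer ({z} : Set G))) = 2 ^ (2 * n + 1)) :
    (∃ (F : Type) (_ : Field F) (_ : Fintype F), Fintype.card F = 2 ∧ Nonempty (G ≃* Matrix.ProjectiveSpecialLinearGroup (Fin (n + 2)) F)) ∨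
      (n = 3 ∧ (Cfsg.Spor.IsoM24 G ∨ Cfsg.Spor.IsoHe G)) ∨
      (∀ A : Subgroup ↥(Subgroup.centralizer ({z} : Set G)), A.Normal → Subgroup.zpowers (⟨z, Subgroup.mem_centralizer_singleton_iff.mpr rfl⟩ : ↥(Subgroup.centralizer ({z} : Set G))) ≤ A →
        A ≤ Cfsg.generalizedFittingSubgroup ↥(Subgroup.centralizer ({z} : Set G)) → A = Subgroup.zpowers (⟨z, Subgroup.mem_centralizer_singleton_iff.mpr rfl⟩ : ↥(Subgroup.centralizer ({z} : Set G))) ∨ A = Cfsg.generalizedFittingSubgroup ↥(Subgroup.centralizer ({z} : Set G))) := by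
  have hp := pre_of_fstar hz _ rfl hE
  have hF := pCore_eq_of_fstar rfl (IsPGroup.of_card hcard)
  have h : Hn z n := ⟨by rwa [LXQ.Qx, hF], by rw [LXQ.Qx, hF, card_amb, hcard], hn⟩
  by_cases hr : Red z
  · rcases hn.eq_or_lt with rfl | h4
    · obtain ⟨ε⟩ := SylT.TL.psl_equiv (ZMod.card 2)
      rcases Hr.held ⟨h, hr⟩ with ⟨⟨e⟩⟩ | e
      exacts [.inl ⟨_, _, _, ZMod.card 2, ⟨e.trans ε⟩⟩, .inr (.inl ⟨rfl, e⟩)]
    · exact .inl ⟨_, _, _, ZMod.card 2, Hr.psl ⟨h, hr⟩ h4⟩
  refine .inr (.inr fun A hA h1 h2 => by_contra fun c => hr ?_)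
  rw [not_or, ← hF] at c
  rw [← hF] at h2
  obtain ⟨x, hx, e⟩ := SetLike.not_le_iff_exists.1 fun k => c.1 (le_antisymm k h1)
  refine ⟨amb A, Subgroup.map_mono h2, ⟨_, h1 (Subgroup.mem_zpowers _), rfl⟩, ?_, ⟨x, coe_mem_amb.2 hx,
    fun k => e ((Subtype.ext k : x = 1) ▸ one_mem _), fun k => e ((Subtype.ext k : x = ⟨z, _⟩) ▸
      Subgroup.mem_zpowers _)⟩, fun k => c.2 (le_antisymm h2 fun y hy => coe_mem_amb.1 (k (coe_mem_amb.2 hy)))⟩
  rintro g hg _ ⟨y, hy, rfl⟩
  exact ⟨_, hA.conj_mem y hy ⟨g, mem_cent.2 hg⟩, rfl⟩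

end Cfsg.Agent.S1761
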