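import Mathlib
-- Template for statement S1775 (row 1775; see /opt/grader/pristine/manifest.json for weights).
-- Copy to Cfsg/Agent/S1775.lean and replace the sorry. The statement below is byte-identical to the frozen
-- statement Cfsg.CfsgFrozen.S1775 (Cfsg/Statements/S1775.lean; the theorem Cfsg.two_component_of_double_layer_is_component_mod_core);
-- the grader kernel-checks Cfsg.Agent.S1775.result against that frozen type. Keep the theorem IN THIS FILE
-- (a `result` declared elsewhere and merely imported here is not credited); helpers may live anywhere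
-- under Cfsg/Agent/.
import Cfsg.Statements.S1775
import Cfsg.Agent.Lib.LBal.Term1
-- import your own Cfsg.Agent.* helpers here

set_option autoImplicit false
open Cfsg

namespace Cfsg.Agent.S1775

open Subgroup CfsgLib.PComp CfsgLib.Comp CfsgLib.LBal

/-- Let G be a finite group whose generalized Fitting subgroup is a non-abelian simple group and in which every proper section (every quotient H/N of a proper subgroup H, or of G by a nontrivial normal subgroup) has the B-property. Let x, y be commuting involutions, let D be the intersection of the 2-layer of C_G(x) with C_G(y), and let J be a 2-component of D. Write Q for the quotient of C_G(y) by its largest normal odd-order subgroup. Then (i) the image of J in Q is a component of the centralizer in Q of the image of x; and (ii) for every J-invariant subgroup E of odd order of C_G(x) ∩ C_G(y), the commutator subgroup [J, E] lies in the largest normal odd-order subgroup of C_G(y). -/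
theorem result {G : Type*} [Group G] [Finite G]
    (hF : IsSimpleGroup ↥(Cfsg.generalizedFittingSubgroup G)) (hF' : ¬ IsMulCommutative ↥(Cfsg.generalizedFittingSubgroup G))
    (hsec : ∀ (H : Subgroup G) (N : Subgroup ↥H) [N.Normal], (H ≠ ⊤ ∨ N ≠ ⊥) → Cfsg.HasBProperty (↥H ⧸ N))
    (x y : G) (hx : orderOf x = 2) (hy : orderOf y = 2) (hxy : x * y = y * x)
    (J : Subgroup ↥((Cfsg.pLayer 2 ↥(Subgroup.centralizer ({x} : Set G))).map (Subgroup.centralizer ({x} : Set G)).subtype ⊓ Subgroup.centralizer ({y} : Set G)))
    (hJ : Cfsg.IsPComponent 2 J) :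
    Cfsg.IsComponent
        ((((J.map (Subgroup.subtype _)).subgroupOf (Subgroup.centralizer ({y} : Set G))).map (QuotientGroup.mk' (Cfsg.oddCore ↥(Subgroup.centralizer ({y} : Set G))))).subgroupOf
          (Subgroup.centralizer ({(QuotientGroup.mk' (Cfsg.oddCore ↥(Subgroup.centralizer ({y} : Set G))) ⟨x, Subgroup.mem_centralizer_singleton_iff.mpr hxy⟩ : ↥(Subgroup.centralizer ({y} : Set G)) ⧸ Cfsg.oddCore ↥(Subgroup.centralizer ({y} : Set G)))} : Set _))) ∧
      ∀ E : Subgroup G, E ≤ Subgroup.centralizer ({x} : Set G) ⊓ Subgroup.centralizer ({y} : Set G) → Odd (Nat.card ↥E) →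
        (∀ j ∈ J.map (Subgroup.subtype _), ∀ e ∈ E, j * e * j⁻¹ ∈ E) →
          ⁅J.map (Subgroup.subtype _), E⁆ ≤ (Cfsg.oddCore ↥(Subgroup.centralizer ({y} : Set G))).map (Subgroup.centralizer ({y} : Set G)).subtype := by
  have hY : centralizer ({y} : Set G) ≠ ⊤ := fun h => by
    have h1 : y ∈ center G := mem_center_iff.2 fun g =>
      mem_centralizer_singleton_iff.1 (h ▸ mem_top g)
    have h2 : y ∈ generalizedFittingSubgroup G := fit_le_fstar (center_le_fit h1)
    rcases (inferInstance : (center (generalizedFittingSubgroup G)).Normal).eq_bot_or_eq_top with h3 | h3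
    · have : (⟨y, h2⟩ : generalizedFittingSubgroup G) ∈ center _ :=
        mem_center_iff.2 fun g => Subtype.ext (mem_center_iff.1 h1 g)
      rw [h3, mem_bot] at this
      rw [show y = 1 from congrArg Subtype.val this, orderOf_one] at hy
      omega
    · exact hF' ⟨⟨fun a b => (mem_center_iff.1 (h3 ▸ mem_top b) a)⟩⟩
  have hB := hsec _ (pPrimeCore 2 _) (Or.inl hY)
  have hxY : x ∈ centralizer ({y} : Set G) := mem_centralizer_singleton_iff.2 hxy
  have hN : centralizer ({x} : Set G) ≤ normalizer (pLayerOf 2 (centralizer ({x} : Set G)) : Set G) := by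
    haveI := pLayer_normal (p := 2) (G := centralizer ({x} : Set G))
    have := le_normalizer_map (H := pLayer 2 (centralizer ({x} : Set G))) (Subgroup.subtype _)
    rwa [normalizer_eq_top, ← MonoidHom.range_eq_map, range_subtype] at this
  have h1 : PC 2 (J.map (Subgroup.subtype _)) (centralizer {x} ⊓ centralizer {y}) :=
    (pc_map_subtype.2 hJ).trans ((subnIn_of_le_normalizer (pLayerOf_le _) hN).inf_right _)
  generalize J.map (Subgroup.subtype _) = K at h1 ⊢
  have hKY : K ≤ centralizer {y} := h1.le.trans inf_le_right
  have h2 := (h1.subgroupOf hKY).map_piO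
  have hx' : orderOf (⟨x, hxY⟩ : centralizer ({y} : Set G)) = 2 := by rw [← orderOf_coe]; exact hx
  have e : ((centralizer {x} ⊓ centralizer {y}).subgroupOf (centralizer ({y} : Set G))).map (piO 2 _) =
      centralizer {piO 2 _ (⟨x, hxY⟩ : centralizer ({y} : Set G))} := by
    rw [inf_subgroupOf_right, ← centralizer_singleton_subgroup ⟨x, hxY⟩, ← CfsgLib.Core.centralizer_zpowers (⟨x, hxY⟩ : centralizer ({y} : Set G)),
      CfsgLib.PLocal.Constr.map_centralizer_of_coprime_ker piO_surjective coprime_ker_piO
        (isPGroup_zpowers_of_orderOf hx'), MonoidHom.map_zpowers, CfsgLib.Core.centralizer_zpowers]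
  rw [e] at h2
  have h3 := hB _ (orderOf_piO hx')
  rw [show oddCore _ = ⊥ from pPrimeCore_quotient, le_bot_iff,
    map_eq_bot_iff_of_injective _ (Subgroup.subtype_injective _)] at h3
  have h4 := (pc_comp_iff h2.sub).2 (by
    rw [eq_bot_iff, ← h3]; exact commutator_mono (pc_le_pLayer h2.sub) le_rfl)
  refine ⟨h4, fun E hE hodd hn => ?_⟩
  have hEY : E ≤ centralizer {y} := hE.trans inf_le_right
  have h5 : K.subgroupOf (centralizer {y}) ≤
      normalizer ((E.subgroupOf (centralizer {y}) : Subgroup _) : Set (centralizer ({y} : Set G))) :=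
    fun k hk => mem_normalizer_fintype fun e he => hn k hk e he
  rcases comp_rel_le_or_commutator h2.le h4 (U := (E.subgroupOf (centralizer {y})).map (piO 2 _))
    (e ▸ map_mono (comap_mono hE)) ((map_mono h5).trans (le_normalizer_map _)) with h6 | h6
  · refine (h2.pqs.not_le_of_coprime ?_ h6).elim
    refine (Nat.coprime_two_right.2 hodd).coprime_dvd_left ((card_map_dvd _ _).trans ?_)
    rw [Nat.card_congr (subgroupOfEquivOfLe hEY).toEquiv]
  · rw [← map_subgroupOf_commutator hKY hEY]
    exact map_mono (commutator_map_piO_eq_bot_iff.1 h6)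

end Cfsg.Agent.S1775
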