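import Cfsg.Statements.S1903
import Cfsg.Agent.Lib.TwoGrp2.O320
import Cfsg.Agent.Lib.Gold.FactB
import Cfsg.Agent.Lib.Gold.BT1
import Cfsg.Agent.Lib.Unitary.UTAut

set_option autoImplicit false
open Cfsg

namespace Cfsg.Agent.S1903

open Subgroup CfsgLib CfsgLib.Unitary
open scoped commutatorElement

/-- A finite group of order 320 whose derived subgroup has order 64 and has centre a Klein four-group is isomorphic to the centralizer of an involution in PSU₃(4). -/
theorem result {G : Type*} [Group G] [Finite G] (hG : Nat.card G = 320) (hD : Nat.card (commutator G) = 64)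
    (hZ : IsKleinFour (Subgroup.center (commutator G)))
    {F : Type*} [Field F] [Fintype F] (hF : Fintype.card F = 16) :
    ∃ t : Cfsg.PSU 3 F 4, orderOf t = 2 ∧ Nonempty (G ≃* Subgroup.centralizer ({t} : Set (Cfsg.PSU 3 F 4))) := by
  have hF' : Fact (Fintype.card F = 4 ^ 2) := ⟨hF⟩
  have h2 : (2 : F) = 0 := two_eq_zero_of_card (n := 4) hF
  have hb := Gold.btype_psu (q := 4) (by decide) le_rfl hF
  have hc := card_PSU (n := 3) hF'.out (by norm_num)
  simp only [Finset.prod_range_succ] at hc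
  norm_num at hc
  have : Finite (PSU 3 F 4) := Nat.finite_of_card_ne_zero (by omega)
  obtain ⟨T⟩ : Nonempty (Sylow 2 (PSU 3 F 4)) := inferInstance
  obtain ⟨e⟩ := sylow_PSU_iso h2 T
  have hT : Nat.card (T : Subgroup (PSU 3 F 4)) = 64 := (Nat.card_congr e.toEquiv).trans UT.card_eq
  have hN := (normalizer ((T : Subgroup (PSU 3 F 4)) : Set (PSU 3 F 4))).card_mul_index
  rw [show (normalizer ((T : Subgroup (PSU 3 F 4)) : Set (PSU 3 F 4))).index = _ from
    T.card_eq_index_normalizer.symm, hb.card T, hT] at hN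
  obtain ⟨t, ht, ht1⟩ := hb.exists_inv T
  obtain ⟨htT, ht2⟩ := (hb.mem_omega T).1 ht
  have hCN := hb.centralizer_le T htT ht1
  have hTC : (T : Subgroup (PSU 3 F 4)) ≤ centralizer {t} := fun x hx =>
    mem_centralizer_singleton_iff.2 (hb.central T t htT ht2 x hx).symm
  have hZT : Nat.card (center (T : Subgroup (PSU 3 F 4))) = 4 :=
    (Nat.card_congr (Subgroup.centerCongr e).toEquiv).trans UT.card_center
  have hC : Nat.card (centralizer ({t} : Set (PSU 3 F 4))) = 320 := by
    have m : ∀ v ∈ (T : Subgroup (PSU 3 F 4)), v * v = 1 → v ∈ (center (T : Subgroup (PSU 3 F 4))).map (Subgroup.subtype _) :=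
      fun v hv e => ⟨⟨v, hv⟩, mem_center_iff.2 fun g => Subtype.ext (hb.central T v hv e g g.2).symm, rfl⟩
    have c1 := TwoGrp.Tri.card_le_of_commutator_mem (y := t) (C := normalizer ((T : Subgroup (PSU 3 F 4)) : Set _))
      fun w hw => by
        rw [show ⁅t, w⁆ = t * (w * t * w⁻¹)⁻¹ by group]
        exact mul_mem (m t htT ht2) (inv_mem (m _ ((mem_normalizer_iff.1 hw t).1 htT) (by
          rw [show w * t * w⁻¹ * (w * t * w⁻¹) = w * (t * t) * w⁻¹ by group, ht2]; group)))
    rw [inf_eq_left.2 hCN, card_map_of_injective (subtype_injective _), hZT] at c1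
    obtain ⟨k, hk⟩ := card_dvd_of_le hCN
    obtain ⟨j, hj⟩ := card_dvd_of_le hTC
    obtain ⟨h, hh, hs, -⟩ := hb.sing T
    have c2 : k ≠ 1 := fun e => ht1 (mem_bot.1 (hs.cent.le ⟨ht, mem_centralizer_singleton_iff.2
      (mem_centralizer_singleton_iff.1 ((eq_of_le_of_card_ge hCN (by rw [hk, e, mul_one])).ge hh)).symm⟩))
    rw [hT] at hj
    have c3 : j * k = 15 := by rw [hj] at hk; nlinarith
    have : j ≤ 15 := Nat.le_of_dvd (by norm_num) ⟨k, c3.symm⟩
    have : 4 ≤ j := by omega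
    interval_cases j <;> omega
  refine ⟨t, orderOf_eq_prime (by rw [sq, ht2]) ht1, (TwoGrp2.is320_of_commutator hG hD hZ).nonempty_equiv ?_⟩
  have : Fact (Nat.Prime 5) := ⟨Nat.prime_five⟩
  obtain ⟨g, hg⟩ := exists_prime_orderOf_dvd_card' (G := centralizer ({t} : Set (PSU 3 F 4))) 5 (by rw [hC]; norm_num)
  have := normal_subgroupOf_of_le_normalizer hCN
  let f := (subgroupOfEquivOfLe hTC).trans e
  have hsq : ∀ z ∈ center ((T : Subgroup (PSU 3 F 4)).subgroupOf (centralizer {t})), z * z = 1 ∧ ∃ x, x * x = z :=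
    fun z hz => by
      have := UT.mem_center_iff.1 (Subgroup.centerCongr f ⟨z, hz⟩).2
      obtain ⟨v, hv⟩ := UT.exists_sq h2 this
      exact ⟨f.injective (by rw [map_mul, map_one]; exact (UT.mul_self_eq_one_iff h2).2 this), f.symm v,
        f.injective (by rw [map_mul, f.apply_symm_apply]; exact hv)⟩
  have hZ4 := (Nat.card_congr (Subgroup.centerCongr f).toEquiv).trans UT.card_center
  refine TwoGrp2.is320 (P := (T : Subgroup (PSU 3 F 4)).subgroupOf (centralizer {t})) hC
    ((Nat.card_congr f.toEquiv).trans UT.card_eq) ⟨hZ4, ?_⟩ hg (fun e => ?_) fun _ H _ e => ?_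
  · have := Finite.one_lt_card_iff_nontrivial.1 (hZ4.symm ▸ (by norm_num : 1 < 4))
    exact (Monoid.exponent_eq_prime_iff Nat.prime_two).2 fun z hz =>
      orderOf_eq_prime (Subtype.ext (by simpa [sq] using (hsq z z.2).1)) hz
  · have h5 : (g : PSU 3 F 4) ^ 5 = 1 := by rw [← coe_pow, ← hg, pow_orderOf_eq_one, coe_one]
    have := hb.rigid T (φ := MulAut.conj (g : PSU 3 F 4)) (Odd.of_dvd_nat (by decide : Odd 5)
      (orderOf_dvd_of_pow_eq_one (by rw [← map_pow, h5, map_one]))) fun x hx =>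
        congrArg (fun y => y.1.1) (DFunLike.congr_fun e ⟨⟨x, hTC hx⟩, hx⟩)
    have h1 : g = 1 := Subtype.ext (mem_bot.1 (hb.center_eq_bot ▸ mem_center_iff.2 fun x =>
      (mul_inv_eq_iff_eq_mul.1 (DFunLike.congr_fun this x)).symm))
    simp [h1] at hg
  · refine (sup_eq_left.2 fun z hz => ?_).symm.trans e
    obtain ⟨x, rfl⟩ := (hsq z hz).2
    obtain ⟨a, ha, c, hc, rfl⟩ := (mul_normal H (center _)).le (e.ge (mem_top x))
    beta_reduce
    rw [mul_assoc, ← mul_assoc c, ← mem_center_iff.1 hc, mul_assoc, (hsq c hc).1, mul_one]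
    exact H.mul_mem ha ha

end Cfsg.Agent.S1903
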