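import Cfsg.Statements.S1915
import Cfsg.Agent.Lib.Semi4.Four

set_option autoImplicit false
open Cfsg

namespace Cfsg.Agent.S1915

/-- Let A be a semisimple subgroup (A = E(A)) of a finite group and U a Klein four-group normalizing A. If the subgroup of A generated by the normalizers N_A(V) of the nontrivial subgroups V of U has 2-rank exactly 1, then A has 2-rank exactly 1. -/
theorem result {G : Type*} [Group G] [Finite G] (A : Subgroup G) (hA : Cfsg.layer ↥A = ⊤)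
    (U : Subgroup G) (hU : IsKleinFour U) (hUA : U ≤ Subgroup.normalizer (A : Set G))
    (hΓ : Cfsg.PRankLE 2 1 ↥(⨆ V : {V : Subgroup G // V ≤ U ∧ V ≠ ⊥}, A ⊓ Subgroup.normalizer ((V : Subgroup G) : Set G)) ∧
      ¬ Cfsg.PRankLE 2 0 ↥(⨆ V : {V : Subgroup G // V ≤ U ∧ V ≠ ⊥}, A ⊓ Subgroup.normalizer ((V : Subgroup G) : Set G))) :
    Cfsg.PRankLE 2 1 A ∧ ¬ Cfsg.PRankLE 2 0 A := by
  refine ⟨CfsgLib.Semi4.four_main (CfsgLib.Semi4.perf_of_layer hA) hU hUA
    fun w hw w1 a ha b hb a2 b2 a1 b1 e ea eb => ?_,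
    CfsgLib.Semi4.not_rank_zero (iSup_le fun _ => inf_le_left) hΓ.2⟩
  have key : ∀ x ∈ A, w * x = x * w → x ∈ (⨆ V : {V : Subgroup G // V ≤ U ∧ V ≠ ⊥},
      A ⊓ Subgroup.normalizer ((V : Subgroup G) : Set G)) := fun x hx e =>
    le_iSup (fun V : {V : Subgroup G // V ≤ U ∧ V ≠ ⊥} =>
      A ⊓ Subgroup.normalizer ((V : Subgroup G) : Set G))
      ⟨Subgroup.zpowers w, Subgroup.zpowers_le.2 hw, Subgroup.zpowers_ne_bot.2 w1⟩
      ⟨hx, CfsgLib.Tech.mem_normalizer_of_forall fun y hy => by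
        obtain ⟨i, rfl⟩ := Subgroup.mem_zpowers_iff.1 hy
        rw [← conj_zpow, ← e, mul_inv_cancel_right]
        exact hy⟩
  exact CfsgLib.Semi4.eq_of_rank hΓ.1 (key a ha ea) (key b hb eb) a2 b2 a1 b1 e

end Cfsg.Agent.S1915
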