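import Cfsg.Statements.S1916
import Cfsg.Agent.Lib.GW.App2
import Cfsg.Agent.Lib.GW.Main
import Cfsg.Agent.Lib.GW.Cor4

set_option autoImplicit false
open Cfsg

namespace Cfsg.Agent.S1916

open Subgroup CfsgLib.GW CfsgLib.GW.App in
theorem aux {G : Type*} [Group G] [Finite G] (L : Subgroup G) (a : G)
    (haL : a ∈ Subgroup.normalizer (L : Set G)) :
    (fixA (L.normalizerMonoidHom ⟨a, haL⟩)).map L.subtype =
      L ⊓ Subgroup.centralizer ({a} : Set G) := by
  ext g
  rw [mem_inf, mem_centralizer_singleton_iff]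
  constructor
  · rintro ⟨x, hx, rfl⟩
    have h := congrArg Subtype.val (mem_fixA.1 hx)
    exact ⟨x.2, (mul_inv_eq_iff_eq_mul.1 h).symm⟩
  · rintro ⟨h1, h2⟩
    exact ⟨⟨g, h1⟩, mem_fixA.2 (Subtype.ext (mul_inv_eq_iff_eq_mul.2 h2.symm)), rfl⟩

open Subgroup CfsgLib.GW CfsgLib.GW.App in
theorem aux2 {G : Type*} [Group G] [Finite G] (L : Subgroup G) (a : G)
    (haL : a ∈ Subgroup.normalizer (L : Set G))
    (hCa : ∀ R : Sylow 2 ↥(L ⊓ Subgroup.centralizer ({a} : Set G)), IsCyclic R) :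
    NoFour (fixA (L.normalizerMonoidHom ⟨a, haL⟩)) := by
  have h := noFour_of_cyclic hCa
  rw [← aux L a haL] at h
  intro u hu v hv h1 h2 h3
  rcases h u ⟨u, hu, rfl⟩ v ⟨v, hv, rfl⟩ (congrArg Subtype.val h1) (congrArg Subtype.val h2)
    (congrArg Subtype.val h3) with e | e | e
  exacts [Or.inl (Subtype.ext e), Or.inr (Or.inl (Subtype.ext e)), Or.inr (Or.inr (Subtype.ext e))]


/-- Let L be a non-abelian simple subgroup of a finite group with dihedral Sylow 2-subgroups, and a, b two distinct commuting involutions normalizing L such that C_L(a) and C_L(b) have cyclic Sylow 2-subgroups and L is not contained in the subgroup generated by a, b, C_L(a) and C_L(b). Then ab centralizes L. -/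
theorem result {G : Type*} [Group G] [Finite G] (L : Subgroup G) (hL : IsSimpleGroup L) (hLn : ¬ IsMulCommutative L)
    (hD : ∀ P : Sylow 2 L, ∃ n : ℕ, Nonempty (↥(P : Subgroup L) ≃* DihedralGroup n))
    (a b : G) (ha : orderOf a = 2) (hb : orderOf b = 2) (hab : a ≠ b) (hc : a * b = b * a)
    (haL : a ∈ Subgroup.normalizer (L : Set G)) (hbL : b ∈ Subgroup.normalizer (L : Set G))
    (hCa : ∀ R : Sylow 2 ↥(L ⊓ Subgroup.centralizer ({a} : Set G)), IsCyclic R)
    (hCb : ∀ R : Sylow 2 ↥(L ⊓ Subgroup.centralizer ({b} : Set G)), IsCyclic R)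
    (hgen : ¬ L ≤ Subgroup.closure ({a, b} : Set G) ⊔ (L ⊓ Subgroup.centralizer ({a} : Set G)) ⊔ (L ⊓ Subgroup.centralizer ({b} : Set G))) :
    a * b ∈ Subgroup.centralizer (L : Set G) := by
  haveI : Fact (Nat.Prime 2) := ⟨Nat.prime_two⟩
  have hns : ¬ Group.IsSolvable L := fun h =>
    hLn ⟨⟨IsSimpleGroup.comm_iff_isSolvable.2 h⟩⟩
  obtain ⟨S⟩ := (inferInstance : Nonempty (Sylow 2 L))
  obtain ⟨n, ⟨e⟩⟩ := hD S
  have hK := CfsgLib.GW.gorenstein_walter CfsgLib.GW.Cor.ft L hLn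
    (CfsgLib.GW.Cor.dihSylow_of_simple hns S n e)
  have ha2 : a * a = 1 := by rw [← pow_two, ← ha, pow_orderOf_eq_one]
  have hb2 : b * b = 1 := by rw [← pow_two, ← hb, pow_orderOf_eq_one]
  have h := CfsgLib.GW.App.known_eq hK (α := L.normalizerMonoidHom ⟨a, haL⟩)
    (β := L.normalizerMonoidHom ⟨b, hbL⟩)
    (by rw [← map_mul, ← map_one L.normalizerMonoidHom]; exact congrArg _ (Subtype.ext ha2))
    (by rw [← map_mul, ← map_one L.normalizerMonoidHom]; exact congrArg _ (Subtype.ext hb2))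
    (by rw [← map_mul, ← map_mul]; exact congrArg _ (Subtype.ext hc))
    (aux2 L a haL hCa) (aux2 L b hbL hCb) fun h => hgen (by
      rw [← aux L a haL, ← aux L b hbL, sup_assoc, ← Subgroup.map_sup, h,
        ← MonoidHom.range_eq_map, Subgroup.range_subtype]
      exact le_sup_right)
  intro g hg
  have h1 := congrArg Subtype.val (DFunLike.congr_fun h (⟨b * g * b⁻¹,
    (Subgroup.mem_normalizer_iff.1 hbL g).1 hg⟩ : L))
  change a * (b * g * b⁻¹) * a⁻¹ = b * (b * g * b⁻¹) * b⁻¹ at h1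
  have h2 : b * (b * g * b⁻¹) * b⁻¹ = g := by
    calc _ = (b * b) * g * (b * b)⁻¹ := by group
      _ = g := by rw [hb2]; group
  rw [h2] at h1
  calc g * (a * b) = a * (b * g * b⁻¹) * a⁻¹ * (a * b) := by rw [h1]
    _ = _ := by group

end Cfsg.Agent.S1916
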