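import Cfsg.Statements.S1921
import Cfsg.Agent.Lib.Comp.Component
import Cfsg.Agent.Lib.Core.Basic

set_option autoImplicit false
open Cfsg

namespace Cfsg.Agent.S1921

open Subgroup CfsgLib

/-- Let a be an involution of a finite group H and L a component of H with a L a⁻¹ ≠ L; put M = ⟨L, aLa⁻¹⟩ and let J be the subgroup generated by the elements x · a x a⁻¹ with x ∈ L (the diagonal). Then every element of M outside J·Z(M) generates M together with J. -/
theorem result {H : Type*} [Group H] [Finite H] (a : H) (ha : orderOf a = 2) (L : Subgroup H) (hL : Cfsg.IsComponent L)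
    (hLa : L.map (MulAut.conj a).toMonoidHom ≠ L) (x : H) (hxM : x ∈ L ⊔ L.map (MulAut.conj a).toMonoidHom)
    (hxJ : x ∉ Subgroup.closure {y : H | ∃ l ∈ L, y = l * (a * l * a⁻¹)} ⊔
      ((L ⊔ L.map (MulAut.conj a).toMonoidHom) ⊓ Subgroup.centralizer ((L ⊔ L.map (MulAut.conj a).toMonoidHom : Subgroup H) : Set H))) :
    Subgroup.closure {y : H | ∃ l ∈ L, y = l * (a * l * a⁻¹)} ⊔ Subgroup.zpowers x = L ⊔ L.map (MulAut.conj a).toMonoidHom := by
  have hL' := Comp.comp_map_conj hL a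
  have hc := Comp.comp_le_centralizer_of_ne hL' hL hLa
  have hm : ∀ l ∈ L, a * l * a⁻¹ ∈ L.map (MulAut.conj a).toMonoidHom := fun l hl => ⟨l, hl, rfl⟩
  have hJ : ∀ l ∈ L, l * (a * l * a⁻¹) ∈ closure {y : H | ∃ l ∈ L, y = l * (a * l * a⁻¹)} :=
    fun l hl => subset_closure ⟨l, hl, rfl⟩
  have hJM : closure {y : H | ∃ l ∈ L, y = l * (a * l * a⁻¹)} ≤ L ⊔ L.map (MulAut.conj a).toMonoidHom :=
    (closure_le _).2 fun _ ⟨l, hl, e⟩ => e ▸ mul_mem_sup hl (hm l hl)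
  generalize closure {y : H | ∃ l ∈ L, y = l * (a * l * a⁻¹)} = J at *
  refine le_antisymm (sup_le hJM (zpowers_le.2 hxM)) ?_
  rcases Comp.qs_sub_normal (N := (J ⊔ zpowers x) ⊓ L) hL.2 inf_le_right (fun l hl =>
    Core.mem_normalizer_of_forall_conj_mem fun n hn => ⟨by
      have e : l * n * l⁻¹ = l * (a * l * a⁻¹) * n * (l * (a * l * a⁻¹))⁻¹ := by
        rw [mul_assoc l (a * l * a⁻¹) n, ← hc (hm l hl) n hn.2]; group
      exact e ▸ (J ⊔ zpowers x).mul_mem (mul_mem (mem_sup_left (hJ l hl)) hn.1)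
        (inv_mem (mem_sup_left (hJ l hl))), L.mul_mem (mul_mem hl hn.2) (inv_mem hl)⟩) with h | h
  · refine sup_le (h.ge.trans inf_le_left) ?_
    rintro _ ⟨l, hl, rfl⟩
    exact ((J ⊔ zpowers x).mul_mem_cancel_left (h.ge hl).1).1 (mem_sup_left (hJ l hl))
  obtain ⟨u, hu, _, ⟨v, hv, rfl⟩, rfl⟩ := (Core.mem_sup_of_le_normalizer_right
    (Comp.comp_le_normalizer hL hL')).1 hxM
  have e : u * (a * v * a⁻¹) = v * (a * v * a⁻¹) * (v⁻¹ * u) := by
    rw [mul_assoc v, ← hc (hm v hv) _ (mul_mem (inv_mem hv) hu)]; group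
  have h1 := mul_mem (inv_mem hv) hu
  refine absurd (show u * (a * v * a⁻¹) ∈ _ from e ▸ mul_mem_sup (hJ v hv) ⟨mem_sup_left h1, ?_⟩) hxJ
  rw [Core.centralizer_sup]
  exact ⟨h ⟨(mul_mem_cancel_left (mem_sup_left (hJ v hv))).1 (e ▸ mem_sup_right (mem_zpowers _)), h1⟩,
    le_centralizer_iff.1 hc h1⟩

end Cfsg.Agent.S1921
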