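import Cfsg.Statements.S1922
import Cfsg.Agent.Lib.Tech.Invol

set_option autoImplicit false
open Cfsg

namespace Cfsg.Agent.S1922

open CfsgLib.Tech Subgroup

section Abstract

variable {G Ω : Type*} [Group G] [Finite G] [MulAction G Ω]

/-- `x` fixes at most one point. -/
def Uq (Ω : Type*) [MulAction G Ω] (x : G) : Prop :=
  ∀ a b : Ω, x • a = a → x • b = b → a = b

omit [Finite G] in
theorem Uq.conj {x : G} (h : Uq Ω x) (g : G) : Uq Ω (g * x * g⁻¹) := by
  intro a b ha hb
  have h1 : ∀ c : Ω, (g * x * g⁻¹) • c = c → x • (g⁻¹ • c) = g⁻¹ • c := by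
    intro c hc
    conv_rhs => rw [← hc]
    simp [mul_smul]
  exact MulAction.injective g⁻¹ (h _ _ (h1 a ha) (h1 b hb))

omit [Finite G] in
theorem Uq.fix {x c : G} (h : Uq Ω x) {a : Ω} (ha : x • a = a) (hc : Commute x c) : c • a = a :=
  h _ _ (by rw [← mul_smul, hc.eq, mul_smul, ha]) ha

variable {D : Set G} (hD2 : ∀ d ∈ D, d * d = 1) (hDc : ∀ g : G, ∀ d ∈ D, g * d * g⁻¹ ∈ D)
  (hU1 : ∀ d ∈ D, Uq Ω d) (hF : ∀ d ∈ D, ∃ a : Ω, d • a = a)
  (hU2 : ∀ d ∈ D, ∀ e ∈ D, d ≠ e → Commute d e → Uq Ω (d * e))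

include hD2 hU2 in
omit [Finite G] in
theorem uq_of_mul_mem {w d : G} (hw : orderOf w = 2) (hd : d ∈ D) (hc : Commute d w)
    (hwd : w * d ∈ D) : Uq Ω w := by
  have := hU2 _ hwd _ hd (fun e => ne_one_of_orderOf_two hw (by simpa using e))
    (Commute.mul_left hc.symm (Commute.refl d))
  rwa [mul_assoc, hD2 d hd, mul_one] at this

include hD2 hDc hU1 hU2 in
theorem lemB {v d : G} (hv : v * v = 1) (hvU : Uq Ω v) (hd : d ∈ D) {a b : Ω} (ha : v • a = a)
    (hb : d • b = b) (hab : a ≠ b) :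
    (∃ k : ℕ, (v * d) ^ k * d * ((v * d) ^ k)⁻¹ = v) ∨
      ∃ m : ℕ, orderOf ((v * d) ^ m) = 2 ∧ Commute v ((v * d) ^ m) ∧ Commute d ((v * d) ^ m) ∧
        (v * d) ^ m * v ∈ D := by
  rcases Nat.even_or_odd (orderOf (v * d)) with he | ho
  · right
    obtain ⟨m, hw, hvw, hdw, ⟨k, -, hk⟩ | ⟨k, -, hk⟩⟩ := exists_central_of_even hv (hD2 d hd) he
    · exact absurd (uq_of_mul_mem hD2 hU2 hw hd hdw (hk ▸ hDc _ d hd) _ _ (hvU.fix ha hvw)
        ((hU1 d hd).fix hb hdw)) hab
    · exact ⟨m, hw, hvw, hdw, hk ▸ hDc _ d hd⟩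
  · exact Or.inl (exists_pow_conj_of_odd hv (hD2 d hd) ho)

include hD2 hDc hU1 hU2 in
theorem lemA {w e d : G} (he : e ∈ D) (hd : d ∈ D) {a b : Ω} (ha : e • a = a)
    (hb : d • b = b) (hab : a ≠ b) (hwe : Commute w e) (hwd : Commute w d) :
    ∃ c : G, Commute w c ∧ c * d * c⁻¹ = e := by
  rcases lemB hD2 hDc hU1 hU2 (hD2 e he) (hU1 e he) hd ha hb hab with ⟨k, hk⟩ | ⟨m, h1, h2, h3, h4⟩
  · exact ⟨_, (hwe.mul_right hwd).pow_right k, hk⟩
  · exact absurd (uq_of_mul_mem hD2 hU2 h1 he h2 h4 _ _ ((hU1 e he).fix ha h2)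
      ((hU1 d hd).fix hb h3)) hab

include hD2 hDc hU1 hU2 hF in
theorem lemC {w e d : G} (he : e ∈ D) (hd : d ∈ D) {a b : Ω} (ha : e • a = a)
    (hb : d • b = b) (hab : a ≠ b) (hwe : Commute w e) (hwd : Commute w d) (hU : Uq Ω (w * e))
    {f : G} (hf : f ∈ D) (hwf : Commute w f) : Uq Ω (w * f) := by
  have step : ∀ x ∈ D, ∀ y ∈ D, ∀ p q : Ω, x • p = p → y • q = q → p ≠ q → Commute w x →
      Commute w y → Uq Ω (w * y) → Uq Ω (w * x) := by
    intro x hx y hy p q hp hq hpq hwx hwy hUy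
    obtain ⟨c, hc, hc'⟩ := lemA hD2 hDc hU1 hU2 hx hy hp hq hpq hwx hwy
    have := hUy.conj c
    rwa [← mul_assoc, ← hc.eq, mul_assoc w, mul_assoc w, hc'] at this
  obtain ⟨c, hc⟩ := hF f hf
  by_cases hca : c = a
  · exact step f hf d hd c b hc hb (hca ▸ hab) hwf hwd
      (step d hd e he b a hb ha hab.symm hwd hwe hU)
  · exact step f hf e he c a hc ha hca hwf hwe hU

include hD2 hDc hU1 hU2 hF in
theorem main {u d' : G} (hu2 : u * u = 1) (huU : Uq Ω u) (huD : u ∉ D)
    (hy : ∀ d ∈ D, Commute u d → ∃ y, Commute u y ∧ y * d * y⁻¹ ≠ d ∧ Commute d (y * d * y⁻¹))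
    (hd' : d' ∈ D) {a b : Ω} (ha : u • a = a) (hb : d' • b = b) (hab : a ≠ b) : False := by
  rcases lemB hD2 hDc hU1 hU2 hu2 huU hd' ha hb hab with ⟨k, hk⟩ | ⟨m, h1, h2, h3, h4⟩
  · exact huD (hk ▸ hDc _ d' hd')
  generalize (u * d') ^ m = w at h1 h2 h3 h4
  have hww := mul_self_of_orderOf_two h1
  have hwa : w • a = a := huU.fix ha h2
  have hwb : w • b = b := (hU1 d' hd').fix hb h3
  have hud : Commute u (w * u) := h2.mul_right (Commute.refl u)
  have hwd : Commute w (w * u) := (Commute.refl w).mul_right h2.symm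
  have hwdu : w * (w * u) = u := by rw [← mul_assoc, hww, one_mul]
  have hw : w = (w * u) * u := by rw [mul_assoc, hu2, mul_one]
  obtain ⟨y, hyu, hne, hde⟩ := hy _ h4 hud
  generalize w * u = d at h4 hud hwd hwdu hw hne hde
  have hda : d • a = a := huU.fix ha hud
  have he : y * d * y⁻¹ ∈ D := hDc y d h4
  have hue : Commute u (y * d * y⁻¹) := (hyu.mul_right hud).mul_right hyu.inv_right
  have hwe : Commute w (y * d * y⁻¹) := by rw [hw]; exact hde.mul_left hue
  have hea : (y * d * y⁻¹) • a = a := huU.fix ha hue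
  have hU2' : Uq Ω (d * (y * d * y⁻¹)) := hU2 d h4 _ he hne.symm hde
  have hw' : y * w * y⁻¹ = w * (d * (y * d * y⁻¹)) := by
    rw [← mul_assoc w, hwdu, hue.eq, hw, mul_assoc (y * d), ← hyu.inv_right.eq]
    simp only [mul_assoc]
  have hconj : ∀ x : G, ∀ c : Ω, x • c = c → (y * x * y⁻¹) • (y • c) = y • c := by
    intro x c hc
    simp [mul_smul, hc]
  have hab' : y • a ≠ y • b := fun h => hab (MulAction.injective y h)
  have hcc : ∀ s t : G, Commute s t → Commute (y * s * y⁻¹) (y * t * y⁻¹) := by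
    intro s t hst
    exact hst.map (MulAut.conj y)
  have hvv : d * (y * d * y⁻¹) * (d * (y * d * y⁻¹)) = 1 := by
    rw [hde.symm.mul_mul_mul_comm, hD2 d h4, hD2 _ he, one_mul]
  have hwv : Commute w (d * (y * d * y⁻¹)) := hwd.mul_right hwe
  have hva : (d * (y * d * y⁻¹)) • a = a := by rw [mul_smul, hea, hda]
  rcases lemB hD2 hDc hU1 hU2 hvv hU2' hd' hva hb hab with ⟨k, hk⟩ | ⟨n, g1, g2, g3, g4⟩
  · have h5 := lemC hD2 hDc hU1 hF hU2 h4 hd' hda hb hab hwd h3.symm (hwdu ▸ huU)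
      (hk ▸ hDc _ d' hd') hwv
    rw [← hw'] at h5
    exact hab' (h5 _ _ (hconj w a hwa) (hconj w b hwb))
  · have hww2 : Commute w ((d * (y * d * y⁻¹) * d') ^ n) := (hwv.mul_right h3.symm).pow_right n
    generalize (d * (y * d * y⁻¹) * d') ^ n = w2 at g1 g2 g3 g4 hww2
    have hUe : Uq Ω (y * w * y⁻¹ * (y * d * y⁻¹)) := by
      have := huU.conj y
      rw [← hwdu] at this
      simpa [mul_assoc] using this
    generalize d * (y * d * y⁻¹) = v at *
    have h5 := lemC hD2 hDc hU1 hF hU2 he (hDc y d' hd') (hconj d a hda) (hconj d' b hb) hab'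
      (hcc _ _ hwd) (hcc _ _ h3.symm) hUe g4
      (by rw [hw']
          exact (hww2.mul_right hwv).mul_left (g2.mul_right (Commute.refl v)))
    have h6 : y * w * y⁻¹ * (w2 * v) = w * w2 := by
      rw [hw', ← g2.eq, mul_assoc, ← mul_assoc v, hvv, one_mul]
    rw [h6] at h5
    refine hab (h5 _ _ ?_ ?_)
    · rw [mul_smul, hU2'.fix hva g2, hwa]
    · rw [mul_smul, (hU1 d' hd').fix hb g3, hwb]

end Abstract

theorem smul_mk_iff {G : Type*} [Group G] (H : Subgroup G) (x g : G) :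
    x • (g : G ⧸ H) = (g : G ⧸ H) ↔ x ∈ cj g H := by
  rw [MulAction.Quotient.smul_mk, eq_comm, QuotientGroup.eq, mem_cj, smul_eq_mul, mul_assoc]

theorem uq_of_iff {G : Type*} [Group G] (H : Subgroup G) {x : G}
    (h : ∀ g : G, x ∈ cj g H ↔ g ∈ H) : Uq (G ⧸ H) x := by
  intro a b ha hb
  induction a using QuotientGroup.induction_on with
  | H a =>
  induction b using QuotientGroup.induction_on with
  | H b =>
  rw [smul_mk_iff, h] at ha hb
  exact QuotientGroup.eq.2 (H.mul_mem (H.inv_mem ha) hb)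

theorem centralizer_le {G : Type*} [Group G] (H : Subgroup G) {x : G}
    (h : ∀ g : G, x ∈ cj g H ↔ g ∈ H) : centralizer ({x} : Set G) ≤ H := by
  intro c hc
  rw [mem_centralizer_singleton_iff] at hc
  rw [← h, mem_cj, mul_assoc, ← hc, inv_mul_cancel_left]
  have := (h 1).2 H.one_mem
  rwa [cj_one] at this


/-- Let z be an involution of a finite group G and H a proper subgroup such that z lies in gHg⁻¹ exactly when g ∈ H. Then the following are equivalent: (1) for every conjugate t ≠ z of z commuting with z, the product zt lies in gHg⁻¹ exactly when g ∈ H; (2) z lies in the centre of some Sylow 2-subgroup of G, and for every conjugate t ≠ z of z commuting with z, the centralizer of zt is contained in H. -/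
theorem result {G : Type*} [Group G] [Finite G] (z : G) (hz : orderOf z = 2) (H : Subgroup G) (hH : H ≠ ⊤)
    (h0 : ∀ g : G, z ∈ H.map (MulAut.conj g).toMonoidHom ↔ g ∈ H) :
    (∀ t : G, IsConj z t → t ≠ z → t * z = z * t → ∀ g : G, z * t ∈ H.map (MulAut.conj g).toMonoidHom ↔ g ∈ H) ↔
      ((∃ P : Sylow 2 G, z ∈ (Subgroup.center ↥(P : Subgroup G)).map (P : Subgroup G).subtype) ∧
        ∀ t : G, IsConj z t → t ≠ z → t * z = z * t → Subgroup.centralizer ({z * t} : Set G) ≤ H) := by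
  have hzz := mul_self_of_orderOf_two hz
  have hzC : centralizer ({z} : Set G) ≤ H := centralizer_le H h0
  have hzH : z ∈ H := hzC (mem_centralizer_singleton_iff.2 rfl)
  constructor
  · intro h1
    refine ⟨?_, fun t ht hne hc => centralizer_le H (h1 t ht hne hc)⟩
    by_contra hcen
    obtain ⟨T, hT, hzT⟩ := exists_isSylowIn_ge (p := 2) (H := centralizer ({z} : Set G))
      (isPGroup_two_zpowers hzz) (zpowers_le.2 (mem_centralizer_singleton_iff.2 rfl))
    rw [zpowers_le] at hzT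
    have hTz : ∀ s ∈ T, s * z = z * s := fun s hs => mem_centralizer_singleton_iff.1 (hT.le hs)
    have hnot : ¬ IsSylowIn 2 T ⊤ := by
      intro h
      refine hcen ⟨h.toSylowTop, ⟨z, hzT⟩, ?_, rfl⟩
      exact mem_center_iff.2 (fun s => Subtype.ext (hTz s s.2))
    obtain ⟨R, hR, hlt, -, hRN⟩ := exists_lt_pgroup_normalizer hT.pgroup le_top hnot
    obtain ⟨x, hxR, hxT, hx2⟩ : ∃ x ∈ R, x ∉ T ∧ x * x ∈ T := by
      classical
      obtain ⟨x0, hx0, hx0'⟩ := SetLike.exists_of_lt hlt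
      have hex : ∃ k, x0 ^ 2 ^ k ∈ T := by
        obtain ⟨k, hk⟩ := isPGroup_iff_mem.1 hR x0 hx0
        exact ⟨k, hk ▸ T.one_mem⟩
      have hk := Nat.find_spec hex
      have hk0 : Nat.find hex ≠ 0 := fun e => hx0' (by simpa [e] using hk)
      obtain ⟨j, hj⟩ := Nat.exists_eq_succ_of_ne_zero hk0
      refine ⟨x0 ^ 2 ^ j, R.pow_mem hx0 _, Nat.find_min hex (by omega), ?_⟩
      rwa [hj, pow_succ, pow_mul, pow_two] at hk
    have hxz : x * z * x⁻¹ ≠ z := by
      intro e
      rw [mul_inv_eq_iff_eq_mul] at e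
      have := hT.eq_of_le (Q := R ⊓ centralizer ({z} : Set G)) hR.to_inf_left
        (le_inf hlt.le hT.le) inf_le_right
      exact hxT (this ▸ (⟨hxR, mem_centralizer_singleton_iff.2 e⟩ : x ∈ R ⊓ _))
    have htT : x * z * x⁻¹ ∈ T := conj_mem_of_mem_normalizer (hRN hxR) hzT
    set u := z * (x * z * x⁻¹) with hu
    have hlt2 : T < R ⊓ centralizer ({u} : Set G) := by
      refine lt_of_le_of_ne (le_inf hlt.le fun s hs => mem_centralizer_singleton_iff.2 ?_) ?_
      · have h2 := hTz _ (conj_mem_of_mem_normalizer' (hRN hxR) hs)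
        have h3 : s * (x * z * x⁻¹) = (x * z * x⁻¹) * s := by
          calc s * (x * z * x⁻¹) = x * (x⁻¹ * s * x * z) * x⁻¹ := by group
            _ = _ := by rw [h2]; group
        exact Commute.mul_right (hTz s hs : Commute s z) h3
      · intro e
        refine hxT (e ▸ (⟨hxR, mem_centralizer_singleton_iff.2 ?_⟩ : x ∈ R ⊓ _))
        have h2 := hTz _ hx2
        have h3 := hTz _ htT
        calc x * u = (x * z * x⁻¹) * (x * x * z) * x⁻¹ := by rw [hu]; group
          _ = (x * z * x⁻¹) * z * x := by rw [h2]; group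
          _ = u * x := by rw [h3]
    have hcard : Nat.card T < Nat.card ↥(R ⊓ centralizer ({u} : Set G)) := by
      by_contra hc
      exact hlt2.ne (eq_of_le_of_card_ge hlt2.le (not_lt.1 hc))
    have hbound : ∀ d, IsConj z d → ∀ Q : Subgroup G, IsPGroup 2 Q →
        Q ≤ centralizer ({d} : Set G) → Nat.card Q ≤ Nat.card T := by
      intro d hd Q hQ hle
      obtain ⟨g, rfl⟩ := isConj_iff.1 hd
      rw [← cj_centralizer_singleton] at hle
      rw [← card_cj g T]
      exact (hT.cj g).card_le hQ hle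
    obtain ⟨g, hg⟩ : ∃ g, g ∉ H := by
      by_contra h
      push Not at h
      exact hH (eq_top_iff.2 fun g _ => h g)
    have hconjD : ∀ g : G, ∀ d ∈ {d | IsConj z d}, g * d * g⁻¹ ∈ {d | IsConj z d} :=
      fun g d hd => IsConj.trans hd (isConj_iff.2 ⟨g, rfl⟩)
    have hD2 : ∀ d ∈ {d | IsConj z d}, d * d = 1 := by
      intro d hd
      obtain ⟨g, rfl⟩ := isConj_iff.1 hd
      exact mul_self_of_orderOf_two ((orderOf_conj_eq g z).trans hz)
    have hU2 : ∀ d ∈ {d | IsConj z d}, ∀ e ∈ {d | IsConj z d}, d ≠ e → Commute d e →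
        Uq (G ⧸ H) (d * e) := by
      intro d hd e he hne hc
      obtain ⟨g, rfl⟩ := isConj_iff.1 hd
      have h2 := (uq_of_iff H (h1 (g⁻¹ * e * g⁻¹⁻¹) (hconjD _ e he) ?_ ?_)).conj g
      · simpa [mul_assoc] using h2
      · intro h3
        exact hne (by rw [← h3]; group)
      · have := (hc.map (MulAut.conj g⁻¹)).eq
        simpa [mul_assoc] using this.symm
    have hconj_t : IsConj z (x * z * x⁻¹) := isConj_iff.2 ⟨x, rfl⟩
    refine main (Ω := G ⧸ H) (D := {d | IsConj z d}) hD2 hconjD ?_ ?_ hU2 (u := u)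
      (d' := g * z * g⁻¹) ?_ ?_ ?_ ?_ (hconjD g z (IsConj.refl z)) (a := ((1 : G) : G ⧸ H))
      (b := (g : G ⧸ H)) ?_ ?_ ?_
    · intro d hd
      obtain ⟨g, rfl⟩ := isConj_iff.1 hd
      exact (uq_of_iff H h0).conj g
    · intro d hd
      obtain ⟨g, rfl⟩ := isConj_iff.1 hd
      exact ⟨g, (smul_mk_iff H _ g).2 (conj_mem_cj.2 hzH)⟩
    · have h3 : Commute z (x * z * x⁻¹) := (hTz _ htT).symm
      rw [hu, h3.symm.mul_mul_mul_comm, hzz, hD2 _ hconj_t, one_mul]
    · exact hU2 z (IsConj.refl z) _ hconj_t hxz.symm (hTz _ htT).symm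
    · intro h
      exact absurd (hbound u h _ hR.to_inf_left inf_le_right) (not_le.2 hcard)
    · intro d hd hud
      obtain ⟨Y, hY, hdY⟩ := exists_isSylowIn_ge (p := 2) (H := centralizer ({u} : Set G))
        (isPGroup_two_zpowers (hD2 d hd)) (zpowers_le.2 (mem_centralizer_singleton_iff.2 hud.symm))
      rw [zpowers_le] at hdY
      have h3 := hY.card_le hR.to_inf_left inf_le_right
      have h4 := hbound d hd (Y ⊓ centralizer ({d} : Set G)) hY.pgroup.to_inf_left inf_le_right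
      have h5 : Y ⊓ centralizer ({d} : Set G) < Y :=
        lt_of_le_of_ne inf_le_left (fun e => by rw [e] at h4; omega)
      obtain ⟨y, hyY, hy1, hy2⟩ := exists_mem_normalizer_of_lt hY.pgroup h5
      refine ⟨y, (mem_centralizer_singleton_iff.1 (hY.le hyY)).symm, ?_, ?_⟩
      · intro e
        rw [mul_inv_eq_iff_eq_mul] at e
        exact hy1 ⟨hyY, mem_centralizer_singleton_iff.2 e⟩
      · have := conj_mem_of_mem_normalizer hy2
          (⟨hdY, mem_centralizer_singleton_iff.2 rfl⟩ : d ∈ Y ⊓ centralizer ({d} : Set G))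
        exact (mem_centralizer_singleton_iff.1 this.2).symm
    · rw [smul_mk_iff, cj_one]
      exact H.mul_mem hzH (hzC (hT.le htT))
    · exact (smul_mk_iff H _ g).2 (conj_mem_cj.2 hzH)
    · intro e
      exact hg (by simpa using QuotientGroup.eq.1 e)
  · rintro ⟨⟨P, ⟨z', hzP⟩, hz', rfl⟩, h2⟩ t ht hne hc g
    have hPz : (P : Subgroup G) ≤ centralizer ({z'} : Set G) := fun s hs =>
      mem_centralizer_singleton_iff.2 (congrArg Subtype.val (mem_center_iff.1 hz' ⟨s, hs⟩))
    change orderOf z' = 2 at hz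
    change z' * z' = 1 at hzz
    change z' ∈ H at hzH
    change centralizer ({z'} : Set G) ≤ H at hzC
    change IsConj z' t at ht
    change t * z' = z' * t at hc
    change ∀ g : G, z' ∈ cj g H ↔ g ∈ H at h0
    have h2' : centralizer ({z' * t} : Set G) ≤ H := h2 t ht hne hc
    change z' * t ∈ cj g H ↔ g ∈ H
    constructor
    · intro h
      rw [mem_cj] at h
      have htt : t * t = 1 := by
        obtain ⟨g, rfl⟩ := isConj_iff.1 ht
        exact mul_self_of_orderOf_two ((orderOf_conj_eq g z').trans hz)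
      have huu : (z' * t) * (z' * t) = 1 := by
        have h3 : Commute z' t := hc.symm
        rw [h3.symm.mul_mul_mul_comm, hzz, htt, one_mul]
      obtain ⟨k, hk, hk'⟩ := (IsSylowIn.of_sylow P (hPz.trans hzC)).exists_conj_mem h
        (isPGroup_two_zpowers (by
          calc _ = g⁻¹ * ((z' * t) * (z' * t)) * g := by group
            _ = 1 := by rw [huu]; group))
      have h4 := mem_centralizer_singleton_iff.1 (hPz hk')
      have h5 : (k * g⁻¹)⁻¹ * z' * (k * g⁻¹) ∈ H := by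
        apply h2'
        rw [mem_centralizer_singleton_iff]
        calc _ = (k * g⁻¹)⁻¹ * (z' * (k * (g⁻¹ * (z' * t) * g) * k⁻¹)) * (k * g⁻¹) := by group
          _ = _ := by rw [← h4]; group
      have h6 := (h0 _).1 (mem_cj.2 h5)
      exact (inv_mem_iff).1 ((H.mul_mem_cancel_left hk).1 h6)
    · intro h
      rw [cj_eq_of_mem h]
      exact H.mul_mem hzH (hzC (mem_centralizer_singleton_iff.2 hc))

end Cfsg.Agent.S1922
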