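import Cfsg.Statements.S1923
import Cfsg.Agent.Lib.NSFT.Sim

set_option autoImplicit false
open Cfsg

namespace Cfsg.Agent.S1923

open Subgroup CfsgLib CfsgLib.BG CfsgLib.Signal CfsgLib.NSFT

/-- Let r be a prime and let A and G be subgroups of a finite group X with G nontrivial and A normalizing G, A an elementary abelian r-group of order at least r³. For each nontrivial a ∈ A let θ(a) be an A-invariant subgroup of C_G(a) of order prime to r such that: (a) whenever the layer E(θ(a)) is nontrivial, it is a non-abelian group whose only A-invariant normal subgroups are 1 and itself, all of its non-abelian simple sections are known simple groups, the Fitting subgroup of θ(a) is trivial, and C_A(E(θ(a))) = ⟨a⟩; (b) for all nontrivial a, b ∈ A, θ(a) ∩ C_G(b) ≤ θ(b) and E(E(θ(a)) ∩ C_G(b)) ≤ E(θ(b)); (c) G is generated by the subgroups E(θ(a)). Then G has order prime to r, G is non-abelian with no A-invariant normal subgroups other than 1 and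 G, every non-abelian simple section of G is a known simple group, and C_G(a) = θ(a) for every nontrivial a ∈ A. -/
theorem result {X : Type*} [Group X] [Finite X] {r : ℕ} [Fact r.Prime] (A G : Subgroup X) (hG : G ≠ ⊥) (hAG : A ≤ Subgroup.normalizer (G : Set X))
    (hA : Cfsg.IsElementaryAbelian r A) (hrank : r ^ 3 ≤ Nat.card A)
    (θ : X → Subgroup X)
    (hθ : ∀ a ∈ A, a ≠ 1 → θ a ≤ G ⊓ Subgroup.centralizer ({a} : Set X) ∧ A ≤ Subgroup.normalizer ((θ a : Subgroup X) : Set X) ∧ (Nat.card ↥(θ a)).Coprime r)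
    (hE : ∀ a ∈ A, a ≠ 1 → Cfsg.layer ↥(θ a) ≠ ⊥ →
      ¬ IsMulCommutative ↥((Cfsg.layer ↥(θ a)).map (θ a).subtype) ∧
      (∀ N : Subgroup X, N ≤ (Cfsg.layer ↥(θ a)).map (θ a).subtype → (N.subgroupOf ((Cfsg.layer ↥(θ a)).map (θ a).subtype)).Normal →
         A ≤ Subgroup.normalizer (N : Set X) → N = ⊥ ∨ N = (Cfsg.layer ↥(θ a)).map (θ a).subtype) ∧
      Cfsg.IsKGroup ↥((Cfsg.layer ↥(θ a)).map (θ a).subtype) ∧
      Cfsg.fittingSubgroup ↥(θ a) = ⊥ ∧
      A ⊓ Subgroup.centralizer (((Cfsg.layer ↥(θ a)).map (θ a).subtype : Subgroup X) : Set X) = Subgroup.zpowers a)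
    (hbal : ∀ a ∈ A, ∀ b ∈ A, a ≠ 1 → b ≠ 1 →
      θ a ⊓ Subgroup.centralizer ({b} : Set X) ≤ θ b ∧
      (Cfsg.layer ↥((Cfsg.layer ↥(θ a)).map (θ a).subtype ⊓ Subgroup.centralizer ({b} : Set X))).map
          ((Cfsg.layer ↥(θ a)).map (θ a).subtype ⊓ Subgroup.centralizer ({b} : Set X)).subtype ≤ (Cfsg.layer ↥(θ b)).map (θ b).subtype)
    (hgen : G = ⨆ a : {a : X // a ∈ A ∧ a ≠ 1}, (Cfsg.layer ↥(θ a.1)).map (θ a.1).subtype) :
    (Nat.card G).Coprime r ∧ ¬ IsMulCommutative ↥G ∧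
    (∀ N : Subgroup X, N ≤ G → (N.subgroupOf G).Normal → A ≤ Subgroup.normalizer (N : Set X) → N = ⊥ ∨ N = G) ∧
    Cfsg.IsKGroup ↥G ∧ ∀ a ∈ A, a ≠ 1 → G ⊓ Subgroup.centralizer ({a} : Set X) = θ a := by
  have hp : r.Prime := Fact.out
  have hn : ∀ a, Comp.layerOf (θ a) ⊲ θ a := fun a => ⟨map_subtype_le _, Comp.le_normalizer_layerOf _⟩
  have hb : ∀ a, Comp.layerOf (θ a) ≠ ⊥ → layer (θ a) ≠ ⊥ := fun a h e => h (by rw [Comp.layerOf, e, Subgroup.map_bot])
  have hA' : ∀ a ∈ A, a ≠ 1 → A ≤ 𝒩(Comp.layerOf (θ a)) := fun a ha h1 =>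
    (hθ a ha h1).2.1.trans (Comp.normalizer_le_normalizer_layerOf _)
  have hsim : ∀ a ∈ A, a ≠ 1 → Comp.layerOf (θ a) ≠ ⊥ → ASim A (Comp.layerOf (θ a)) := fun a ha h1 hL =>
    ⟨Comp.layerOf_perfect _, hL, hA' a ha h1, fun N hN hAN =>
      ((hE a ha h1 (hb a hL)).2.1 N hN.le hN.normal hAN).symm.imp_right fun e : N = ⊥ => e ▸ inferInstance⟩
  have hsol : ∀ a ∈ A, a ≠ 1 → solOf (Comp.layerOf (θ a)) = ⊥ := fun a ha h1 => by
    by_cases hL : Comp.layerOf (θ a) = ⊥
    · exact le_bot_iff.1 ((solOf_le _).trans hL.le)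
    · exact ((hE a ha h1 (hb a hL)).2.1 _ (solOf_le _) (solOf_normal _).normal
        (norms_solOf (hA' a ha h1))).resolve_right fun e =>
        (hsim a ha h1 hL).not_solvable (solvableS e.ge (solOf_solvable _))
  have hkg : ∀ a ∈ A, a ≠ 1 → IsKGroup (Comp.layerOf (θ a)) := fun a ha h1 => by
    by_cases hL : Comp.layerOf (θ a) = ⊥
    · exact isKGroup_of_solvable (hL ▸ inferInstance)
    · exact (hE a ha h1 (hb a hL)).2.2.1
  have hp' : ∀ a ∈ A, a ≠ 1 → IsPiSubgroup {r}ᶜ (θ a) := fun a ha h1 => (p'group_iff_coprime hp).2 (hθ a ha h1).2.2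
  have e : signalizerClosure A (fun a => Comp.layerOf (θ a)) = G := hgen.symm
  have h : IDG r A θ fun a => Comp.layerOf (θ a) :=
    { prime := hp, abelem := hA, card := hrank, sim := hsim, sol := hsol, kg := hkg, p'grp := hp'
      le_cent := fun a ha h1 => (hθ a ha h1).1.trans inf_le_right
      norm := fun a ha h1 => (hθ a ha h1).2.1
      bal := fun a ha h1 b hb h2 => (hbal a ha b hb h1 h2).1
      nrm := fun a _ _ => hn a
      cen := fun a ha h1 hL => by
        have := Comp.inf_centralizer_fstarOf_le (θ a)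
        rwa [Comp.fstarOf_eq, Comp.fitOf, (hE a ha h1 (hb a hL)).2.2.2.1, Subgroup.map_bot, sup_bot_eq, le_bot_iff] at this
      ker := fun a ha h1 hL => (hE a ha h1 (hb a hL)).2.2.2.2
      kbal := fun a ha h1 b hb h2 => by
        by_cases hL : Comp.layerOf (θ a) = ⊥
        · exact (resOf_le _).trans (inf_le_left.trans (hL.le.trans bot_le))
        · exact ((hsim a ha h1 hL).res_le_layerOf ⟨hp, hA, hA' a ha h1, pigroupS (hn a).le (hp' a ha h1),
            hkg a ha h1⟩ (hsol a ha h1) hb).trans (hbal a ha b hb h1 h2).2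
      ne := e ▸ hG }
  have := h.main fun a ha h1 => e ▸ (hθ a ha h1).1.trans inf_le_left
  rw [e] at this
  obtain ⟨k1, k2, k3⟩ := this
  refine ⟨(p'group_iff_coprime hp).1 k1.p'grp, fun hc => k3.not_solvable (abelian_sol hc), fun N h1 h2 h3 => ?_,
    k1.kg, fun a ha h1 => le_antisymm (k1.le a ha h1) (hθ a ha h1).1⟩
  have hN := (normalIn_iff_normal h1).2 h2
  exact (k3.sim N hN h3).symm.imp_left fun hs => le_bot_iff.1 (k2 ▸ le_solOf hN hs)

end Cfsg.Agent.S1923
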