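import Cfsg.Statements.S1929
import Cfsg.Agent.Lib.FLA.ThmC

set_option autoImplicit false
open Cfsg

namespace Cfsg.Agent.S1929

/-- Inside a finite group let G be a subgroup and R a subgroup of prime order r normalizing G, with the order of G prime to r. Let K be a quasisimple subgroup of G that commutes elementwise with every conjugate of K, other than K itself, under the subgroup generated by R and C_G(R). Then K is a component of C_G(R), or K is a component of G, or K is contained in a component of G that is normalized by R. -/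
theorem result {X : Type*} [Group X] [Finite X] (G R : Subgroup X) (r : ℕ) [Fact r.Prime] (hR : Nat.card ↥R = r) (hcop : (Nat.card ↥G).Coprime r) (hnorm : R ≤ Subgroup.normalizer (G : Set X)) (K : Subgroup X) (hKG : K ≤ G) (hKq : Cfsg.IsQuasisimple ↥K) (hcomm : ∀ g ∈ R ⊔ (G ⊓ Subgroup.centralizer (R : Set X)), K.map (MulAut.conj g).toMonoidHom ≠ K → ⁅K, K.map (MulAut.conj g).toMonoidHom⁆ = ⊥) : (K ≤ G ⊓ Subgroup.centralizer (R : Set X) ∧ Cfsg.IsComponent (K.subgroupOf (G ⊓ Subgroup.centralizer (R : Set X)))) ∨ Cfsg.IsComponent (K.subgroupOf G) ∨ ∃ L : Subgroup X, L ≤ G ∧ Cfsg.IsComponent (L.subgroupOf G) ∧ (∀ a ∈ R, L.map (MulAut.conj a).toMonoidHom = L) ∧ K ≤ L := by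
  have hr : r.Prime := Fact.out
  obtain ⟨a, rfl⟩ := (Subgroup.isCyclic_iff_exists_zpowers_eq_top R).1 (isCyclic_of_prime_card hR)
  have ha : a ^ r = 1 := by rw [← hR, Nat.card_zpowers, pow_orderOf_eq_one]
  have e : G ⊓ Subgroup.centralizer (Subgroup.zpowers a : Set X) = CfsgLib.Flav.fx a G := by
    rw [CfsgLib.Core.centralizer_zpowers]; rfl
  rw [e] at hcomm ⊢
  refine (CfsgLib.FLA.thmC hr ha (hnorm (Subgroup.mem_zpowers a)) (hr.coprime_iff_not_dvd.1 hcop.symm) hKG hKq
    hcomm).imp_right (Or.imp_right fun ⟨L, h1, h2, h3, h4⟩ => ⟨L, h1, h2, fun b hb => ?_, h4⟩)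
  exact CfsgLib.Tech.mem_normalizer_iff_cj.1 (CfsgLib.Flav.zp_le h3 hb)

end Cfsg.Agent.S1929
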