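import Cfsg.Statements.S1930
import Cfsg.Agent.Lib.EqK.KNorm
import Cfsg.Agent.Lib.Comp.FStar

set_option autoImplicit false
open Cfsg CfsgLib Subgroup

namespace Cfsg.Agent.S1930

/-- Inside a finite group let G be a nontrivial subgroup and R an r-subgroup (r a prime) normalizing G, with the order of G prime to r. Let p > 3 be a prime with F*(G) = O_p(G), and let P be the intersection of all R-invariant Sylow p-subgroups of G. Then P has a nontrivial characteristic subgroup that is normalized by G. -/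
theorem result {X : Type*} [Group X] [Finite X] (G R : Subgroup X) (r : ℕ) [Fact r.Prime] (hR : IsPGroup r ↥R) (hcop : (Nat.card ↥G).Coprime r) (hnorm : R ≤ Subgroup.normalizer (G : Set X)) (hG : G ≠ ⊥) (p : ℕ) [Fact p.Prime] (hp : 3 < p) (hF : Cfsg.generalizedFittingSubgroup ↥G = Cfsg.pCore p ↥G) (P : Subgroup X) (hP : P = ⨅ S : {S : Sylow p ↥G // ∀ a ∈ R, ((S : Subgroup ↥G).map G.subtype).map (MulAut.conj a).toMonoidHom = (S : Subgroup ↥G).map G.subtype}, ((S : Sylow p ↥G) : Subgroup ↥G).map G.subtype) : ∃ C : Subgroup ↥P, C.Characteristic ∧ C ≠ ⊥ ∧ G ≤ Subgroup.normalizer ((C.map P.subtype : Subgroup X) : Set X) := by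
  have hp' : p.Prime := Fact.out
  have hc := Comp.fstar_eq_pCore_iff.1 hF
  have h0 : pCoreOf p G ≠ ⊥ := fun e => hG (by
    rw [LAE.pCoreOf_eq_bot_iff.1 e] at hc
    exact eq_bot_iff.2 fun g hg => congrArg Subtype.val (mem_bot.1 (hc (x := ⟨g, hg⟩) fun x hx => by
      rw [mem_bot.1 hx, one_mul, mul_one])))
  obtain ⟨n, hn⟩ := hR.exists_card_eq
  have h1 : (Nat.card R).Coprime (Nat.card G) := hn ▸ hcop.symm.pow_left n
  obtain ⟨m, hm⟩ := (LAE.isPGroup_pCoreOf (p := p) G).exists_card_eq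
  have h := EqK.st_icore (p := p) hnorm (Coprime.isSolvable_of_isPGroup hR) h1 (h1.coprime_dvd_right ((dvd_pow_self p
    fun e => h0 (card_eq_one.1 (by rw [hm, e, pow_zero]))).trans (hm ▸ card_dvd_of_le (LAE.pCoreOf_le G))))
  obtain rfl : P = EqK.icore p G R := by
    refine hP.trans (le_antisymm (le_sInf fun T hT => ?_) (le_iInf fun S => sInf_le ⟨map_subtype_le _,
      S.1.isPGroup'.map _, Coprime.not_dvd_relIndex_sylow _, fun a ha => RootSub.conjBy_eq_self_iff.1 (S.2 a ha)⟩))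
    obtain ⟨S, rfl⟩ := Coprime.exists_sylow_map_eq hT.1 hT.2.1 hT.2.2.1
    exact iInf_le_of_le ⟨S, fun a ha => RootSub.conjBy_eq_self_iff.2 (hT.2.2.2 ha)⟩ le_rfl
  have h2 := h.pCoreOf.le_icore
  have h3 := h.kUp (by
    have := hp'.eq_two_or_odd
    omega) h2 fun y hy hy' hz => by
    have h4 : (⟨y, hy⟩ : G) ∈ pCore p G := hc fun z hz' => Subtype.ext (hz _ (mem_map_of_mem _ hz'))
    obtain ⟨k, hk⟩ := Tech.isPGroup_iff_mem.1 (Core.isPGroup_pCore p G) _ h4
    rw [orderOf_eq_one_iff.1 ((hy'.pow_right k).eq_one_of_dvd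
      (orderOf_dvd_of_pow_eq_one (congrArg Subtype.val hk)))]
    exact one_mem _
  refine ⟨kInfUpper _, characteristic_iff_map_eq.2 fun φ => ?_, fun e => ?_, ?_⟩
  · rw [CFun.kInfUpper_eq, CFun.map_kUpIn φ.injective, map_top_of_surjective _ φ.surjective]
  · refine CFun.zc_ne_bot (LAE.isPGroup_pCoreOf G) h0 (le_bot_iff.1 ((CFun.zc_le_kUpIn _).trans ?_))
    rw [h3, ← CFun.map_kInfUpper, e, Subgroup.map_bot]
  · rw [CFun.map_kInfUpper, ← h3]
    exact (LAE.le_normalizer_pCoreOf G).trans (CFun.norm_le_norm_kUpIn _)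

end Cfsg.Agent.S1930
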