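import Cfsg.Statements.S1931
import Cfsg.Agent.Lib.EqK.Star

set_option autoImplicit false
open Cfsg CfsgLib Subgroup

namespace Cfsg.Agent.S1931

/-- Inside a finite group let G be a subgroup and R a noncyclic abelian r-subgroup (r a prime) normalizing G, with the order of G prime to r, and let p > 3 be a prime. Suppose that for every nonidentity a ∈ R, R centralizes the subgroup O^p(F*(C_G(a))) generated by the p'-elements of the generalized Fitting subgroup of C_G(a). Then R centralizes O^p(F*(G)). -/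
theorem result {X : Type*} [Group X] [Finite X] (G R : Subgroup X) (r : ℕ) [Fact r.Prime] (hR : IsPGroup r ↥R) (hcop : (Nat.card ↥G).Coprime r) (hnorm : R ≤ Subgroup.normalizer (G : Set X)) (hab : IsMulCommutative ↥R) (hnc : ¬ IsCyclic ↥R) (p : ℕ) [Fact p.Prime] (hp : 3 < p) (hloc : ∀ a ∈ R, a ≠ 1 → R ≤ Subgroup.centralizer ((((Cfsg.pResidual p ↥(Cfsg.generalizedFittingSubgroup ↥(G ⊓ Subgroup.centralizer ({a} : Set X)))).map (Cfsg.generalizedFittingSubgroup ↥(G ⊓ Subgroup.centralizer ({a} : Set X))).subtype).map (G ⊓ Subgroup.centralizer ({a} : Set X)).subtype : Subgroup X) : Set X)) : R ≤ Subgroup.centralizer ((((Cfsg.pResidual p ↥(Cfsg.generalizedFittingSubgroup ↥G)).map (Cfsg.generalizedFittingSubgroup ↥G).subtype).map G.subtype : Subgroup X) : Set X) := by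
  have hp' : p.Prime := Fact.out
  have e0 : ∀ H : Subgroup X, ((pResidual p (generalizedFittingSubgroup H)).map
      (generalizedFittingSubgroup H).subtype).map H.subtype = EqK.Lp p H := fun H =>
    LAE.map_pResOf_of_injective H.subtype_injective _
  rw [e0]
  replace hloc : ∀ a ∈ R, a ≠ 1 → R ≤ centralizer (EqK.Lp p (G ⊓ centralizer (zpowers a : Set X)) : Set X) :=
    fun a ha e => Core.centralizer_zpowers a ▸ e0 _ ▸ hloc a ha e
  by_cases e : r = p
  · subst e
    obtain ⟨q, h1, hq⟩ := Nat.exists_infinite_primes (Nat.card G + r + 5)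
    have := Fact.mk hq
    have h2 : (Nat.card G).Coprime q := (Nat.coprime_of_lt_prime Nat.card_pos.ne' (by omega) hq).symm
    have h3 : ∀ H ≤ G, EqK.Lp q H = EqK.Lp r H := fun H hH => by
      rw [EqK.Lp_eq (h2.coprime_dvd_left (card_dvd_of_le hH)), EqK.Lp_eq (hcop.coprime_dvd_left (card_dvd_of_le hH))]
    have := EqK.cent_Lp (p := q) (by omega) (by omega) hR hcop hnorm hab hnc fun a ha e =>
      h3 _ inf_le_left ▸ hloc a ha e
    rwa [h3 G le_rfl] at this
  exact EqK.cent_Lp (by
    have := hp'.eq_two_or_odd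
    omega) e hR hcop hnorm hab hnc hloc

end Cfsg.Agent.S1931
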