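import Cfsg.Statements.S1932
import Cfsg.Agent.Lib.CFun.S4Gen
import Cfsg.Agent.Lib.PLocal.Factorization

set_option autoImplicit false
open Cfsg

namespace Cfsg.Agent.S1932

open CfsgLib CfsgLib.CFun CfsgLib.Tech CfsgLib.PLocal Subgroup

/-- Let G be a finite group that is 2-constrained and has no section isomorphic to the symmetric group of degree 4, and let S be a Sylow 2-subgroup of G of nilpotency class at most 2. Then G = N_G(J(S))·O_{2'}(G), where J(S) is the Thompson subgroup generated by the elementary abelian subgroups of S of largest order. -/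
theorem result {G : Type*} [Group G] [Finite G] (hcon : Cfsg.IsPConstrained 2 G) (hS4 : ¬ Cfsg.Involves (Equiv.Perm (Fin 4)) G) (S : Sylow 2 G) (hcl : Subgroup.lowerCentralSeries (S : Subgroup G) 2 = ⊥) : Subgroup.normalizer ((Cfsg.thompsonSubgroupOf 2 (S : Subgroup G)) : Set G) ⊔ Cfsg.pPrimeCore 2 G = ⊤ := by
  have hf := QuotientGroup.mk'_surjective (pPrimeCore 2 G)
  have hk := Constr.coprime_ker_mk' (G := G) (p := 2)
  have := ZJ.ker_sup_normalizer_eq_top hf hk (S.2.to_le (thompsonSubgroupOf_le (p := 2) _)) (by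
    rw [map_thompsonSubgroupOf_of_disjoint (PSolv.disjoint_of_isPGroup_of_coprime S.2 hk).eq_bot]
    refine thompson_normal_of_class_two (Or.inr rfl) (fun h => hS4 (sec_iff_involves.1
      ((sec_iff_involves.2 h).trans (sec_quotient _)))) (Constr.isPConstrained_iff.mp hcon)
      (sylIn_map_top (IsSylowIn.of_sylow_top S) hf) ?_
    rw [← map_commutator, ← map_commutator]
    have h2 : ⁅⁅(S : Subgroup G), (S : Subgroup G)⁆, (S : Subgroup G)⁆ = ⊥ := hcl
    rw [h2, Subgroup.map_bot])
  rwa [QuotientGroup.ker_mk', sup_comm] at this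

end Cfsg.Agent.S1932
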