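import Cfsg.Statements.S1933
import Cfsg.Agent.Lib.FLA.ThmB

set_option autoImplicit false
open Cfsg

namespace Cfsg.Agent.S1933

/-- Inside a finite group let G be a subgroup and R a subgroup of prime order r normalizing G, with the order of G prime to r. Let H be a subgroup of G normalized by R and by C_G(R) and such that H = [H, R]. Then the layer of H is contained in the layer of G. -/
theorem result {X : Type*} [Group X] [Finite X] (G R : Subgroup X) (r : ℕ) [Fact r.Prime] (hR : Nat.card ↥R = r) (hcop : (Nat.card ↥G).Coprime r) (hnorm : R ≤ Subgroup.normalizer (G : Set X)) (H : Subgroup X) (hHG : H ≤ G) (hHinv : R ⊔ (G ⊓ Subgroup.centralizer (R : Set X)) ≤ Subgroup.normalizer (H : Set X)) (hHR : ⁅H, R⁆ = H) : (Cfsg.layer ↥H).map H.subtype ≤ (Cfsg.layer ↥G).map G.subtype := by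
  
  haveI : IsCyclic R := isCyclic_of_prime_card hR
  obtain ⟨a, rfl⟩ := (Subgroup.isCyclic_iff_exists_zpowers_eq_top R).1 inferInstance
  have hr : r.Prime := Fact.out
  refine CfsgLib.FLA.thmB hr ?_ (hnorm (Subgroup.mem_zpowers a)) (hr.coprime_iff_not_dvd.1 hcop.symm) hHG
    (hHinv (Subgroup.mem_sup_left (Subgroup.mem_zpowers a))) (fun x hx => ?_) hHR
  · rw [← hR, Nat.card_zpowers, pow_orderOf_eq_one]
  · exact hHinv (Subgroup.mem_sup_right ⟨hx.1, CfsgLib.Flav.cent_zp.2 (CfsgLib.Flav.fx_comm hx)⟩)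


end Cfsg.Agent.S1933
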