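import Cfsg.Statements.S1950
import Cfsg.Agent.Lib.CycPair.D

set_option autoImplicit false
open Cfsg

namespace Cfsg.Agent.S1950

open Subgroup CfsgLib.PLocal CfsgLib.CycPair in
theorem aux {p : ℕ} [hp : Fact p.Prime] (n : ℕ) : ∀ (G : Type*) [Group G] [Finite G], Nat.card G = n → Cy p G →
    (∀ x y : G, orderOf x = p → orderOf y = p → IsPSolvable p (closure ({x, y} : Set G))) → IsPSolvable p G := by
  induction n using Nat.strong_induction_on with
  | _ n ih =>
  intro G _ _ hn hC H
  by_cases hd : p ∣ Nat.card G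
  swap
  · exact PSolv.of_coprime (hp.out.coprime_iff_not_dvd.2 hd).symm
  by_cases hs : IsSimpleGroup G
  · have := Fintype.ofFinite G
    exact Cfsg.Agent.S4145.psolv_of_npc (by_contra fun hN => main hC hd hN H)
  have : Nontrivial G := Finite.one_lt_card_iff_nontrivial.1 (hp.out.one_lt.trans_le (Nat.le_of_dvd Nat.card_pos hd))
  obtain ⟨N, hN, h1, h2⟩ : ∃ N : Subgroup G, N.Normal ∧ N ≠ ⊥ ∧ N ≠ ⊤ := by
    by_contra! h
    exact hs ⟨fun N hN => or_iff_not_imp_left.2 (h N hN)⟩
  have hc := N.card_mul_index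
  have c1 : 1 < Nat.card N := (N.one_lt_card_iff_ne_bot).2 h1
  have c2 : 1 < N.index := one_lt_index_of_ne_top h2
  by_cases d1 : p ∣ Nat.card N
  · by_cases d2 : p ∣ N.index
    · obtain ⟨P⟩ : Nonempty (Sylow p G) := inferInstance
      exact (Cfsg.Agent.S4145.result p P (hC _ P.isPGroup') N d1 d2).2
    refine PSolv.of_normal_of_quotient N (ih _ (by nlinarith) N rfl (hC.subgroup N) fun x y hx hy => ?_)
      (PSolv.of_coprime (hp.out.coprime_iff_not_dvd.2 d2).symm)
    have h3 := H x y (by rwa [orderOf_coe]) (by rwa [orderOf_coe])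
    rw [← show (closure {x, y}).map N.subtype = closure {(x : G), (y : G)} by
      rw [MonoidHom.map_closure, Set.image_pair]; rfl] at h3
    exact PSolv.of_equiv h3 (equivMapOfInjective _ _ N.subtype_injective).symm
  have d2 := (hp.out.coprime_iff_not_dvd.2 d1).symm
  have hf := QuotientGroup.mk'_surjective N
  refine PSolv.of_normal_of_quotient N (PSolv.of_coprime d2)
    (ih N.index (by nlinarith) (G ⧸ N) rfl (hC.of_surjective hf) fun x y hx hy => ?_)
  rw [← QuotientGroup.ker_mk' N] at d2
  obtain ⟨u, hu, rfl⟩ := exists_lift hf d2 hx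
  obtain ⟨v, hv, rfl⟩ := exists_lift hf d2 hy
  rw [← Set.image_pair, ← MonoidHom.map_closure]
  exact PSolv.map (H u v hu hv) _

/-- Let G be a finite group whose Sylow p-subgroups are cyclic. Then G is p-solvable if and only if every two elements of order p of G generate a p-solvable subgroup. -/
theorem result {G : Type*} [Group G] [Finite G] {p : ℕ} [Fact p.Prime] (P : Sylow p G) (hP : IsCyclic ↥(P : Subgroup G)) :
    Cfsg.IsPSolvable p G ↔ ∀ x y : G, orderOf x = p → orderOf y = p → Cfsg.IsPSolvable p ↥(Subgroup.closure ({x, y} : Set G)) :=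
  ⟨fun h _ _ _ _ => CfsgLib.PLocal.PSolv.subgroup h _, aux _ G rfl (CfsgLib.CycPair.Cy.of_sylow P hP)⟩

end Cfsg.Agent.S1950
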