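import Cfsg.Statements.S1999
import Cfsg.Agent.Lib.CFun.Reduce
import Cfsg.Agent.Lib.S4Free.App

set_option autoImplicit false
open Cfsg

namespace Cfsg.Agent.S1999

open CfsgLib CfsgLib.CFun CfsgLib.Tech CfsgLib.PLocal Subgroup Equiv

universe u

/-- The centre as a functor. -/
abbrev zF (Q : Type u) [Group Q] : Subgroup Q := center Q

/-- The elementary Thompson subgroup as a functor. -/
abbrev jF (Q : Type u) [Group Q] : Subgroup Q := thompsonSubgroup 2 Q

theorem char_zF : IsCharPFunctor.{u} 2 zF := by
  refine ⟨fun Q _ _ hQ _ h => ?_, fun Q R _ _ _ _ φ => ?_⟩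
  · have := hQ.center_nontrivial
    rw [zF] at h
    rw [h] at this
    exact not_nontrivial _ this
  · ext y
    simp only [mem_map, mem_center_iff, MulEquiv.coe_toMonoidHom]
    constructor
    · rintro ⟨x, hx, rfl⟩ g
      obtain ⟨g, rfl⟩ := φ.surjective g
      rw [← map_mul, hx, map_mul]
    · intro h
      obtain ⟨x, rfl⟩ := φ.surjective y
      exact ⟨x, fun g => φ.injective (by rw [map_mul, h, map_mul]), rfl⟩

theorem top_eq {Q : Type*} [Group Q] : thompsonSubgroupOf 2 (⊤ : Subgroup Q) = thompsonSubgroup 2 Q := by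
  exact thompsonSubgroupOf_top

theorem char_jF : IsCharPFunctor.{u} 2 jF := by
  refine ⟨fun Q _ _ hQ _ h => ?_, fun Q R _ _ _ _ φ => ?_⟩
  · rw [jF, ← top_eq] at h
    refine thompsonSubgroupOf_ne_bot ?_ h
    rw [card_top]
    exact hQ.card_eq_or_dvd.resolve_left Finite.one_lt_card.ne'
  · rw [jF, jF, ← top_eq, ← top_eq, map_thompsonSubgroupOf φ.injective, map_top_of_surjective _ φ.surjective]

theorem char_pair : ∀ W ∈ ({zF, jF} : Set (∀ (Q : Type u) [Group Q], Subgroup Q)),
    IsCharPFunctor.{u} 2 W := by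
  rintro W (rfl | rfl)
  · exact char_zF
  · exact char_jF

theorem ind_eq (X : Type u) [Group X] : ind {zF, jF} X =
    {fun P : Subgroup X => P ⊓ centralizer (P : Set X), fun P => thompsonSubgroupOf 2 P} := by
  rw [ind_pair]
  congr 1
  funext P
  exact map_center_subtype P

theorem local_ctl {X : Type u} [Group X] [Finite X] (h4 : ¬ Involves (Perm (Fin 4)) X)
    (hc : centralizer (pCore 2 X : Set X) ≤ pCore 2 X) : FusCtl 2 {zF, jF} X := by
  obtain ⟨S⟩ : Nonempty (Sylow 2 X) := inferInstance
  have hS := IsSylowIn.of_sylow_top S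
  have hW := S4Free.pi_WIn (S : Subgroup X)
  have := S4Free.W_normal h4 hc (sylIn_toLAE hS)
  refine (familyControlsStrongFusionIn_iff (ind_conj char_pair) hS).2
    ((fusGen_sup_cent hS hW.le).mono ?_)
  rw [ind_eq]
  rintro x (hx | hx)
  · refine ⟨_, Or.inl rfl, mem_top _, ?_⟩
    refine (sup_le ?_ ?_ : _ ≤ normalizer _) hx
    · exact le_normalizer_of_le_centralizer (le_centralizer_iff.1 inf_le_right)
    · exact le_normalizer_of_le_centralizer (S4Free.cent_W_le hc (sylIn_toLAE hS))
  · refine ⟨_, Or.inr rfl, mem_top _, ?_⟩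
    have h2 := normalizer_le_normalizer_thompsonSubgroupOf (p := 2) _ hx
    rwa [thompsonSubgroupOf_eq_of_le inf_le_left
      (le_inf (thompsonSubgroupOf_le _) hW.thompson_le_cent)] at h2

theorem card_cent {X : Type*} [Group X] (e : X ≃* Perm (Fin 4)) (a : Perm (Fin 4)) :
    Nat.card (centralizer ({e.symm a} : Set X)) = Fintype.card {y : Perm (Fin 4) // a * y = y * a} := by
  rw [← Nat.card_eq_fintype_card]
  refine Nat.card_congr (e.toEquiv.subtypeEquiv fun x => ?_)
  rw [mem_centralizer_singleton_iff, ← e.injective.eq_iff, map_mul, map_mul, e.apply_symm_apply,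
    eq_comm]
  rfl

theorem not_ctl {X : Type u} [Group X] [Finite X] (e : X ≃* Perm (Fin 4)) :
    ¬ FusCtl 2 {zF, jF} X := by
  intro h
  have mem : ∀ (a : Perm (Fin 4)) (x : X), x ∈ centralizer ({e.symm a} : Set X) ↔
      e x * a = a * e x := fun a x => by
    rw [mem_centralizer_singleton_iff, ← e.injective.eq_iff, map_mul, map_mul, e.apply_symm_apply]
  set a : Perm (Fin 4) := swap 0 1 * swap 2 3 with ha
  set t : Perm (Fin 4) := swap 0 1 with ht
  set S := centralizer ({e.symm a} : Set X)
  set E := centralizer ({e.symm t} : Set X)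
  have c8 : Nat.card S = 8 := (card_cent e a).trans (by decide)
  have c4 : Nat.card E = 4 := (card_cent e t).trans (by decide)
  have c24 : Nat.card X = 24 := by
    rw [Nat.card_congr e.toEquiv, Nat.card_eq_fintype_card]; decide
  have hS : IsSylowIn 2 S ⊤ := ⟨le_top, IsPGroup.of_card (n := 3) c8, by
    have := S.card_mul_index
    rw [c8, c24] at this
    rw [relIndex_top_right, show S.index = 3 by omega]
    decide⟩
  have haS : e.symm a ∈ S := (mem _ _).2 (by rw [e.apply_symm_apply])
  have htS : e.symm t ∈ S := (mem _ _).2 (by rw [e.apply_symm_apply]; decide)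
  have hE : E ∈ maxElemIn 2 S := by
    refine ⟨fun x hx => (mem _ _).2 ((by decide : ∀ y, y * t = t * y → y * a = a * y) _
      ((mem _ _).1 hx)), elemAb_iff.2 ⟨fun x hx y hy => e.injective ?_, fun x hx => e.injective ?_⟩,
      fun B hB hB' => ?_⟩
    · rw [map_mul, map_mul]
      exact (by decide : ∀ x y, x * t = t * x → y * t = t * y → x * y = y * x) _ _
        ((mem _ _).1 hx) ((mem _ _).1 hy)
    · rw [map_pow, map_one]
      exact (by decide : ∀ x, x * t = t * x → x ^ 2 = 1) _ ((mem _ _).1 hx)
    · have h1 := card_dvd_of_le hB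
      rw [c8] at h1
      have h2 : Nat.card B ≠ 8 := fun h8 => by
        have h3 := eq_of_le_of_card_ge hB (by rw [c8, h8])
        have h4 := hB'.2 (e.symm (swap 0 2 * swap 1 3 * t)) (h3 ▸ (mem _ _).2 (by
          rw [e.apply_symm_apply]; decide))
        rw [← map_pow, e.symm.map_eq_one_iff] at h4
        exact absurd h4 (by decide)
      have h3 := Nat.le_of_dvd (by norm_num) h1
      rw [c4]
      generalize Nat.card B = n at *
      interval_cases n <;> omega
  have hK : nrmSet (ind {zF, jF} X) ⊤ S ⊆ S := by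
    rw [ind_eq]
    rintro x ⟨W, rfl | rfl, -, hx⟩
    · have h1 : e.symm a ∈ S ⊓ centralizer (S : Set X) :=
        ⟨haS, fun y hy => mem_centralizer_singleton_iff.1 hy⟩
      have h2 := ((mem_normalizer_iff.1 hx _).1 h1).2 _ htS
      rw [← e.injective.eq_iff] at h2
      simp only [map_mul, map_inv, e.apply_symm_apply] at h2
      exact (mem _ _).2 ((by decide : ∀ y, t * (y * a * y⁻¹) = y * a * y⁻¹ * t → y * a = a * y) _ h2)
    · have h1 : e.symm t ∈ thompsonSubgroupOf 2 S :=
        le_thompsonSubgroupOf hE ((mem _ _).2 (by rw [e.apply_symm_apply]))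
      have h2 := (mem _ _).1 (thompsonSubgroupOf_le _ ((mem_normalizer_iff.1 hx _).1 h1))
      simp only [map_mul, map_inv, e.apply_symm_apply] at h2
      exact (mem _ _).2 ((by decide : ∀ y, y * t * y⁻¹ * a = a * (y * t * y⁻¹) → y * a = a * y) _ h2)
  have h1 := ((familyControlsStrongFusionIn_iff (ind_conj char_pair) hS).1 h).mono hK
  obtain ⟨x, hx, h2⟩ := fusGen_subgroup_iff.1 h1 {e.symm a} (e.symm (swap 1 2)) (mem_top _)
    (Set.singleton_subset_iff.2 haS) (by
      rintro _ ⟨_, rfl, rfl⟩
      refine (mem _ _).2 ?_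
      simp only [map_mul, map_inv, e.apply_symm_apply]
      decide)
  have h3 := h2 _ rfl
  rw [mem_centralizer_singleton_iff.1 hx, mul_inv_cancel_right, ← e.injective.eq_iff] at h3
  simp only [map_mul, map_inv, e.apply_symm_apply] at h3
  exact absurd h3 (by decide)


/-- Let G be a finite group. The symmetric group of degree 4 is not involved in G if and only if, in every section K/R of G, the pair of conjugacy functors {Z, J_e} controls strong fusion (for the prime 2): here Z(P) is the centre and J_e(P) the subgroup generated by the elementary abelian subgroups of P of largest order, and control by the pair means that 2-fusion of tuples inside a Sylow 2-subgroup T of the section is generated, staying inside T, by conjugation inside N(Z(T)) and N(J_e(T)). -/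
theorem result {G : Type*} [Group G] [Finite G] : ¬ Cfsg.Involves (Equiv.Perm (Fin 4)) G ↔ ∀ (K R : Subgroup G) [hR : (R.subgroupOf K).Normal], Cfsg.FamilyControlsStrongFusionIn 2 ({fun P : Subgroup (↥K ⧸ R.subgroupOf K) => P ⊓ Subgroup.centralizer ((P : Subgroup (↥K ⧸ R.subgroupOf K)) : Set (↥K ⧸ R.subgroupOf K)), fun P : Subgroup (↥K ⧸ R.subgroupOf K) => Cfsg.thompsonSubgroupOf 2 P} : Set (Subgroup (↥K ⧸ R.subgroupOf K) → Subgroup (↥K ⧸ R.subgroupOf K))) ⊤ := by
  constructor
  · intro h4 K R _
    rw [← ind_eq]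
    exact fusCtl_of_sections char_pair (fun K R _ hc _ => local_ctl (fun h => h4 (sec_iff_involves.1
      ((sec_iff_involves.2 h).trans (sec_section K R)))) hc) _ (sec_section K R)
  · rintro h ⟨K, R, _, ⟨e⟩⟩
    exact not_ctl e (by rw [FusCtl, ind_eq]; exact h K R)

end Cfsg.Agent.S1999
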