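import Mathlib
import Cfsg.Statements.S2000
import Cfsg.Agent.Lib.ZJ.QdNorm
import Cfsg.Agent.Lib.Fusion.HSec
import Cfsg.Agent.Lib.PLocal.StableClosure
import Cfsg.Agent.S1999

set_option autoImplicit false
universe u
open Cfsg

namespace Cfsg.Agent.S2000

/-- Let p be a prime and G a finite group. Then Qd(p) (the natural semidirect product of an elementary abelian group of order p² by SL₂(p)) is not involved in G if and only if there is a set 𝓦 of isomorphism-invariant p-group functors (each nontrivial on nontrivial finite p-groups and carried onto W(R) by every isomorphism from a finite p-group Q onto R, hence with characteristic values on finite p-groups) whose induced conjugacy functors control strong fusion in every section of G. -/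
theorem result {G : Type u} [Group G] [Finite G] {p : ℕ} [Fact p.Prime] : ¬ Cfsg.Involves ↥(Cfsg.qd p) G ↔ ∃ 𝓦 : Set (∀ (Q : Type u) [Group Q], Subgroup Q), (∀ W ∈ 𝓦, Cfsg.IsCharPFunctor.{u} p W) ∧ ∀ (K R : Subgroup G) [hR : (R.subgroupOf K).Normal], Cfsg.FamilyControlsStrongFusionIn p ((fun W => Cfsg.inducedFunctor (G := (↥K ⧸ R.subgroupOf K)) W) '' 𝓦) ⊤ := by
  open CfsgLib.ZJ CfsgLib.CFun CfsgLib.Tech CfsgLib.PLocal in
  refine ⟨fun h => ?_, fun ⟨_, h1, h2⟩ => not_involves_qd_of_family h1 h2⟩
  by_cases hp : p = 2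
  · subst hp
    rw [← CfsgLib.Fusion.involves_perm_iff] at h
    refine ⟨{fun Q [Group Q] => Subgroup.center Q, fun Q [Group Q] => Cfsg.thompsonSubgroup 2 Q}, ?_,
      fun K R _ => familyControls_mono ?_ (Cfsg.Agent.S1999.result.1 h K R)⟩
    · rintro _ (rfl | rfl)
      · exact ⟨fun Q _ _ hQ _ => (Subgroup.nontrivial_iff_ne_bot _).1 hQ.center_nontrivial,
          fun Q R _ _ _ _ φ => StableW.map_center_equiv φ⟩
      · refine ⟨fun Q _ _ hQ _ => ?_, fun Q R _ _ _ _ φ => map_thompsonSubgroup_equiv φ⟩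
        beta_reduce
        rw [← thompsonSubgroupOf_top]
        exact fun h0 => centerThompsonOf_ne_bot (Or.inr rfl) (hQ.to_subgroup ⊤) top_ne_bot
          (eq_bot_iff.2 (h0 ▸ inf_le_left))
    · rintro _ (rfl | rfl)
      · exact ⟨_, ⟨_, Or.inl rfl, rfl⟩, fun T _ => (map_center_subtype T).symm⟩
      · exact ⟨_, ⟨_, Or.inr rfl, rfl⟩, fun T _ => rfl⟩
  · have hW := isSubFunctor_zj (p := p) (e := 0) (Or.inl rfl)
    refine ⟨{fun Q [Group Q] => zj 0 ⊤}, by rintro _ rfl; exact hW.isCharPFunctor, fun K R _ => ?_⟩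
    obtain ⟨T⟩ : Nonempty (Sylow p (K ⧸ R.subgroupOf K)) := inferInstance
    refine familyControls_of_controls ⟨_, rfl, rfl⟩ T ?_
    have := FusGen.controlsStrongFusionOf (fusGen_zj hp (e := 0) (Or.inl rfl) (fun X _ _ hX =>
      quadStable_of_not_involves_qd hp fun h' =>
        h (involves_trans h' (involves_trans hX (involves_section K R))))
      (IsSylowIn.of_sylow_top T) (isStronglyClosed_self _))
    rwa [← show _ = zj 0 (T : Subgroup (K ⧸ R.subgroupOf K)) from hW.map_top T.isPGroup'] at this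

end Cfsg.Agent.S2000
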