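import Cfsg.Statements.S2029
import Cfsg.Agent.Lib.KM.D

set_option autoImplicit false
open Cfsg

namespace Cfsg.Agent.S2029

open Subgroup CfsgLib.LAE CfsgLib.ZN CfsgLib.KM in
theorem charP_cent {G : Type*} [Group G] [Finite G] {p : ℕ} [Fact p.Prime] {T : Subgroup G}
    (hT : IsPGroup p T) (h : centralizer (pCore p (normalizer (T : Set G)) :
      Set (normalizer (T : Set G))) ≤ pCore p (normalizer (T : Set G))) :
    IsCharP p (centralizer (T : Set G)) := by
  have := (isCharP_iff.2 h).inf_centralizer hT le_normalizer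
  rwa [inf_eq_right.2 (centralizer_le_normalizer _)] at this

/-- Let p be an odd prime and G a finite group that is both of local characteristic p (p divides its order and every p-local subgroup N satisfies C_N(O_p(N)) ≤ O_p(N)) and of characteristic 2 type (even order and every 2-local subgroup M satisfies C_M(O_2(M)) ≤ O_2(M)). Then every 2-local subgroup of G has p-rank at most 2. -/
theorem result {G : Type*} [Group G] [Finite G] (p : ℕ) [Fact p.Prime] (hp : p ≠ 2) (hGp : Cfsg.IsOfLocalCharacteristic p G) (hG2 : Cfsg.IsCharacteristicTwoType G) : Cfsg.TwoLocalPRankLE p 2 G := by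
  open Subgroup CfsgLib.LAE CfsgLib.ZN CfsgLib.KM in
  have hy : Hy p G := by
    refine ⟨Fact.out, hp, fun t h1 tt => ?_, fun D W hD h1 hW hc => ?_⟩
    · have hz : IsPGroup 2 (zpowers t) := isPGroup_iff_forall_mem.2 fun x hx => ⟨1, by
        rcases (mem_zpowers_iff_of_sq tt).1 hx with rfl | rfl
        · simp
        · rw [pow_one, pow_two, tt]⟩
      have := charP_cent hz (hG2.2 _ hz fun e => h1 (zpowers_eq_bot.1 e))
      have e : centralizer ((zpowers t : Subgroup G) : Set G) = centralizer ({t} : Set G) := by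
        ext x; rw [mem_centralizer_zpowers, mem_centralizer_singleton_iff]
      rwa [e] at this
    · have h2 := charP_cent (el_pgroup hD) (hGp.2 _ (el_pgroup hD) h1)
      refine ⟨_, isPGroup_pCoreOf _, pCoreOf_le _, hc.trans (le_normalizer_pCoreOf _),
        eq_bot_iff.2 fun w hw => mem_bot.2 ?_⟩
      exact eq_one_of_odd_of_two_pow (odd_of_mem (odd_card Fact.out hp (isPGroup_pCoreOf _))
        (h2 ⟨hc hw.1, hw.2⟩)) (k := 1) (by rw [pow_one, pow_two, hW w hw.1])
  rintro H ⟨T, hT, h1, rfl⟩ A hA hAp
  rw [← Subgroup.card_map_of_injective (Subgroup.subtype_injective _)]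
  refine hy.rank_le ⟨inferInstance, ?_⟩ hT h1 (Subgroup.map_subtype_le _)
  rintro _ ⟨a, ha, rfl⟩
  rw [← map_pow, hAp a ha, map_one]

end Cfsg.Agent.S2029
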