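import Cfsg.Statements.S2205
import Cfsg.Agent.Lib.Atk.NoFix

set_option autoImplicit false
open Cfsg

namespace Cfsg.Agent.S2205

/-- A finite group acting faithfully and 2-transitively on a set with p² + 1 points, p a prime, is doubly primitive — a point stabilizer acts primitively on the remaining p² points — unless p = 2 and the group is the Frobenius group of order 20. -/
theorem result {G Ω : Type*} [Group G] [Finite G] [Fintype Ω] [MulAction G Ω] [FaithfulSMul G Ω] (p : ℕ) (hp : p.Prime) (hΩ : Fintype.card Ω = p ^ 2 + 1) (h2 : MulAction.IsMultiplyPretransitive G Ω 2) (a : Ω) :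
    MulAction.IsPreprimitive ↥(MulAction.stabilizer G a) ↥(SubMulAction.ofStabilizer G a) ∨ (p = 2 ∧ Nat.card G = 20) := by
  have c : CfsgLib.Atk.Ctx G Ω p := ⟨hp, by rw [Nat.card_eq_fintype_card, hΩ], h2, inferInstance⟩
  by_contra hcon
  rw [not_or] at hcon
  refine hcon.1 { exists_smul_eq := fun x y => ?_, isTrivialBlock_of_isBlock := fun {B} hB => ?_ }
  · obtain ⟨g, hg, e⟩ := c.tr (a := a) (x := x) (y := y) x.2 y.2
    exact ⟨⟨g, hg⟩, Subtype.ext e⟩
  by_contra hn
  rw [MulAction.IsTrivialBlock, not_or, Set.not_subsingleton_iff] at hn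
  have hb : CfsgLib.Atk.Blk G a (Subtype.val '' B) := ⟨by rintro ⟨x, -, e⟩; exact x.2 e, by
    rintro g hg _ ⟨x, hx, rfl⟩ ⟨y, hy, e⟩ _ ⟨z, hz, rfl⟩
    have := hB.smul_eq_of_mem (g := ⟨g, hg⟩) hx (by
      rwa [show (⟨g, hg⟩ : MulAction.stabilizer G a) • x = y from Subtype.ext e.symm])
    exact ⟨_, this ▸ Set.smul_mem_smul_set hz, rfl⟩⟩
  obtain ⟨z, hz⟩ := (Set.ne_univ_iff_exists_notMem B).1 hn.2
  refine hcon.2 (c.main hb (c.blk_card hb ?_ (x := z) z.2 fun ⟨y, hy, e⟩ =>
    hz (Subtype.ext e ▸ hy)))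
  rw [Set.ncard_image_of_injective _ Subtype.val_injective]
  exact Set.one_lt_ncard_iff_nontrivial.2 hn.1

end Cfsg.Agent.S2205
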