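import Cfsg.Statements.S2228
import Cfsg.Agent.Lib.JRec.Syl

set_option autoImplicit false
open Cfsg

namespace Cfsg.Agent.S2228

/-- Let G be a finite simple group in which all involutions are conjugate and the centralizer of an involution has a normal extraspecial subgroup of order 32 complemented by a subgroup isomorphic to the alternating group of degree 5 (a group of J₃-type). Then a Sylow 19-subgroup of G is self-centralizing with normalizer-quotient cyclic of order 9, and a Sylow 17-subgroup is self-centralizing with normalizer-quotient cyclic of order 8. -/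
theorem result {G : Type*} [Group G] [Finite G] [IsSimpleGroup G]
    (hone : ∀ x y : G, orderOf x = 2 → orderOf y = 2 → IsConj x y)
    (t : G) (ht : orderOf t = 2) (E A : Subgroup ↥(Subgroup.centralizer ({t} : Set G))) [E.Normal]
    (hE : Cfsg.IsExtraspecial 2 ↥E) (hE32 : Nat.card ↥E = 32) (hEA : E.IsComplement' A)
    (eA : ↥A ≃* ↥(alternatingGroup (Fin 5))) :
    (∀ X : Sylow 19 G, Subgroup.centralizer ((X : Subgroup G) : Set G) = X ∧
        ∃ h : ((X : Subgroup G).subgroupOf (Subgroup.normalizer ((X : Subgroup G) : Set G))).Normal,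
          IsCyclic (↥(Subgroup.normalizer ((X : Subgroup G) : Set G)) ⧸ (X : Subgroup G).subgroupOf _) ∧
          Nat.card (↥(Subgroup.normalizer ((X : Subgroup G) : Set G)) ⧸ (X : Subgroup G).subgroupOf _) = 9) ∧
    (∀ Y : Sylow 17 G, Subgroup.centralizer ((Y : Subgroup G) : Set G) = Y ∧
        ∃ h : ((Y : Subgroup G).subgroupOf (Subgroup.normalizer ((Y : Subgroup G) : Set G))).Normal,
          IsCyclic (↥(Subgroup.normalizer ((Y : Subgroup G) : Set G)) ⧸ (Y : Subgroup G).subgroupOf _) ∧
          Nat.card (↥(Subgroup.normalizer ((Y : Subgroup G) : Set G)) ⧸ (Y : Subgroup G).subgroupOf _) = 8) := by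
  have : Fact (Nat.Prime 17) := ⟨by norm_num⟩
  have : Fact (Nat.Prime 19) := ⟨by norm_num⟩
  have e := hEA.symm.QuotientMulEquiv.trans eA
  obtain ⟨q, u, n, y, r, Am⟩ := CfsgLib.JRec.exists_amal_alt ht E hE32 hE e
  obtain ⟨φ, -⟩ := CfsgLib.JRec.exists_equiv Am fun x hx => hone x t hx ht
  obtain ⟨h1, h2⟩ := CfsgLib.JRec.sylow_17_19 φ fun s hs => by
    rw [CfsgLib.SL2.card_centralizer_of_isConj (hone s t hs ht)]
    exact CfsgLib.HJ.card_cent E hE32 e CfsgLib.Dickson.card_A5
  exact ⟨fun X => CfsgLib.JRec.sylow_prime_quot X (h1 X).1 (h1 X).2.1 (h1 X).2.2,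
    fun X => CfsgLib.JRec.sylow_prime_quot X (h2 X).1 (h2 X).2.1 (h2 X).2.2⟩

end Cfsg.Agent.S2228
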