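import Cfsg.Statements.S2247
import Cfsg.Agent.Lib.Sz.Models
import Cfsg.Agent.Lib.Sz.Sylow

set_option autoImplicit false
open Cfsg

namespace Cfsg.Agent.S2247

open CfsgLib.Sz

/-- In the Suzuki group with q = 2^(2m+1), m ≥ 1 (realised as the stabiliser in SL₄ of the Suzuki–Tits ovoid), the normalizer of a Sylow 2-subgroup P is a maximal subgroup and is the only maximal subgroup containing P. -/
theorem result {F : Type*} [Field F] [Fintype F] {m : ℕ} (hm : 1 ≤ m) (hF : Fintype.card F = 2 ^ (2 * m + 1)) (P : Sylow 2 ↥(Cfsg.Sz F m)) :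
    IsCoatom (Subgroup.normalizer ((P : Subgroup ↥(Cfsg.Sz F m)) : Set ↥(Cfsg.Sz F m))) ∧
    ∀ M : Subgroup ↥(Cfsg.Sz F m), IsCoatom M → (P : Subgroup ↥(Cfsg.Sz F m)) ≤ M → M = Subgroup.normalizer ((P : Subgroup ↥(Cfsg.Sz F m)) : Set ↥(Cfsg.Sz F m)) := by
  have ht := exists_ne_zero_one hm hF
  obtain ⟨e, he⟩ := Tits.exists_equiv_sylow (szEquiv hm hF) P
  have hN : Subgroup.normalizer ((P : Subgroup (Cfsg.Sz F m)) : Set (Cfsg.Sz F m)) = e.mapSubgroup (tits hF).B := by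
    rw [he, ← Subgroup.map_equiv_normalizer_eq, Tits.normalizer_U]
    rfl
  rw [hN]
  refine ⟨(e.mapSubgroup.isCoatom_iff _).2 (Tits.isCoatom_B ht), fun M hM hle => ?_⟩
  obtain ⟨M, rfl⟩ := e.mapSubgroup.surjective M
  rw [he] at hle
  rw [Tits.eq_B_of_isCoatom ht ((e.mapSubgroup.isCoatom_iff _).1 hM) (e.mapSubgroup.le_iff_le.1 hle)]

end Cfsg.Agent.S2247
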