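import Mathlib
import Cfsg.Statements.S2271
-- import your own Cfsg.Agent.* helpers here

set_option autoImplicit false
open Cfsg

namespace Cfsg.Agent.S2271

open Equiv Finset

theorem exists_odd : ∀ b : Perm (Fin 5), #{x | b x = x} = 1 → ∃ s : Perm (Fin 5), Perm.sign s = -1 ∧
    s * b = b * s := by
  decide +kernel

theorem exists_even {n k : ℕ} (h : k + 2 ≤ n) {p q : Fin k → Fin n} (hp : Function.Injective p)
    (hq : Function.Injective q) : ∃ g : alternatingGroup (Fin n), ∀ i, g.1 (p i) = q i := by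
  have := alternatingGroup.isMultiplyPretransitive (Fin n)
  obtain ⟨g, hg⟩ := MulAction.isMultiplyPretransitive_iff.1 (MulAction.isMultiplyPretransitive_of_le
    (G := alternatingGroup (Fin n)) (α := Fin n) (m := k) (n := Nat.card (Fin n) - 2)
    (by rw [Nat.card_fin]; omega) (Nat.sub_le _ _)) ⟨p, hp⟩ ⟨q, hq⟩
  exact ⟨g, fun i => DFunLike.congr_fun hg i⟩

theorem sum_card_filter_comm {α β : Type*} [Fintype α] [Fintype β] (r : α → β → Prop) [DecidableRel r] :
    ∑ a, #{b | r a b} = ∑ b, #{a | r a b} := sum_card_bipartiteAbove_eq_sum_card_bipartiteBelow r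

theorem average {n c : ℕ} (hn : 4 ≤ n) (a b : Perm (Fin n))
    (h : ∀ g : alternatingGroup (Fin n), #{x | b (g.1 x) = g.1 (a x)} = c) :
    ((#{x | a x = x} : ℤ) - 1) * ((#{x | b x = x} : ℤ) - 1) = (n - 1) * (c - 1) := by
  set A := alternatingGroup (Fin n)
  let N : Fin n → Fin n → ℕ := fun x y => #{g : A | b (g.1 x) = g.1 y}
  have h1 : ∀ (k : A) x y, N (k.1 x) (k.1 y) = N x y := fun k x y =>
    card_equiv (Equiv.mulRight k) (by simp)
  obtain ⟨u, v, huv⟩ := (Fin.nontrivial_iff_two_le.2 (by omega : 2 ≤ n)).exists_pair_ne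
  have h2 : ∀ x y, N x y = if y = x then N u u else N u v := fun x y => by
    split_ifs with h
    · obtain ⟨k, hk⟩ := exists_even (k := 1) (by omega) (p := fun _ => u) (q := fun _ => x)
        (Function.injective_of_subsingleton _) (Function.injective_of_subsingleton _)
      rw [h, ← hk 0, h1]
    · obtain ⟨k, hk⟩ := exists_even (k := 2) hn (p := ![u, v]) (q := ![x, y]) (by simpa)
        (by simpa using Ne.symm h)
      rw [← h1 k u, show k.1 u = x from hk 0, show k.1 v = y from hk 1]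
  have h3 : ∀ f : Fin n → Fin n, ∑ g : A, #{x | b (g.1 x) = g.1 (f x)} =
      #{x | f x = x} * N u u + (n - #{x | f x = x}) * N u v := fun f => by
    rw [sum_card_filter_comm, sum_congr rfl fun x _ => h2 x (f x), sum_ite, sum_const, sum_const,
      filter_not, card_univ_sdiff, Fintype.card_fin]
    rfl
  have h4 := h3 a
  have h5 := h3 id
  have h6 : ∑ y, N u y = Fintype.card A := by
    rw [← sum_card_filter_comm, ← card_univ, card_eq_sum_ones]
    exact sum_congr rfl fun g _ => card_eq_one.2 ⟨g.1.symm (b (g.1 u)), by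
      ext; simp [Equiv.eq_symm_apply, eq_comm]⟩
  rw [sum_congr rfl fun y _ => h2 u y, sum_ite, sum_const, sum_const, filter_not, card_univ_sdiff,
    Fintype.card_fin, filter_eq', if_pos (mem_univ _), card_singleton] at h6
  rw [sum_congr rfl fun g _ => h g, sum_const, card_univ] at h4
  rw [sum_congr rfl fun (g : A) _ => card_equiv (t := {x | b x = x}) g.1 (by simp), sum_const,
    card_univ] at h5
  have h7 : #{x | a x = x} ≤ n := (card_le_univ _).trans_eq (Fintype.card_fin n)
  simp only [id, filter_true, card_univ, Fintype.card_fin, smul_eq_mul, Nat.sub_self] at h4 h5 h6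
  zify [h7, show 1 ≤ n by omega] at h4 h5 h6
  refine mul_left_cancel₀ (Nat.cast_ne_zero.2 (Fintype.card_ne_zero (α := A))) ?_
  linear_combination (#{x | a x = x} - 1 : ℤ) * h5 - (n - 1) * h4 - (n - #{x | a x = x}) * h6

theorem exists_four {n : ℕ} (a : Perm (Fin n)) (h : #{x | a x = x} + 4 ≤ n) :
    ∃ x y, Function.Injective ![x, y, a x, a y] := by
  have h1 : ∀ s : Finset (Fin n), #s ≤ 3 → ∃ y, a y ≠ y ∧ y ∉ s := fun s hs => by
    obtain ⟨y, -, hy⟩ := exists_mem_notMem_of_card_lt_card (s := ({x | a x = x} : Finset _) ∪ s) (t := univ)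
      ((card_union_le _ _).trans_lt (by rw [card_univ, Fintype.card_fin]; omega))
    exact ⟨y, by simpa using hy⟩
  obtain ⟨x, hx, -⟩ := h1 ∅ (by simp)
  obtain ⟨y, hy, hy'⟩ := h1 {x, a x, a.symm x} card_le_three
  simp only [mem_insert, mem_singleton, not_or, Equiv.eq_symm_apply] at hy'
  exact ⟨x, y, by
    intro i j; fin_cases i <;> fin_cases j <;> 
      simp [hx, hy, hx.symm, hy.symm, hy', Ne.symm hy'.1, Ne.symm hy'.2.1, Ne.symm hy'.2.2]⟩

theorem core {n c : ℕ} (hn : 5 ≤ n) {a b : Perm (Fin n)} (ha : a ≠ 1) (hb : b ≠ 1)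
    (h : ∀ g : alternatingGroup (Fin n), #{x | b (g.1 x) = g.1 (a x)} = c) : False := by
  wlog hab : #{x | a x = x} ≤ #{x | b x = x} generalizing a b
  · exact this hb ha (fun g => (card_equiv g.1 (by simp [Equiv.eq_symm_apply, eq_comm])).trans (h g⁻¹)) (le_of_not_ge hab)
  have h0 : ∀ a : Perm (Fin n), a ≠ 1 → #{x | a x = x} + 2 ≤ n := fun a ha => by
    have := card_filter_add_card_filter_not (s := univ) fun x => a x = x
    rw [card_univ, Fintype.card_fin] at this
    exact (Nat.add_le_add_left (Perm.two_le_card_support_of_ne_one ha) _).trans_eq this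
  have h1 := average (by omega) a b h
  have h2 : ∀ (g : alternatingGroup (Fin n)) (x y : Fin n), x ≠ y → b (g.1 x) = g.1 (a x) →
      b (g.1 y) = g.1 (a y) → 2 ≤ c := fun g x y hxy hx hy =>
    h g ▸ one_lt_card.2 ⟨x, by simpa, y, by simpa, hxy⟩
  obtain ⟨x, hx⟩ : ∃ x, a x ≠ x := not_forall.1 fun h => ha (Equiv.ext h)
  obtain ⟨y, hy⟩ : ∃ x, b x ≠ x := not_forall.1 fun h => hb (Equiv.ext h)
  have h3 := h0 a ha
  have h4 := h0 b hb
  rcases Nat.eq_zero_or_pos #{x | a x = x} with h5 | h5
  · obtain ⟨g, hg⟩ := exists_even (k := 2) (by omega) (p := ![x, a x]) (q := ![y, b y])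
      (by simpa using hx.symm) (by simpa using hy.symm)
    have h6 : 0 < c := h g ▸ card_pos.2 ⟨x, by simpa using (congrArg b (hg 0)).trans (hg 1).symm⟩
    obtain ⟨h7, h8⟩ : c = 1 ∧ #{x | b x = x} = 1 := by
      rw [h5] at h1
      rcases Nat.eq_or_lt_of_le h6 with h | h
      · exact ⟨h.symm, by rw [← h] at h1; omega⟩
      · zify at hn
        push_cast at h1
        nlinarith [show (2 : ℤ) ≤ c by omega, Int.natCast_nonneg #{x | b x = x}]
    obtain ⟨x, x', hx⟩ := exists_four a (by omega)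
    obtain ⟨y, y', hy⟩ := exists_four b (by omega)
    have hxx : x ≠ x' := fun h => absurd (@hx 0 1 h) (by decide)
    rcases Nat.eq_or_lt_of_le hn with rfl | h9
    · obtain ⟨g, hg⟩ := Perm.exists_smul_eq_embedding ⟨_, hx⟩ ⟨_, hy⟩
      have e1 : b (g x) = g (a x) :=
        (congrArg b (DFunLike.congr_fun hg 0)).trans (DFunLike.congr_fun hg 2).symm
      have e2 : b (g x') = g (a x') :=
        (congrArg b (DFunLike.congr_fun hg 1)).trans (DFunLike.congr_fun hg 3).symm
      obtain ⟨s, hs, hsb⟩ := exists_odd b h8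
      rcases Int.units_eq_one_or (Perm.sign g) with e | e
      · have := h2 ⟨g, e⟩ x x' hxx e1 e2
        omega
      · have := h2 ⟨s * g, by simp [hs, e]⟩ x x' hxx
          ((Equiv.congr_fun hsb _).symm.trans (congrArg s e1))
          ((Equiv.congr_fun hsb _).symm.trans (congrArg s e2))
        omega
    · obtain ⟨g, hg⟩ := exists_even h9 hx hy
      have := h2 g x x' hxx ((congrArg b (hg 0)).trans (hg 2).symm) ((congrArg b (hg 1)).trans (hg 3).symm)
      omega
  rcases Nat.eq_or_lt_of_le h5 with h6 | h6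
  · obtain ⟨u, hu⟩ := card_pos.1 h5
    obtain ⟨v, hv⟩ := card_pos.1 (h5.trans_le hab)
    replace hu := (mem_filter.1 hu).2
    replace hv := (mem_filter.1 hv).2
    have e : ∀ (a : Perm (Fin n)) u x, a u = u → a x ≠ x → Function.Injective ![u, x, a x] :=
      fun a u x hu hx => by
        have : u ≠ x := by rintro rfl; exact hx hu
        have : u ≠ a x := fun h => this (a.injective (hu.trans h))
        intro i j; fin_cases i <;> fin_cases j <;> simp [*, hx.symm, eq_comm]
    obtain ⟨g, hg⟩ := exists_even hn (e a u x hu hx) (e b v y hv hy)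
    have := h2 g u x (by rintro rfl; exact hx hu) (by rw [hu, show g.1 u = v from hg 0, hv])
      ((congrArg b (hg 1)).trans (hg 2).symm)
    rw [← h6] at h1
    zify at hn
    push_cast at h1
    nlinarith [show (2 : ℤ) ≤ c by omega]
  obtain ⟨p, hp⟩ := Function.Embedding.exists_of_card_le_finset (α := Fin #{x | a x = x})
    (s := {x | a x = x}) (by simp)
  obtain ⟨q, hq⟩ := Function.Embedding.exists_of_card_le_finset (α := Fin #{x | a x = x})
    (s := {x | b x = x}) (by simpa)
  obtain ⟨g, hg⟩ := exists_even h3 p.injective q.injective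
  have h7 : #{x | a x = x} ≤ c := by
    rw [← h g, ← Fintype.card_fin #{x | a x = x}, ← card_univ, ← card_map p]
    refine card_le_card fun x hx => ?_
    obtain ⟨i, -, rfl⟩ := mem_map.1 hx
    simp [hg, (mem_filter.1 (hp ⟨i, rfl⟩)).2, (mem_filter.1 (hq ⟨i, rfl⟩)).2]
  zify at h4 h6 h7
  nlinarith

/-- Let n ≥ 5 and let a, b be non-identity permutations in the symmetric group S_n. Then the number of fixed points is not constant on the set of products a′b′ with a′ conjugate to a and b′ conjugate to b under the alternating group: there are even permutations g₁, h₁, g₂, h₂ such that (g₁ a g₁⁻¹)(h₁ b h₁⁻¹) and (g₂ a g₂⁻¹)(h₂ b h₂⁻¹) have different numbers of fixed points. -/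
theorem result (n : ℕ) (hn : 5 ≤ n) (a b : Equiv.Perm (Fin n)) (ha : a ≠ 1) (hb : b ≠ 1) :
    ∃ g₁ h₁ g₂ h₂ : Equiv.Perm (Fin n), g₁ ∈ alternatingGroup (Fin n) ∧ h₁ ∈ alternatingGroup (Fin n) ∧ g₂ ∈ alternatingGroup (Fin n) ∧ h₂ ∈ alternatingGroup (Fin n) ∧
      Nat.card (Function.fixedPoints ⇑(g₁ * a * g₁⁻¹ * (h₁ * b * h₁⁻¹))) ≠
        Nat.card (Function.fixedPoints ⇑(g₂ * a * g₂⁻¹ * (h₂ * b * h₂⁻¹))) := by
  by_contra! h
  refine core hn (inv_ne_one.2 ha) hb (c := Nat.card (Function.fixedPoints ⇑(1 * a * 1⁻¹ * (1 * b * 1⁻¹))))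
    fun g => ?_
  rw [← h 1 g⁻¹ 1 1 (one_mem _) (inv_mem g.2) (one_mem _) (one_mem _), Nat.card_eq_fintype_card,
    Fintype.card_subtype]
  congr 1
  ext x
  simp [Function.IsFixedPt, ← Equiv.Perm.eq_inv_iff_eq]

end Cfsg.Agent.S2271
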