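import Mathlib
import Cfsg.Statements.S2272
-- import your own Cfsg.Agent.* helpers here

set_option autoImplicit false
open Cfsg

namespace Cfsg.Agent.S2272

open Matrix Projectivization
open scoped LinearAlgebra.Projectivization

theorem exists_tv {F : Type*} [Field F] {d : ℕ} {x y : Fin d → F} (h : y ⬝ᵥ x = 0) :
    ∃ T : Matrix.SpecialLinearGroup (Fin d) F, T.1 = 1 + vecMulVec x y ∧ (T⁻¹).1 = 1 - vecMulVec x y := by
  have h1 : ∀ x, y ⬝ᵥ x = 0 → (1 + vecMulVec x y).det = 1 := fun x h => by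
    rw [vecMulVec_eq Unit, det_one_add_replicateCol_mul_replicateRow, h, add_zero]
  let T : Matrix.SpecialLinearGroup (Fin d) F := ⟨_, h1 x h⟩
  let T' : Matrix.SpecialLinearGroup (Fin d) F := ⟨_, h1 (-x) (by simp [h])⟩
  refine ⟨T, rfl, ?_⟩
  rw [inv_eq_of_mul_eq_one_right (a := T) (b := T') (Subtype.ext (by
    change (1 + vecMulVec x y) * (1 + vecMulVec (-x) y) = 1
    simp [mul_add, add_mul, vecMulVec_mul_vecMulVec, h]))]
  simp [sub_eq_add_neg, T']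

theorem exists_trace {F : Type*} [Field F] {d : ℕ} (hd : 3 ≤ d) {A B : Matrix.SpecialLinearGroup (Fin d) F}
    (hA : A ∉ Subgroup.center _) (hB : B ∉ Subgroup.center _) (c : F) :
    ∃ g : Matrix.SpecialLinearGroup (Fin d) F, (A * (g * B * g⁻¹)).1.trace = c := by
  have h0 : ∀ A : Matrix.SpecialLinearGroup (Fin d) F, A ∉ Subgroup.center _ → ∃ v, ∃ hv : v ≠ 0,
      Projectivization.mk F v hv ≠ A • Projectivization.mk F v hv := fun A hA => by
    by_contra! h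
    exact hA (SL_mulAction_ker.le (Equiv.ext fun D => D.ind (fun v hv => (h v hv).symm)))
  obtain ⟨v, hv, h1⟩ := h0 A hA
  obtain ⟨u, hu, h2⟩ := h0 B hB
  obtain ⟨φ, hφ, hφ0⟩ := (Submodule.ne_bot_iff _).1 (LinearMap.ker_ne_bot_of_finrank_lt
    (f := (of ![v, A.1 *ᵥ v]).mulVecLin) (by simp; omega))
  have h3 : φ ⬝ᵥ v = 0 := (dotProduct_comm _ _).trans (congrFun hφ 0)
  have h4 : φ ⬝ᵥ A.1 *ᵥ v = 0 := (dotProduct_comm _ _).trans (congrFun hφ 1)
  obtain ⟨i, hi⟩ := Function.ne_iff.1 hφ0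
  obtain ⟨ψ, h5, h6⟩ : ∃ ψ, ψ ⬝ᵥ v = 0 ∧ ψ ⬝ᵥ A.1 *ᵥ v ≠ 0 := by
    obtain ⟨f, hf, hf'⟩ := Submodule.exists_dual_map_eq_bot_of_notMem (p := F ∙ v) (x := A.1 *ᵥ v)
      (fun h => h1 ((mk_eq_mk_iff' _ _ _ _ hv).2 (Submodule.mem_span_singleton.1 h)).symm) inferInstance
    obtain ⟨ψ, rfl⟩ := (dotProductEquiv F (Fin d)).surjective f
    exact ⟨ψ, hf'.le ⟨v, Submodule.mem_span_singleton_self v, rfl⟩, hf⟩
  have hz : (Pi.single i 1 : Fin d → F) ≠ 0 := by simp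
  obtain ⟨g, h7, h8⟩ := MulAction.is_two_pretransitive_iff.1 (inferInstance :
    MulAction.IsMultiplyPretransitive (Matrix.SpecialLinearGroup (Fin d) F) (ℙ F (Fin d → F)) 2) h2
    (show Projectivization.mk F v hv ≠ .mk F _ hz from fun h => by
      obtain ⟨k, hk⟩ := (mk_eq_mk_iff _ _ _ _ _).1 h
      exact hi (by simpa [← hk, Units.smul_def] using h3))
  obtain ⟨B', hB', h9⟩ : ∃ B' : Matrix.SpecialLinearGroup (Fin d) F, IsConj B B' ∧ φ ⬝ᵥ B'.1 *ᵥ v ≠ 0 := by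
    rw [← inv_smul_smul g (Projectivization.mk F u hu), h7, ← mul_smul, ← mul_smul] at h8
    obtain ⟨k, hk⟩ := (mk_eq_mk_iff _ _ _ _ _).1 h8
    exact ⟨_, isConj_iff.2 ⟨g, rfl⟩, by
      rw [show (g * B * g⁻¹).1 *ᵥ v = k • Pi.single i 1 from hk.symm]; simpa [Units.smul_def]⟩
  obtain ⟨C, hC, h10⟩ : ∃ C : Matrix.SpecialLinearGroup (Fin d) F, IsConj B C ∧
      φ ⬝ᵥ C.1 *ᵥ A.1 *ᵥ v - φ ⬝ᵥ A.1 *ᵥ C.1 *ᵥ v ≠ 0 := by
    by_cases h : φ ⬝ᵥ B'.1 *ᵥ A.1 *ᵥ v - φ ⬝ᵥ A.1 *ᵥ B'.1 *ᵥ v = 0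
    · obtain ⟨T, hT, hT'⟩ := exists_tv h5
      refine ⟨_, hB'.trans (isConj_iff.2 ⟨T, rfl⟩), ?_⟩
      simp only [Matrix.SpecialLinearGroup.coe_mul, hT, hT', ← mulVec_mulVec, add_mulVec, sub_mulVec, one_mulVec,
        vecMulVec_mulVec, op_smul_eq_smul, mulVec_add, mulVec_sub, mulVec_smul, dotProduct_add,
        dotProduct_sub, dotProduct_smul, h3, h4, h5, smul_eq_mul, zero_smul, mulVec_zero, dotProduct_zero]
      exact fun h' => mul_ne_zero h6 h9 (by linear_combination h - h')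
    · exact ⟨B', hB', h⟩
  obtain ⟨t, ht⟩ := (mul_right_surjective₀ h10) (c - (A * C).1.trace)
  obtain ⟨T, hT, hT'⟩ := exists_tv (x := t • v) (y := φ) (by simp [h3])
  obtain ⟨g, hg⟩ := isConj_iff.1 (hC.trans (isConj_iff.2 ⟨T, rfl⟩))
  refine ⟨g, ?_⟩
  simp only [hg, Matrix.SpecialLinearGroup.coe_mul, hT, hT', mul_add, add_mul, mul_sub, one_mul, mul_one, trace_add,
    trace_sub, mul_vecMulVec, vecMulVec_mul, trace_vecMulVec, vecMulVec_mulVec,
    op_smul_eq_smul, mulVec_smul, dotProduct_smul, dotProduct_comm _ (_ ᵥ* _),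
    ← dotProduct_mulVec, dotProduct_comm _ φ, h4, smul_eq_mul] at ht ⊢
  linear_combination ht

/-- Let F be a finite field and d ≥ 3, and let a, b be non-identity elements of PSL_d(F). Then the product of the conjugacy classes of a and b is not a single conjugacy class: there are conjugates a′ of a and b′ of b such that a′b′ is not conjugate to ab. -/
theorem result {F : Type*} [Field F] [Fintype F] (d : ℕ) (hd : 3 ≤ d)
    (a b : Matrix.ProjectiveSpecialLinearGroup (Fin d) F) (ha : a ≠ 1) (hb : b ≠ 1) :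
    ∃ g h : Matrix.ProjectiveSpecialLinearGroup (Fin d) F, ¬ IsConj (a * b) (g * a * g⁻¹ * (h * b * h⁻¹)) := by
  obtain ⟨A, rfl⟩ := QuotientGroup.mk_surjective a
  obtain ⟨B, rfl⟩ := QuotientGroup.mk_surjective b
  by_contra! h
  have hA := mt (QuotientGroup.eq_one_iff A).2 ha
  have hB := mt (QuotientGroup.eq_one_iff B).2 hb
  obtain ⟨g, hg⟩ := exists_trace hd hA hB 0
  obtain ⟨k, hk⟩ := exists_trace hd hA hB 1
  obtain ⟨x, hx⟩ := isConj_iff.1 ((h 1 g).symm.trans (h 1 k))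
  obtain ⟨x, rfl⟩ := QuotientGroup.mk_surjective x
  simp only [one_mul, inv_one, mul_one] at hx
  obtain ⟨r, -, hr⟩ := Matrix.SpecialLinearGroup.mem_center_iff.1 
    (QuotientGroup.eq.1 (show ((x * (A * (g * B * g⁻¹)) * x⁻¹ : Matrix.SpecialLinearGroup (Fin d) F) :
      ProjectiveSpecialLinearGroup (Fin d) F) = (A * (k * B * k⁻¹) : Matrix.SpecialLinearGroup (Fin d) F) from hx))
  have h1 : A * (k * B * k⁻¹) = x * (A * (g * B * g⁻¹)) * x⁻¹ * _ := (mul_inv_cancel_left _ _).symm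
  rw [h1, Matrix.SpecialLinearGroup.coe_mul, ← hr, scalar_apply, ← smul_eq_mul_diagonal, trace_smul,
    Matrix.SpecialLinearGroup.coe_mul, trace_mul_comm, ← Matrix.SpecialLinearGroup.coe_mul, inv_mul_cancel_left, hg] at hk
  simp at hk

end Cfsg.Agent.S2272
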