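import Cfsg.Statements.S2276
import Cfsg.Agent.Lib.SolvStruct.Primitive

set_option autoImplicit false
open Cfsg

namespace Cfsg.Agent.S2276

set_option linter.unusedSectionVars false
set_option linter.style.haveILetI false

open Equiv Equiv.Perm Subgroup MulAction
open scoped commutatorElement

section basic
variable {Ω X : Type*} [Fintype Ω] [DecidableEq Ω] [Fintype X] [DecidableEq X]

/-- the desired property -/
def Good (p : ℕ) (a b : Perm Ω) : Prop :=
  (¬ ∃ k : ℕ, (a * b) ^ p ^ k = 1) ∧ ¬ Group.IsSolvable (closure ({a, b} : Set (Perm Ω)))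

/-- compatibility with an embedding -/
def Rl (ι : X ↪ Ω) (a : Perm Ω) (a₀ : Perm X) : Prop := ∀ x, a (ι x) = ι (a₀ x)

theorem Rl.mul {ι : X ↪ Ω} {a b : Perm Ω} {a₀ b₀ : Perm X} (ha : Rl ι a a₀) (hb : Rl ι b b₀) :
    Rl ι (a * b) (a₀ * b₀) := fun x => by rw [Perm.mul_apply, hb, ha]; rfl

theorem Rl.inv {ι : X ↪ Ω} {a : Perm Ω} {a₀ : Perm X} (ha : Rl ι a a₀) : Rl ι a⁻¹ a₀⁻¹ :=
  fun x => by rw [Perm.inv_eq_iff_eq, ha]; simp

theorem Rl.pow {ι : X ↪ Ω} {a : Perm Ω} {a₀ : Perm X} (ha : Rl ι a a₀) (n : ℕ) :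
    Rl ι (a ^ n) (a₀ ^ n) := by
  induction n with
  | zero => exact fun _ => rfl
  | succ n ih => rw [pow_succ, pow_succ]; exact ih.mul ha

theorem not_solvable_of_rl {ι : X ↪ Ω} {a b : Perm Ω} {a₀ b₀ : Perm X} (ha : Rl ι a a₀)
    (hb : Rl ι b b₀) {H : Subgroup (Perm Ω)} (haH : a ∈ H) (hbH : b ∈ H)
    (h : ¬ Group.IsSolvable (closure ({a₀, b₀} : Set (Perm X)))) : ¬ Group.IsSolvable H := by
  intro hH
  let T : Subgroup (H × Perm X) :=
    { carrier := {x | Rl ι x.1 x.2}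
      one_mem' := fun _ => rfl
      mul_mem' := fun hx hy => hx.mul hy
      inv_mem' := fun hx => hx.inv }
  have hT : Group.IsSolvable T := Group.isSolvable_of_isSolvable_injective
    (f := (MonoidHom.fst _ _).comp T.subtype) ((injective_iff_map_eq_one _).2 fun x hx => by
      have h1 : x.1.1 = 1 := hx
      refine Subtype.ext (Prod.ext h1 (Equiv.ext fun y => ι.injective ?_))
      have := x.2 y
      rw [h1] at this
      exact this.symm)
  have h2 : Group.IsSolvable (T.map (MonoidHom.snd _ _)) :=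
    Group.isSolvable_of_surjective ((MonoidHom.snd _ _).subgroupMap_surjective T)
  have h3 : closure ({a₀, b₀} : Set (Perm X)) ≤ T.map (MonoidHom.snd _ _) := by
    rw [closure_le]
    rintro _ (rfl | rfl)
    · exact ⟨(⟨a, haH⟩, _), ha, rfl⟩
    · exact ⟨(⟨b, hbH⟩, _), hb, rfl⟩
  exact h (Group.isSolvable_of_isSolvable_injective (inclusion_injective h3))

theorem Good.of_rl {p : ℕ} {ι : X ↪ Ω} {a b : Perm Ω} {a₀ b₀ : Perm X} (ha : Rl ι a a₀)
    (hb : Rl ι b b₀) (h : Good p a₀ b₀) : Good p a b := by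
  refine ⟨fun ⟨k, hk⟩ => h.1 ⟨k, Equiv.ext fun x => ι.injective ?_⟩,
    not_solvable_of_rl ha hb (subset_closure (by simp)) (subset_closure (by simp)) h.2⟩
  rw [← (ha.mul hb).pow, hk]
  rfl

theorem Good.symm {p : ℕ} {a b : Perm Ω} (h : Good p a b) : Good p b a := by
  refine ⟨fun ⟨k, hk⟩ => h.1 ⟨k, ?_⟩, by rw [Set.pair_comm]; exact h.2⟩
  have : a * b = a * (b * a) * a⁻¹ := by group
  rw [this, conj_pow, hk, mul_one, mul_inv_cancel]

theorem Good.conj {p : ℕ} {a b : Perm Ω} (h : Good p a b) (c : Perm Ω) :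
    Good p (c * a * c⁻¹) (c * b * c⁻¹) :=
  Good.of_rl (ι := c.toEmbedding) (fun x => by simp) (fun x => by simp) h

/-- existence of a good even conjugate -/
def Ex (p : ℕ) (u w : Perm Ω) : Prop := ∃ g : Perm Ω, sign g = 1 ∧ Good p u (g * w * g⁻¹)

theorem Ex.symm {p : ℕ} {u w : Perm Ω} (h : Ex p u w) : Ex p w u := by
  obtain ⟨g, hg, h⟩ := h
  refine ⟨g⁻¹, by simp [hg], ?_⟩
  have := (h.conj g⁻¹).symm
  simpa [mul_assoc] using this

theorem ex_of {p : ℕ} {ι : X ↪ Ω} {u w g : Perm Ω} {u₀ w₀ : Perm X} (hu : Rl ι u u₀)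
    (hw : Rl ι (g * w * g⁻¹) w₀)
    (h : ∀ s : ℤˣ, ∃ c : Perm X, sign c = s ∧ Good p u₀ (c * w₀ * c⁻¹)) : Ex p u w := by
  obtain ⟨c, hc, h⟩ := h (sign g)
  have h1 : Rl ι (c.viaFintypeEmbedding ι) c := c.viaFintypeEmbedding_apply_image ι
  refine ⟨c.viaFintypeEmbedding ι * g, by
    rw [map_mul, viaFintypeEmbedding_sign, hc, Int.units_mul_self], Good.of_rl hu ?_ h⟩
  have := (h1.mul hw).mul h1.inv
  simpa [mul_assoc] using this

theorem both_of_comm {p : ℕ} {u₀ w₀ c : Perm X} (h : Good p u₀ w₀) (hc : sign c = -1)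
    (hcu : c * u₀ = u₀ * c) (s : ℤˣ) : ∃ c : Perm X, sign c = s ∧ Good p u₀ (c * w₀ * c⁻¹) := by
  rcases Int.units_eq_one_or s with rfl | rfl
  · exact ⟨1, by simp, by simpa using h⟩
  · refine ⟨c, hc, ?_⟩
    have := h.conj c
    rwa [hcu, mul_inv_cancel_right] at this

theorem ex_of_emb {p : ℕ} {ι κ : X ↪ Ω} {u w : Perm Ω} {u₀ w₀ c : Perm X} (hu : Rl ι u u₀)
    (hw : Rl κ w w₀) (h : Good p u₀ w₀) (hc : sign c = -1) (hcu : c * u₀ = u₀ * c) : Ex p u w := by
  obtain ⟨g, hg⟩ := Perm.exists_extending_pair κ ι κ.injective ι.injective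
  refine ex_of (g := g) hu (fun x => ?_) (both_of_comm h hc hcu)
  rw [← hg x, Perm.mul_apply, Perm.mul_apply, Perm.coe_inv, symm_apply_apply, hw, hg]

theorem not_solvable_of_words {G : Type*} [Group G] {a b : G} (ha : a ≠ 1)
    (h : ∀ K : Subgroup G, a ∈ K → b ∈ K → a ∈ ⁅K, K⁆ ∧ b ∈ ⁅K, K⁆) :
    ¬ Group.IsSolvable (closure ({a, b} : Set G)) := by
  set H := closure ({a, b} : Set G)
  have haH : a ∈ H := subset_closure (by simp)
  have hbH : b ∈ H := subset_closure (by simp)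
  have key : ∀ n, a ∈ (derivedSeries H n).map H.subtype ∧ b ∈ (derivedSeries H n).map H.subtype := by
    intro n
    induction n with
    | zero => exact ⟨⟨⟨a, haH⟩, trivial, rfl⟩, ⟨⟨b, hbH⟩, trivial, rfl⟩⟩
    | succ n ih =>
      rw [derivedSeries_succ, map_commutator]
      exact h _ ih.1 ih.2
  rintro ⟨n, hn⟩
  have := (key n).1
  rw [hn, Subgroup.map_bot, mem_bot] at this
  exact ha this

end basic

section merge
variable {X : Type*} [Fintype X] [DecidableEq X]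

theorem sameCycle_of_step {π π' : Perm X} (h : ∀ x, SameCycle π' x (π x)) {x y : X}
    (hxy : SameCycle π x y) : SameCycle π' x y := by
  obtain ⟨n, rfl⟩ := hxy.exists_nat_pow_eq
  clear hxy
  induction n with
  | zero => exact SameCycle.refl _ _
  | succ n ih => rw [pow_succ', Perm.mul_apply]; exact ih.trans (h _)

theorem merge_aux {π : Perm X} {a b : X} (h : ¬ SameCycle π a b) :
    SameCycle (π * swap a b) (π a) a := by
  have key : ∀ n : ℕ, SameCycle (π * swap a b) (π a) a ∨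
      SameCycle (π * swap a b) (π a) ((π ^ (n + 1)) a) := by
    intro n
    induction n with
    | zero => exact Or.inr (by rw [zero_add, pow_one])
    | succ n ih =>
      rcases ih with ih | ih
      · exact Or.inl ih
      by_cases h1 : (π ^ (n + 1)) a = a
      · exact Or.inl (by rwa [h1] at ih)
      refine Or.inr (ih.trans ⟨1, ?_⟩)
      rw [zpow_one, Perm.mul_apply, swap_apply_of_ne_of_ne h1 (fun e => h ⟨(n + 1 : ℕ), e⟩),
        pow_succ' π (n + 1)]
      rfl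
  rcases key (orderOf π - 1) with h1 | h1
  · exact h1
  · rwa [Nat.sub_add_cancel (orderOf_pos π), pow_orderOf_eq_one] at h1

theorem merge {π : Perm X} {a b : X} (h : ¬ SameCycle π a b) (x y : X) :
    SameCycle (π * swap a b) x y ↔ SameCycle π x y ∨
      ((SameCycle π a x ∨ SameCycle π b x) ∧ (SameCycle π a y ∨ SameCycle π b y)) := by
  have h1 := merge_aux h
  have h2 := merge_aux (fun h' => h h'.symm)
  rw [swap_comm] at h2
  have h3 : SameCycle (π * swap a b) b a := SameCycle.trans ⟨1, by simp⟩ h1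
  have h4 : ∀ {x y}, SameCycle π x y → SameCycle (π * swap a b) x y := sameCycle_of_step fun x => by
    by_cases e1 : x = a
    · exact e1 ▸ h1.symm
    by_cases e2 : x = b
    · exact e2 ▸ h2.symm
    exact ⟨1, by rw [zpow_one, Perm.mul_apply, swap_apply_of_ne_of_ne e1 e2]⟩
  constructor
  · intro hxy
    obtain ⟨n, rfl⟩ := hxy.exists_nat_pow_eq
    clear hxy
    induction n with
    | zero => exact Or.inl (SameCycle.refl _ _)
    | succ n ih =>
      rw [pow_succ', Perm.mul_apply, Perm.mul_apply]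
      set z := ((π * swap a b) ^ n) x
      simp only [sameCycle_apply_right]
      by_cases e1 : z = a
      · rw [e1] at ih
        rw [e1, swap_apply_left]
        exact Or.inr ⟨ih.elim (fun h => Or.inl h.symm) fun h => h.1, Or.inr (SameCycle.refl _ _)⟩
      by_cases e2 : z = b
      · rw [e2] at ih
        rw [e2, swap_apply_right]
        exact Or.inr ⟨ih.elim (fun h => Or.inr h.symm) fun h => h.1, Or.inl (SameCycle.refl _ _)⟩
      rwa [swap_apply_of_ne_of_ne e1 e2]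
  · rintro (h5 | ⟨h5 | h5, h6 | h6⟩)
    · exact h4 h5
    · exact (h4 h5).symm.trans (h4 h6)
    · exact (h4 h5).symm.trans (h3.symm.trans (h4 h6))
    · exact (h4 h5).symm.trans (h3.trans (h4 h6))
    · exact (h4 h5).symm.trans (h4 h6)

theorem merge' {π : Perm X} {a b : X} (h : ¬ SameCycle π a b) (x y : X) :
    SameCycle (swap a b * π) x y ↔ SameCycle π x y ∨
      ((SameCycle π a x ∨ SameCycle π b x) ∧ (SameCycle π a y ∨ SameCycle π b y)) := by
  rw [← sameCycle_inv, mul_inv_rev, swap_inv, merge (by rwa [sameCycle_inv])]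
  simp only [sameCycle_inv]

/-- invariants of the merging procedure -/
structure Inv (x₁ x₂ : X) (β₁ β₂ : Perm X) : Prop where
  f1 : β₁ x₁ = x₁
  f2 : β₁ x₂ = x₂
  i1 : ∀ a b, a ≠ x₁ → a ≠ x₂ → b ≠ x₁ → b ≠ x₂ → SameCycle β₂ a b → SameCycle β₁ a b
  i2 : ∀ a b, SameCycle β₁ a b → SameCycle β₂ a b
  i3 : ∀ a, ∃ b, b ≠ x₁ ∧ b ≠ x₂ ∧ SameCycle β₂ a b

theorem Inv.exists_full {x₁ x₂ : X} {β₁ β₂ : Perm X} (h : Inv x₁ x₂ β₁ β₂) :
    ∃ γ₁ γ₂ : Perm X, Inv x₁ x₂ γ₁ γ₂ ∧ γ₁ * γ₂ = β₁ * β₂ ∧ ∀ a b, SameCycle γ₂ a b := by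
  classical
  induction hn : (Finset.univ.filter fun z : X × X => ¬ SameCycle β₂ z.1 z.2).card
    using Nat.strong_induction_on generalizing β₁ β₂ with
  | _ n ih =>
    by_cases hall : ∀ a b, SameCycle β₂ a b
    · exact ⟨β₁, β₂, h, rfl, hall⟩
    push Not at hall
    obtain ⟨a', b', hab'⟩ := hall
    obtain ⟨a, ha1, ha2, ha⟩ := h.i3 a'
    obtain ⟨b, hb1, hb2, hb⟩ := h.i3 b'
    have h2 : ¬ SameCycle β₂ a b := fun e => hab' (ha.trans (e.trans hb.symm))
    have h1 : ¬ SameCycle β₁ a b := fun e => h2 (h.i2 _ _ e)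
    have hinv : Inv x₁ x₂ (β₁ * swap a b) (swap a b * β₂) := by
      refine ⟨by rw [Perm.mul_apply, swap_apply_of_ne_of_ne ha1.symm hb1.symm, h.f1],
        by rw [Perm.mul_apply, swap_apply_of_ne_of_ne ha2.symm hb2.symm, h.f2],
        fun c d c1 c2 d1 d2 => ?_, fun c d => ?_, fun c => ?_⟩
      · rw [merge h1, merge' h2]
        exact Or.imp (h.i1 _ _ c1 c2 d1 d2) (And.imp
          (Or.imp (h.i1 _ _ ha1 ha2 c1 c2) (h.i1 _ _ hb1 hb2 c1 c2))
          (Or.imp (h.i1 _ _ ha1 ha2 d1 d2) (h.i1 _ _ hb1 hb2 d1 d2)))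
      · rw [merge h1, merge' h2]
        exact Or.imp (h.i2 _ _) (And.imp (Or.imp (h.i2 _ _) (h.i2 _ _))
          (Or.imp (h.i2 _ _) (h.i2 _ _)))
      · obtain ⟨d, d1, d2, hd⟩ := h.i3 c
        exact ⟨d, d1, d2, (merge' h2 _ _).2 (Or.inl hd)⟩
    obtain ⟨γ₁, γ₂, h3, h4, h5⟩ := ih _ (hn ▸ Finset.card_lt_card ⟨fun z hz => by
      simp only [Finset.mem_filter, Finset.mem_univ, true_and] at hz ⊢
      exact fun e => hz ((merge' h2 _ _).2 (Or.inl e)), fun e => by
      have := e (show (a, b) ∈ _ by simpa using h2)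
      simp only [Finset.mem_filter, Finset.mem_univ, true_and] at this
      exact this ((merge' h2 _ _).2 (Or.inr ⟨Or.inl (SameCycle.refl _ _),
        Or.inr (SameCycle.refl _ _)⟩))⟩) hinv rfl
    exact ⟨γ₁, γ₂, h3, by rw [h4, mul_assoc, swap_mul_self_mul], h5⟩

theorem inv_init {α : Perm X} {x : X} (h1 : α x ≠ x) (h2 : α (α x) ≠ x) :
    Inv (α x) (α (α x)) (α * swap (α x) (α (α x)) * swap x (α x))
      (swap x (α x) * α * (swap x (α x))⁻¹) ∧
    (α * swap (α x) (α (α x)) * swap x (α x)) * (swap x (α x) * α * (swap x (α x))⁻¹) = α * α := by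
  have h3 : α (α x) ≠ α x := fun e => h1 (α.injective e)
  set β := α * swap (α x) (α (α x)) * swap x (α x) with hβ
  have f1 : β (α x) = α x := by
    simp only [hβ, Perm.mul_apply, swap_apply_right]
    rw [swap_apply_of_ne_of_ne h1.symm h2.symm]
  have f2 : β (α (α x)) = α (α x) := by
    simp only [hβ, Perm.mul_apply]
    rw [swap_apply_of_ne_of_ne h2 h3, swap_apply_right]
  have g1 : ∀ z, SameCycle β (α x) z ↔ z = α x := fun z =>
    ⟨fun h => (h.eq_of_left f1).symm, fun h => h ▸ SameCycle.refl _ _⟩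
  have n1 : ¬ SameCycle β x (α x) := fun h => h1 ((g1 _).1 h.symm).symm
  have f3 : (β * swap x (α x)) (α (α x)) = α (α x) := by
    rw [Perm.mul_apply, swap_apply_of_ne_of_ne h2 h3, f2]
  have g2 : ∀ z, SameCycle (β * swap x (α x)) (α (α x)) z ↔ z = α (α x) := fun z =>
    ⟨fun h => (h.eq_of_left f3).symm, fun h => h ▸ SameCycle.refl _ _⟩
  have n2 : ¬ SameCycle (β * swap x (α x)) (α x) (α (α x)) := fun h => h3 ((g2 _).1 h.symm).symm
  have e : β * swap x (α x) * swap (α x) (α (α x)) = α := by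
    rw [hβ, mul_swap_mul_self, mul_swap_mul_self]
  have m2 := merge n2
  rw [e] at m2
  have hs : ∀ z, SameCycle α (swap x (α x) z) z := fun z => by
    by_cases e1 : z = x
    · rw [e1, swap_apply_left]; exact sameCycle_apply_left.2 (SameCycle.refl _ _)
    by_cases e2 : z = α x
    · rw [e2, swap_apply_right]; exact sameCycle_apply_right.2 (SameCycle.refl _ _)
    rw [swap_apply_of_ne_of_ne e1 e2]
  have hc : ∀ a b, SameCycle (swap x (α x) * α * (swap x (α x))⁻¹) a b ↔ SameCycle α a b := by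
    intro a b
    rw [sameCycle_conj, swap_inv]
    exact ⟨fun h => (hs a).symm.trans (h.trans (hs b)), fun h => (hs a).trans (h.trans (hs b).symm)⟩
  refine ⟨⟨f1, f2, fun a b a1 a2 b1 b2 => ?_, fun a b hab => ?_, fun a => ?_⟩, ?_⟩
  · rw [hc, m2, g2, g2]
    intro h
    have h4 : SameCycle (β * swap x (α x)) a b := by
      rcases h with h | ⟨h | h, h' | h'⟩
      · exact h
      · exact h.symm.trans h'
      all_goals contradiction
    rw [merge n1, g1, g1] at h4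
    rcases h4 with h | ⟨h | h, h' | h'⟩
    · exact h
    · exact h.symm.trans h'
    all_goals contradiction
  · rw [hc, m2, merge n1]
    exact Or.inl (Or.inl hab)
  · by_cases e1 : a = α x
    · exact ⟨x, h1.symm, h2.symm, (hc _ _).2 (e1 ▸ sameCycle_apply_left.2 (SameCycle.refl _ _))⟩
    by_cases e2 : a = α (α x)
    · exact ⟨x, h1.symm, h2.symm, (hc _ _).2
        (e2 ▸ sameCycle_apply_left.2 (sameCycle_apply_left.2 (SameCycle.refl _ _)))⟩
    exact ⟨a, e1, e2, SameCycle.refl _ _⟩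
  · rw [hβ, swap_inv]
    calc _ = α * (swap (α x) (α (α x)) * α) * swap x (α x) := by
          simp only [mul_assoc, swap_mul_self_mul]
      _ = _ := by rw [← mul_swap_eq_swap_mul, ← mul_assoc, mul_swap_mul_self]

end merge

section good
variable {X : Type*} [Fintype X] [DecidableEq X] {p l : ℕ}

theorem not_pow {G : Type*} [Group G] {x : G} {m : ℕ} (h1 : x ≠ 1) (h2 : x ^ m = 1)
    (h3 : m.Coprime p) : ¬ ∃ k : ℕ, x ^ p ^ k = 1 := by
  rintro ⟨k, hk⟩
  have := pow_gcd_eq_one.2 ⟨h2, hk⟩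
  rw [Nat.Coprime.pow_right k h3, pow_one] at this
  exact h1 this

theorem exists_two (h5 : 5 ≤ Fintype.card X) (x₁ x₂ x₃ : X) : ∃ a, a ≠ x₁ ∧ a ≠ x₂ ∧ a ≠ x₃ := by
  obtain ⟨a, -, ha⟩ := Finset.exists_mem_notMem_of_card_lt_card
    (s := ({x₁, x₂, x₃} : Finset X)) (t := Finset.univ)
    (lt_of_le_of_lt Finset.card_le_three (by rw [Finset.card_univ]; omega))
  simp only [Finset.mem_insert, Finset.mem_singleton, not_or] at ha
  exact ⟨a, ha⟩

theorem good_of_full (hp : p.Prime) (hp3 : 3 ≤ p) (hX : Fintype.card X = p ^ l)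
    (h5 : 5 ≤ Fintype.card X) {x₁ x₂ : X} (hne : x₁ ≠ x₂) {β₁ β₂ u : Perm X}
    (h : Inv x₁ x₂ β₁ β₂) (hfull : ∀ a b, SameCycle β₂ a b) (hu : β₁ * β₂ = u) :
    Good p u β₂⁻¹ := by
  have htr : ∀ a b, a ≠ x₁ → a ≠ x₂ → b ≠ x₁ → b ≠ x₂ → SameCycle β₁ a b :=
    fun a b a1 a2 b1 b2 => h.i1 a b a1 a2 b1 b2 (hfull a b)
  have hmv : ∀ a, β₁ a = a ↔ a = x₁ ∨ a = x₂ := by
    intro a
    refine ⟨fun e => ?_, by rintro (rfl | rfl); exacts [h.f1, h.f2]⟩
    by_contra hc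
    push Not at hc
    obtain ⟨b, b1, b2, b3⟩ := exists_two h5 x₁ x₂ a
    exact b3 ((htr a b hc.1 hc.2 b1 b2).eq_of_left e).symm
  have hodd : Odd (Fintype.card X) := hX ▸ (hp.odd_of_ne_two (by omega)).pow
  have hl : l ≠ 0 := by rintro rfl; rw [pow_zero] at hX; omega
  have hτ : u * β₂⁻¹ = β₁ := by rw [← hu, mul_inv_cancel_right]
  constructor
  · rintro ⟨k, hk⟩
    rw [hτ] at hk
    obtain ⟨a, a1, a2, -⟩ := exists_two h5 x₁ x₂ x₁
    have hc : IsCycle β₁ := ⟨a, fun e => ((hmv a).1 e).elim a1 a2, fun y hy =>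
      htr a y a1 a2 (fun e => hy ((hmv y).2 (Or.inl e))) fun e => hy ((hmv y).2 (Or.inr e))⟩
    have hs : β₁.support = {x₁, x₂}ᶜ := by
      ext y
      simp [hmv, not_or]
    have h1 := orderOf_dvd_of_pow_eq_one hk
    rw [hc.orderOf, hs, Finset.card_compl, Finset.card_pair hne] at h1
    obtain ⟨i, -, hi⟩ := (Nat.dvd_prime_pow hp).1 h1
    have h2 : p ∣ Fintype.card X := hX ▸ dvd_pow_self p hl
    have h3 : p ∣ Fintype.card X - 2 := hi ▸ dvd_pow_self p (by rintro rfl; rw [pow_zero] at hi; omega)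
    have h4 := Nat.le_of_dvd two_pos ((Nat.dvd_sub_iff_right (by omega) h2).1 h3)
    omega
  · set H := closure ({u, β₂⁻¹} : Set (Perm X))
    intro hs
    have h1 : β₂⁻¹ ∈ H := subset_closure (by simp)
    have hσ : β₂ ∈ H := (inv_mem_iff (S := Subgroup (Perm X))).1 h1
    have hτH : β₁ ∈ H := hτ ▸ mul_mem (subset_closure (by simp)) h1
    haveI : IsPretransitive H X := ⟨fun a b => by
      obtain ⟨n, hn⟩ := hfull a b
      exact ⟨⟨_, zpow_mem hσ n⟩, hn⟩⟩
    have : Nontrivial H := by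
      obtain ⟨g, hg⟩ := exists_smul_eq H x₁ x₂
      exact ⟨g, 1, fun e => hne (by rw [← hg, e, one_smul])⟩
    obtain ⟨-, N, -, hN, hN0, -, hNc, -⟩ :=
      CfsgLib.SolvStruct.exists_normal_pgroup_of_solvable (G := H)
    set τ : H := ⟨β₁, hτH⟩
    have hB := IsBlock.orbit_of_normal (G := H) (N := N) x₁
    have hτO : ∀ y ∈ orbit N x₁, β₁ y ∈ orbit N x₁ := by
      rintro _ ⟨m, rfl⟩
      refine ⟨⟨τ * m * τ⁻¹, hN.conj_mem _ m.2 _⟩, ?_⟩
      change β₁ ((m : H) • β₁⁻¹ x₁) = _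
      rw [Perm.inv_eq_iff_eq.2 h.f1.symm]
      rfl
    have hO : orbit N x₁ = Set.univ := by
      by_cases hsub : orbit N x₁ ⊆ {x₁, x₂}
      · exfalso
        have h2 := (Set.ncard_le_ncard hsub).trans (Set.ncard_pair hne).le
        have h3 := hB.ncard_dvd_card ⟨x₁, mem_orbit_self _⟩
        rw [Nat.card_eq_fintype_card] at h3
        have h4 := hodd.of_dvd_nat h3
        have h5 : (orbit N x₁).ncard = 1 := by obtain ⟨k, hk⟩ := h4; omega
        obtain ⟨z, hz⟩ := Set.ncard_eq_one.1 h5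
        have h6 : ∀ m ∈ N, m • x₁ = x₁ := fun m hm => by
          have e1 : m • x₁ ∈ orbit N x₁ := ⟨⟨m, hm⟩, rfl⟩
          have e2 := mem_orbit_self (M := N) x₁
          rw [hz] at e1 e2
          exact e1.trans e2.symm
        refine hN0 (eq_bot_iff.2 fun m hm => Subtype.ext (Equiv.ext fun y => ?_))
        obtain ⟨g, rfl⟩ := exists_smul_eq H x₁ y
        have := h6 _ (hN.conj_mem _ hm g⁻¹)
        rw [inv_inv, mul_smul, mul_smul, inv_smul_eq_iff] at this
        exact this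
      · obtain ⟨a, ha, ha'⟩ := Set.not_subset.1 hsub
        simp only [Set.mem_insert_iff, Set.mem_singleton_iff, not_or] at ha'
        refine hB.eq_univ_of_card_lt ?_
        have h2 : ({x₂}ᶜ : Set X) ⊆ orbit N x₁ := by
          intro y hy
          by_cases e : y = x₁
          · exact e ▸ mem_orbit_self _
          obtain ⟨n, rfl⟩ := (htr a y ha'.1 ha'.2 e hy).exists_nat_pow_eq
          clear hy e
          induction n with
          | zero => exact ha
          | succ n ih => rw [pow_succ', Perm.mul_apply]; exact hτO _ ih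
        have h3 := Set.ncard_le_ncard h2
        have h4 := Set.ncard_add_ncard_compl ({x₂} : Set X)
        rw [Set.ncard_singleton] at h4
        rw [Nat.card_eq_fintype_card] at h4 ⊢
        omega
    have reg : ∀ m ∈ N, ∀ y : X, m • y = y → m = 1 := by
      intro m hm y hy
      refine Subtype.ext (Equiv.ext fun z => ?_)
      obtain ⟨k, hk⟩ : z ∈ orbit N x₁ := hO ▸ Set.mem_univ _
      obtain ⟨k', hk'⟩ : y ∈ orbit N x₁ := hO ▸ Set.mem_univ _
      have e1 : z = ((k : H) * (k' : H)⁻¹) • y := by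
        rw [← hk, ← hk', mul_smul]
        exact congrArg _ (inv_smul_smul (k' : H) x₁).symm
      change m • z = z
      rw [e1, ← mul_smul, setLike_mul_comm hm (N.mul_mem k.2 (N.inv_mem k'.2)), mul_smul, hy]
    obtain ⟨⟨m, hm⟩, hm1⟩ : x₂ ∈ orbit N x₁ := hO ▸ Set.mem_univ _
    have hm1' : m • x₁ = x₂ := hm1
    have hτ1 : τ⁻¹ • x₁ = x₁ := inv_smul_eq_iff.2 h.f1.symm
    have h2 : m⁻¹ * (τ * m * τ⁻¹) = 1 := reg _ (N.mul_mem (N.inv_mem hm) (hN.conj_mem _ hm _)) x₁ (by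
      rw [mul_smul, mul_smul, mul_smul, hτ1, hm1', inv_smul_eq_iff, hm1']
      exact h.f2)
    have h3 : τ * m = m * τ := mul_inv_eq_iff_eq_mul.1 (inv_mul_eq_one.1 h2).symm
    have h4 : β₁ (m • x₂) = m • x₂ := by
      change τ • m • x₂ = _
      rw [← mul_smul, h3, mul_smul]
      exact congrArg _ h.f2
    have hm0 : m ≠ 1 := fun e => hne (by rw [← hm1', e, one_smul])
    have h5 : m • x₂ = x₁ := ((hmv _).1 h4).resolve_right fun e => hm0 (reg m hm _ e)
    have h6 : m * m = 1 := reg _ (N.mul_mem hm hm) x₁ (by rw [mul_smul, hm1', h5])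
    have h7 := two_dvd_card_support (σ := (m : Perm X)) (by rw [pow_two]; exact congrArg Subtype.val h6)
    have h8 : (m : Perm X).support = Finset.univ :=
      Finset.eq_univ_of_forall fun y => mem_support.2 fun e => hm0 (reg m hm y e)
    rw [h8, Finset.card_univ] at h7
    exact (Nat.not_even_iff_odd.2 hodd) (even_iff_two_dvd.2 h7)

theorem ns5 : ¬ Group.IsSolvable (closure ({(swap 0 1 * swap 0 2 : Perm (Fin 5)),
    (swap 2 3 * swap 3 4 : Perm (Fin 5))} : Set (Perm (Fin 5)))) := by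
  refine not_solvable_of_words (by decide) fun K ha hb => ?_
  set a : Perm (Fin 5) := swap 0 1 * swap 0 2 with ha'
  set b : Perm (Fin 5) := swap 2 3 * swap 3 4 with hb'
  have e1 : a = ⁅a⁻¹, b * a * b⁻¹ * a⁻¹ * b⁆ := by rw [ha', hb']; decide +kernel
  have e2 : b = ⁅b⁻¹, a * b * a⁻¹ * b⁻¹ * a⁆ := by rw [ha', hb']; decide +kernel
  constructor
  · rw [e1]
    exact commutator_mem_commutator (inv_mem ha)
      (mul_mem (mul_mem (mul_mem (mul_mem hb ha) (inv_mem hb)) (inv_mem ha)) hb)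
  · rw [e2]
    exact commutator_mem_commutator (inv_mem hb)
      (mul_mem (mul_mem (mul_mem (mul_mem ha hb) (inv_mem ha)) (inv_mem hb)) ha)

theorem good_two (hp : p.Prime) (hp3 : 3 ≤ p) {α : Perm X} {m : ℕ} (hm : (α * α) ^ m = α)
    {x₁ x₂ x₃ x₄ x₅ : X} (e1 : α x₁ = x₂) (e2 : α x₂ = x₃) (e3 : α x₃ = x₄) (e4 : α x₄ = x₅)
    (hinj : Function.Injective ![x₁, x₄, x₂, x₃, x₅]) :
    Good p (α * α) ((swap x₁ x₂ * swap x₂ x₃) * α⁻¹ * (swap x₁ x₂ * swap x₂ x₃)⁻¹) := by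
  have n12 : x₁ ≠ x₂ := fun e => absurd (hinj (a₁ := 0) (a₂ := 2) e) (by decide)
  have n13 : x₁ ≠ x₃ := fun e => absurd (hinj (a₁ := 0) (a₂ := 3) e) (by decide)
  have n14 : x₁ ≠ x₄ := fun e => absurd (hinj (a₁ := 0) (a₂ := 1) e) (by decide)
  have n15 : x₁ ≠ x₅ := fun e => absurd (hinj (a₁ := 0) (a₂ := 4) e) (by decide)
  have n23 : x₂ ≠ x₃ := fun e => absurd (hinj (a₁ := 2) (a₂ := 3) e) (by decide)
  have n24 : x₂ ≠ x₄ := fun e => absurd (hinj (a₁ := 2) (a₂ := 1) e) (by decide)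
  have n25 : x₂ ≠ x₅ := fun e => absurd (hinj (a₁ := 2) (a₂ := 4) e) (by decide)
  have n34 : x₃ ≠ x₄ := fun e => absurd (hinj (a₁ := 3) (a₂ := 1) e) (by decide)
  have n35 : x₃ ≠ x₅ := fun e => absurd (hinj (a₁ := 3) (a₂ := 4) e) (by decide)
  have n45 : x₄ ≠ x₅ := fun e => absurd (hinj (a₁ := 1) (a₂ := 4) e) (by decide)
  set w := (swap x₁ x₂ * swap x₂ x₃) * α⁻¹ * (swap x₁ x₂ * swap x₂ x₃)⁻¹ with hw
  set d := swap x₁ x₂ * swap x₂ x₃ * swap x₃ x₄ * swap x₂ x₃ with hd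
  have s1 : α * swap x₁ x₂ * α⁻¹ = swap x₂ x₃ := by rw [← swap_apply_apply, e1, e2]
  have s2 : α * swap x₂ x₃ * α⁻¹ = swap x₃ x₄ := by rw [← swap_apply_apply, e2, e3]
  have s3 : α * swap x₃ x₄ * α⁻¹ = swap x₄ x₅ := by rw [← swap_apply_apply, e3, e4]
  have hwd : w⁻¹ * α⁻¹ = d := by
    calc w⁻¹ * α⁻¹ = swap x₁ x₂ * swap x₂ x₃ * (α * (swap x₂ x₃)⁻¹ * α⁻¹) *
          (α * (swap x₁ x₂)⁻¹ * α⁻¹) := by rw [hw]; group
      _ = d := by rw [swap_inv, swap_inv, s1, s2]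
  have hd' : α * d * α⁻¹ = swap x₂ x₃ * swap x₃ x₄ * swap x₄ x₅ * swap x₃ x₄ := by
    calc _ = (α * swap x₁ x₂ * α⁻¹) * (α * swap x₂ x₃ * α⁻¹) * (α * swap x₃ x₄ * α⁻¹) *
          (α * swap x₂ x₃ * α⁻¹) := by rw [hd]; group
      _ = _ := by rw [s1, s2, s3]
  constructor
  · rintro ⟨k, hk⟩
    have h1 : α * α * w = α * d⁻¹ := by rw [← hwd]; group
    have h2 : (α * α * w) x₃ = x₄ := by
      rw [h1, Perm.mul_apply, ← e3]
      congr 1
      rw [Perm.inv_eq_iff_eq]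
      simp [hd, swap_apply_def, n12.symm, n13.symm, n23, n24, n23.symm]
    have h3 : (α * α * w) x₄ = x₃ := by
      rw [h1, Perm.mul_apply, ← e2]
      congr 1
      rw [Perm.inv_eq_iff_eq]
      simp [hd, swap_apply_def, n14.symm, n24.symm, n34.symm]
    obtain ⟨j, hj⟩ : Odd (p ^ k) := (hp.odd_of_ne_two (by omega)).pow
    have h4 : ((α * α * w) ^ 2) x₄ = x₄ := by rw [pow_two, Perm.mul_apply, h3, h2]
    have h5 := Equiv.congr_fun hk x₃
    rw [hj, pow_succ, Perm.mul_apply, h2, pow_mul, pow_apply_eq_self_of_apply_eq_self h4] at h5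
    exact n34 h5.symm
  · set H := closure ({α * α, w} : Set (Perm X))
    have hα : α ∈ H := hm ▸ pow_mem (subset_closure (by simp)) m
    have hdH : d ∈ H := hwd ▸ mul_mem (inv_mem (subset_closure (by simp))) (inv_mem hα)
    refine not_solvable_of_rl (ι := ⟨_, hinj⟩) ?_ ?_ hdH
      (mul_mem (mul_mem hα hdH) (inv_mem hα)) ns5
    · intro i
      fin_cases i <;> simp [hd, swap_apply_def, *, Ne.symm]
    · intro i
      rw [hd']
      fin_cases i <;> simp [swap_apply_def, *, Ne.symm]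

theorem core (hp : p.Prime) (hp3 : 3 ≤ p) (hX : Fintype.card X = p ^ l)
    (h5 : 5 ≤ Fintype.card X) {u : Perm X} (hu1 : u ≠ 1) (hu : u ^ p ^ l = 1) :
    ∃ w : Perm X, (∀ a b, SameCycle w a b) ∧
      ∀ s : ℤˣ, ∃ c : Perm X, sign c = s ∧ Good p u (c * w * c⁻¹) := by
  obtain ⟨j, hj⟩ : Odd (p ^ l) := (hp.odd_of_ne_two (by omega)).pow
  set α := u ^ (j + 1) with hα
  have hαu : α * α = u := by
    rw [hα, ← pow_add, show j + 1 + (j + 1) = p ^ l + 1 by omega, pow_succ, hu, one_mul]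
  obtain ⟨x, hx⟩ : ∃ x, u x ≠ x := by
    by_contra h
    push Not at h
    exact hu1 (Equiv.ext h)
  have h2 : α (α x) ≠ x := by rw [← Perm.mul_apply, hαu]; exact hx
  have h1 : α x ≠ x := fun e => h2 (by rw [e, e])
  have h3 : α x ≠ α (α x) := fun e => h1 (α.injective e).symm
  obtain ⟨hinv, hprod⟩ := inv_init h1 h2
  by_cases hc : centralizer {u} ≤ alternatingGroup X
  · obtain ⟨-, c1, c2⟩ := centralizer_le_alternating_iff.1 hc
    have hl : l ≠ 0 := by rintro rfl; rw [pow_zero] at hX; omega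
    have hct : ∀ m ∈ u.cycleType, ∃ i, i ≤ l ∧ i ≠ 0 ∧ m = p ^ i := fun m hm => by
      obtain ⟨i, hi, e⟩ := (Nat.dvd_prime_pow hp).1
        ((dvd_of_mem_cycleType hm).trans (orderOf_dvd_of_pow_eq_one hu))
      refine ⟨i, hi, ?_, e⟩
      rintro rfl
      have := two_le_of_mem_cycleType hm
      rw [pow_zero] at e
      omega
    have hmem : p ^ l ∈ u.cycleType := by
      by_contra hn
      have hnd : u.cycleType.Nodup := Multiset.nodup_iff_count_le_one.2 c2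
      have e1 : u.cycleType.sum = ∑ m ∈ u.cycleType.toFinset, m := by
        rw [Finset.sum, Multiset.toFinset_val, hnd.dedup, Multiset.map_id']
      have e2 : u.cycleType.toFinset ⊆ (Finset.range l).image (p ^ ·) := fun m hm => by
        obtain ⟨i, hi, -, rfl⟩ := hct m (Multiset.mem_toFinset.1 hm)
        refine Finset.mem_image.2 ⟨i, Finset.mem_range.2 (lt_of_le_of_ne hi ?_), rfl⟩
        rintro rfl
        exact hn (Multiset.mem_toFinset.1 hm)
      have e3 := Finset.sum_le_sum_of_subset (f := fun m => m) e2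
      rw [Finset.sum_image fun a _ b _ e => Nat.pow_right_injective hp.two_le e] at e3
      have e4 := Nat.geomSum_lt (s := Finset.range l) hp.two_le fun k hk => Finset.mem_range.1 hk
      have e5 : p ∣ u.cycleType.sum := Multiset.dvd_sum fun m hm => by
        obtain ⟨i, -, hi, rfl⟩ := hct m hm
        exact dvd_pow_self p hi
      have e6 : p ∣ u.cycleType.sum + 1 := by
        rw [show u.cycleType.sum + 1 = p ^ l by omega]
        exact dvd_pow_self p hl
      have := Nat.le_of_dvd one_pos ((Nat.dvd_add_right e5).1 e6)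
      omega
    obtain ⟨c, τ, e, hdis, hcyc, hcard⟩ := mem_cycleType_iff.1 hmem
    have hsupp : c.support = Finset.univ := Finset.eq_univ_of_card _ (hcard.trans hX.symm)
    have hmv : ∀ y, c y ≠ y := fun y => mem_support.1 (hsupp ▸ Finset.mem_univ y)
    have hτ : τ = 1 := Equiv.ext fun y => (hdis y).resolve_left (hmv y)
    rw [hτ, mul_one] at e
    rw [← e] at hcyc hmv hcard
    have hfull : ∀ a b, SameCycle α a b := fun a b => by
      have := hcyc.sameCycle (hmv a) (hmv b)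
      rw [← hαu, ← pow_two] at this
      exact this.of_pow
    have hαo : ∀ k : ℕ, 0 < k → k < 5 → ∀ y, (α ^ k) y ≠ y := fun k k0 k5 y e => by
      have e1 : (u ^ k) y = y := by
        rw [← hαu, ← pow_two, ← pow_mul, mul_comm, pow_mul]
        exact pow_apply_eq_self_of_apply_eq_self e 2
      have e2 := orderOf_dvd_of_pow_eq_one ((hcyc.pow_eq_one_iff' (hmv y)).2 e1)
      rw [hcyc.orderOf, hcard, ← hX] at e2
      have := Nat.le_of_dvd k0 e2
      omega
    refine ⟨α⁻¹, fun a b => sameCycle_inv.2 (hfull a b), fun s => ?_⟩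
    rcases Int.units_eq_one_or s with rfl | rfl
    · have a1 : ∀ y, α y ≠ y := hαo 1 (by omega) (by omega)
      have a2 : ∀ y, α (α y) ≠ y := hαo 2 (by omega) (by omega)
      have a3 : ∀ y, α (α (α y)) ≠ y := hαo 3 (by omega) (by omega)
      have a4 : ∀ y, α (α (α (α y))) ≠ y := hαo 4 (by omega) (by omega)
      refine ⟨swap x (α x) * swap (α x) (α (α x)), by simp [h1.symm, h3], ?_⟩
      have := good_two hp hp3 (α := α) (m := j + 1) (by rw [hαu]) (x₁ := x) rfl rfl rfl rfl (by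
        intro i k
        fin_cases i <;> fin_cases k <;>
          simp [a1, a2, a3, a4, (a1 _).symm, (a2 _).symm, (a3 _).symm, (a4 _).symm])
      rwa [hαu] at this
    · refine ⟨swap x (α x), by simp [h1.symm], ?_⟩
      have := good_of_full hp hp3 hX h5 h3 hinv (fun a b => sameCycle_conj.2 (hfull _ _))
        (hprod.trans hαu)
      simpa [mul_assoc] using this
  · obtain ⟨γ₁, γ₂, g1, g2, g3⟩ := hinv.exists_full
    obtain ⟨c, c1, c2⟩ := SetLike.not_le_iff_exists.1 hc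
    exact ⟨γ₂⁻¹, fun a b => sameCycle_inv.2 (g3 a b), both_of_comm
      (good_of_full hp hp3 hX h5 h3 g1 g3 (g2.trans (hprod.trans hαu)))
      ((Int.units_eq_one_or _).resolve_left c2) (mem_centralizer_singleton_iff.1 c1)⟩

end good

section final
variable {Ω : Type*} [Fintype Ω] [DecidableEq Ω] {p l : ℕ}

theorem exists_inv_subset (hp : p.Prime) {u : Perm Ω} (hu1 : u ≠ 1) (hu : u ^ p ^ l = 1)
    (hn : p ^ l ≤ Fintype.card Ω) :
    ∃ S : Finset Ω, S.card = p ^ l ∧ (∀ x, u x ∈ S ↔ x ∈ S) ∧ ∃ x ∈ S, u x ≠ x := by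
  classical
  let O : Ω → Finset Ω := fun y => Finset.univ.filter (SameCycle u y)
  have hO : ∀ y, (O y).card ∣ p ^ l := by
    intro y
    have h1 : (O y : Set Ω) = orbit (zpowers u) y := by
      ext z
      simp only [O, Finset.coe_filter, Finset.mem_univ, true_and, Set.mem_setOf_eq]
      exact ⟨fun ⟨i, hi⟩ => ⟨⟨_, i, rfl⟩, hi⟩, fun ⟨⟨_, i, rfl⟩, hi⟩ => ⟨i, hi⟩⟩
    rw [← Set.ncard_coe_finset, h1, ← index_stabilizer]
    exact (index_dvd_card _).trans (Nat.card_zpowers u ▸ orderOf_dvd_of_pow_eq_one hu)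
  have hdvd : ∀ y z, (O y).card ≤ (O z).card → (O y).card ∣ (O z).card := by
    intro y z h
    obtain ⟨i, -, hi⟩ := (Nat.dvd_prime_pow hp).1 (hO y)
    obtain ⟨j, -, hj⟩ := (Nat.dvd_prime_pow hp).1 (hO z)
    rw [hi, hj] at h ⊢
    exact pow_dvd_pow p ((Nat.pow_le_pow_iff_right hp.one_lt).1 h)
  have hOi : ∀ y x, u x ∈ O y ↔ x ∈ O y := fun y x => by simp [O]
  have hOs : ∀ y, y ∈ O y := fun y =>
    Finset.mem_filter.2 ⟨Finset.mem_univ _, SameCycle.refl _ _⟩
  obtain ⟨x, hx⟩ : ∃ x, u x ≠ x := by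
    by_contra h
    push Not at h
    exact hu1 (Equiv.ext h)
  obtain ⟨x₀, -, hx₀⟩ := Finset.exists_max_image Finset.univ (fun y => (O y).card)
    ⟨x, Finset.mem_univ x⟩
  have hx1 : u x₀ ≠ x₀ := fun e => by
    have h1 : (O x₀).card ≤ 1 := Finset.card_le_one.2 fun a ha b hb => by
      simp only [O, Finset.mem_filter, Finset.mem_univ, true_and] at ha hb
      exact (ha.eq_of_left e).symm.trans (hb.eq_of_left e)
    have h2 : 1 < (O x).card := Finset.one_lt_card.2 ⟨_, (hOi x x).2 (hOs x), _, hOs x, hx⟩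
    have := hx₀ x (Finset.mem_univ x)
    omega
  obtain ⟨S, hS, hmax⟩ := Finset.exists_max_image (Finset.univ.filter fun S : Finset Ω =>
    S.card ≤ p ^ l ∧ (∀ x, u x ∈ S ↔ x ∈ S) ∧ x₀ ∈ S ∧ ∀ y ∉ S, (O y).card ∣ S.card) Finset.card
    ⟨O x₀, Finset.mem_filter.2 ⟨Finset.mem_univ _, Nat.le_of_dvd (Nat.pow_pos hp.pos) (hO _),
      hOi _, hOs _, fun y _ => hdvd _ _ (hx₀ y (Finset.mem_univ y))⟩⟩
  obtain ⟨-, h1, h2, h3, h4⟩ := Finset.mem_filter.1 hS
  refine ⟨S, ?_, h2, x₀, h3, hx1⟩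
  by_contra hne
  obtain ⟨y₀, -, hy₀⟩ := Finset.exists_mem_notMem_of_card_lt_card (s := S) (t := Finset.univ)
    (by rw [Finset.card_univ]; omega)
  obtain ⟨y, hy, hym⟩ := Finset.exists_max_image Sᶜ (fun y => (O y).card)
    ⟨y₀, Finset.mem_compl.2 hy₀⟩
  rw [Finset.mem_compl] at hy
  have hdis : Disjoint S (O y) := Finset.disjoint_left.2 fun z hz hz' => by
    simp only [O, Finset.mem_filter, Finset.mem_univ, true_and] at hz'
    obtain ⟨n, rfl⟩ := hz'.exists_nat_pow_eq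
    refine hy ?_
    clear hz'
    induction n with
    | zero => exact hz
    | succ n ih => exact ih (by rwa [pow_succ', Perm.mul_apply, h2] at hz)
  have hpos : 0 < (O y).card := Finset.card_pos.2 ⟨y, hOs y⟩
  have := hmax (S ∪ O y) (Finset.mem_filter.2 ⟨Finset.mem_univ _, ?_, fun x => by
    rw [Finset.mem_union, Finset.mem_union, h2, hOi], Finset.mem_union_left _ h3, fun z hz => ?_⟩)
  · rw [Finset.card_union_of_disjoint hdis] at this
    omega
  · rw [Finset.card_union_of_disjoint hdis]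
    have := Nat.le_of_dvd (by omega) (Nat.dvd_sub (hO y) (h4 y hy))
    omega
  · rw [Finset.card_union_of_disjoint hdis]
    have hz' : z ∉ S := fun e => hz (Finset.mem_union_left _ e)
    exact dvd_add (h4 z hz') (hdvd _ _ (hym z (Finset.mem_compl.2 hz')))

theorem ex_big (hp : p.Prime) (hp3 : 3 ≤ p) {u w : Perm Ω} (hu1 : u ≠ 1) (hu : u ^ p ^ l = 1)
    (hw : orderOf w = p ^ l) (h5 : 5 ≤ p ^ l) : Ex p u w := by
  classical
  have hmem : p ^ l ∈ w.cycleType := by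
    by_contra hn
    obtain ⟨k, rfl⟩ : ∃ k, l = k + 1 := ⟨l - 1, by
      rcases l with _ | l
      · simp at h5
      · rfl⟩
    have h1 : orderOf w ∣ p ^ k := by
      rw [← lcm_cycleType, Multiset.lcm_dvd]
      intro m hm
      obtain ⟨i, hi, rfl⟩ := (Nat.dvd_prime_pow hp).1 (hw ▸ dvd_of_mem_cycleType hm)
      exact pow_dvd_pow p (Nat.lt_succ_iff.1 (lt_of_le_of_ne hi (by rintro rfl; exact hn hm)))
    rw [hw, Nat.pow_dvd_pow_iff_le_right hp.one_lt] at h1
    omega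
  obtain ⟨c, τ, e, hdis, hcyc, hcard⟩ := mem_cycleType_iff.1 hmem
  obtain ⟨S, hS, hinv, x, hxS, hx⟩ := exists_inv_subset hp hu1 hu (hcard ▸ Finset.card_le_univ _)
  let ι : S ↪ Ω := Function.Embedding.subtype _
  have hrl : Rl ι u (u.subtypePerm hinv) := fun _ => rfl
  have hX : Fintype.card S = p ^ l := by rw [Fintype.card_coe, hS]
  obtain ⟨w₀, hfull, hw₀⟩ := core hp hp3 hX (hX ▸ h5) (u := u.subtypePerm hinv)
    (fun e => hx (congrArg Subtype.val (Equiv.congr_fun e ⟨x, hxS⟩)))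
    (Equiv.ext fun y => ι.injective (by rw [← hrl.pow, hu]; rfl))
  have hmv : ∀ y, w₀ y ≠ y := fun y e => by
    obtain ⟨z, hz, -⟩ := exists_two (hX ▸ h5) y y y
    exact hz ((hfull y z).eq_of_left e).symm
  have hc₀ : IsCycle w₀ := ⟨⟨x, hxS⟩, hmv _, fun y _ => hfull _ y⟩
  have hs₀ : w₀.support = Finset.univ := Finset.eq_univ_of_forall fun y => mem_support.2 (hmv y)
  obtain ⟨g, hg⟩ := isConj_iff.1 (hcyc.isConj (τ := w₀.viaFintypeEmbedding ι) (hc₀.extendDomain _)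
    (by rw [hcard, viaFintypeEmbedding, card_support_extend_domain, hs₀, Finset.card_univ, hX]))
  refine ex_of (g := g) hrl (fun y => ?_) hw₀
  have h1 : g (c (g⁻¹ (ι y))) = ι (w₀ y) :=
    (Equiv.congr_fun hg (ι y)).trans (w₀.viaFintypeEmbedding_apply_image ι y)
  have h2 : τ (g⁻¹ (ι y)) = g⁻¹ (ι y) := (hdis _).resolve_left fun e => hmv y (ι.injective (by
    rw [← h1, e]; simp))
  rw [e, Perm.mul_apply, Perm.mul_apply, Perm.mul_apply, h2, h1]

theorem good6a : Good 3 (swap 0 2 * swap 0 1 * (swap 3 5 * swap 3 4) : Perm (Fin 6))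
    (swap 2 5 * swap 2 3) := by
  refine ⟨not_pow (m := 5) (by decide) (by decide +kernel) (by norm_num),
    not_solvable_of_words (by decide) fun K ha hb => ?_⟩
  set a : Perm (Fin 6) := swap 0 2 * swap 0 1 * (swap 3 5 * swap 3 4) with ha'
  set b : Perm (Fin 6) := swap 2 5 * swap 2 3 with hb'
  have e1 : a = ⁅a⁻¹, b * a * b * a⁻¹ * b * a * b⁻¹⁆ := by rw [ha', hb']; decide +kernel
  have e2 : b = ⁅b⁻¹, a * b * a * b⁻¹ * a * b * a⁻¹⁆ := by rw [ha', hb']; decide +kernel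
  constructor
  · rw [e1]
    exact commutator_mem_commutator (inv_mem ha) (mul_mem (mul_mem (mul_mem
      (mul_mem (mul_mem (mul_mem hb ha) hb) (inv_mem ha)) hb) ha) (inv_mem hb))
  · rw [e2]
    exact commutator_mem_commutator (inv_mem hb) (mul_mem (mul_mem (mul_mem
      (mul_mem (mul_mem (mul_mem ha hb) ha) (inv_mem hb)) ha) hb) (inv_mem ha))

theorem good6b : Good 3 (swap 0 2 * swap 0 1 * (swap 3 5 * swap 3 4) : Perm (Fin 6))
    (swap 0 3 * swap 0 1 * (swap 2 4 * swap 2 5)) := by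
  refine ⟨not_pow (m := 5) (by decide) (by decide +kernel) (by norm_num),
    not_solvable_of_words (by decide) fun K ha hb => ?_⟩
  set a : Perm (Fin 6) := swap 0 2 * swap 0 1 * (swap 3 5 * swap 3 4) with ha'
  set b : Perm (Fin 6) := swap 0 3 * swap 0 1 * (swap 2 4 * swap 2 5) with hb'
  have e1 : a = ⁅a⁻¹, b * a * b⁻¹ * a⁻¹ * b⁆ := by rw [ha', hb']; decide +kernel
  have e2 : b = ⁅b⁻¹, a * b * a⁻¹ * b⁻¹ * a⁆ := by rw [ha', hb']; decide +kernel
  constructor
  · rw [e1]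
    exact commutator_mem_commutator (inv_mem ha)
      (mul_mem (mul_mem (mul_mem (mul_mem hb ha) (inv_mem hb)) (inv_mem ha)) hb)
  · rw [e2]
    exact commutator_mem_commutator (inv_mem hb)
      (mul_mem (mul_mem (mul_mem (mul_mem ha hb) (inv_mem ha)) (inv_mem hb)) ha)

theorem good5 : Good 3 (swap 0 1 * swap 0 2 : Perm (Fin 5)) (swap 2 3 * swap 3 4) :=
  ⟨not_pow (m := 5) (by decide) (by decide +kernel) (by norm_num), ns5⟩

theorem three_facts {u : Perm Ω} (hu : u ^ 3 = 1) {a : Ω} (ha : u a ≠ a) :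
    u (u (u a)) = a ∧ u (u a) ≠ a ∧ u (u a) ≠ u a := by
  have h1 : u (u (u a)) = a := Equiv.congr_fun hu a
  exact ⟨h1, fun e => ha (by rw [e] at h1; exact h1), fun e => ha (u.injective e)⟩

theorem two_cyc {u : Perm Ω} (hu : u ^ 3 = 1) {a b : Ω} (ha : u a ≠ a) (hb : u b ≠ b)
    (h1 : b ≠ a) (h2 : b ≠ u a) (h3 : b ≠ u (u a)) :
    Function.Injective ![a, u a, u (u a), b, u b, u (u b)] := by
  obtain ⟨a1, a2, a3⟩ := three_facts hu ha
  obtain ⟨b1, b2, b3⟩ := three_facts hu hb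
  have c1 : u b ≠ a := fun e => h3 (u.injective (e.trans a1.symm))
  have c2 : u (u b) ≠ a := fun e => h2 (u.injective (u.injective (e.trans a1.symm)))
  intro i k
  fin_cases i <;> fin_cases k <;>
    simp [ha, hb, a2, b2, h1, h2, h3, c1, c2, ha.symm, hb.symm, a2.symm, b2.symm, h1.symm, h2.symm,
      h3.symm, c1.symm, c2.symm]

theorem exists_notMem {k : ℕ} (s : Finset Ω) (h : s.card ≤ k) (hk : k < Fintype.card Ω) :
    ∃ a, a ∉ s := by
  obtain ⟨a, -, ha⟩ := Finset.exists_mem_notMem_of_card_lt_card (s := s) (t := Finset.univ)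
    (by rw [Finset.card_univ]; omega)
  exact ⟨a, ha⟩

theorem ex_three_aux {u w : Perm Ω} (hu : u ^ 3 = 1) (hw : w ^ 3 = 1) {a a' b : Ω} (ha : u a ≠ a)
    (ha' : u a' ≠ a') (h1 : a' ≠ a) (h2 : a' ≠ u a) (h3 : a' ≠ u (u a)) (hb : w b ≠ b) :
    Ex 3 u w := by
  have hinj := two_cyc hu ha ha' h1 h2 h3
  have hrl : Rl ⟨_, hinj⟩ u (swap 0 2 * swap 0 1 * (swap 3 5 * swap 3 4)) := by
    intro i
    fin_cases i
    exacts [rfl, rfl, (three_facts hu ha).1, rfl, rfl, (three_facts hu ha').1]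
  have h6 : 6 ≤ Fintype.card Ω := by simpa using Fintype.card_le_of_injective _ hinj
  obtain ⟨b1, b2, b3⟩ := three_facts hw hb
  by_cases hc : ∃ b', w b' ≠ b' ∧ b' ≠ b ∧ b' ≠ w b ∧ b' ≠ w (w b)
  · obtain ⟨b', hb', k1, k2, k3⟩ := hc
    have hinj' := (two_cyc hw hb hb' k1 k2 k3).comp
      (show Function.Injective (![0, 1, 3, 2, 5, 4] : Fin 6 → Fin 6) by decide)
    refine ex_of_emb (κ := ⟨_, hinj'⟩) (c := swap 0 3 * swap 1 4 * swap 2 5) hrl (fun i => ?_)
      good6b (by simp) (by decide)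
    fin_cases i
    exacts [rfl, rfl, rfl, b1, (three_facts hw hb').1, rfl]
  · push Not at hc
    have hfix : ∀ y, y ≠ b → y ≠ w b → y ≠ w (w b) → w y = y := fun y k1 k2 k3 => by
      by_contra e
      exact k3 (hc y e k1 k2)
    obtain ⟨y₁, e1⟩ := exists_notMem (k := 3) {b, w b, w (w b)} Finset.card_le_three (by omega)
    obtain ⟨y₂, e2⟩ := exists_notMem (k := 4) {y₁, b, w b, w (w b)} Finset.card_le_four (by omega)
    obtain ⟨y₃, e3⟩ := exists_notMem (k := 5) {y₂, y₁, b, w b, w (w b)} Finset.card_le_five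
      (by omega)
    simp only [Finset.mem_insert, Finset.mem_singleton, not_or] at e1 e2 e3
    have hinj' : Function.Injective ![y₁, y₂, b, w b, y₃, w (w b)] := by
      intro i k
      fin_cases i <;> fin_cases k <;>
        simp [hb, b2, hb.symm, b2.symm, e1, e2, e3, Ne.symm e1.1, Ne.symm e1.2.1, Ne.symm e1.2.2,
          Ne.symm e2.1, Ne.symm e2.2.1, Ne.symm e2.2.2.1, Ne.symm e2.2.2.2, Ne.symm e3.1,
          Ne.symm e3.2.1, Ne.symm e3.2.2.1, Ne.symm e3.2.2.2.1, Ne.symm e3.2.2.2.2]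
    refine ex_of_emb (κ := ⟨_, hinj'⟩) (c := swap 0 3 * swap 1 4 * swap 2 5) hrl (fun i => ?_)
      good6a (by simp) (by decide)
    fin_cases i
    exacts [hfix _ e1.1 e1.2.1 e1.2.2, hfix _ e2.2.1 e2.2.2.1 e2.2.2.2, rfl, rfl,
      hfix _ e3.2.2.1 e3.2.2.2.1 e3.2.2.2.2, b1]

theorem one_cyc (h5 : 5 ≤ Fintype.card Ω) {u : Perm Ω} (hu : u ^ 3 = 1) {a : Ω} (ha : u a ≠ a)
    (hc : ¬ ∃ a', u a' ≠ a' ∧ a' ≠ a ∧ a' ≠ u a ∧ a' ≠ u (u a)) :
    ∃ y₁ y₂, u y₁ = y₁ ∧ u y₂ = y₂ ∧ Function.Injective ![a, u a, u (u a), y₁, y₂] := by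
  push Not at hc
  have hfix : ∀ y, y ≠ a → y ≠ u a → y ≠ u (u a) → u y = y := fun y k1 k2 k3 => by
    by_contra e
    exact k3 (hc y e k1 k2)
  obtain ⟨b1, b2, b3⟩ := three_facts hu ha
  obtain ⟨y₁, e1⟩ := exists_notMem (k := 3) {a, u a, u (u a)} Finset.card_le_three (by omega)
  obtain ⟨y₂, e2⟩ := exists_notMem (k := 4) {y₁, a, u a, u (u a)} Finset.card_le_four (by omega)
  simp only [Finset.mem_insert, Finset.mem_singleton, not_or] at e1 e2
  refine ⟨y₁, y₂, hfix _ e1.1 e1.2.1 e1.2.2, hfix _ e2.2.1 e2.2.2.1 e2.2.2.2, fun i k => ?_⟩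
  fin_cases i <;> fin_cases k <;>
    simp [ha, b2, ha.symm, b2.symm, e1, e2, Ne.symm e1.1, Ne.symm e1.2.1, Ne.symm e1.2.2,
      Ne.symm e2.1, Ne.symm e2.2.1, Ne.symm e2.2.2.1, Ne.symm e2.2.2.2]

theorem ex_three (h5 : 5 ≤ Fintype.card Ω) {u w : Perm Ω} (hu1 : u ≠ 1) (hw1 : w ≠ 1)
    (hu : u ^ 3 = 1) (hw : w ^ 3 = 1) : Ex 3 u w := by
  obtain ⟨a, ha⟩ : ∃ x, u x ≠ x := by
    by_contra h
    push Not at h
    exact hu1 (Equiv.ext h)
  obtain ⟨b, hb⟩ : ∃ x, w x ≠ x := by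
    by_contra h
    push Not at h
    exact hw1 (Equiv.ext h)
  by_cases hc : ∃ a', u a' ≠ a' ∧ a' ≠ a ∧ a' ≠ u a ∧ a' ≠ u (u a)
  · obtain ⟨a', h0, h1, h2, h3⟩ := hc
    exact ex_three_aux hu hw ha h0 h1 h2 h3 hb
  by_cases hc' : ∃ b', w b' ≠ b' ∧ b' ≠ b ∧ b' ≠ w b ∧ b' ≠ w (w b)
  · obtain ⟨a', h0, h1, h2, h3⟩ := hc'
    exact (ex_three_aux hw hu hb h0 h1 h2 h3 ha).symm
  obtain ⟨y₁, y₂, f1, f2, hi⟩ := one_cyc h5 hu ha hc
  obtain ⟨z₁, z₂, g1, g2, hi'⟩ := one_cyc h5 hw hb hc'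
  refine ex_of_emb
    (ι := ⟨_, hi.comp (show Function.Injective (![0, 2, 1, 3, 4] : Fin 5 → Fin 5) by decide)⟩)
    (κ := ⟨_, hi'.comp (show Function.Injective (![3, 4, 0, 1, 2] : Fin 5 → Fin 5) by decide)⟩)
    (c := swap 3 4) (fun i => ?_) (fun i => ?_) good5 (by simp) (by decide)
  · fin_cases i
    exacts [rfl, (three_facts hu ha).1, rfl, f1, f2]
  · fin_cases i
    exacts [g1, g2, rfl, rfl, (three_facts hw hb).1]

theorem ex_le (h5 : 5 ≤ Fintype.card Ω) (hp : p.Prime) (hp3 : 3 ≤ p) {u w : Perm Ω} (hu1 : u ≠ 1)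
    (hw1 : w ≠ 1) {k : ℕ} (hu : orderOf u = p ^ k) (hw : orderOf w = p ^ l) (hkl : k ≤ l) :
    Ex p u w := by
  have h1 : u ^ p ^ l = 1 := orderOf_dvd_iff_pow_eq_one.1 (hu ▸ pow_dvd_pow p hkl)
  by_cases h : 5 ≤ p ^ l
  · exact ex_big hp hp3 hu1 h1 hw h
  have hl : l ≠ 0 := by
    rintro rfl
    exact hw1 (orderOf_eq_one_iff.1 hw)
  have h2 : p ≤ p ^ l := Nat.le_self_pow hl p
  obtain rfl : p = 3 := by
    have : p ≠ 4 := by rintro rfl; norm_num at hp
    omega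
  have h3 : 3 ^ l = 3 := by
    obtain ⟨m, hm⟩ := dvd_pow_self 3 hl
    omega
  rw [h3] at h1 hw
  exact ex_three h5 hu1 hw1 h1 (hw ▸ pow_orderOf_eq_one w)

end final

/-- Let n ≥ 5, p ≥ 3 a prime, and u, w non-identity elements of p-power order in the alternating group A_n. Then there is g ∈ A_n such that u·(g w g⁻¹) does not have p-power order and ⟨u, g w g⁻¹⟩ is not solvable. -/
theorem result (n : ℕ) (hn : 5 ≤ n) (p : ℕ) (hp : p.Prime) (hp3 : 3 ≤ p) (u w : alternatingGroup (Fin n)) (hu : u ≠ 1) (hw : w ≠ 1)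
    (hu' : ∃ k : ℕ, orderOf u = p ^ k) (hw' : ∃ k : ℕ, orderOf w = p ^ k) :
    ∃ g : alternatingGroup (Fin n), (¬ ∃ k : ℕ, orderOf (u * (g * w * g⁻¹)) = p ^ k) ∧
      ¬ Group.IsSolvable ↥(Subgroup.closure ({u, g * w * g⁻¹} : Set (alternatingGroup (Fin n)))) := by
  obtain ⟨k, hk⟩ := hu'
  obtain ⟨l, hl⟩ := hw'
  have hu1 : (u : Perm (Fin n)) ≠ 1 := fun e => hu (Subtype.ext e)
  have hw1 : (w : Perm (Fin n)) ≠ 1 := fun e => hw (Subtype.ext e)
  rw [← Subgroup.orderOf_coe] at hk hl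
  have h5 : 5 ≤ Fintype.card (Fin n) := by simpa using hn
  obtain ⟨g, hg, h1, h2⟩ : Ex p (u : Perm (Fin n)) w := (le_total k l).elim
    (ex_le h5 hp hp3 hu1 hw1 hk hl) fun h => (ex_le h5 hp hp3 hw1 hu1 hl hk h).symm
  let g' : alternatingGroup (Fin n) := ⟨g, hg⟩
  refine ⟨g', fun ⟨m, hm⟩ => h1 ⟨m, ?_⟩, fun hs => h2 ?_⟩
  · have := pow_orderOf_eq_one (u * (g' * w * g'⁻¹))
    rw [hm] at this
    exact congrArg Subtype.val this
  · have := Group.isSolvable_of_surjective ((alternatingGroup (Fin n)).subtype.subgroupMap_surjective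
      (closure ({u, g' * w * g'⁻¹} : Set (alternatingGroup (Fin n)))))
    rw [MonoidHom.map_closure, Set.image_pair] at this
    exact this

end Cfsg.Agent.S2276
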