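import Mathlib
import Cfsg.Statements.S2277
import Cfsg.Agent.Lib.Coprime.Abelian
-- import your own Cfsg.Agent.* helpers here

set_option autoImplicit false
open Cfsg

namespace Cfsg.Agent.S2277

open Subgroup CfsgLib.Coprime in
theorem key {U : Type*} [Group U] [Finite U] {p : ℕ} [Fact p.Prime] (hp : 3 ≤ p)
    (hU : (Nat.card U).Coprime p) {Q : Subgroup (MulAut U)} (hQ : IsPGroup p Q) {M : Subgroup U}
    (hM : ∀ u ∈ M, ∀ g ∈ Q, g u = u) (hQ1 : Q ≠ ⊥) (hM' : M ≠ ⊤)
    (hmin : ∀ W : Subgroup U, W ≠ ⊤ → (∀ g ∈ Q, ∀ u ∈ W, g u ∈ W) → W ≤ M) {C : Set (MulAut U)}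
    (hC : closure C = Q) : ∃ c ∈ C, M.index < (c.toMonoidHom.eqLocus (MonoidHom.id U)).index ^ 2 := by
  set fx := fun c : MulAut U => c.toMonoidHom.eqLocus (MonoidHom.id U)
  have hfx : ∀ (c : MulAut U) u, u ∈ fx c ↔ c u = u := fun _ _ => Iff.rfl
  have hz : ∀ z : MulAut U, z ≠ 1 → (∀ g ∈ Q, g * z = z * g) → fx z ≤ M := fun z h1 h2 =>
    hmin _ (fun h => h1 (MulEquiv.ext fun u => (hfx z u).1 (h ▸ mem_top u))) fun g hg u hu => by
      rw [hfx, ← MulAut.mul_apply, ← h2 g hg, MulAut.mul_apply, (hfx _ _).1 hu]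
  have h1 : 1 < M.index := one_lt_index_of_ne_top hM'
  have := hQ.isNilpotent
  by_cases h : Subgroup.upperCentralSeries Q 2 ≤ Subgroup.upperCentralSeries Q 1
  · have h2 := Subgroup.upperCentralSeries.eq_top (G := Q) one_lt_two.ne
      (le_antisymm (Subgroup.upperCentralSeries_mono _ one_le_two) h)
    obtain ⟨c, hc, hc1⟩ : ∃ c ∈ C, c ≠ 1 := by
      by_contra! h
      exact hQ1 (hC ▸ closure_eq_bot_iff.2 h)
    have := index_antitone (hz c hc1 fun g hg => congrArg Subtype.val (mem_center_iff.1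
      (Subgroup.upperCentralSeries_one Q ▸ h2 ▸ mem_top (⟨c, hC ▸ subset_closure hc⟩ : Q)) ⟨g, hg⟩))
    exact ⟨c, hc, by change _ < (fx c).index ^ 2; nlinarith⟩
  obtain ⟨a, ha, ha'⟩ := SetLike.not_le_iff_exists.1 h
  rw [Subgroup.upperCentralSeries_one] at ha'
  obtain ⟨c, hc, hac⟩ : ∃ c ∈ C, c * a.1 ≠ a.1 * c := by
    by_contra! h
    exact ha' (mem_center_iff.2 fun g => Subtype.ext (mem_centralizer_singleton_iff.1
      ((closure_le (centralizer {a.1})).2 (fun c hc => mem_centralizer_singleton_iff.2 (h c hc))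
        (hC.ge g.2))))
  have hcQ : c ∈ Q := hC ▸ subset_closure hc
  obtain ⟨z, hzc⟩ : ∃ z, a.1 * c * a.1⁻¹ = z * c := ⟨_, (inv_mul_cancel_right _ _).symm⟩
  have hzQ : z ∈ Q := by
    rw [← mul_inv_eq_iff_eq_mul] at hzc
    exact hzc ▸ mul_mem (mul_mem (mul_mem a.2 hcQ) (inv_mem a.2)) (inv_mem hcQ)
  have h3 : ∀ g ∈ Q, g * z = z * g := fun g hg => by
    rw [← mul_inv_eq_iff_eq_mul] at hzc
    exact hzc ▸ congrArg Subtype.val (mem_center_iff.1 (Subgroup.upperCentralSeries_one Q ▸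
      Subgroup.mem_upperCentralSeries_succ_iff.1 ha ⟨c, hcQ⟩) ⟨g, hg⟩)
  have h4 : z ≠ 1 := by
    rintro rfl
    exact hac (by rw [← one_mul (c * _), ← mul_assoc, ← hzc, inv_mul_cancel_right])
  have h5 : z * z ≠ 1 := fun h => by
    obtain ⟨k, hk⟩ := hQ ⟨z, hzQ⟩
    have h2 := Nat.dvd_gcd (orderOf_dvd_of_pow_eq_one ((sq z).trans h))
      (orderOf_dvd_of_pow_eq_one (congrArg Subtype.val hk))
    rw [Nat.Coprime.pow_right k ((Nat.coprime_primes Nat.prime_two Fact.out).2 (by omega))] at h2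
    exact h4 (orderOf_eq_one_iff.1 (Nat.dvd_one.1 h2))
  have h6 : ∀ σ : MulAut U, (fx (a.1 * σ * a.1⁻¹)).index = (fx σ).index := fun σ => by
    rw [← index_comap_of_surjective _ (f := a.1.toMonoidHom) a.1.surjective]
    congr 1
    ext u
    simp [hfx]
  have h7 := h6 c
  have h8 := h6 (z * c)
  rw [← mul_assoc, h3 _ a.2, mul_assoc z, mul_assoc z, hzc] at h8
  rw [hzc] at h7
  refine ⟨c, hc, lt_of_not_ge fun (h9 : (fx c).index ^ 2 ≤ _) => ?_⟩
  have h10 : (fx (z * c)).relIndex ⊤ ≤ (fx (z * c)).relIndex (fx c) := by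
    have := index_antitone (show fx (z * c) ⊓ fx c ≤ M from fun u hu => hz z h4 h3 (by
      rw [hfx, ← (hfx _ _).1 hu.2, ← MulAut.mul_apply, (hfx _ _).1 hu.1, (hfx _ _).1 hu.2]))
    rw [← relIndex_mul_index inf_le_right, inf_relIndex_right] at this
    rw [relIndex_top_right, h7]
    exact Nat.le_of_mul_le_mul_right ((sq _).ge.trans (h9.trans this))
      (Nat.pos_of_ne_zero index_ne_zero_of_finite)
  have h11 : fx (z * (z * c)) ≤ M := fun k hk => by
    obtain ⟨x, hx, hy⟩ := exists_mul_of_relIndex_eq le_top h10 (mem_top k)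
    have e1 : ∀ σ : MulAut U, c * σ = σ * c → ∀ y ∈ fx σ, y⁻¹ * c y ∈ fx σ := fun σ h y hy =>
      mul_mem (inv_mem hy) (by rw [hfx, ← MulAut.mul_apply, ← h, MulAut.mul_apply, (hfx _ _).1 hy])
    have e2 := e1 _ (by rw [← mul_assoc, h3 c hcQ]) _ hy
    have e3 := e1 _ (by rw [← mul_assoc, h3 c hcQ, mul_assoc, ← mul_assoc c, h3 c hcQ]; simp [mul_assoc]) _ hk
    rw [map_mul, map_inv, (hfx _ _).1 hx, mul_inv_rev, inv_inv, mul_assoc, mul_inv_cancel_left] at e2
    have e4 := hM _ (hz z h4 h3 (((congrArg z ((hfx _ _).1 e2)).symm.trans ((hfx _ _).1 e3)))) c hcQ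
    have e5 : ∀ n : ℕ, (c ^ n) k = k * (k⁻¹ * c k) ^ n := fun n => by
      induction n with
      | zero => simp
      | succ n ih => rw [pow_succ', MulAut.mul_apply, ih, map_mul, map_pow, e4, pow_succ', ← mul_assoc,
          mul_inv_cancel_left]
    obtain ⟨j, hj⟩ := hQ ⟨c, hcQ⟩
    have e6 := e5 (p ^ j)
    rw [show c ^ p ^ j = 1 from congrArg Subtype.val hj, MulAut.one_apply, left_eq_mul] at e6
    have e7 := Nat.dvd_gcd (orderOf_dvd_natCard _) (orderOf_dvd_of_pow_eq_one e6)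
    rw [hU.pow_right j, Nat.dvd_one, orderOf_eq_one_iff, inv_mul_eq_one] at e7
    refine hz _ h5 (fun g hg => by rw [← mul_assoc, h3 g hg, mul_assoc, h3 g hg, mul_assoc]) ?_
    rw [hfx, e7, ← MulAut.mul_apply, mul_assoc, ← e7]
    exact hk
  have := index_antitone h11
  nlinarith

/-- Let p ≥ 3 be prime and G a finite group with a Sylow p-subgroup P and a normal p-complement N (N normal, of order prime to p, with NP = G). Suppose P is generated by a subset C and also by a subset D, and that ⟨x c x⁻¹, d⟩ is a p-group for all x ∈ N, c ∈ C, d ∈ D. Then P centralizes N, so that G = N × P. -/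
theorem result {G : Type*} [Group G] [Finite G] (p : ℕ) [Fact p.Prime] (hp3 : 3 ≤ p) (P : Sylow p G)
    (N : Subgroup G) [N.Normal] (hN : (Nat.card N).Coprime p) (hNP : N ⊔ (P : Subgroup G) = ⊤)
    (C D : Set G) (hC : Subgroup.closure C = (P : Subgroup G)) (hD : Subgroup.closure D = (P : Subgroup G))
    (h : ∀ x ∈ N, ∀ c ∈ C, ∀ d ∈ D, IsPGroup p ↥(Subgroup.closure ({x * c * x⁻¹, d} : Set G))) :
    ⁅(P : Subgroup G), N⁆ = ⊥ := by
  open Subgroup CfsgLib.Coprime in
  rw [commutator_eq_bot_iff_le_centralizer]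
  suffices ∀ n, ∀ U ≤ N, Nat.card U = n → P.1 ≤ normalizer (U : Set G) → P.1 ≤ centralizer (U : Set G) from
    this _ N le_rfl rfl (le_normalizer_of_normal)
  intro n
  induction n using Nat.strong_induction_on with | _ n ih => ?_
  rintro U hUN rfl hPU
  by_contra hne
  have hU : (Nat.card U).Coprime p := hN.coprime_dvd_left (card_dvd_of_le hUN)
  have hcop : ∀ Q : Subgroup G, IsPGroup p Q → (Nat.card Q).Coprime (Nat.card U) := fun Q hQ =>
    (coprime_card_of_isPGroup hQ hU).symm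
  let φ : P.1 →* MulAut U := U.normalizerMonoidHom.comp (inclusion hPU)
  have hφ : ∀ (g : P.1) (u : U), (φ g u : G) = g * u * g⁻¹ := fun _ _ => rfl
  have hk : ∀ C : Set G, closure C = P → ∃ c ∈ C, ((centralizer (P : Set G)).subgroupOf U).index <
      ((centralizer {c}).subgroupOf U).index ^ 2 := fun C hC => by
    obtain ⟨_, ⟨c, hc, rfl⟩, h⟩ := key (Q := φ.range) (M := (centralizer (P : Set G)).subgroupOf U)
      (C := φ '' (Subtype.val ⁻¹' C)) hp3 hU
      (P.isPGroup'.of_surjective _ φ.rangeRestrict_surjective) (by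
        rintro u hu _ ⟨g, rfl⟩
        exact Subtype.ext ((hφ g u).trans (mul_inv_eq_of_eq_mul (hu g g.2))))
      (fun h => hne fun g hg u hu => by
        have := hφ ⟨g, hg⟩ ⟨u, hu⟩
        rw [mem_bot.1 (h ▸ φ.mem_range.2 ⟨_, rfl⟩ : φ ⟨g, hg⟩ ∈ (⊥ : Subgroup (MulAut U)))] at this
        exact eq_mul_inv_iff_mul_eq.1 this)
      (fun h => hne (le_centralizer_iff.1 (subgroupOf_eq_top.1 h)))
      (fun W hW h => map_le_iff_le_comap.1 (le_centralizer_iff.1 (ih _ (by
        rw [card_map_of_injective U.subtype_injective]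
        exact (card_le_card_group W).lt_of_ne fun h => hW (eq_top_of_card_eq W h)) _
        ((map_subtype_le W).trans hUN) rfl (le_normalizer_iff.2 (by
          rintro g hg _ ⟨u, hu, rfl⟩
          exact ⟨_, h _ ⟨⟨g, hg⟩, rfl⟩ u hu, rfl⟩)))))
      (by rw [← MonoidHom.map_closure, MonoidHom.range_eq_map]
          congr 1
          have := closure_closure_coe_preimage (k := C)
          rwa [hC] at this)
    refine ⟨c, hc, h.trans_eq ?_⟩
    congr 2
    ext u
    exact (Subtype.ext_iff.trans mul_inv_eq_iff_eq_mul).trans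
      (eq_comm.trans (mem_centralizer_singleton_iff (k := (u : G))).symm)
  obtain ⟨c, hc, h1⟩ := hk C hC
  obtain ⟨d, hd, h2⟩ := hk D hD
  have hcP : c ∈ P.1 := hC ▸ subset_closure hc
  have hdP : d ∈ P.1 := hD ▸ subset_closure hd
  have h3 : ∀ x ∈ U, ∃ k ∈ U, k ∈ centralizer {d} ∧ k * x ∈ centralizer {c} := fun x hx => by
    have hle : closure {x * c * x⁻¹, d} ≤ U ⊔ P.1 := (closure_le _).2 (Set.pair_subset
      (mul_mem (mul_mem (mem_sup_left hx) (mem_sup_right hcP)) (inv_mem (mem_sup_left hx)))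
      (mem_sup_right hdP))
    obtain ⟨k, hk, h⟩ := exists_conj_mem_of_subset_mul (S := P.1)
      (hle.trans (sup_le le_normalizer hPU)) (hcop _ (h x (hUN hx) c hc d hd))
      (.inl (isSolvable_of_isPGroup (h x (hUN hx) c hc d hd))) fun a ha => by
        obtain ⟨k, hk, s, hs, rfl⟩ := (mem_sup_iff_of_le_normalizer hPU).1 (hle ha)
        exact ⟨k, hk, s, hs, rfl⟩
    have e : ∀ y ∈ U, ∀ g ∈ P.1, y * g * y⁻¹ ∈ P.1 → y ∈ centralizer {g} := fun y hy g hg h =>
      mem_centralizer_singleton_iff.2 (mul_inv_eq_iff_eq_mul.1 (mul_inv_eq_one.1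
        (eq_one_of_mem_of_coprime (hcop _ P.isPGroup') (mul_mem h (inv_mem hg)) (by
          simpa [mul_assoc] using mul_mem hy (conj_mem_of_le_normalizer hPU hg (inv_mem hy))))))
    exact ⟨k, hk, e k hk d hdP (h d (subset_closure (by simp))), e _ (mul_mem hk hx) c hcP (by
      simpa [mul_assoc] using h _ (subset_closure (Set.mem_insert _ _)))⟩
  have h4 : (centralizer {c}).relIndex U ≤ (centralizer {c}).relIndex (U ⊓ centralizer {d}) :=
    Nat.card_le_card_of_surjective (quotientSubgroupOfEmbeddingOfLE _ inf_le_left) fun x => by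
      obtain ⟨x, rfl⟩ := QuotientGroup.mk_surjective x
      obtain ⟨k, hk, h1, h2⟩ := h3 x x.2
      exact ⟨QuotientGroup.mk ⟨k⁻¹, inv_mem ⟨hk, h1⟩⟩, QuotientGroup.eq.2 (by simpa [mem_subgroupOf])⟩
  have h5 := relIndex_inf_mul_relIndex (centralizer {c}) (centralizer {d}) U
  have h6 : (centralizer {c} ⊓ centralizer {d}).relIndex U ≤ (centralizer (P : Set G)).relIndex U :=
    relIndex_le_of_le_left (le_inf (centralizer_le (Set.singleton_subset_iff.2 hcP))
      (centralizer_le (Set.singleton_subset_iff.2 hdP))) index_ne_zero_of_finite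
  rw [inf_comm] at h4
  have h7 := (Nat.mul_le_mul_right _ h4).trans (h5.le.trans h6)
  have h8 := Nat.mul_lt_mul'' h1 h2
  rw [← mul_pow, sq] at h8
  exact h8.not_ge (Nat.mul_le_mul h7 h7)

end Cfsg.Agent.S2277
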