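import Cfsg.Statements.S2339
import Cfsg.Agent.Lib.MinDeg.Tab
import Cfsg.Agent.Lib.RGD.Simple

set_option autoImplicit false
open Cfsg

namespace Cfsg.Agent.S2339

/-- heights -/
def tH : ℕ := 0x81807f7e7d7c7b7b7a79787776757a79787776757477767574737574737273727171706f74737271727170706f6e71706f6f6e6d6e6d6c6b706f6e6e6d6c6d6c6b6a6c6b6a69686b6a69686766656f6e6d6d6c6b6c6b6a696b6a6968676a69686766656a696867666569686766656867666567666566656563636263626163626160636261605f636261605f5e636261605f5e61605f5e5d5f5e5d5c5d5c5b5b5a59636261605f5e5d605f5e5d5c5e5d5c5b5c5b5a5a59585d5c5b5a5b5a595958575a59585857565756555459585757565556555453555453525154535251504f4e535251504f4e4d4d4c4b4a494847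

/-- witnesses -/
def tW : ℕ := 0xa17b74716d6862626d717400a24d4d4d4d4d004d68686800686d6d006d71007100748d626200626200620062626d006d006d6d0071717468006800686800686868006d6d6d7100626262626d684d004d004d4d004d4d4d004d4d4d4d00686868686d004d4d4d4d4d0062626262006d6d6d0071710074000000000000000000000000000000000000000000000000000000000000000000000000000000000000000000000000000000000000000000000000000000000000000000000000000000000000000000000000000000000000000000000000000000000000000000000000000000000000000000000000000000000000000000000000000000000000e2ecedecebeaeae9e7e6e500dbe9e7e6e5e400e2dfdedd00dbd9d800d6d400d200cfc2d5d400d2d100cf00cdccc700c500c3c200bdbcb9c100bf00bdbc00bab9b800b0afaeaa00acabaaa9a4a3b700b500b3b200b0afae00acabaaa900969594938e00a7a6a5a4a30091908f8e0085848300807f007c00000000000000000000000000000000000000000000000000000000000000000000000000000000000000000000000000000000000000000000000000000000000000000000000000000000000000000000000000000000000000000000000000000000000000000000000000000000000000000000000000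

open CfsgLib.MinDeg CfsgLib.Weyl CfsgLib.RGD CfsgLib.Twist CfsgLib.ChevAut CfsgLib.Chev Cfsg.Lie in
theorem aux {F : Type*} [Field F] [Fintype F] (k : ℕ) (ρ : Representation ℂ (chevE8.group F) (Fin k → ℂ))
    (hρ : ρ.IsIrreducible) (hk : 2 ≤ k) : ev (Fintype.card F) [0, 1, 0, 0, 0, 0, 0, 1, 0, 0, 0, 1, 0, 1, 0, 0, 0, 1, 0, 1, 0, 0, 0, 1, 0, 0, 0, 0, 0, 1] ≤ k := by
  have hF := fit_id (h := rtOKE8) (F := F) (H := tH) tablesOKE8 (by decide +kernel)
  have := isSimpleGroup_E8 (F := F)
  exact hF.final (hF.lt (φ := RingHom.id F) (k := 1) (isTw_group rtOKE8) (hF.laced (by decide +kernel)) (fun _ => rfl)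
    (Or.inl rfl) (fun t => (FiniteField.pow_card t).symm) (by simp) (by decide +kernel))
    (hF.top (θ := ⟨239, by decide⟩) (i₀ := ⟨7, by decide⟩) (by decide +kernel)) (hF.down (by decide +kernel))
    (hF.bas tW (by decide +kernel)) ([6, 5, 5, 4, 3, 2, 1, 0].getD · 0) (by decide +kernel) (j₀ := ⟨6, by decide⟩) (n := 29) (r := 8)
    (C := 512) (by decide +kernel) ρ hρ hk

/-- For the Chevalley group of type E₈ over a finite field with q elements, every irreducible complex representation of degree at least 2 has degree at least q(q¹² + 1)(q¹⁰ + 1)(q⁶ + 1). -/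
theorem result {F : Type*} [Field F] [Fintype F] (k : ℕ) (ρ : Representation ℂ (Cfsg.Lie.chevE8.group F) (Fin k → ℂ)) (hρ : ρ.IsIrreducible) (hk : 2 ≤ k) :
    Fintype.card F * (Fintype.card F ^ 12 + 1) * (Fintype.card F ^ 10 + 1) * (Fintype.card F ^ 6 + 1) ≤ k := by
  have := aux k ρ hρ hk
  simp only [CfsgLib.MinDeg.ev] at this
  zify
  linarith

end Cfsg.Agent.S2339
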