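import Cfsg.Statements.S2340
import Cfsg.Agent.Lib.MinDeg.Tab
import Cfsg.Agent.Lib.RGD.Simple

set_option autoImplicit false
open Cfsg

namespace Cfsg.Agent.S2340

/-- heights -/
def tH : ℕ := 0x6f6e6d6c6b6c6b6a6a696869686766656b6a696968676867666568676665676665666565636362636261636261606362616061605f5f5e5d636261605f605f5e5e5d5c5d5c5b5a59

/-- witnesses -/
def tW : ℕ := 0x352522231d1d1d0000002423222a1d0f0f0f000000000000000f0f0f0f1d1d1d24232200000000000000000000000000000000000000000000000000000000000000000000000000000000000000000000000000000000000000000000000000000000000000000000000000000000000000000000000000000000000000000000000000000000000000000000000000000000000000000000000000000000000000000000000000000000000000000000000000000000000000000000000000000000000000000000000000000000000000000000000000000000000000000000000000000000000000000000000000000000000000000000000000000000003c4445444544430000003b3c3b3839424140000000000000003c3b3a392d2c2b252626000000000000000000000000000000000000000000000000000000000000000000000000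

open CfsgLib.MinDeg CfsgLib.Weyl CfsgLib.RGD CfsgLib.Twist CfsgLib.ChevAut CfsgLib.Chev Cfsg.Lie in
theorem aux {F : Type*} [Field F] [Fintype F] (k : ℕ) (ρ : Representation ℂ (chevE6.group F) (Fin k → ℂ))
    (hρ : ρ.IsIrreducible) (hk : 2 ≤ k) : ev (Fintype.card F) [0, 1, 0, 0, 1, 1, 0, 1, 1, 0, 0, 1] ≤ k := by
  have hF := fit_id (h := rtOKE6) (F := F) (H := tH) tablesOKE6 (by decide +kernel)
  have := isSimpleGroup_E6 (F := F)
  exact hF.final (hF.lt (φ := RingHom.id F) (k := 1) (isTw_group rtOKE6) (hF.laced (by decide +kernel)) (fun _ => rfl)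
    (Or.inl rfl) (fun t => (FiniteField.pow_card t).symm) (by simp) (by decide +kernel))
    (hF.top (θ := ⟨71, by decide⟩) (i₀ := ⟨1, by decide⟩) (by decide +kernel)) (hF.down (by decide +kernel))
    (hF.bas tW (by decide +kernel)) ([3, 0, 2, 1, 2, 3].getD · 0) (by decide +kernel) (j₀ := ⟨3, by decide⟩) (n := 11) (r := 6)
    (C := 180) (by decide +kernel) ρ hρ hk

/-- For the Chevalley group of type E₆ over a finite field with q elements (the group generated by the root elements), every irreducible complex representation of degree at least 2 has degree at least q(q⁶ + q³ + 1)(q⁴ + 1). -/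
theorem result {F : Type*} [Field F] [Fintype F] :
    (∀ (k : ℕ) (ρ : Representation ℂ (Cfsg.Lie.chevE6.group F) (Fin k → ℂ)), ρ.IsIrreducible → 2 ≤ k → Fintype.card F * (Fintype.card F ^ 6 + Fintype.card F ^ 3 + 1) * (Fintype.card F ^ 4 + 1) ≤ k) := by
  intro k ρ hρ hk
  have := aux k ρ hρ hk
  simp only [CfsgLib.MinDeg.ev] at this
  zify
  linarith

end Cfsg.Agent.S2340
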