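import Mathlib
import Cfsg.Statements.S2375
import Cfsg.Agent.Lib.Lang.Cyclic

set_option autoImplicit false
open Cfsg

namespace Cfsg.Agent.S2375

open CfsgLib.Chev CfsgLib.Weyl CfsgLib.RGD CfsgLib.Lang CfsgLib.ChevAut Cfsg.Lie Cfsg.Lie.ChevalleyDatum

/-- the action of the Weyl group element on the roots -/
def tW : ℕ := 0xeeebefede8e0ecdeeae1dddbdfdce7e5d9c7c5cbc6e9e4e2e6e3d8d6dad7c3cac4c8c2c9d1cfd5d0bac1bbbfb9c09aa19b9f99a08b888c8acdd4ced2ccd3bdb8bebc9d989e9c8996939795874d94b0b7b1b5afb6a7a4a8a68582868462b3aeb4b2a5837c717d7b6045aca9adaba3918e929079707a776e806f8178757f765f5d615e4c44424643aa8f74727e736c4a3d3b413c8d6b696d6a49474b4839403a3e383f5ba2685a585c596653515752333137321c231d211b22656367644f5650544e552f3630342e351f1a201e262d272b252c181519170c090d0b0629242a28160a08131014120e0511030f0702000401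

/-- the fundamental roots in the cyclic basis -/
def tP : List (List ℤ) := [[1, 1, -1, -1, 0, -1, 0, 2], [-1, 0, 0, 1, 0, 1, -1, 0], [-1, 0, 1, 0, 0, 1, -1, -1], [1, 0, -1, 0, 0, -1, 1, 0], [-1, -1, 1, 0, 1, 1, 0, -1], [2, 1, -1, -1, -2, -1, 1, 2], [-1, -1, 1, 1, 1, 0, -1, -1], [-1, 1, 0, 0, 0, 0, 0, 0]]

/-- regularity certificates -/
def tB0 : List (List ℤ) := [
  [1, 0, 0, 0, 0, 0, 0, 0], [-1, 0, 1, 1, 1, 0, -1, -1], [0, 1, 0, 0, 0, 0, 0, 0], [0, 0, 1, 0, 0, 0, 0, 0],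
  [1, 1, 0, 0, -1, -1, 0, 1], [0, 1, 1, 0, -1, 0, 0, 0], [0, 0, 0, 1, 0, 0, 0, 0], [0, 0, 1, 0, 0, 0, 0, -1],
  [0, 0, 1, 1, 0, -1, 0, 0], [0, 0, 0, 0, 1, 1, 0, -1], [0, 0, 0, 1, 1, 0, -1, -1], [1, 0, 1, 0, 0, -1, 0, 0],
  [1, 1, 0, 0, -1, 0, 0, 1], [0, 0, 1, 1, 0, 0, 0, -1], [0, 0, 0, 1, 1, 0, -1, 0], [1, 1, 0, -1, 0, 0, 0, 0],
  [0, 0, 1, 0, 1, 0, 0, -1], [0, 1, 0, 0, 0, 0, -1, 0], [0, 0, 1, 1, 0, -1, -1, 0], [0, 1, 1, 0, 0, 0, -1, 0],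
  [-1, 1, 1, 1, 0, 0, -1, -1], [0, 0, 0, 0, 1, 0, 0, 0], [0, 1, 0, 1, 0, 0, -1, 0], [1, 1, 0, 0, 0, -1, 0, 1]]

/-- regularity certificates -/
def tB1 : List (List ℤ) := [
  [1, 1, 0, -1, -1, 0, 1, 1], [-1, 0, 1, 1, 1, 0, 0, -1], [-1, 0, 1, 1, 1, 1, -1, -1], [1, 0, 0, 0, 0, 0, 0, 1],
  [0, 0, 0, 0, 0, 1, 0, 0], [-1, 0, 1, 1, 0, 0, 0, 0], [0, 0, 1, 1, 0, 0, -1, -1], [1, 1, 0, 0, 0, 0, 0, 0],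
  [0, 1, 1, 1, 0, -1, -1, 0], [0, 0, 1, 1, 0, 0, 0, 0], [0, 1, 1, 1, 0, 0, -1, 0], [0, 1, 0, 0, 0, 0, 0, 1],
  [1, 1, 0, 0, 0, -1, 0, 0], [0, 0, 1, 1, 1, 0, -1, -1], [1, 0, 0, 0, 0, 0, 1, 0], [0, 1, 1, 0, 0, 0, 0, 0],
  [1, 0, 0, 0, 0, -1, 0, 0], [2, 1, 0, -1, -1, -1, 0, 1], [0, 1, 1, 0, -1, -1, 0, 0], [1, 1, 1, 0, -1, -1, 0, 0],
  [0, 1, 1, 0, 0, -1, -1, 0], [1, 1, 1, 0, 0, -1, 0, 0], [-1, 0, 1, 1, 1, 0, -1, -2], [0, 1, 1, 1, 0, 0, -1, -1]]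

/-- regularity certificates -/
def tB2 : List (List ℤ) := [
  [0, 1, 1, 0, 0, 0, -1, -1], [1, 1, 1, 0, 0, 0, 0, 0], [0, 1, 2, 1, 0, -1, -1, -1], [-1, 0, 1, 1, 1, 1, 0, -1],
  [1, 1, 0, -1, -1, 0, 0, 0], [-1, 0, 1, 1, 0, 0, -1, -1], [1, 1, 0, 0, -1, -1, 0, 0], [1, 1, 1, 0, -1, -1, -1, 0],
  [0, 0, 1, 1, 1, 0, 0, -1], [-1, 0, 0, 1, 1, 1, 0, -1], [0, 0, 0, 1, 1, 0, 0, 0], [0, -1, 0, 1, 1, 0, 0, 0],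
  [-1, -1, 1, 1, 1, 1, 0, -1], [0, 0, 0, 0, 0, 0, 1, 0], [1, 1, 1, 1, 0, -1, -1, 0], [0, 1, 1, 1, 0, -1, -1, -1],
  [0, 1, 1, 1, 0, 0, 0, 0], [1, 0, 0, 0, 0, 0, 1, 1], [0, 0, 0, 1, 1, 1, 0, 0], [0, 1, 2, 2, 1, 0, -1, -1],
  [0, 0, 0, 0, 0, 1, 1, 0], [-1, 0, 0, 1, 0, 1, 0, 0], [1, 2, 2, 1, -1, -2, -2, -1], [1, 1, 1, 0, 0, -1, -1, -1]]

/-- regularity certificates -/
def tB3 : List (List ℤ) := [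
  [0, 0, 1, 1, 0, -1, -1, -1], [1, 2, 2, 1, 0, -1, -1, -1], [0, 0, 1, 1, 1, 1, 1, 0], [0, 0, 1, 0, 0, -1, 0, -1],
  [0, 1, 1, 0, -1, -1, -1, -1], [-1, -1, 0, 1, 1, 1, 1, 0], [1, 1, 1, 0, 0, -1, -1, 0], [1, 1, 0, 0, 0, 0, 0, 1],
  [0, 1, 1, 1, 1, 0, -1, -1], [0, 0, 0, 0, 1, 1, 0, 0], [0, 0, 1, 1, 1, 0, 0, 0], [1, 0, 0, -1, 0, 0, 1, 1],
  [1, 1, 0, 0, 0, -1, -1, 0], [1, 1, 0, 0, -1, -1, -1, 1], [1, 2, 1, 0, -1, -1, -1, 0], [1, 2, 2, 1, 0, -1, -1, 0],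
  [1, 2, 2, 1, 0, -1, -2, -1], [0, 1, 1, 1, 0, -1, -2, -1], [0, 1, 1, 1, 1, 1, 0, 0], [0, 0, 0, 0, 0, 1, 1, 1],
  [0, 1, 1, 0, -1, -1, -1, 0], [1, 0, -1, 0, 0, 0, 1, 1], [-1, 0, 0, 1, 1, 1, 0, 0], [0, 0, -1, 0, 1, 1, 0, 0]]

/-- regularity certificates -/
def tB4 : List (List ℤ) := [
  [0, 0, 0, 0, 0, 0, 0, 1], [0, 0, 0, 1, 1, 1, 1, 1], [-1, -1, 0, 1, 1, 1, 0, 0], [0, 0, 1, 0, 0, 0, -1, -1],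
  [0, 0, 0, 0, 1, 0, -1, -1], [0, 1, 1, 0, 0, -1, -1, -1], [1, 2, 2, 0, -1, -2, -2, -1], [1, 1, 0, -1, -1, -1, 0, 1],
  [0, 1, 0, 0, -1, 0, -1, 0], [1, 1, 1, 1, 1, 0, 0, 0], [1, 2, 2, 1, 0, -2, -2, -1], [0, 0, 0, 0, 1, 1, 1, 0],
  [0, 0, 0, 0, 0, 0, 1, 1], [1, 1, 1, 0, -1, -2, -1, 0], [0, -1, 0, 0, 1, 1, 1, 0], [-1, -1, 0, 1, 2, 2, 1, 0],
  [-1, 0, 0, 0, 1, 1, 0, 0], [0, 0, 0, -1, 0, 1, 1, 0], [1, 1, 0, 0, -1, -1, -1, 0], [0, 1, 0, 0, 0, -1, -1, 0],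
  [1, 2, 1, 0, -1, -2, -2, -1], [1, 1, 1, 0, -1, -2, -2, -1], [0, 0, 1, 0, 0, -1, -1, -1], [0, -1, -1, 0, 1, 2, 2, 1]]

/-- regularity certificates -/
def tB5 : List (List ℤ) := [
  [0, 1, 1, 0, -1, -2, -2, -1], [0, 0, -1, 0, 0, 1, 1, 1], [-1, -1, -1, 0, 1, 2, 2, 1], [-1, -2, -1, 0, 1, 2, 2, 1],
  [0, -1, 0, 0, 0, 1, 1, 0], [-1, -1, 0, 0, 1, 1, 1, 0], [0, 0, 0, 1, 0, -1, -1, 0], [1, 0, 0, 0, -1, -1, 0, 0],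
  [1, 1, 0, -1, -2, -2, -1, 0], [0, 1, 0, 0, -1, -1, -1, 0], [-1, -1, -1, 0, 1, 2, 1, 0], [0, 0, 0, 0, 0, 0, -1, -1],
  [0, 0, 0, 0, -1, -1, -1, 0], [-1, -2, -2, -1, 0, 2, 2, 1], [-1, -1, -1, -1, -1, 0, 0, 0], [0, -1, 0, 0, 1, 0, 1, 0],
  [-1, -1, 0, 1, 1, 1, 0, -1], [-1, -2, -2, 0, 1, 2, 2, 1], [0, -1, -1, 0, 0, 1, 1, 1], [0, 0, 0, 0, -1, 0, 1, 1],
  [0, 0, -1, 0, 0, 0, 1, 1], [1, 1, 0, -1, -1, -1, 0, 0], [0, 0, 0, -1, -1, -1, -1, -1], [0, 0, 0, 0, 0, 0, 0, -1]]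

/-- regularity certificates -/
def tB6 : List (List ℤ) := [
  [0, 0, 1, 0, -1, -1, 0, 0], [1, 0, 0, -1, -1, -1, 0, 0], [-1, 0, 1, 0, 0, 0, -1, -1], [0, -1, -1, 0, 1, 1, 1, 0],
  [0, 0, 0, 0, 0, -1, -1, -1], [0, -1, -1, -1, -1, -1, 0, 0], [0, -1, -1, -1, 0, 1, 2, 1], [-1, -2, -2, -1, 0, 1, 2, 1],
  [-1, -2, -2, -1, 0, 1, 1, 0], [-1, -2, -1, 0, 1, 1, 1, 0], [-1, -1, 0, 0, 1, 1, 1, -1], [-1, -1, 0, 0, 0, 1, 1, 0],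
  [-1, 0, 0, 1, 0, 0, -1, -1], [0, 0, -1, -1, -1, 0, 0, 0], [0, 0, 0, 0, -1, -1, 0, 0], [0, -1, -1, -1, -1, 0, 1, 1],
  [-1, -1, 0, 0, 0, 0, 0, -1], [-1, -1, -1, 0, 0, 1, 1, 0], [1, 1, 0, -1, -1, -1, -1, 0], [0, -1, -1, 0, 1, 1, 1, 1],
  [0, 0, -1, 0, 0, 1, 0, 1], [0, 0, -1, -1, -1, -1, -1, 0], [-1, -2, -2, -1, 0, 1, 1, 1], [0, 0, -1, -1, 0, 1, 1, 1]]

/-- regularity certificates -/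
def tB7 : List (List ℤ) := [
  [-1, -1, -1, 0, 0, 1, 1, 1], [-1, -2, -2, -1, 1, 2, 2, 1], [1, 0, 0, -1, 0, -1, 0, 0], [0, 0, 0, 0, 0, -1, -1, 0],
  [0, -1, -2, -2, -1, 0, 1, 1], [0, 0, 0, -1, -1, -1, 0, 0], [-1, 0, 0, 0, 0, 0, -1, -1], [0, -1, -1, -1, 0, 0, 0, 0],
  [0, -1, -1, -1, 0, 1, 1, 1], [-1, -1, -1, -1, 0, 1, 1, 0], [0, 0, 0, 0, 0, 0, -1, 0], [1, 1, -1, -1, -1, -1, 0, 1],
  [0, 1, 0, -1, -1, 0, 0, 0], [0, 0, 0, -1, -1, 0, 0, 0], [1, 0, 0, -1, -1, -1, 0, 1], [0, 0, -1, -1, -1, 0, 0, 1],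
  [-1, -1, -1, 0, 1, 1, 1, 0], [-1, -1, 0, 0, 1, 1, 0, 0], [1, 0, -1, -1, 0, 0, 1, 1], [-1, -1, 0, 1, 1, 0, 0, 0],
  [1, 0, -1, -1, -1, -1, 0, 1], [0, -1, -2, -1, 0, 1, 1, 1], [-1, -1, -1, 0, 0, 0, 0, 0], [0, -1, -1, 0, 0, 0, 1, 1]]

/-- regularity certificates -/
def tB8 : List (List ℤ) := [
  [0, -1, -1, -1, 0, 0, 1, 1], [1, 0, -1, -1, -1, 0, 1, 2], [-1, -1, -1, 0, 0, 1, 0, 0], [0, -1, -1, 0, 0, 1, 1, 0],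
  [-1, -1, -1, 0, 1, 1, 0, 0], [0, -1, -1, 0, 1, 1, 0, 0], [-2, -1, 0, 1, 1, 1, 0, -1], [-1, 0, 0, 0, 0, 1, 0, 0],
  [0, -1, -1, 0, 0, 0, 0, 0], [-1, 0, 0, 0, 0, 0, -1, 0], [0, 0, -1, -1, -1, 0, 1, 1], [-1, -1, 0, 0, 0, 1, 0, 0],
  [0, -1, 0, 0, 0, 0, 0, -1], [0, -1, -1, -1, 0, 0, 1, 0], [0, 0, -1, -1, 0, 0, 0, 0], [0, -1, -1, -1, 0, 1, 1, 0],
  [-1, -1, 0, 0, 0, 0, 0, 0], [0, 0, -1, -1, 0, 0, 1, 1], [1, 0, -1, -1, 0, 0, 0, 0], [0, 0, 0, 0, 0, -1, 0, 0],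
  [-1, 0, 0, 0, 0, 0, 0, -1], [1, 0, -1, -1, -1, -1, 1, 1], [1, 0, -1, -1, -1, 0, 0, 1], [-1, -1, 0, 1, 1, 0, -1, -1]]

/-- regularity certificates -/
def tB9 : List (List ℤ) := [
  [-1, -1, 0, 0, 0, 1, 0, -1], [0, -1, 0, -1, 0, 0, 1, 0], [0, 0, 0, 0, -1, 0, 0, 0], [1, -1, -1, -1, 0, 0, 1, 1],
  [0, -1, -1, 0, 0, 0, 1, 0], [0, 0, -1, -1, 0, 1, 1, 0], [0, -1, 0, 0, 0, 0, 1, 0], [0, 0, -1, 0, -1, 0, 0, 1],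
  [-1, -1, 0, 1, 0, 0, 0, 0], [0, 0, 0, -1, -1, 0, 1, 0], [0, 0, -1, -1, 0, 0, 0, 1], [-1, -1, 0, 0, 1, 0, 0, -1],
  [-1, 0, -1, 0, 0, 1, 0, 0], [0, 0, 0, -1, -1, 0, 1, 1], [0, 0, 0, 0, -1, -1, 0, 1], [0, 0, -1, -1, 0, 1, 0, 0],
  [0, 0, -1, 0, 0, 0, 0, 1], [0, 0, 0, -1, 0, 0, 0, 0], [0, -1, -1, 0, 1, 0, 0, 0], [-1, -1, 0, 0, 1, 1, 0, -1],
  [0, 0, -1, 0, 0, 0, 0, 0], [0, -1, 0, 0, 0, 0, 0, 0], [1, 0, -1, -1, -1, 0, 1, 1], [-1, 0, 0, 0, 0, 0, 0, 0]]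

/-- regularity certificates -/
def tB : List (List ℤ) := tB0 ++ tB1 ++ tB2 ++ tB3 ++ tB4 ++ tB5 ++ tB6 ++ tB7 ++ tB8 ++ tB9

theorem c0 : wordChk 8 240 tTE8 tW [4, 5, 7, 0, 6, 1, 3, 2] = true := by decide +kernel

theorem c1 : eigChk 8 tRE8 tSE8 tW 7 tP [1, 1, 0, -1, -1, -1, 0, 1, 1] = true := by decide +kernel

theorem c2 : cycChk 8 tRE8 tW 0 7 tP [1, 1, 0, -1, -1, -1, 0, 1, 1] = true := by decide +kernel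

theorem c3 : regChk 8 240 tRE8 tW 0 8 [1] [] tB = true := by decide +kernel

/-- The group E₈(q) contains a cyclic subgroup of order q⁸ + q⁷ − q⁵ − q⁴ − q³ + q + 1 which is its own centralizer. -/
theorem result {F : Type*} [Field F] [Fintype F] (q : ℕ) (hF : Fintype.card F = q) :
    ∃ H : Subgroup ↥(Cfsg.Lie.chevE8.group F), IsCyclic ↥H ∧ Nat.card ↥H = q ^ 8 + q ^ 7 - q ^ 5 - q ^ 4 - q ^ 3 + q + 1 ∧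
      Subgroup.centralizer (H : Set ↥(Cfsg.Lie.chevE8.group F)) = H := by
  have hm : chevE8 ∈ [chevG2, chevB2, chevD4, chevF4, chevE6, chevE7, chevE8] := by simp
  have := good_of_mem hm
  have h := rtOK_of_mem hm
  subst hF
  set q := Fintype.card F
  have hq : 2 ≤ q := Fintype.one_lt_card
  have a1 : q ^ 5 ≤ q ^ 7 := Nat.pow_le_pow_right (by omega) (by omega)
  have a2 : q ^ 4 + q ^ 3 ≤ q ^ 8 := by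
    have := Nat.pow_le_pow_right (n := q) (by omega) (show 4 ≤ 7 by omega)
    have := Nat.pow_le_pow_right (n := q) (by omega) (show 3 ≤ 7 by omega)
    have : q ^ 7 * 2 ≤ q ^ 8 := Nat.mul_le_mul_left _ hq
    omega
  have hN : pv (([1, 1, 0, -1, -1, -1, 0, 1, 1] : List ℤ).getD · 0) (7 + 2) q = (q ^ 8 + q ^ 7 - q ^ 5 - q ^ 4 - q ^ 3 + q + 1 : ℕ) := by
    rw [Nat.cast_add, Nat.cast_add, Nat.cast_sub (by omega), Nat.cast_sub (by omega), Nat.cast_sub (by omega)]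
    simp [pv, Finset.sum_range_succ]; ring
  refine selfcent_one hm h tablesOKE8 rfl hasChainE8 smithE8 (by decide) [4, 5, 7, 0, 6, 1, 3, 2] c0 ⟨0, by decide⟩ c1 c2 (b := 1) c3
    (by decide) _ _ hN (coprime_pv rfl hN) dvd_rfl (coprime_of_primes [2, 3, 5, 7] 14 (fun p hp => ?_) (by decide)) (by omega)
  simp only [List.mem_cons, List.not_mem_nil, or_false] at hp
  rcases hp with rfl | rfl | rfl | rfl <;> exact ⟨by norm_num, not_dvd_pv (by decide) (by decide) hN⟩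

end Cfsg.Agent.S2375
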