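import Mathlib
import Cfsg.Statements.S2378
import Cfsg.Agent.Lib.Lang.Homocyc

set_option autoImplicit false
open Cfsg

namespace Cfsg.Agent.S2378

set_option Elab.async false

open CfsgLib.Chev CfsgLib.Weyl CfsgLib.RGD CfsgLib.Lang CfsgLib.ChevAut Cfsg.Lie Cfsg.Lie.ChevalleyDatum

/-- an element of the Weyl group with a large eigenspace -/
def cG2_1 : ℕ × List ℕ × List ℤ × List ℕ :=
  (1, [],
    [2], [])

/-- an element of the Weyl group with a large eigenspace -/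
def cG2_2 : ℕ × List ℕ × List ℤ × List ℕ :=
  (2, [1, 0, 1, 0, 1, 0],
    [2, -2], [1])

/-- an element of the Weyl group with a large eigenspace -/
def cG2_3 : ℕ × List ℕ × List ℤ × List ℕ :=
  (3, [0, 1, 0, 1],
    [2, -1, -1], [1])

/-- an element of the Weyl group with a large eigenspace -/
def cG2_6 : ℕ × List ℕ × List ℤ × List ℕ :=
  (6, [0, 1],
    [2, 1, -1, -2, -1, 1], [3, 2])

/-- the table of elements -/
def tabG2 : List (ℕ × List ℕ × List ℤ × List ℕ) := [cG2_1, cG2_2, cG2_3, cG2_6]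

theorem okG2 : (tabG2.all fun c => homChk 2 tRG2 tSG2 tTG2 (([2, 6] : List ℕ).filter (c.1 ∣ ·)).length c) = true := by
  decide +kernel

/-- an element of the Weyl group with a large eigenspace -/
def cB2_1 : ℕ × List ℕ × List ℤ × List ℕ :=
  (1, [],
    [2], [])

/-- an element of the Weyl group with a large eigenspace -/
def cB2_2 : ℕ × List ℕ × List ℤ × List ℕ :=
  (2, [1, 0, 1, 0],
    [2, -2], [1])

/-- an element of the Weyl group with a large eigenspace -/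
def cB2_4 : ℕ × List ℕ × List ℤ × List ℕ :=
  (4, [0, 1],
    [2, 0, -2, 0], [2])

/-- the table of elements -/
def tabB2 : List (ℕ × List ℕ × List ℤ × List ℕ) := [cB2_1, cB2_2, cB2_4]

theorem okB2 : (tabB2.all fun c => homChk 2 tRB2 tSB2 tTB2 (([2, 4] : List ℕ).filter (c.1 ∣ ·)).length c) = true := by
  decide +kernel

/-- an element of the Weyl group with a large eigenspace -/
def cD4_1 : ℕ × List ℕ × List ℤ × List ℕ :=
  (1, [],
    [4], [])

/-- an element of the Weyl group with a large eigenspace -/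
def cD4_2 : ℕ × List ℕ × List ℤ × List ℕ :=
  (2, [3, 1, 2, 0, 1, 3, 0, 1, 2, 0, 1, 0],
    [4, -4], [1])

/-- an element of the Weyl group with a large eigenspace -/
def cD4_3 : ℕ × List ℕ × List ℤ × List ℕ :=
  (3, [1, 0],
    [4, 1, 1], [1])

/-- an element of the Weyl group with a large eigenspace -/
def cD4_4 : ℕ × List ℕ × List ℤ × List ℕ :=
  (4, [2, 1, 3, 0, 1, 0],
    [4, 0, -4, 0], [2])

/-- an element of the Weyl group with a large eigenspace -/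
def cD4_6 : ℕ × List ℕ × List ℤ × List ℕ :=
  (6, [3, 0, 1, 2],
    [4, -1, 1, -4, 1, -1], [3, 2])

/-- the table of elements -/
def tabD4 : List (ℕ × List ℕ × List ℤ × List ℕ) := [cD4_1, cD4_2, cD4_3, cD4_4, cD4_6]

theorem okD4 : (tabD4.all fun c => homChk 4 tRD4 tSD4 tTD4 (([2, 4, 4, 6] : List ℕ).filter (c.1 ∣ ·)).length c) = true := by
  decide +kernel

/-- an element of the Weyl group with a large eigenspace -/
def cF4_1 : ℕ × List ℕ × List ℤ × List ℕ :=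
  (1, [],
    [4], [])

/-- an element of the Weyl group with a large eigenspace -/
def cF4_2 : ℕ × List ℕ × List ℤ × List ℕ :=
  (2, [3, 2, 1, 2, 0, 1, 2, 3, 2, 1, 2, 0, 1, 2, 3, 2, 1, 2, 0, 1, 2, 0, 1, 0],
    [4, -4], [1])

/-- an element of the Weyl group with a large eigenspace -/
def cF4_3 : ℕ × List ℕ × List ℤ × List ℕ :=
  (3, [0, 1, 2, 3, 2, 1, 2, 0, 1, 2, 3, 1, 2, 0, 1, 2],
    [4, -2, -2], [1])

/-- an element of the Weyl group with a large eigenspace -/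
def cF4_4 : ℕ × List ℕ × List ℤ × List ℕ :=
  (4, [3, 1, 2, 0, 1, 2, 3, 1, 2, 0, 1, 2],
    [4, 0, -4, 0], [2])

/-- an element of the Weyl group with a large eigenspace -/
def cF4_6 : ℕ × List ℕ × List ℤ × List ℕ :=
  (6, [0, 1, 2, 3, 2, 0, 1, 2],
    [4, 2, -2, -4, -2, 2], [3, 2])

/-- an element of the Weyl group with a large eigenspace -/
def cF4_8 : ℕ × List ℕ × List ℤ × List ℕ :=
  (8, [2, 3, 0, 1, 2, 1],
    [4, 0, 0, 0, -4, 0, 0, 0], [4])

/-- an element of the Weyl group with a large eigenspace -/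
def cF4_12 : ℕ × List ℕ × List ℤ × List ℕ :=
  (12, [3, 0, 1, 2],
    [4, 0, 2, 0, -2, 0, -4, 0, -2, 0, 2, 0], [6, 4])

/-- the table of elements -/
def tabF4 : List (ℕ × List ℕ × List ℤ × List ℕ) := [cF4_1, cF4_2, cF4_3, cF4_4, cF4_6, cF4_8, cF4_12]

theorem okF4 : (tabF4.all fun c => homChk 4 tRF4 tSF4 tTF4 (([2, 6, 8, 12] : List ℕ).filter (c.1 ∣ ·)).length c) = true := by
  decide +kernel

/-- an element of the Weyl group with a large eigenspace -/
def cE6_1 : ℕ × List ℕ × List ℤ × List ℕ :=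
  (1, [],
    [6], [])

/-- an element of the Weyl group with a large eigenspace -/
def cE6_2 : ℕ × List ℕ × List ℤ × List ℕ :=
  (2, [4, 3, 2, 1, 3, 4, 3, 2, 1, 3, 2, 1],
    [6, -2], [1])

/-- an element of the Weyl group with a large eigenspace -/
def cE6_3 : ℕ × List ℕ × List ℤ × List ℕ :=
  (3, [4, 5, 1, 3, 4, 2, 3, 0, 2, 1, 3, 4, 5, 3, 2, 1, 3, 4, 3, 0, 2, 1, 3, 0],
    [6, -3, -3], [1])

/-- an element of the Weyl group with a large eigenspace -/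
def cE6_4 : ℕ × List ℕ × List ℤ × List ℕ :=
  (4, [4, 3, 2, 1, 3, 1],
    [6, 2, -2, 2], [2])

/-- an element of the Weyl group with a large eigenspace -/
def cE6_5 : ℕ × List ℕ × List ℤ × List ℕ :=
  (5, [5, 3, 4, 2],
    [6, 1, 1, 1, 1], [1])

/-- an element of the Weyl group with a large eigenspace -/
def cE6_6 : ℕ × List ℕ × List ℤ × List ℕ :=
  (6, [2, 1, 3, 4, 5, 3, 4, 0, 2, 1, 3, 0],
    [6, 1, -3, -2, -3, 1], [3, 2])

/-- an element of the Weyl group with a large eigenspace -/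
def cE6_8 : ℕ × List ℕ × List ℤ × List ℕ :=
  (8, [3, 4, 0, 2, 1],
    [6, 0, 2, 0, -2, 0, 2, 0], [4])

/-- an element of the Weyl group with a large eigenspace -/
def cE6_9 : ℕ × List ℕ × List ℤ × List ℕ :=
  (9, [5, 3, 0, 2, 1, 3, 4, 1],
    [6, 0, 0, -3, 0, 0, -3, 0, 0], [3])

/-- an element of the Weyl group with a large eigenspace -/
def cE6_12 : ℕ × List ℕ × List ℤ × List ℕ :=
  (12, [4, 5, 2, 1, 3, 0],
    [6, -1, 1, 2, -3, -1, -2, -1, -3, 2, 1, -1], [6, 4])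

/-- the table of elements -/
def tabE6 : List (ℕ × List ℕ × List ℤ × List ℕ) := [cE6_1, cE6_2, cE6_3, cE6_4, cE6_5, cE6_6, cE6_8, cE6_9, cE6_12]

theorem okE6 : (tabE6.all fun c => homChk 6 tRE6 tSE6 tTE6 (([2, 5, 6, 8, 9, 12] : List ℕ).filter (c.1 ∣ ·)).length c) = true := by
  decide +kernel

/-- an element of the Weyl group with a large eigenspace -/
def cE7_1 : ℕ × List ℕ × List ℤ × List ℕ :=
  (1, [],
    [7], [])

/-- an element of the Weyl group with a large eigenspace -/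
def cE7_2 : ℕ × List ℕ × List ℤ × List ℕ :=
  (2, [6, 5, 4, 3, 2, 1, 3, 4, 5, 6, 0, 2, 3, 4, 5, 1, 3, 4, 2, 3, 0, 2, 1, 3, 4, 5, 6, 0, 2, 3, 4, 5, 1, 3, 4, 2, 3, 0, 2, 1, 3, 4, 5, 1, 3, 4, 2, 3, 0, 2, 1, 3, 4, 2, 3, 0, 2, 1, 3, 0, 2, 1, 0],
    [7, -7], [1])

/-- an element of the Weyl group with a large eigenspace -/
def cE7_3 : ℕ × List ℕ × List ℤ × List ℕ :=
  (3, [5, 3, 4, 2, 3, 0, 2, 1, 3, 4, 5, 3, 4, 2, 3, 0, 2, 1, 3, 4, 2, 3, 1, 0],
    [7, -2, -2], [1])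

/-- an element of the Weyl group with a large eigenspace -/
def cE7_4 : ℕ × List ℕ × List ℤ × List ℕ :=
  (4, [2, 3, 4, 2, 3, 1],
    [7, 3, -1, 3], [2])

/-- an element of the Weyl group with a large eigenspace -/
def cE7_5 : ℕ × List ℕ × List ℤ × List ℕ :=
  (5, [0, 2, 1, 3],
    [7, 2, 2, 2, 2], [1])

/-- an element of the Weyl group with a large eigenspace -/
def cE7_6 : ℕ × List ℕ × List ℤ × List ℕ :=
  (6, [2, 1, 3, 4, 5, 6, 3, 0, 2, 1, 3, 4, 5, 3, 4, 3, 0, 2, 1, 3, 0],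
    [7, 2, -2, -7, -2, 2], [3, 2])

/-- an element of the Weyl group with a large eigenspace -/
def cE7_7 : ℕ × List ℕ × List ℤ × List ℕ :=
  (7, [6, 3, 4, 5, 2, 0],
    [7, 0, 0, 0, 0, 0, 0], [1])

/-- an element of the Weyl group with a large eigenspace -/
def cE7_8 : ℕ × List ℕ × List ℤ × List ℕ :=
  (8, [1, 3, 4, 2, 0],
    [7, 1, 3, 1, -1, 1, 3, 1], [4])

/-- an element of the Weyl group with a large eigenspace -/
def cE7_9 : ℕ × List ℕ × List ℤ × List ℕ :=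
  (9, [5, 3, 4, 0, 2, 3, 2, 1],
    [7, 1, 1, -2, 1, 1, -2, 1, 1], [3])

/-- an element of the Weyl group with a large eigenspace -/
def cE7_10 : ℕ × List ℕ × List ℤ × List ℕ :=
  (10, [6, 4, 5, 2, 1, 3],
    [7, 0, 2, 0, 2, -5, 2, 0, 2, 0], [5, 2])

/-- an element of the Weyl group with a large eigenspace -/
def cE7_12 : ℕ × List ℕ × List ℤ × List ℕ :=
  (12, [5, 2, 3, 4, 1, 0],
    [7, 0, 2, 3, -2, 0, -1, 0, -2, 3, 2, 0], [6, 4])

/-- an element of the Weyl group with a large eigenspace -/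
def cE7_14 : ℕ × List ℕ × List ℤ × List ℕ :=
  (14, [6, 3, 4, 5, 2, 3, 4, 1, 0],
    [7, 0, 0, 0, 0, 0, 0, -7, 0, 0, 0, 0, 0, 0], [7, 2])

/-- an element of the Weyl group with a large eigenspace -/
def cE7_18 : ℕ × List ℕ × List ℤ × List ℕ :=
  (18, [6, 4, 5, 2, 1, 3, 0],
    [7, -1, 1, 2, 1, -1, -2, -1, 1, -7, 1, -1, -2, -1, 1, 2, 1, -1], [9, 6])

/-- the table of elements -/
def tabE7 : List (ℕ × List ℕ × List ℤ × List ℕ) := [cE7_1, cE7_2, cE7_3, cE7_4, cE7_5, cE7_6, cE7_7, cE7_8, cE7_9, cE7_10, cE7_12, cE7_14, cE7_18]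

theorem okE7 : (tabE7.all fun c => homChk 7 tRE7 tSE7 tTE7 (([2, 6, 8, 10, 12, 14, 18] : List ℕ).filter (c.1 ∣ ·)).length c) = true := by
  decide +kernel

/-- an element of the Weyl group with a large eigenspace -/
def cE8_1 : ℕ × List ℕ × List ℤ × List ℕ :=
  (1, [],
    [8], [])

/-- an element of the Weyl group with a large eigenspace -/
def cE8_2 : ℕ × List ℕ × List ℤ × List ℕ :=
  (2, [7, 6, 5, 4, 3, 2, 1, 3, 4, 5, 6, 0, 2, 3, 4, 5, 1, 3, 4, 2, 3, 0, 2, 1, 3, 4, 5, 6, 7, 6, 5, 4, 3, 2, 1, 3, 4, 5, 6, 0, 2, 3, 4, 5, 1, 3, 4, 2, 3, 0, 2, 1, 3, 4, 5, 6, 7, 6, 5, 4, 3, 2, 1, 3, 4, 5, 6, 0, 2, 3, 4, 5, 1, 3, 4, 2, 3, 0, 2, 1, 3, 4, 5, 6, 0, 2, 3, 4, 5, 1, 3, 4, 2, 3, 0, 2, 1, 3, 4, 5, 1, 3, 4, 2, 3, 0, 2, 1, 3, 4, 2, 3, 0, 2, 1, 3, 0, 2, 1, 0],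
    [8, -8], [1])

/-- an element of the Weyl group with a large eigenspace -/
def cE8_3 : ℕ × List ℕ × List ℤ × List ℕ :=
  (3, [6, 3, 4, 5, 1, 3, 4, 2, 3, 0, 2, 1, 3, 4, 5, 6, 7, 6, 5, 4, 3, 2, 1, 3, 4, 5, 6, 0, 2, 3, 4, 5, 1, 3, 4, 2, 3, 0, 2, 1, 3, 4, 5, 6, 7, 2, 3, 4, 5, 1, 3, 4, 2, 3, 0, 2, 1, 3, 4, 5, 6, 3, 4, 5, 1, 3, 4, 2, 3, 0, 2, 1, 3, 4, 5, 2, 3, 4, 0, 2],
    [8, -4, -4], [1])

/-- an element of the Weyl group with a large eigenspace -/
def cE8_4 : ℕ × List ℕ × List ℤ × List ℕ :=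
  (4, [5, 6, 7, 3, 4, 5, 6, 2, 3, 4, 5, 1, 3, 4, 2, 3, 0, 2, 1, 3, 4, 5, 6, 7, 5, 6, 4, 5, 1, 3, 4, 2, 3, 0, 2, 1, 3, 4, 5, 6, 5, 4, 3, 2, 1, 3, 4, 5, 4, 2, 3, 0, 2, 1, 3, 4, 3, 2, 1, 0],
    [8, 0, -8, 0], [2])

/-- an element of the Weyl group with a large eigenspace -/
def cE8_5 : ℕ × List ℕ × List ℤ × List ℕ :=
  (5, [7, 6, 5, 3, 4, 2, 3, 0, 2, 1, 3, 4, 5, 6, 7, 5, 6, 4, 5, 3, 4, 2, 3, 0, 2, 1, 3, 4, 5, 6, 4, 3, 2, 1, 3, 4, 5, 4, 3, 0, 2, 1, 3, 4, 3, 2, 1, 0],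
    [8, -2, -2, -2, -2], [1])

/-- an element of the Weyl group with a large eigenspace -/
def cE8_6 : ℕ × List ℕ × List ℤ × List ℕ :=
  (6, [6, 3, 4, 5, 1, 3, 4, 2, 3, 0, 2, 1, 3, 4, 5, 6, 7, 4, 3, 2, 1, 3, 4, 5, 6, 5, 3, 4, 2, 3, 0, 2, 1, 3, 4, 5, 3, 4, 0, 2],
    [8, 4, -4, -8, -4, 4], [3, 2])

/-- an element of the Weyl group with a large eigenspace -/
def cE8_7 : ℕ × List ℕ × List ℤ × List ℕ :=
  (7, [7, 4, 5, 6, 3, 1],
    [8, 1, 1, 1, 1, 1, 1], [1])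

/-- an element of the Weyl group with a large eigenspace -/
def cE8_8 : ℕ × List ℕ × List ℤ × List ℕ :=
  (8, [1, 3, 4, 2, 3, 0, 2, 1, 3, 4, 5, 6, 7, 2, 1, 3, 4, 5, 6, 4, 3, 0, 2, 1, 3, 4, 5, 4, 0, 2],
    [8, 0, 0, 0, -8, 0, 0, 0], [4])

/-- an element of the Weyl group with a large eigenspace -/
def cE8_9 : ℕ × List ℕ × List ℤ × List ℕ :=
  (9, [2, 3, 4, 5, 1, 3, 1, 0],
    [8, 2, 2, -1, 2, 2, -1, 2, 2], [3])

/-- an element of the Weyl group with a large eigenspace -/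
def cE8_10 : ℕ × List ℕ × List ℤ × List ℕ :=
  (10, [5, 6, 7, 3, 2, 1, 3, 4, 5, 6, 1, 3, 4, 5, 4, 3, 0, 2, 1, 3, 4, 2, 1, 0],
    [8, 2, -2, 2, -2, -8, -2, 2, -2, 2], [5, 2])

/-- an element of the Weyl group with a large eigenspace -/
def cE8_12 : ℕ × List ℕ × List ℤ × List ℕ :=
  (12, [6, 7, 5, 6, 2, 1, 3, 4, 5, 4, 2, 3, 0, 2, 1, 3, 4, 0, 2, 3],
    [8, 0, 4, 0, -4, 0, -8, 0, -4, 0, 4, 0], [6, 4])

/-- an element of the Weyl group with a large eigenspace -/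
def cE8_14 : ℕ × List ℕ × List ℤ × List ℕ :=
  (14, [5, 6, 2, 3, 4, 2, 3, 1, 0],
    [8, 1, 1, 1, 1, 1, 1, -6, 1, 1, 1, 1, 1, 1], [7, 2])

/-- an element of the Weyl group with a large eigenspace -/
def cE8_15 : ℕ × List ℕ × List ℤ × List ℕ :=
  (15, [4, 5, 6, 7, 2, 1, 3, 4, 5, 6, 5, 0, 2, 1, 3, 0],
    [8, 1, 1, -2, 1, -4, -2, 1, 1, -2, -4, 1, -2, 1, 1], [5, 3])

/-- an element of the Weyl group with a large eigenspace -/
def cE8_18 : ℕ × List ℕ × List ℤ × List ℕ :=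
  (18, [2, 3, 4, 5, 6, 1, 0],
    [8, 0, 2, 3, 2, 0, -1, 0, 2, -6, 2, 0, -1, 0, 2, 3, 2, 0], [9, 6])

/-- an element of the Weyl group with a large eigenspace -/
def cE8_20 : ℕ × List ℕ × List ℤ × List ℕ :=
  (20, [7, 5, 6, 3, 4, 5, 2, 1, 3, 4, 1, 0],
    [8, 0, 2, 0, -2, 0, 2, 0, -2, 0, -8, 0, -2, 0, 2, 0, -2, 0, 2, 0], [10, 4])

/-- an element of the Weyl group with a large eigenspace -/
def cE8_24 : ℕ × List ℕ × List ℤ × List ℕ :=
  (24, [6, 7, 3, 0, 2, 1, 3, 4, 5, 0, 2, 1],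
    [8, 0, 0, 0, 4, 0, 0, 0, -4, 0, 0, 0, -8, 0, 0, 0, -4, 0, 0, 0, 4, 0, 0, 0], [12, 8])

/-- an element of the Weyl group with a large eigenspace -/
def cE8_30 : ℕ × List ℕ × List ℤ × List ℕ :=
  (30, [7, 4, 5, 6, 2, 1, 3, 0],
    [8, -1, 1, 2, 1, 4, -2, -1, 1, 2, -4, -1, -2, -1, 1, -8, 1, -1, -2, -1, -4, 2, 1, -1, -2, 4, 1, 2, 1, -1], [15, 10, 6])

/-- the table of elements -/
def tabE8 : List (ℕ × List ℕ × List ℤ × List ℕ) := [cE8_1, cE8_2, cE8_3, cE8_4, cE8_5, cE8_6, cE8_7, cE8_8, cE8_9, cE8_10, cE8_12, cE8_14, cE8_15, cE8_18, cE8_20, cE8_24, cE8_30]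

theorem okE8 : (tabE8.all fun c => homChk 8 tRE8 tSE8 tTE8 (([2, 8, 12, 14, 18, 20, 24, 30] : List ℕ).filter (c.1 ∣ ·)).length c) = true := by
  decide +kernel

/-- Sylow subgroups for primes away from the characteristic and the Weyl group. Let `G` be the Chevalley group of type G₂, B₂, D₄, F₄, E₆, E₇ or E₈ over a field with `q` elements, with the degrees of its Weyl group listed beside the type (their product is the order of the Weyl group), and let `r` be a prime dividing the order of `G`, not dividing `q` and not dividing the order of the Weyl group. Let `d` be the multiplicative order of `q` modulo `r`, `a` the number of degrees divisible by `d`, and `m` the `r`-part of the value at `q` of the `d`-th cyclotomic polynomial. Then every Sylow `r`-subgroup of `G` is homocyclic: a direct product of `a` cyclic groups of order `m` (in particular abelian). -/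
theorem result {F : Type*} [Field F] [Fintype F] {q : ℕ} (hq : Fintype.card F = q)
    (c : Cfsg.Lie.ChevalleyDatum × List ℕ)
    (hc : c ∈ [(Cfsg.Lie.chevG2, [2, 6]), (Cfsg.Lie.chevB2, [2, 4]), (Cfsg.Lie.chevD4, [2, 4, 4, 6]), (Cfsg.Lie.chevF4, [2, 6, 8, 12]),
      (Cfsg.Lie.chevE6, [2, 5, 6, 8, 9, 12]), (Cfsg.Lie.chevE7, [2, 6, 8, 10, 12, 14, 18]), (Cfsg.Lie.chevE8, [2, 8, 12, 14, 18, 20, 24, 30])])
    (r : ℕ) [Fact r.Prime] (hrq : ¬ r ∣ q) (hrW : ¬ r ∣ c.2.prod) (hrG : r ∣ Nat.card ↥(c.1.group F)) (P : Sylow r ↥(c.1.group F)) :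
    Nonempty (↥(P : Subgroup ↥(c.1.group F)) ≃*
      (Fin (c.2.filter (fun e => orderOf (q : ZMod r) ∣ e)).length →
        Multiplicative (ZMod (r ^ padicValNat r ((Polynomial.cyclotomic (orderOf (q : ZMod r)) ℤ).eval (q : ℤ)).natAbs)))) := by
  subst hq
  simp only [List.mem_cons, List.not_mem_nil, or_false] at hc
  have a2 : Nat.gcd 2 (Fintype.card F - 1) ∣ 2 := Nat.gcd_dvd_left _ _
  rcases hc with rfl | rfl | rfl | rfl | rfl | rfl | rfl
  · have := good_of_mem (D := chevG2) (by simp)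
    exact sylow_homocyclic rtOKG2 tablesOKG2 rfl (by simp) hasChainG2 smithG2 (e := 1) (by decide) (by decide)
      (one_dvd _) ((one_mul _).trans (card_diagonalSubgroup_G2 F)) tabG2 okG2 (by decide +kernel) (by decide +kernel) hrq hrW P
  · have := good_of_mem (D := chevB2) (by simp)
    exact sylow_homocyclic rtOKB2 tablesOKB2 rfl (by simp) hasChainB2 smithB2 (e := 2) (by decide) (by decide)
      (a2.trans (by decide)) (card_diagonalSubgroup_B2 F) tabB2 okB2 (by decide +kernel) (by decide +kernel) hrq hrW P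
  · have := good_of_mem (D := chevD4) (by simp)
    exact sylow_homocyclic rtOKD4 tablesOKD4 rfl (by simp) hasChainD4 smithD4 (e := 2) (by decide) (by decide)
      ((pow_dvd_pow_of_dvd a2 2).trans (by decide)) (card_diagonalSubgroup_D4 F) tabD4 okD4 (by decide +kernel) (by decide +kernel) hrq hrW P
  · have := good_of_mem (D := chevF4) (by simp)
    exact sylow_homocyclic rtOKF4 tablesOKF4 rfl (by simp) hasChainF4 smithF4 (e := 1) (by decide) (by decide)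
      (one_dvd _) ((one_mul _).trans (card_diagonalSubgroup_F4 F)) tabF4 okF4 (by decide +kernel) (by decide +kernel) hrq hrW P
  · have := good_of_mem (D := chevE6) (by simp)
    exact sylow_homocyclic rtOKE6 tablesOKE6 rfl (by simp) hasChainE6 smithE6 (e := 3) (by decide) (by decide)
      ((Nat.gcd_dvd_left _ _).trans (by decide)) (card_diagonalSubgroup_E6 F) tabE6 okE6 (by decide +kernel) (by decide +kernel) hrq hrW P
  · have := good_of_mem (D := chevE7) (by simp)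
    exact sylow_homocyclic rtOKE7 tablesOKE7 rfl (by simp) hasChainE7 smithE7 (e := 2) (by decide) (by decide)
      (a2.trans (by decide)) (card_diagonalSubgroup_E7 F) tabE7 okE7 (by decide +kernel) (by decide +kernel) hrq hrW P
  · have := good_of_mem (D := chevE8) (by simp)
    exact sylow_homocyclic rtOKE8 tablesOKE8 rfl (by simp) hasChainE8 smithE8 (e := 1) (by decide) (by decide)
      (one_dvd _) ((one_mul _).trans (card_diagonalSubgroup_E8 F)) tabE8 okE8 (by decide +kernel) (by decide +kernel) hrq hrW P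

end Cfsg.Agent.S2378
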