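import Cfsg.Statements.S2468
import Cfsg.Agent.Lib.Spec.Adj

set_option autoImplicit false
open Cfsg

namespace Cfsg.Agent.S2468

open CfsgLib.Spec


/-- Adjacency of two odd primes in the prime graph of PSL(n,q): let F be a finite field of characteristic p with q elements, n ≥ 2 with PSL(n,F) simple, and let r ≠ s be odd primes different from p dividing the order of PSL(n,F). Let k and l be the multiplicative orders of q modulo r and modulo s, and suppose 2 ≤ k ≤ l. Then PSL(n,F) has NO element of order r·s if and only if k + l > n and k does not divide l. -/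
theorem result {F : Type*} [Field F] [Fintype F] (p : ℕ) [Fact p.Prime] [CharP F p] (n : ℕ) (hn : 2 ≤ n) (hsmall : n = 2 → 4 ≤ Fintype.card F)
    (r s : ℕ) (hr : r.Prime) (hs : s.Prime) (hr2 : r ≠ 2) (hs2 : s ≠ 2) (hrp : r ≠ p) (hsp : s ≠ p) (hrs : r ≠ s)
    (hrG : r ∣ Nat.card (Matrix.ProjectiveSpecialLinearGroup (Fin n) F)) (hsG : s ∣ Nat.card (Matrix.ProjectiveSpecialLinearGroup (Fin n) F))
    (k l : ℕ) (hk : k = orderOf ((Fintype.card F : ℕ) : ZMod r)) (hl : l = orderOf ((Fintype.card F : ℕ) : ZMod s))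
    (h2k : 2 ≤ k) (hkl : k ≤ l) :
    (r * s ∉ Set.range (orderOf : Matrix.ProjectiveSpecialLinearGroup (Fin n) F → ℕ)) ↔ (n < k + l ∧ ¬ k ∣ l) := by
  classical
  have hp : p.Prime := Fact.out
  let K := AlgebraicClosure F
  haveI : CharP K p := charP_of_injective_algebraMap (algebraMap F K).injective p
  have hpq := char_dvd_card F p
  have hq0 : Fintype.card F ≠ 0 := Fintype.card_ne_zero
  have hφ : Function.Injective fun a : K => a ^ ((Fintype.card F : ℕ) : ℤ) := zfrob_injective
  have he : (p : ℤ) ∣ (Fintype.card F : ℕ) := Int.natCast_dvd_natCast.2 hpq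
  have hL := spectrum_psl_eq K p (F := F) n
  have hcr := isCoprime_of_two_le_orderOf hq0 hr (hk ▸ h2k)
  have hcs := isCoprime_of_two_le_orderOf hq0 hs (hl ▸ h2k.trans hkl)
  have hcop : Nat.Coprime r s := (Nat.coprime_primes hr hs).2 hrs
  have hkr := (zmod_orderOf_dvd_iff hq0 r k).1 (hk ▸ dvd_rfl)
  have hls := (zmod_orderOf_dvd_iff hq0 s l).1 (hl ▸ dvd_rfl)
  constructor
  · intro h
    by_contra hcon
    apply h
    by_cases h1 : n < k + l
    · have h2 : k ∣ l := by tauto
      obtain ⟨d, hd0, hdn, hd⟩ := omegaLU_prime hp hφ (hL ▸ mem_spectrum_of_prime_dvd_card hs hsG) hs hsp dvd_rfl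
      have h3 := Nat.le_of_dvd hd0 (hl ▸ (zmod_orderOf_dvd_iff hq0 s d).2 hd)
      obtain ⟨S, e1, e2, e3, e4⟩ := exists_block (K := K) p he hφ (x := r * s) (d := l) (by omega)
        (by
          push_cast
          exact (Nat.isCoprime_iff_coprime.2 hcop).mul_dvd ((zmod_orderOf_dvd_iff hq0 r l).1 (hk ▸ h2)) hls)
        (by push_cast; exact hcr.mul_left hcs)
      obtain ⟨N, hN, -, hN'⟩ := exists_mem_omegaLU_pad (p := p) hφ (n := n) (by omega) e2 e3 (j := 0) (Or.inl rfl)
      exact mem_spectrum_of_dvd (hL ▸ hN) (e4 N hN'.left)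
    · obtain ⟨S, e1, e2, e3, e4⟩ := exists_block (K := K) p he hφ h2k hkr hcr
      obtain ⟨T, f1, f2, f3, f4⟩ := exists_block (K := K) p he hφ (h2k.trans hkl) hls hcs
      obtain ⟨N, hN, -, hN'⟩ := exists_mem_omegaLU_pad (p := p) hφ (n := n) (S := S + T)
        (by rw [Multiset.card_add]; omega) (e2.add f2) (by rw [Multiset.prod_add, e3, f3, one_mul]) (j := 0)
        (Or.inl rfl)
      exact mem_spectrum_of_dvd (hL ▸ hN)
        (hcop.mul_dvd_of_dvd_of_dvd (e4 N hN'.left.left) (f4 N hN'.left.right))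
  · rintro ⟨h1, h2⟩ h
    obtain ⟨d, d', hd, hd', h3, h4, h5⟩ := omegaLU_two_primes hp hφ (hL ▸ h) hr hrp (dvd_mul_right _ _) hs hsp
      (dvd_mul_left _ _)
    have h6 : k ∣ d := hk ▸ (zmod_orderOf_dvd_iff hq0 r d).2 h4
    have h7 : l ∣ d' := hl ▸ (zmod_orderOf_dvd_iff hq0 s d').2 h5
    have h8 := Nat.le_of_dvd hd h6
    have h9 := Nat.le_of_dvd hd' h7
    rcases h3 with h3 | ⟨rfl, h3⟩
    · omega
    · obtain ⟨t, rfl⟩ := h7
      have : t = 1 := by
        rcases t with _ | _ | t
        · omega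
        · rfl
        · nlinarith
      subst this
      exact h2 (by simpa using h6)

end Cfsg.Agent.S2468
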