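import Cfsg.Statements.S2469
import Cfsg.Agent.Lib.Spec.Adj

set_option autoImplicit false
open Cfsg

namespace Cfsg.Agent.S2469

open CfsgLib.Spec


/-- Adjacency of two odd primes in the prime graph of PSp(2n,q): let F be a finite field of characteristic p with q elements, n ≥ 2 with PSp(2n,F) simple, and let r ≠ s be odd primes different from p dividing the order of PSp(2n,F). Let k, l be the multiplicative orders of q modulo r and s, put η(m) = m for odd m and η(m) = m/2 for even m, and suppose η(k) ≤ η(l). Then PSp(2n,F) has NO element of order r·s if and only if η(k) + η(l) > n and l/k is not an odd integer. -/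
theorem result {F : Type*} [Field F] [Fintype F] (p : ℕ) [Fact p.Prime] [CharP F p] (n : ℕ) (hn : 2 ≤ n) (hsmall : n = 2 → 3 ≤ Fintype.card F)
    (r s : ℕ) (hr : r.Prime) (hs : s.Prime) (hr2 : r ≠ 2) (hs2 : s ≠ 2) (hrp : r ≠ p) (hsp : s ≠ p) (hrs : r ≠ s)
    (hrG : r ∣ Nat.card (Cfsg.PSp n F)) (hsG : s ∣ Nat.card (Cfsg.PSp n F))
    (k l ηk ηl : ℕ) (hk : k = orderOf ((Fintype.card F : ℕ) : ZMod r)) (hl : l = orderOf ((Fintype.card F : ℕ) : ZMod s))
    (hηk : (Odd k ∧ ηk = k) ∨ (Even k ∧ 2 * ηk = k)) (hηl : (Odd l ∧ ηl = l) ∨ (Even l ∧ 2 * ηl = l)) (hkl : ηk ≤ ηl) :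
    (r * s ∉ Set.range (orderOf : Cfsg.PSp n F → ℕ)) ↔ (n < ηk + ηl ∧ ¬ ∃ t : ℕ, Odd t ∧ l = k * t) := by
  classical
  have hp : p.Prime := Fact.out
  let K := AlgebraicClosure F
  haveI : CharP K p := charP_of_injective_algebraMap (algebraMap F K).injective p
  have hpq := char_dvd_card F p
  have hq0 : Fintype.card F ≠ 0 := Fintype.card_ne_zero
  have hφ : Function.Injective fun x : K => x ^ Fintype.card F := frob_injective
  have hL := spectrum_psp_eq K p (F := F) n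
  have hcop : Nat.Coprime r s := (Nat.coprime_primes hr hs).2 hrs
  have hk0 : 0 < k := hk ▸ orderOf_zmod_pos hr (not_dvd_card p hr hrp)
  have hl0 : 0 < l := hl ▸ orderOf_zmod_pos hs (not_dvd_card p hs hsp)
  have hη0 : ηk ≠ 0 := by omega
  have hη0' : ηl ≠ 0 := by omega
  have hr2' := (Nat.coprime_primes hr Nat.prime_two).2 hr2
  have hs2' := (Nat.coprime_primes hs Nat.prime_two).2 hs2
  constructor
  · intro h
    by_contra hcon
    apply h
    by_cases h1 : n < ηk + ηl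
    · obtain ⟨t, ht, hlt⟩ : ∃ t : ℕ, Odd t ∧ l = k * t := by tauto
      obtain ⟨d, hd0, hdn, hd⟩ := omegaSp_prime hp hq0 hφ (hL ▸ mem_spectrum_of_prime_dvd_card hs hsG) hs hs2 hsp
        dvd_rfl
      have h3 := Nat.le_of_dvd hd0 (eta_dvd hηl (hl ▸ orderOf_dvd_two_mul hq0 hd))
      have h4 : r * s ∣ Fintype.card F ^ ηl - 1 ∨ r * s ∣ Fintype.card F ^ ηl + 1 := by
        rcases hηl with ⟨h5, h6⟩ | ⟨h5, h6⟩
        · exact Or.inl (hcop.mul_dvd_of_dvd_of_dvd
            ((orderOf_zmod_dvd_iff hq0 r ηl).1 (hk ▸ h6 ▸ Dvd.intro _ hlt.symm))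
            ((orderOf_zmod_dvd_iff hq0 s ηl).1 (hl ▸ h6 ▸ dvd_rfl)))
        · refine Or.inr (hcop.mul_dvd_of_dvd_of_dvd ?_ (dvd_pow_add_one_of_orderOf hs hη0' (hl ▸ h6)))
          rcases hηk with ⟨h7, h8⟩ | ⟨h7, h8⟩
          · exact absurd (hlt ▸ h7.mul ht) (Nat.not_odd_iff_even.2 h5)
          · have h9 : ηl = ηk * t := by nlinarith
            rw [h9, pow_mul]
            exact (dvd_pow_add_one_of_orderOf hr hη0 (hk ▸ h8)).trans (by simpa using ht.nat_add_dvd_pow_add_pow _ 1)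
      obtain ⟨a, ha, hS⟩ := exists_sp_block (K := K) p hpq hq0 hφ hη0' h4
      obtain ⟨N, hN, -, hN'⟩ := exists_mem_omegaSp_pad (p := p) hφ (n := n) hS (by omega) (j := 0) (Or.inl rfl)
      exact mem_spectrum_of_dvd (hL ▸ hN) ((Nat.Coprime.mul_left hr2' hs2').dvd_of_dvd_mul_left
        (ha ▸ hN' a (self_mem_ocyc (by omega))))
    · obtain ⟨a, ha, hS⟩ := exists_sp_block (K := K) p hpq hq0 hφ hη0 (dvd_pow_eta hq0 hr hη0 (hk ▸ hηk))
      obtain ⟨b, hb, hT⟩ := exists_sp_block (K := K) p hpq hq0 hφ hη0' (dvd_pow_eta hq0 hs hη0' (hl ▸ hηl))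
      obtain ⟨N, hN, -, hN'⟩ := exists_mem_omegaSp_pad (p := p) hφ (n := n) (hS.add hT) (by omega) (j := 0)
        (Or.inl rfl)
      exact mem_spectrum_of_dvd (hL ▸ hN) (hcop.mul_dvd_of_dvd_of_dvd
        (hr2'.dvd_of_dvd_mul_left (ha ▸ hN' a (Multiset.mem_add.2 (Or.inl (self_mem_ocyc (by omega))))))
        (hs2'.dvd_of_dvd_mul_left (hb ▸ hN' b (Multiset.mem_add.2 (Or.inr (self_mem_ocyc (by omega)))))))
  · rintro ⟨h1, h2⟩ h
    rcases omegaSp_two_primes hp hq0 hφ (hL ▸ h) hr hr2 hrp (dvd_mul_right _ _) hs hs2 hsp (dvd_mul_left _ _) with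
      ⟨d, d', hd, hd', h3, h4, h5⟩ | ⟨d, hd, h3, h4⟩
    · have := Nat.le_of_dvd hd (eta_dvd hηk (hk ▸ orderOf_dvd_two_mul hq0 h4))
      have := Nat.le_of_dvd hd' (eta_dvd hηl (hl ▸ orderOf_dvd_two_mul hq0 h5))
      omega
    · obtain ⟨t, ht⟩ := eta_dvd hηl (hl ▸ orderOf_dvd_two_mul hq0 (h4.imp And.right And.right))
      have h5 : t = 1 := by
        rcases t with _ | _ | t
        · omega
        · rfl
        · nlinarith
      subst h5
      rw [mul_one] at ht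
      subst ht
      apply h2
      have hne : ∀ r : ℕ, r.Prime → r ≠ 2 → r ∣ Fintype.card F ^ d + 1 → ¬ r ∣ Fintype.card F ^ d - 1 := by
        intro r hr hr2 e1 e2
        have e3 := Nat.dvd_sub e1 e2
        have e4 := Nat.one_le_pow d _ (Nat.pos_of_ne_zero hq0)
        rw [show Fintype.card F ^ d + 1 - (Fintype.card F ^ d - 1) = 2 by omega] at e3
        exact hr2 ((Nat.prime_dvd_prime_iff_eq hr Nat.prime_two).1 e3)
      rcases h4 with ⟨h4, h5⟩ | ⟨h4, h5⟩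
      · have h6 : k ∣ d := hk ▸ (orderOf_zmod_dvd_iff hq0 r d).2 h4
        have h7 := Nat.le_of_dvd hd (hl ▸ (orderOf_zmod_dvd_iff hq0 s d).2 h5)
        rcases hηl with ⟨h8, rfl⟩ | ⟨h8, h9⟩
        · obtain ⟨t, ht⟩ := h6
          exact ⟨t, Odd.of_dvd_nat h8 (Dvd.intro_left _ ht.symm), ht⟩
        · omega
      · have h6 : ¬ k ∣ d := hk ▸ fun h => hne r hr hr2 h4 ((orderOf_zmod_dvd_iff hq0 r d).1 h)
        have h7 : ¬ l ∣ d := hl ▸ fun h => hne s hs hs2 h5 ((orderOf_zmod_dvd_iff hq0 s d).1 h)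
        rcases hηl with ⟨h8, rfl⟩ | ⟨h8, h9⟩
        · exact absurd dvd_rfl h7
        · obtain ⟨t, ht⟩ : k ∣ 2 * d := hk ▸ orderOf_dvd_two_mul hq0 (Or.inr h4)
          refine ⟨t, ?_, h9 ▸ ht⟩
          rw [← Nat.not_even_iff_odd]
          rintro ⟨u, rfl⟩
          exact h6 ⟨u, by nlinarith⟩

end Cfsg.Agent.S2469
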