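import Cfsg.Statements.S2472
import Cfsg.Agent.Lib.Spec.Adj

set_option autoImplicit false
open Cfsg

namespace Cfsg.Agent.S2472

open CfsgLib.Spec


/-- Adjacency of a prime and the characteristic in the prime graph of PSp(2n,q): let F be a finite field of characteristic p with q elements, n ≥ 2 with PSp(2n,F) simple, and let r ≠ p be an odd prime dividing the order of PSp(2n,F), with k the multiplicative order of q modulo r and η(k) = k for odd k, k/2 for even k. Then PSp(2n,F) has NO element of order r·p if and only if η(k) > n − 1. -/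
theorem result {F : Type*} [Field F] [Fintype F] (p : ℕ) [Fact p.Prime] [CharP F p] (n : ℕ) (hn : 2 ≤ n) (hsmall : n = 2 → 3 ≤ Fintype.card F)
    (r : ℕ) (hr : r.Prime) (hr2 : r ≠ 2) (hrp : r ≠ p) (hrG : r ∣ Nat.card (Cfsg.PSp n F))
    (k ηk : ℕ) (hk : k = orderOf ((Fintype.card F : ℕ) : ZMod r)) (hηk : (Odd k ∧ ηk = k) ∨ (Even k ∧ 2 * ηk = k)) :
    (r * p ∉ Set.range (orderOf : Cfsg.PSp n F → ℕ)) ↔ n - 1 < ηk := by
  classical
  have hp : p.Prime := Fact.out
  let K := AlgebraicClosure F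
  haveI : CharP K p := charP_of_injective_algebraMap (algebraMap F K).injective p
  have hpq := char_dvd_card F p
  have hq0 : Fintype.card F ≠ 0 := Fintype.card_ne_zero
  have hφ : Function.Injective fun x : K => x ^ Fintype.card F := frob_injective
  have hL := spectrum_psp_eq K p (F := F) n
  have hcop : Nat.Coprime r p := (Nat.coprime_primes hr hp).2 hrp
  have hk0 : 0 < k := hk ▸ orderOf_zmod_pos hr (not_dvd_card p hr hrp)
  have hη0 : ηk ≠ 0 := by omega
  constructor
  · intro h
    by_contra hcon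
    apply h
    obtain ⟨a, ha, hS⟩ := exists_sp_block (K := K) p hpq hq0 hφ hη0 (dvd_pow_eta hq0 hr hη0 (hk ▸ hηk))
    obtain ⟨N, hN, hN1, hN'⟩ := exists_mem_omegaSp_pad (p := p) hφ (n := n) hS (by omega) (j := 1)
      (Or.inr (by simp; omega))
    refine mem_spectrum_of_dvd (hL ▸ hN) (hcop.mul_dvd_of_dvd_of_dvd ?_ (by simpa using hN1))
    exact ((Nat.coprime_primes hr Nat.prime_two).2 hr2).dvd_of_dvd_mul_left
      (ha ▸ hN' a (self_mem_ocyc (by omega)))
  · intro h1 h
    obtain ⟨d, hd, h3, h4⟩ := omegaSp_prime_char hq0 hφ (hL ▸ h) (mul_ne_zero hr.ne_zero hp.ne_zero) hr hr2 hrp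
      (dvd_mul_right _ _) (dvd_mul_left _ _)
    have := Nat.le_of_dvd hd (eta_dvd hηk (hk ▸ orderOf_dvd_two_mul hq0 h4))
    omega

end Cfsg.Agent.S2472
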