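import Cfsg.Statements.S2490
import Mathlib
import Cfsg.Agent.Lib.SmallRec.Soc
import Cfsg.Agent.Lib.SmallSimple.Check

set_option autoImplicit false
open Cfsg

namespace Cfsg.Agent.S2490

open Subgroup CfsgLib CfsgLib.DefectOne CfsgLib.DefectOne.B43 CfsgLib.SmallRec CfsgLib.SmallSimple
  CfsgLib.Tuan

/-- The condition on the order `d` of a normal subgroup. -/
def Ok (L : List ℕ) (d : ℕ) : Prop := ∀ r ∈ [2, 3, 5, 11], ∀ s ∈ [2, 3, 5, 11], ¬ (r ∈ L ↔ s ∈ L) →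
  ∀ j < 5, ∀ k < 5, s ^ j ∣ 7920 / d → r ^ k ∣ d → ¬ r ^ (k + 1) ∣ d → r ^ k ≡ 1 [MOD s ^ j]

set_option synthInstance.maxSize 1000 in
instance (L : List ℕ) (d : ℕ) : Decidable (Ok L d) := by unfold Ok; infer_instance

theorem chk : ∀ L ∈ [2, 3, 5, 11].sublists, L ≠ [] → L ≠ [2, 3, 5, 11] → ¬ Ok L 660 ∧
    ∀ d ∈ Nat.divisors 7920, Ok L d → ¬ 11 ∣ d → d = 1 ∨ d = 16 ∧
      ∀ r ∈ [2, 3, 5, 11], r ≠ 5 → ¬ (5 ∈ L ↔ r ∈ L) := by
  decide +kernel

theorem chk' : ∀ d ∈ Nat.divisors 7920, 11 ∣ d → 4 ∣ d → d = 7920 ∨ d = 660 ∨ tst d 63 (11, 0) = true := by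
  decide +kernel

/-- Let G be a finite group of order 7920 = 2⁴·3²·5·11 (the order of the smallest Mathieu group) and suppose its prime graph (vertices the prime divisors of the order, distinct p, q joined when there is an element of order pq) is disconnected: the prime divisors split into two non-empty parts with no element of order pq for p in one part and q in the other. Then G is simple. -/
theorem result {G : Type*} [Group G] [Finite G] (hord : Nat.card G = 7920)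
    (hdisc : (∃ A : Set ℕ, (∃ a ∈ A, a.Prime ∧ a ∣ Nat.card G) ∧ (∃ b ∉ A, b.Prime ∧ b ∣ Nat.card G) ∧
      ∀ a ∈ A, ∀ b ∉ A, a.Prime → b.Prime → a ∣ Nat.card G → b ∣ Nat.card G → ¬ ∃ g : G, orderOf g = a * b)) :
    IsSimpleGroup G := by
  classical
  obtain ⟨A, ⟨a, a1, a2, a3⟩, ⟨b, b1, b2, b3⟩, hA⟩ := hdisc
  have hl : ∀ {r}, r ∈ [2, 3, 5, 11] ↔ r.Prime ∧ r ∣ Nat.card G := fun {r} => by
    rw [← Nat.mem_primeFactorsList Nat.card_pos.ne', hord]
    simp only [Nat.primeFactorsList_ofNat, List.mem_cons]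
    tauto
  let L := [2, 3, 5, 11].filter (· ∈ A)
  have hL : ∀ {r}, r ∈ [2, 3, 5, 11] → (r ∈ L ↔ r ∈ A) := fun h => by
    rw [List.mem_filter, decide_eq_true_eq, and_iff_right h]
  have hno : ∀ r ∈ [2, 3, 5, 11], ∀ s ∈ [2, 3, 5, 11], ¬ (r ∈ L ↔ s ∈ L) →
      ¬ ∃ g : G, orderOf g = r * s := fun r hr s hs h => by
    rw [hL hr, hL hs] at h
    rw [hl] at hr hs
    by_cases e : r ∈ A
    · exact hA r e s (fun e' => h (iff_of_true e e')) hr.1 hs.1 hr.2 hs.2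
    · exact mul_comm r s ▸ hA s (by tauto) r e hs.1 hr.1 hs.2 hr.2
  have hok : ∀ N : Subgroup G, N.Normal → Ok L (Nat.card N) := fun N _ r hr s hs h j _ k _ h1 =>
    frat_mod N (hl.1 hr).1 (hl.1 hs).1 (fun e => h (by rw [e])) (hno r hr s hs h)
      (Nat.eq_div_of_mul_eq_left Nat.card_pos.ne' (N.index_mul_card.trans hord) ▸ h1)
  have hd : ∀ N : Subgroup G, Nat.card N ∈ Nat.divisors 7920 := fun N =>
    Nat.mem_divisors.2 ⟨hord ▸ card_subgroup_dvd_card N, by norm_num⟩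
  obtain ⟨c1, c2⟩ := chk L (List.mem_sublists.2 List.filter_sublist)
    (List.ne_nil_of_mem ((hL (hl.2 ⟨a2, a3⟩)).2 a1))
    fun e => b1 ((hL (hl.2 ⟨b2, b3⟩)).1 (e ▸ hl.2 ⟨b2, b3⟩))
  have p11 : Nat.Prime 11 := by norm_num
  have := Fact.mk p11
  have := Fact.mk Nat.prime_five
  obtain ⟨x, hx⟩ := exists_syl (G := G) (p := 11) (by rw [hord]; norm_num) (by rw [hord]; norm_num)
  have hO : pPrimeCore 11 G = ⊥ := by
    refine (c2 _ (hd _) (hok _ inferInstance) (Core.not_dvd_card_pPrimeCore p11 G)).elim card_eq_one.1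
      fun ⟨h1, h2⟩ => ?_
    obtain ⟨y, hy⟩ := exists_syl (G := G) (p := 5) (by rw [hord]; norm_num) (by rw [hord]; norm_num)
    have h3 := (sc_of_no hy fun r r1 r2 r3 => hno 5 (by decide) r (hl.2 ⟨r1, r2⟩)
      (h2 r (hl.2 ⟨r1, r2⟩) r3)).quotient (pPrimeCore 11 G) (by rw [h1]; decide)
    have h4 := h3.card_eq
    have h5 := Nat.le_of_dvd (by norm_num) (ee_dvd h3.syl)
    have h6 : _ % 5 = 1 := card_sylow_modEq_one 5 (G ⧸ pPrimeCore 11 G)
    have h7 := (pPrimeCore 11 G).index_mul_card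
    rw [h1, hord, index_eq_card, h4] at h7
    generalize ee (y : G ⧸ pPrimeCore 11 G) = e at *
    interval_cases e <;> omega
  obtain h | ⟨N, _, hN, _, n1, -⟩ := soc hx hO
  · exact absurd (hord ▸ h) (by norm_num)
  obtain h | h | h := chk' _ (hd N) (hx.ord ▸ N.orderOf_dvd_natCard hN) (four_dvd n1)
  · obtain rfl := eq_top_of_card_eq N (h.trans hord.symm)
    exact topEquiv.symm.isSimpleGroup
  · exact absurd (h ▸ hok N ‹_›) c1
  · exact absurd h (not_tst n1)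

end Cfsg.Agent.S2490
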