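import Mathlib
import Cfsg.Statements.S2503
import Cfsg.Agent.Lib.SL2.PSL
-- import your own Cfsg.Agent.* helpers here

set_option autoImplicit false
open Cfsg

namespace Cfsg.Agent.S2503

/-- Let F be a finite field with q = 2^t ≥ 4 elements and L = PSL(2,F). Then L has a cyclic subgroup A of order q + 1 and an elementary abelian 2-subgroup B of order q such that L = ABA: every element of L is a product a·b·a' with a, a' ∈ A and b ∈ B. -/
theorem result {F : Type*} [Field F] [Fintype F]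
    (h2 : 2 ∣ Fintype.card F) (h4 : 4 ≤ Fintype.card F) :
    ∃ A B : Subgroup (Matrix.ProjectiveSpecialLinearGroup (Fin 2) F),
      IsCyclic A ∧ Nat.card A = Fintype.card F + 1 ∧ IsMulCommutative B ∧ (∀ b ∈ B, b * b = 1) ∧
        Nat.card B = Fintype.card F ∧
        ∀ g : Matrix.ProjectiveSpecialLinearGroup (Fin 2) F, ∃ a ∈ A, ∃ b ∈ B, ∃ c ∈ A, g = a * b * c := by
  open CfsgLib.SL2 MatrixGroups in
  have h2' : (2 : F) = 0 := two_eq_zero_of_even (even_iff_two_dvd.2 h2)
  have hsq : ∀ a : F, IsSquare a := FiniteField.isSquare_of_char_two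
    (ringChar.eq_iff.2 (CharTwo.of_one_ne_zero_of_two_eq_zero one_ne_zero h2'))
  obtain ⟨J₀, hJ₀⟩ := exists_noEig (F := F)
  have hJ : NoEig (comp (tr J₀)) := hJ₀.of_tr_eq (tr_comp _).symm
  generalize tr J₀ = t at hJ
  have hinj := pm_injective_of_two h2'
  let u : Multiplicative F →* SL(2, F) := MonoidHom.mk' (fun b => uu b.toAdd) fun a b => uu_add _ _
  have hu : Function.Injective u := fun a b h => Multiplicative.toAdd.injective (uu_injective h)
  have := hJ.isCyclic_centralizer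
  refine ⟨(Subgroup.centralizer {comp t}).map pm, (pm.comp u).range,
    isCyclic_of_surjective _ (MonoidHom.subgroupMap_surjective _ _),
    (Subgroup.card_map_of_injective hinj).trans hJ.card_centralizer, inferInstance, ?_, ?_,
    fun g => ?_⟩
  · rintro _ ⟨b, rfl⟩
    rw [← map_mul, ← map_one (pm.comp u)]
    congr 1
    exact Multiplicative.toAdd.injective (by simp; linear_combination b.toAdd * h2')
  · rw [← Nat.card_congr (MonoidHom.ofInjective (f := pm.comp u) (hinj.comp hu)).toEquiv]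
    simp
  obtain ⟨g, rfl⟩ := pm_surjective g
  obtain ⟨M, hM⟩ : ∃ M, M = g * comp t * g⁻¹ := ⟨_, rfl⟩
  have e1 : M 0 0 + M 1 1 = t := by rw [← tr_def, hM, tr_conj, tr_comp]
  have e2 := det_eq M
  obtain ⟨b, hb⟩ := hsq (t ^ 2 - 2 + M 1 0 - M 0 1 - t * M 1 1)
  obtain ⟨x, y, h0, h1, h3⟩ : ∃ x y : F, (x ≠ 0 ∨ y ≠ 0) ∧ (b - M 0 0) * x + (-1 - M 0 1) * y = 0 ∧
      (-b ^ 2 - 1 + b * t - M 0 1) * x + (b - t + M 0 0 - t * M 0 1) * y = 0 := by
    have e : (b - M 0 0) * (b - t + M 0 0 - t * M 0 1) - (-1 - M 0 1) * (-b ^ 2 - 1 + b * t - M 0 1) = 0 := by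
      linear_combination M 0 1 * hb + e2 - (M 0 0 - t * M 0 1) * e1
    generalize b - M 0 0 = p, b - t + M 0 0 - t * M 0 1 = s, -1 - M 0 1 = q,
      -b ^ 2 - 1 + b * t - M 0 1 = r at e
    by_cases h : q ≠ 0 ∨ -p ≠ 0
    · exact ⟨q, -p, h, by ring, by linear_combination -e⟩
    by_cases h' : s ≠ 0 ∨ -r ≠ 0
    · exact ⟨s, -r, h', by linear_combination e, by ring⟩
    push Not at h h'
    exact ⟨1, 0, Or.inl one_ne_zero, by linear_combination -h.2, by linear_combination -h'.2⟩
  obtain ⟨n, hn⟩ := hsq (x ^ 2 + t * x * y + y ^ 2)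
  have hn0 : n ≠ 0 := by
    rintro rfl
    by_cases hy : y = 0
    · exact h0.resolve_right (not_not.2 hy) (pow_eq_zero_iff two_ne_zero |>.1 (by
        rw [hy] at hn; linear_combination hn))
    · refine (noEig_iff _).1 hJ (-x / y) ?_
      rw [tr_comp]; field_simp; linear_combination hn
  let a := comb (comp t) (x / n) (y / n) (by rw [tr_comp]; field_simp; linear_combination hn)
  have ha : a * (uu b * comp t * (uu b)⁻¹) = M * a := by
    refine ext2 ?_ ?_ ?_ ?_ <;> simp only [mul_ap, inv_00, inv_01, inv_10, inv_11, a, comb, comp, mk2_00,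
      mk2_01, mk2_10, mk2_11, uu_00, uu_01, uu_10, uu_11] <;> field_simp
    · linear_combination h1
    · linear_combination h3
    · linear_combination h3 - t * h1 - x * hb - (t * x) * e1 - y * t * e1 + y * e1 * t - y * e1
    · linear_combination -h1 - x * e1 + y * hb
  refine ⟨_, ⟨a, (mem_centralizer_iff hJ.not_isScal).2 ⟨_, _, isComb_comb _ _ _ _⟩, rfl⟩, _,
    ⟨.ofAdd b, rfl⟩, _, ⟨(a * uu b)⁻¹ * g, Subgroup.mem_centralizer_singleton_iff.2 ?_, rfl⟩, ?_⟩
  · rw [hM] at ha
    calc _ = (a * uu b)⁻¹ * (g * comp t * g⁻¹ * a) * a⁻¹ * g := by group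
      _ = _ := by rw [← ha]; group
  · simp [u, mul_assoc]

end Cfsg.Agent.S2503
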