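import Cfsg.Statements.S2530
import Mathlib
import Cfsg.Agent.Lib.AltCover.Pres

set_option autoImplicit false
open Cfsg

namespace Cfsg.Agent.S2530

open CfsgLib.AltCover


/-- The Coxeter presentation of the symmetric group: for every n, the symmetric group on n+1 letters is the Coxeter group of type A_n with the adjacent transpositions (i, i+1) as simple reflections; that is, it is presented by generators r_1, …, r_n subject to r_i² = 1, (r_i r_j)² = 1 for |i − j| > 1 and (r_i r_{i+1})³ = 1, with r_i mapping to (i, i+1). -/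
theorem result (n : ℕ) :
    ∃ cs : CoxeterSystem (CoxeterMatrix.A n) (Equiv.Perm (Fin (n + 1))), ∀ i : Fin n, cs.simple i = Equiv.swap i.castSucc i.succ := by
  classical
  let cs := (CoxeterMatrix.A n).toCoxeterSystem
  have hl : CoxeterMatrix.IsLiftable (CoxeterMatrix.A n) fun i : Fin n => s n i := by
    intro i j
    show (s n i * s n j) ^ (if i = j then 1
      else (if (j : ℕ) + 1 = i ∨ (i : ℕ) + 1 = j then 3 else 2)) = 1
    split_ifs with h1 h2
    · rw [h1, pow_one, s_mul_self]
    · rcases h2 with h2 | h2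
      · apply pow_swap
        rw [← h2]
        exact cube_of_braid (s_mul_self _ _) (s_mul_self _ _) (s_braid (by omega))
      · rw [← h2]
        exact cube_of_braid (s_mul_self _ _) (s_mul_self _ _) (s_braid (by omega))
    · have h3 : (i : ℕ) ≠ j := fun e => h1 (Fin.ext e)
      apply sq_of_commute (s_mul_self _ _) (s_mul_self _ _)
      rcases Nat.lt_or_gt_of_ne h3 with h | h
      · exact s_comm (by omega) j.2
      · exact (s_comm (by omega) i.2).symm
  let ψ := cs.lift ⟨_, hl⟩
  have hψ : ∀ i, ψ (cs.simple i) = s n i := cs.lift_apply_simple hl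
  let f : ℕ → (CoxeterMatrix.A n).Group := fun i => if h : i < n then cs.simple ⟨i, h⟩ else 1
  have hf : ∀ i (h : i < n), f i = cs.simple ⟨i, h⟩ := fun i h => dif_pos h
  have h2 : ∀ i < n, f i * f i = 1 := fun i h => by rw [hf i h, cs.simple_mul_simple_self]
  obtain ⟨φ, hφ⟩ := CfsgLib.ThreeTrans.exists_hom_of_coxeter (f := f) (n := n) h2
    (fun i hi => braid_of_cube (h2 _ (by omega)) (h2 _ hi) (by
      rw [hf i (by omega), hf _ hi]
      have := cs.simple_mul_simple_pow ⟨i, by omega⟩ ⟨i + 1, hi⟩
      rwa [show (CoxeterMatrix.A n) ⟨i, by omega⟩ ⟨i + 1, hi⟩ = 3 by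
        simp [CoxeterMatrix.A]] at this))
    (fun i j hij hj => commute_of_sq (h2 _ (by omega)) (h2 _ hj) (by
      rw [hf i (by omega), hf _ hj]
      have := cs.simple_mul_simple_pow ⟨i, by omega⟩ ⟨j, hj⟩
      rwa [show (CoxeterMatrix.A n) ⟨i, by omega⟩ ⟨j, hj⟩ = 2 by
        have h1 : i ≠ j := by omega
        have h2 : ¬ (j + 1 = i ∨ i + 1 = j) := by omega
        simp [CoxeterMatrix.A, h1, h2]] at this))
  have hs : ∀ i (h : i < n), φ (s n i) = cs.simple ⟨i, h⟩ := by
    intro i hi
    rw [s, hφ, P_val (by omega), P_val (by omega), ← hf]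
    exact CfsgLib.ThreeTrans.coxSwap_add f i 0
  have e1 : φ.comp ψ = MonoidHom.id _ := cs.ext_simple fun i => by
    rw [MonoidHom.comp_apply, hψ, hs i i.2]; rfl
  have e2 : ∀ g, ψ (φ g) = g := by
    intro g
    induction g using perm_induction with
    | h1 => simp
    | h i hi g ih => rw [map_mul, map_mul, ih, hs i hi, hψ]
  refine ⟨cs.map (MonoidHom.toMulEquiv ψ φ e1 (MonoidHom.ext e2)), fun i => ?_⟩
  rw [CoxeterSystem.map_simple, ← s_eq]
  exact hψ i

end Cfsg.Agent.S2530
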