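import Cfsg.Statements.S2554
import Cfsg.Agent.Lib.WCor.RD
import Cfsg.Agent.Lib.EL.JT

set_option autoImplicit false
open Cfsg

namespace Cfsg.Agent.S2554

/-- A non-abelian finite simple group all of whose Sylow subgroups are abelian is isomorphic to the Janko group J₁ or to PSL₂(q) for some prime power q > 3 with q ≡ 0, 3 or 5 (mod 8). -/
theorem result {G : Type*} [Group G] [Finite G]
    [IsSimpleGroup G] (hna : ¬ IsMulCommutative G)
    (hA : ∀ (p : ℕ), p.Prime → ∀ (P : Sylow p G), IsMulCommutative ↥P) :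
    Cfsg.Spor.IsoJ1 G ∨
      ∃ (F : Type) (_ : Field F) (_ : Fintype F), 3 < Fintype.card F ∧
        (Fintype.card F % 8 = 0 ∨ Fintype.card F % 8 = 3 ∨ Fintype.card F % 8 = 5) ∧
        Nonempty (G ≃* Matrix.ProjectiveSpecialLinearGroup (Fin 2) F) := by
  exact CfsgLib.WCor.s2554 CfsgLib.WCor.inputs CfsgLib.EL.jw CfsgLib.WCor.rd hna hA

end Cfsg.Agent.S2554
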