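import Cfsg.Statements.S2555
import Cfsg.Agent.Lib.WCor.RD
import Cfsg.Agent.Lib.EL.JT

set_option autoImplicit false
open Cfsg

namespace Cfsg.Agent.S2555

/-- Let G be a non-abelian finite simple group all of whose Sylow subgroups are abelian, r a prime dividing |G|, and α an automorphism of G whose order is a power of r. If α fixes some Sylow r-subgroup of G elementwise, then α is an inner automorphism. -/
theorem result {G : Type*} [Group G] [Finite G]
    [IsSimpleGroup G] (hna : ¬ IsMulCommutative G)
    (hA : ∀ (p : ℕ), p.Prime → ∀ (P : Sylow p G), IsMulCommutative ↥P)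
    (r : ℕ) [Fact r.Prime] (hr : r ∣ Nat.card G) (α : G ≃* G) (k : ℕ) (hα : orderOf α = r ^ k)
    (R : Sylow r G) (hR : ∀ x ∈ (R : Subgroup G), α x = x) :
    ∃ g : G, ∀ x : G, α x = g * x * g⁻¹ := by
  exact CfsgLib.WCor.s2555 CfsgLib.WCor.inputs CfsgLib.EL.jw CfsgLib.WCor.rd hna hA r hr α k hα R hR

end Cfsg.Agent.S2555
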