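import Cfsg.Statements.S2650
import Cfsg.Agent.Lib.MultC.H2.Ext

set_option autoImplicit false
open Cfsg

namespace Cfsg.Agent.S2650

/-- A non-split extension of the Mathieu group M₂₃ by its cocode module exists. There is a finite group E with a normal subgroup N, an isomorphism φ from E/N onto M₂₃ = `Spor.M23` (the stabiliser of the extra point `none` in M₂₄ acting on the 24 points `GolayPt`), and a surjective additive homomorphism θ from the binary words on `GolayPt` onto N whose kernel consists of the words of the Golay code `golayCode` and their translates by the unit vector at `none` (so N is elementary abelian of order 2¹¹), such that θ carries the coordinate permutation w ↦ w ∘ σ⁻¹, σ = φ(gN), to conjugation by g on N — and such that N has no complement in E. -/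
theorem result :
    ∃ (E : Type) (_ : Group E) (_ : Finite E) (N : Subgroup E) (_ : N.Normal)
      (φ : E ⧸ N ≃* ↥Cfsg.Spor.M23) (θ : (Cfsg.GolayPt → ZMod 2) →+ Additive ↥N),
      Function.Surjective θ ∧
      (∀ w : Cfsg.GolayPt → ZMod 2, θ w = 0 ↔ (w ∈ Cfsg.golayCode ∨ w + Pi.single none 1 ∈ Cfsg.golayCode)) ∧
      (∀ (g : E) (w : Cfsg.GolayPt → ZMod 2),
        ((θ (w ∘ ⇑(((φ (QuotientGroup.mk g) : ↥Cfsg.Spor.M23) : Equiv.Perm Cfsg.GolayPt)⁻¹))).toMul : E)
          = g * ((θ w).toMul : E) * g⁻¹) ∧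
      ∀ H : Subgroup E, H ⊓ N = ⊥ → H ⊔ N ≠ ⊤ := by
  obtain ⟨E, ι, π, X, hns⟩ := CfsgLib.MultC.H2.Ext.exists_nonsplit
  let θ : (Cfsg.GolayPt → ZMod 2) →+ Additive π.ker := AddMonoidHom.mk'
    (fun w => Additive.ofMul ⟨ι (Multiplicative.ofAdd (CfsgLib.MultC.H2.Co.mk w)), (X.ker _).2 ⟨_, rfl⟩⟩)
    (fun a b => by
      apply Additive.toMul.injective
      apply Subtype.ext
      simp [map_add, ofAdd_add])
  have hθ : ∀ w, ((θ w).toMul : E) = ι (Multiplicative.ofAdd (CfsgLib.MultC.H2.Co.mk w)) := fun _ => rfl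
  refine ⟨E, inferInstance, inferInstance, π.ker, inferInstance,
    QuotientGroup.quotientKerEquivOfSurjective π X.surj, θ, ?_, ?_, ?_, hns⟩
  · intro n
    obtain ⟨v, hv⟩ := (X.ker _).1 n.toMul.2
    obtain ⟨w, rfl⟩ := v.surj
    exact ⟨w, Additive.toMul.injective (Subtype.ext hv)⟩
  · intro w
    refine Iff.trans ?_ (CfsgLib.MultC.H2.Co.mk_eq_zero (w := w))
    constructor
    · intro h
      have h1 := hθ w
      rw [h] at h1
      have h2 : ι (Multiplicative.ofAdd (CfsgLib.MultC.H2.Co.mk w)) = ι 1 := by rw [← h1, map_one]; rfl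
      exact Multiplicative.ofAdd.injective (X.inj h2)
    · intro h
      apply Additive.toMul.injective
      apply Subtype.ext
      rw [hθ, h]
      exact map_one ι
  · intro g w
    rw [hθ, hθ, X.conj, mul_inv_cancel_right]
    rfl

end Cfsg.Agent.S2650
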