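import Cfsg.Statements.S2652
import Cfsg.Agent.Lib.FiTool.MFi

set_option autoImplicit false
open Cfsg

namespace Cfsg.Agent.S2652

open Cfsg.Spor CfsgLib CfsgLib.FiTool CfsgLib.Comput CfsgLib.ThreeTrans CfsgLib.Fischer MulAction Subgroup
open scoped Pointwise

theorem th23 : pcAll (stepC (tabP tp23) 23) (idC 23) (pl23.map Prod.fst) 0 (thT (nth 0 cs23) 23 11 7 128) = true := by
  decide +kernel

theorem key {G : Type*} [Group G] [Finite G] {D : Set G} {b : ℕ → G} {co : ℕ → ℕ} (B : BM D 23 11 b co)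
    (hV : Cen b 23 = closure (bset b 23)) {S : Subgroup G}
    (hS : ∀ y ∈ S, ∃ c, CSt 23 (cpt b) c y ∧ thT co 23 11 7 128 c = true)
    (U : ∀ l l', CL D l → CL D l' → l.length = 2 → l'.length = 2 → l.prod = l'.prod → ∀ a, a ∈ l ↔ a ∈ l') :
    ∀ A ≤ S, IsElementaryAbelian 2 A → ¬ A ≤ closure (bset b 23) → Nat.card A < 2 ^ 11 := by
  classical
  intro A hA h2 hn
  obtain ⟨hc, h2⟩ := PLocal.elemAb_iff.1 h2
  have h1 : ∀ y ∈ A, y ∉ closure (bset b 23) → ∃ c, CSt 23 (cpt b) c y ∧ fixN c 23 = 7 ∧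
      Nat.card (closure (bset b 23) ⊓ centralizer {y} : Subgroup G) ≤ 128 := fun y hy hy' => by
    obtain ⟨c, h3, h4⟩ := hS y (hA hy)
    rcases bor_eq_true.1 h4 with h4 | h4
    · exact absurd (hV ▸ h3.mem_Cen (Nat.eq_of_beq_eq_true h4)) hy'
    rcases bor_eq_true.1 h4 with h4 | h4
    · exact absurd h4 (h3.not_inv B.inj' (by rw [← pow_two, h2 y hy]))
    obtain ⟨h4, h5⟩ := band_eq_true.1 h4
    exact ⟨c, h3, Nat.eq_of_beq_eq_true h4, (B.card_CV h3).trans (Nat.le_of_ble_eq_true h5)⟩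
  have h3 : ∀ y ∈ A, A ⊓ closure (bset b 23) ≤ closure (bset b 23) ⊓ centralizer {y} := fun y hy z hz =>
    ⟨hz.2, mem_centralizer_singleton_iff.2 (hc z hz.1 y hy)⟩
  obtain ⟨y, hy, hy'⟩ := SetLike.not_le_iff_exists.1 hn
  obtain ⟨c, h4, h5, h6⟩ := h1 y hy hy'
  have h7 := (card_le_of_le (h3 y hy)).trans h6
  have hst : A ≤ stabilizer G (pset 23 (cpt b)) := fun z hz => by
    obtain ⟨c, h, -⟩ := hS z (hA hz)
    exact mem_stab_pset.2 fun i hi => ⟨_, h i hi⟩
  have h8 : Nat.card A ≤ 16 * Nat.card (A ⊓ closure (bset b 23) : Subgroup G) := by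
    have : Finite (pset 23 (cpt b)) := (pset_finite 23 (cpt b)).to_subtype
    let : MulAction A (pset 23 (cpt b)) := MulAction.compHom _ (inclusion hst)
    let := Fintype.ofFinite A
    let := Fintype.ofFinite (pset 23 (cpt b))
    let := Fintype.ofFinite (Quotient (orbitRel A (pset 23 (cpt b))))
    have h9 := sum_card_fixedBy_eq_card_orbits_mul_card_group A (pset 23 (cpt b))
    have h10 : ∀ a : A, Fintype.card (fixedBy (pset 23 (cpt b)) a) =
        7 + if (a : G) ∈ closure (bset b 23) then 16 else 0 := fun a => by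
      rw [← Nat.card_eq_fintype_card]
      split_ifs with ha
      · have ha' := mem_Cen_iff_smul.1 (hV ▸ ha)
        have h11 : CSt 23 (cpt b) (idC 23) (a : G) := fun i hi => by
          have := CSt.one (G := G) (by norm_num) (cpt b) i hi
          rw [ha' i hi]; simpa using this
        exact (B.ncard_fixedBy (y := inclusion hst a) h11).trans (by decide +kernel)
      · obtain ⟨c, h11, h12, -⟩ := h1 a a.2 ha
        exact (B.ncard_fixedBy (y := inclusion hst a) h11).trans h12
    simp only [h10, Finset.sum_add_distrib, Finset.sum_const, Finset.card_univ, smul_eq_mul, ← Finset.sum_filter]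
      at h9
    have h11 : (Finset.univ.filter fun a : A => (a : G) ∈ closure (bset b 23)).card =
        Nat.card (A ⊓ closure (bset b 23) : Subgroup G) := by
      rw [← Nat.card_congr (subgroupOfEquivOfLe (inf_le_left (b := closure (bset b 23)))).toEquiv,
        Nat.card_eq_fintype_card, Fintype.card_subtype]
      congr 1
      ext a
      simp [mem_subgroupOf]
    rw [h11, ← Nat.card_eq_fintype_card (α := A)] at h9
    apply Nat.le_of_dvd (by have : 0 < Nat.card (A ⊓ closure (bset b 23) : Subgroup G) := Nat.card_pos; omega)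
    rw [mul_comm 16, ← Nat.dvd_add_right (Dvd.intro 7 rfl), h9]
    exact Dvd.intro_left _ rfl
  by_contra hlt
  have h9 : ∀ z ∈ A, z ∉ closure (bset b 23) →
      A ⊓ closure (bset b 23) = closure (bset b 23) ⊓ centralizer {z} := fun z hz hz' => by
    obtain ⟨_, -, -, h⟩ := h1 z hz hz'
    exact eq_of_le_of_card_ge (h3 z hz) (by omega)
  obtain ⟨i, hi, h10⟩ : ∃ i < 23, ¬ Commute y (b i) := by
    by_contra h
    push Not at h
    exact hy' (hV ▸ mem_Cen.2 h)
  have bi : b i ∈ closure (bset b 23) := subset_closure ⟨i, hi, rfl⟩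
  have h11 : ∀ z ∈ A, z ∉ closure (bset b 23) → ¬ Commute z (b i) := fun z hz hz' h => by
    have : b i ∈ A ⊓ closure (bset b 23) := h9 z hz hz' ▸ ⟨bi, mem_centralizer_singleton_iff.2 h.symm⟩
    exact h10 (hc y hy _ this.1)
  have h12 : y * b i * y⁻¹ = b (fld c i) := smul_cpt_iff.1 (h4 i hi).2
  have yy : y * y = 1 := by rw [← pow_two, h2 y hy]
  have h13 : CL D [b i, b (fld c i)] := CL.pair (B.mem i hi) (B.mem _ (h4 i hi).1)
    (fun e => h10 (mul_inv_eq_iff_eq_mul.1 (h12.trans e.symm))) (B.comm i hi _ (h4 i hi).1)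
  have h14 : b i * b (fld c i) ∈ A := by
    have : b i * b (fld c i) ∈ closure (bset b 23) ⊓ centralizer {y} := by
      refine ⟨mul_mem bi (subset_closure ⟨_, (h4 i hi).1, rfl⟩), mem_centralizer_singleton_iff.2 ?_⟩
      conv_rhs => rw [(B.comm i hi _ (h4 i hi).1).eq]
      rw [← h12]
      calc b i * (y * b i * y⁻¹) * y = y * y * (b i * y * b i) := by rw [yy]; group
        _ = y * (y * b i * y * b i) := by group
        _ = _ := by rw [inv_eq_of_mul_eq_one_right yy]
    exact (h9 y hy hy' ▸ this).1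
  have h15 : ∀ z ∈ A, z ∉ closure (bset b 23) → z * b i * z⁻¹ = b (fld c i) := fun z hz hz' => by
    have := (U _ _ (h13.cj B.conj_mem z) h13 rfl rfl (by
      rw [prod_cjL]; simp only [List.prod_cons, List.prod_nil, mul_one]
      rw [hc z hz _ h14, mul_inv_cancel_right]) (z * b i * z⁻¹)).1 (mem_cjL.2 (by simp))
    simp only [List.mem_cons, List.not_mem_nil, or_false] at this
    exact this.resolve_left fun e => h11 z hz hz' (mul_inv_eq_iff_eq_mul.1 e)
  have h16 : ((closure (bset b 23)).subgroupOf A).index = 2 := by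
    rw [index_eq_two_iff]
    refine ⟨⟨y, hy⟩, fun z => ?_⟩
    simp only [mem_subgroupOf, coe_mul]
    by_cases hz : (z : G) ∈ closure (bset b 23)
    · exact Or.inr ⟨hz, fun h => hy' ((mul_mem_cancel_left hz).1 h)⟩
    · refine Or.inl ⟨?_, hz⟩
      by_contra h
      apply h11 _ (mul_mem z.2 hy) h
      have e1 := h15 z z.2 hz
      have e2 : y * b (fld c i) * y⁻¹ = b i := by
        rw [← h12]
        calc y * (y * b i * y⁻¹) * y⁻¹ = y * y * b i * (y * y)⁻¹ := by group
          _ = b i := by rw [yy]; group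
      have e3 : (z : G) * y * b i * (z * y)⁻¹ = b i := by
        rw [hc z z.2 y hy]
        calc y * z * b i * (y * z)⁻¹ = y * (z * b i * z⁻¹) * y⁻¹ := by simp [mul_assoc]
          _ = b i := by rw [Subgroup.coe_inv, e1, e2]
      exact mul_inv_eq_iff_eq_mul.1 e3
  have h17 := ((closure (bset b 23)).subgroupOf A).card_mul_index
  rw [h16, ← inf_subgroupOf_left, Nat.card_congr (subgroupOfEquivOfLe inf_le_left).toEquiv] at h17
  omega

theorem exists_V {G : Type*} [Group G] {D : Set G} {g pt : ℕ → G} (M : M23 D g pt) (T : Sylow 2 G) :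
    ∃ V : Subgroup G, V ≤ T ∧ (∀ x ∈ T, ∀ v ∈ V, x * v * x⁻¹ ∈ V) ∧ IsElementaryAbelian 2 V ∧ Nat.card V = 2 ^ 11 ∧
      ∀ A ≤ (T : Subgroup G), IsElementaryAbelian 2 A → ¬ A ≤ V → Nat.card A < 2 ^ 11 := by
  have := M.finite
  obtain ⟨S, h1, h2⟩ := M.sylow th23
  have h3 := key M.bm M.Cen_eq_V h2 (M.luniq (by norm_num))
  obtain ⟨x, rfl⟩ := exists_smul_eq G S T
  have e : ((x • S : Sylow 2 G) : Subgroup G) = (S : Subgroup G).map (MulAut.conj x).toMonoidHom := rfl
  refine ⟨(closure (bset (b23 pt) 23)).map (MulAut.conj x).toMonoidHom, e ▸ map_mono h1, ?_,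
    PLocal.elemAb_map (PLocal.elemAb_iff.2 ⟨fun _ ha _ hb => M.bm.V_comm ha hb,
      fun _ ha => by rw [pow_two, M.bm.V_sq ha]⟩) _,
    by rw [card_map_of_injective (MulAut.conj x).injective, M.bm.card_V], fun A hA h4 h5 => ?_⟩
  · rintro _ ⟨y, hy, rfl⟩ _ ⟨v, hv, rfl⟩
    obtain ⟨c, hc, -⟩ := h2 y hy
    exact ⟨_, M.bm.conj_mem_V hc hv, by simp [mul_assoc]⟩
  · have hs : A ≤ (MulAut.conj x).toMonoidHom.range := fun a _ => (MulAut.conj x).surjective a
    rw [← map_comap_eq_self hs, card_map_of_injective (MulAut.conj x).injective]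
    refine h3 _ ?_ (PLocal.elemAb_comap h4 (MulAut.conj x).injective) fun h => h5 ?_
    · rw [← comap_map_eq_self_of_injective (f := (MulAut.conj x).toMonoidHom) (MulAut.conj x).injective (S : Subgroup G)]
      exact comap_mono hA
    · rw [← map_comap_eq_self hs]; exact map_mono h


/-- Let T be a Sylow 2-subgroup of the Fischer group Fi₂₃ (the finitely presented group `Spor.Fi23`; T has order 2¹⁸). Then every elementary abelian subgroup of Fi₂₃ contained in T and normal in T has order at most 2¹¹, and there is exactly one such subgroup of order 2¹¹. -/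
theorem result
    (T : Sylow 2 Cfsg.Spor.Fi23) :
    (∀ A : Subgroup Cfsg.Spor.Fi23, A ≤ T → (A.subgroupOf T).Normal → Cfsg.IsElementaryAbelian 2 A →
        Nat.card A ≤ 2 ^ 11) ∧
    ∃! A : Subgroup Cfsg.Spor.Fi23, A ≤ T ∧ (A.subgroupOf T).Normal ∧ Cfsg.IsElementaryAbelian 2 A ∧
        Nat.card A = 2 ^ 11 := by
  have := CfsgLib.FiTool.m23_fi.finite
  obtain ⟨V, h1, h2, h3, h4, h5⟩ := exists_V CfsgLib.FiTool.m23_fi T
  refine ⟨fun A hA _ h => ?_, V, ⟨h1, ⟨fun v hv x => h2 x x.2 v hv⟩, h3, h4⟩, fun A hA => ?_⟩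
  · by_cases e : A ≤ V
    · exact h4 ▸ Subgroup.card_le_of_le e
    · exact (h5 A hA h e).le
  · by_cases e : A ≤ V
    · exact Subgroup.eq_of_le_of_card_ge e (by rw [h4, hA.2.2.2])
    · exact absurd (h5 A hA.1 hA.2.2.1 e) (by rw [hA.2.2.2]; exact lt_irrefl _)

end Cfsg.Agent.S2652
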