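import Mathlib
-- Template for statement S2754 (row 2754; see /opt/grader/pristine/manifest.json for weights).
-- Copy to Cfsg/Agent/S2754.lean and replace the sorry. The statement below is byte-identical to the frozen
-- statement Cfsg.CfsgFrozen.S2754 (Cfsg/Statements/S2754.lean; the theorem Cfsg.loc_simple_sfour_free_iff_goldschmidt_group);
-- the grader kernel-checks Cfsg.Agent.S2754.result against that frozen type. Keep the theorem IN THIS FILE
-- (a `result` declared elsewhere and merely imported here is not credited); helpers may live anywhere
-- under Cfsg/Agent/.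
import Cfsg.Statements.S2754
import Cfsg.Agent.Lib.Gold.All
import Cfsg.Agent.Lib.Gold.Cor3
import Cfsg.Agent.Lib.EL.JT
import Cfsg.Agent.Lib.Gold.S4F

set_option autoImplicit false
open Cfsg

namespace Cfsg.Agent.S2754

/-- A finite non-abelian simple group in which the symmetric group of degree 4 is not involved is a Goldschmidt group (a group of Ree type in the involution-centralizer sense, PSL₂(2^n) with n ≥ 3, a Suzuki group, PSU₃(2^n) with n ≥ 2, PSL₂(q) with q ≥ 5 and q ≡ 3, 5 (mod 8), or the smallest Janko group), and conversely every finite non-abelian simple Goldschmidt group is S₄-free. -/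
theorem result {G : Type*} [Group G] [Finite G] [IsSimpleGroup G] (hna : ¬ IsMulCommutative G) : ¬ Cfsg.Involves (Equiv.Perm (Fin 4)) G ↔ Cfsg.IsGoldschmidtGroup G := by
  exact ⟨CfsgLib.Gold.Cor.s2754_mp CfsgLib.Gold.all CfsgLib.EL.jt hna,
    CfsgLib.Gold.S4F.goldschmidt_s4_free⟩

end Cfsg.Agent.S2754
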