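import Cfsg.Statements.S2773
import Cfsg.Agent.Lib.Foc3.Local

set_option autoImplicit false
universe u
open Cfsg

namespace Cfsg.Agent.S2773

/-- For every nontrivial finite 3-group S there is a nontrivial characteristic subgroup K of S such that, in every finite group G containing S as a Sylow 3-subgroup, S ∩ G' is the product of S ∩ (C_G(Z(S)))' and S ∩ (N_G(K))' (derived subgroups; product taken elementwise). -/
theorem result {S : Type u} [Group S] [Finite S] [Nontrivial S] (hS : IsPGroup 3 S) : ∃ K : Subgroup S, K ≠ ⊥ ∧ K.Characteristic ∧ ∀ (G : Type u) [Group G] [Finite G] (τ : S →* G), Function.Injective τ → (∃ P : Sylow 3 G, (P : Subgroup G) = τ.range) → ∀ g : G, g ∈ τ.range ⊓ commutator G ↔ ∃ a ∈ τ.range ⊓ ⁅Subgroup.centralizer ((τ.range ⊓ Subgroup.centralizer (τ.range : Set G) : Subgroup G) : Set G), Subgroup.centralizer ((τ.range ⊓ Subgroup.centralizer (τ.range : Set G) : Subgroup G) : Set G)⁆, ∃ b ∈ τ.range ⊓ ⁅Subgroup.normalizer ((K.map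 τ : Subgroup G) : Set G), Subgroup.normalizer ((K.map τ : Subgroup G) : Set G)⁆, g = a * b := by
  have : Fact (Nat.Prime 3) := ⟨Nat.prime_three⟩
  have hW := CfsgLib.Foc3.isCharPFunctor_WW.{u} (p := 3)
  refine ⟨CfsgLib.Foc3.WW 3 S, hW.1 S hS inferInstance,
    Subgroup.characteristic_iff_map_eq.2 fun φ => hW.2 S S hS φ, ?_⟩
  rintro G _ _ τ hτ ⟨P, hP⟩ g
  have h1 := CfsgLib.Foc3.ctl_top (G := G) hW (CfsgLib.Foc3.loc (by norm_num)) _
    (CfsgLib.Tech.IsSylowIn.of_sylow_top P)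
  have h2 := le_antisymm h1 (CfsgLib.Foc3.FF_le_inf _ _)
  have h3 : inducedFunctor (CfsgLib.Foc3.WW 3) τ.range = (CfsgLib.Foc3.WW 3 S).map τ := by
    rw [inducedFunctor, CfsgLib.Foc3.WW, CfsgLib.Foc3.WW,
      CfsgLib.Foc3.map_KK τ.range.subtype_injective, CfsgLib.Foc3.map_KK hτ,
      CfsgLib.LAE.map_top_subtype, ← MonoidHom.range_eq_map]
  rw [hP, CfsgLib.Foc3.FF, top_inf_eq, top_inf_eq, h3] at h2
  rw [commutator_def, h2, CfsgLib.LAE.mem_sup_iff_of_right_le_normalizer]
  refine inf_le_left.trans (CfsgLib.LAE.le_normalizer_inf Subgroup.le_normalizer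
    ((CfsgLib.Foc3.le_cent_cen _).trans ?_))
  exact CfsgLib.LAE.le_normalizer_commutator Subgroup.le_normalizer Subgroup.le_normalizer

end Cfsg.Agent.S2773
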