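import Cfsg.Statements.S2796
import Cfsg.Agent.Lib.S4Free.App

set_option autoImplicit false
universe u
open Cfsg

namespace Cfsg.Agent.S2796

open CfsgLib CfsgLib.LAE CfsgLib.S4Free Subgroup

/-- Let G be a finite group in which the symmetric group of degree 4 is not involved, such that for every section K/R of G with C(O₂(K/R)) ≤ O₂(K/R) every non-abelian composition factor of K/R is a Suzuki group Sz(2^(2n+1)) or PSL₂ over a field with 3^(2n+1) elements. Let S be a Sylow 2-subgroup, J_e(S) the subgroup generated by its elementary abelian subgroups of largest order, and A the normal closure of Ω₁(Z(S)) in N_G(J_e(S)). Then A is an elementary abelian subgroup of S, strongly closed in S with respect to G, and A controls strong fusion in G. -/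
theorem result {G : Type u} [Group G] [Finite G] (hfree : ¬ Cfsg.Involves (Equiv.Perm (Fin 4)) G) (hsec : ∀ (K R : Subgroup G) [hR : (R.subgroupOf K).Normal], Subgroup.centralizer (Cfsg.pCore 2 (K ⧸ R.subgroupOf K) : Set (K ⧸ R.subgroupOf K)) ≤ Cfsg.pCore 2 (K ⧸ R.subgroupOf K) → Cfsg.IsCompositionKGroupWith Cfsg.IsSuzukiOrPSL2OddPowerThree (K ⧸ R.subgroupOf K)) (S : Sylow 2 G) (N : Subgroup G) (hN : N = Subgroup.normalizer (Cfsg.thompsonSubgroupOf 2 (S : Subgroup G) : Set G)) (A : Subgroup G) (hA : A = (Subgroup.normalClosure (((Cfsg.omegaOne 2 ((S : Subgroup G) ⊓ Subgroup.centralizer ((S : Subgroup G) : Set G))).subgroupOf N : Subgroup ↥N) : Set ↥N)).map N.subtype) : A ≤ S ∧ Cfsg.IsElementaryAbelian 2 A ∧ Cfsg.IsStronglyClosed A (S : Subgroup G) ∧ Cfsg.ControlsStrongFusion 2 A := by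
  have hS := isSylowIn_top S
  have hW := pi_WIn (S : Subgroup G)
  have hZW := (pi_omegaOne (S : Subgroup G)).le_WIn
  set Z := omegaOne 2 ((S : Subgroup G) ⊓ centralizer ((S : Subgroup G) : Set G))
  set W := WIn (S : Subgroup G)
  have hYN : N ≤ normalizer (omegaOne 2 (centerThompsonOf 2 (S : Subgroup G)) : Set G) :=
    hN ▸ normalizer_le_normalizer_omegaZ _
  have hYS : omegaOne 2 (centerThompsonOf 2 (S : Subgroup G)) ≤ S :=
    (omegaZ_le _).trans (PLocal.thompsonSubgroupOf_le _)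
  have hSN : (S : Subgroup G) ≤ N := hN ▸ le_normalizer.trans (PLocal.normalizer_le_normalizer_thompsonSubgroupOf _)
  have hle : ∀ Y : Subgroup G, (∀ n ∈ N, ∀ z ∈ Z, n * z * n⁻¹ ∈ Y) → A ≤ Y := fun Y hY => by
    rw [hA, map_le_iff_le_comap, normalClosure, closure_le]
    intro x hx
    obtain ⟨z, hz, hx⟩ := Group.mem_conjugatesOfSet_iff.mp hx
    obtain ⟨n, rfl⟩ := isConj_iff.mp hx
    exact hY n n.2 z hz
  have hmem : ∀ n ∈ N, ∀ z ∈ Z, n * z * n⁻¹ ∈ A := fun n hn z hz => hA ▸
    ⟨⟨n, hn⟩ * ⟨z, hSN (hW.le (hZW hz))⟩ * ⟨n, hn⟩⁻¹,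
      normalClosure_normal.conj_mem _ (subset_normalClosure (mem_subgroupOf.mpr hz)) _, rfl⟩
  have hAY := hle _ fun n hn z hz => conj_mem_of_mem_normalizer (hYN hn) (hW.le_omegaOne (hZW hz))
  have hH : ∀ h ∈ normalizer (W : Set G), ∀ z ∈ Z, h * z * h⁻¹ ∈ A := fun h hh z hz => by
    have h1 := ((hS.mono hW.norm le_top).inf_of_normal
      (centralizer_le_normalizer _) (normalizer_le_normalizer_centralizer W))
    obtain ⟨n, hn, c, hc, rfl⟩ := h1.frattini' (normalizer_le_normalizer_centralizer W hh)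
    have h2 := PLocal.normalizer_le_normalizer_thompsonSubgroupOf (p := 2) _ hn
    rw [PLocal.thompsonSubgroupOf_eq_of_le inf_le_left
      (le_inf (PLocal.thompsonSubgroupOf_le _) hW.thompson_le_cent), ← hN] at h2
    rw [mul_assoc n, ← hc z (hZW hz), mul_inv_rev, ← mul_assoc n, ← mul_assoc, mul_inv_cancel_right]
    exact hmem n h2 z hz
  have hHA : normalizer (W : Set G) ≤ normalizer (A : Set G) := fun h hh =>
    mem_normalizer_of_conjS_le (conjS_le_iff.mpr (hle _ fun n hn z hz => by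
      obtain ⟨x, hx, e⟩ := (W_controls hfree hS {z} (Set.singleton_subset_iff.mpr (hW.le (hZW hz)))).2 n
        (by rintro _ ⟨_, rfl, rfl⟩; exact hYS (hAY (hmem n hn _ hz)))
      rw [e z rfl, mem_conjS]
      simpa [mul_assoc] using hH _ (mul_mem hh hx) z hz))
  refine ⟨hAY.trans hYS, PLocal.elemAb_mono (elemAb_omegaZ _) hAY, ⟨hAY.trans hYS, fun a ha g hg => ?_⟩,
    S, hAY.trans hYS, fun B hB => ⟨hB, fun g hg => ?_⟩⟩
  · obtain ⟨x, hx, e⟩ := (W_controls hfree hS {a} (Set.singleton_subset_iff.mpr (hYS (hAY ha)))).2 g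
      (by rintro _ ⟨_, rfl, rfl⟩; exact hg)
    rw [e a rfl]
    exact conj_mem_of_mem_normalizer (hHA hx) ha
  · obtain ⟨x, hx, e⟩ := (W_controls hfree hS B hB).2 g hg
    exact ⟨x, hHA hx, e⟩

end Cfsg.Agent.S2796
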