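import Cfsg.Statements.S2803
import Cfsg.Agent.Lib.LAE.PRed

set_option autoImplicit false
open Cfsg

namespace Cfsg.Agent.S2803

open CfsgLib.LAE Subgroup

/-- Let L be a finite group and p a prime with C_L(O_p(L)) ≤ O_p(L), T a Sylow p-subgroup, and Y the largest p-reduced normal subgroup of L. Put T_L = C_T(Y) and L_T = N_L(T_L). Then L = L_T · C_L(Y) (elementwise), T_L = O_p(L_T), and Y = Ω₁(Z(T_L)). -/
theorem result {L : Type*} [Group L] [Finite L] {p : ℕ} [Fact p.Prime] (hchar : Subgroup.centralizer (Cfsg.pCore p L : Set L) ≤ Cfsg.pCore p L) (T : Sylow p L) (Y : Subgroup L) (hY : (Cfsg.IsPReducedNormal p Y ∧ ∀ V : Subgroup L, Cfsg.IsPReducedNormal p V → V ≤ Y)) (TL : Subgroup L) (hTL : TL = (T : Subgroup L) ⊓ Subgroup.centralizer (Y : Set L)) : (∀ g : L, ∃ a ∈ Subgroup.normalizer (TL : Set L), ∃ c ∈ Subgroup.centralizer (Y : Set L), g = a * c) ∧ (Cfsg.pCore p ↥(Subgroup.normalizer (TL : Set L))).map (Subgroup.normalizer (TL : Set L)).subtype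 = TL ∧ Y = Cfsg.omegaOne p (TL ⊓ Subgroup.centralizer (TL : Set L)) := by
  have e : Y = Cfsg.largestPReducedOf p ⊤ := by
    rw [largestPReducedOf_top]
    exact le_antisymm (le_sSup hY.1) (hY.2 _ isPReducedNormal_largest)
  obtain ⟨h1, h2, -, h4⟩ := largestPReducedOf_inf_normalizer (L := ⊤) (M := ⊤) (isSylowIn_top T)
    le_top le_top (isCharP_top_iff.2 hchar) rfl
  rw [← e, ← hTL] at h1 h2 h4
  rw [top_inf_eq] at h2
  rw [top_inf_eq, top_inf_eq] at h4
  refine ⟨fun g => ?_, h2, h1⟩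
  have hN : Y.Normal := hY.1.1
  have hg : g ∈ normalizer (TL : Set L) ⊔ centralizer (Y : Set L) := by
    rw [sup_comm, ← h4]; trivial
  exact (mem_sup_iff_of_left_le_normalizer le_normalizer_of_normal).1 hg

end Cfsg.Agent.S2803
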