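import Cfsg.Statements.S2810
import Cfsg.Agent.Lib.LAE.CharP

set_option autoImplicit false
open Cfsg

namespace Cfsg.Agent.S2810

open CfsgLib.LAE Subgroup
open scoped commutatorElement

/-- Let H be a finite group of characteristic p and L a subgroup of H centralizing every factor of some H-invariant chain 1 = A₀ ≤ A₁ ≤ … ≤ Aₙ = O_p(H) of normal subgroups (that is, [A_{i+1}, L] ≤ Aᵢ for each i). Then L ≤ O_p(H). -/
theorem result {H : Type*} [Group H] [Finite H] {p : ℕ} [Fact p.Prime] (hchar : Subgroup.centralizer (Cfsg.pCore p H : Set H) ≤ Cfsg.pCore p H) (L : Subgroup H) (n : ℕ) (A : Fin (n + 1) → Subgroup H) (h0 : A 0 = ⊥) (hn : A (Fin.last n) = Cfsg.pCore p H) (hmono : Monotone A) (hnorm : ∀ i, (A i).Normal) (hcent : ∀ i : Fin n, ⁅A i.succ, L⁆ ≤ A i.castSucc) : L ≤ Cfsg.pCore p H := by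
  have hG := isCharP_top_iff.2 hchar
  set K := normalClosure (L : Set H) with hK
  have hK1 : ∀ i : Fin n, ⁅A i.succ, K⁆ ≤ A i.castSucc := by
    intro i
    have := hnorm i.castSucc
    have := hnorm i.succ
    rw [commutator_comm]
    refine commutator_closure_le le_normalizer_of_normal ?_
    intro x hx v hv
    obtain ⟨a, ha, hax⟩ := Group.mem_conjugatesOfSet_iff.1 hx
    obtain ⟨c, rfl⟩ := isConj_iff.1 hax
    have h1 : ⁅a, c⁻¹ * v * c⁆ ∈ A i.castSucc := by
      apply hcent i
      rw [commutator_comm]
      exact commutator_mem_commutator ha (by simpa using (hnorm i.succ).conj_mem v hv c⁻¹)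
    have h2 := (hnorm i.castSucc).conj_mem _ h1 c
    rw [conjugate_commutatorElement] at h2
    simpa [mul_assoc] using h2
  have hO : IsPGroup p (pCore p H) := isPGroup_pCore
  have key : ∀ i : Fin (n + 1), ⁅pCore p H, pResOf p K⁆ ≤ A i := by
    intro i
    induction i using Fin.reverseInduction with
    | last => rw [hn]; exact commutator_le_left _ _
    | cast i ih =>
      rw [← commutator_pResOf_commutator' hO le_normalizer_of_normal]
      exact (commutator_mono ih (pResOf_le K)).trans (hK1 i)
  have h2 : IsPGroup p K := by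
    refine hG.isPGroup_of_pResOf_le le_top ?_
    rw [pCoreOf_top, le_centralizer_iff, ← commutator_eq_bot_iff_le_centralizer, eq_bot_iff, ← h0]
    exact key 0
  exact le_normalClosure.trans (le_pCore inferInstance h2)

end Cfsg.Agent.S2810
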