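import Cfsg.Statements.S2813
import Cfsg.Agent.Lib.LAE.PRed

set_option autoImplicit false
open Cfsg

namespace Cfsg.Agent.S2813

open CfsgLib.LAE Subgroup
open scoped commutatorElement

/-- Let K be a subgroup of the finite group H with O_p(K) = 1 and Y a p-subgroup of N_H(K) with [K, Y, Y] = 1. Then [K, Y] = 1. -/
theorem result {H : Type*} [Group H] [Finite H] {p : ℕ} [Fact p.Prime] (K : Subgroup H) (hO : Cfsg.pCore p ↥K = ⊥) (Y : Subgroup H) (hY : IsPGroup p ↥Y) (hYK : Y ≤ Subgroup.normalizer (K : Set H)) (hq : ⁅⁅K, Y⁆, Y⁆ = ⊥) : ⁅K, Y⁆ = ⊥ := by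
  have hYD : Y ≤ centralizer ((⁅K, Y⁆ : Subgroup H) : Set H) :=
    le_centralizer_iff.1 (commutator_eq_bot_iff_le_centralizer.1 hq)
  have hKD : K ≤ normalizer ((⁅K, Y⁆ : Subgroup H) : Set H) := normalizer_commutator_ge_left _ _
  have hDD : ⁅K, Y⁆ ≤ centralizer ((⁅K, Y⁆ : Subgroup H) : Set H) :=
    le_trans (le_sup_left.trans (nclIn_eq_commutator_sup Y K).ge) (nclIn_le_centralizer hYD hKD)
  have hDK : ⁅K, Y⁆ ≤ K := commutator_le_left_of_le_normalizer hYK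
  have h0 : Cfsg.pCoreOf p ⁅K, Y⁆ = ⊥ := by
    rw [eq_bot_iff, ← pCoreOf_eq_bot_iff.2 hO]
    exact pCoreOf_mono_of_normal hDK hKD
  rw [eq_bot_iff, ← h0, commutator_le]
  intro k hk y hy
  have hc : ⁅k, y⁆ ∈ ⁅K, Y⁆ := commutator_mem_commutator hk hy
  obtain ⟨n, hn⟩ := isPGroup_iff_forall_mem.1 hY y hy
  have hcomm : Commute ⁅k, y⁆ y := hYD hy _ hc
  have h1 : ⁅k, y⁆ ^ p ^ n = 1 := by
    have e : ⁅k, y⁆ * y = k * y * k⁻¹ := by rw [commutatorElement_def]; group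
    have := hcomm.mul_pow (p ^ n)
    rwa [e, conj_pow, hn, mul_one, mul_one, mul_inv_cancel, eq_comm] at this
  have h2 : zpowers ⁅k, y⁆ ≤ ⁅K, Y⁆ := zpowers_le.2 hc
  refine le_pCoreOf ?_ h2 (hDD.trans ((centralizer_anti h2).trans (centralizer_le_normalizer _)))
    (mem_zpowers _)
  rw [isPGroup_iff_forall_mem]
  rintro _ ⟨m, rfl⟩
  exact ⟨n, by rw [← zpow_natCast, ← zpow_mul, mul_comm, zpow_mul, zpow_natCast, h1, one_zpow]⟩

end Cfsg.Agent.S2813
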