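import Cfsg.Statements.S2814
import Cfsg.Agent.Lib.LAE.PIrr

set_option autoImplicit false
open Cfsg

namespace Cfsg.Agent.S2814

open CfsgLib.LAE Subgroup

/-- Let A be a subgroup of the finite group H and K the subnormal closure of A (intersection of the subnormal subgroups containing A). Then K is the normal closure of A inside K and N_H(A) ≤ N_H(K); K = A·O^p(K), O^p(K) being generated by the elements of K of order prime to p; and if A is a p-group, O^p(K) = [O^p(K), A]. -/
theorem result {H : Type*} [Group H] [Finite H] {p : ℕ} [Fact p.Prime] (A : Subgroup H) (K : Subgroup H) (hK : K = Cfsg.subnormalClosure A) : (Subgroup.normalClosure ((A.subgroupOf K : Subgroup ↥K) : Set ↥K)).map K.subtype = K ∧ Subgroup.normalizer (A : Set H) ≤ Subgroup.normalizer (K : Set H) ∧ A ⊔ (Cfsg.pResidual p ↥K).map K.subtype = K ∧ (IsPGroup p ↥A → ⁅(Cfsg.pResidual p ↥K).map K.subtype, A⁆ = (Cfsg.pResidual p ↥K).map K.subtype) := by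
  subst hK
  exact ⟨(map_normalClosure_subgroupOf (le_subnormalClosure A)).trans (nclIn_subnormalClosure A),
    normalizer_le_normalizer_subnormalClosure A, sup_pResOf_subnormalClosure A,
    commutator_pResOf_subnormalClosure⟩

end Cfsg.Agent.S2814
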