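import Cfsg.Statements.S2815
import Cfsg.Agent.Lib.LAE.FStarAct

set_option autoImplicit false
open Cfsg

namespace Cfsg.Agent.S2815

open CfsgLib.LAE Subgroup CfsgLib.Comp

/-- Let H be a finite group and p a prime dividing its order with O_p(H) = 1, and suppose K = O^p(H) (generated by the elements of order prime to p) is quasisimple. Then K = F*(H); for every nontrivial p-subgroup Y of H, K = [K, Y] and K lies in the subgroup generated by the K-conjugates of Y; every normal subgroup of H not containing K has order prime to p; and H is p-irreducible. -/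
theorem result {H : Type*} [Group H] [Finite H] {p : ℕ} [Fact p.Prime] (hp : p ∣ Nat.card H) (hO : Cfsg.pCore p H = ⊥) (hq : Cfsg.IsQuasisimple ↥(Cfsg.pResidual p H)) : Cfsg.pResidual p H = Cfsg.generalizedFittingSubgroup H ∧ (∀ Y : Subgroup H, IsPGroup p ↥Y → Y ≠ ⊥ → ⁅Cfsg.pResidual p H, Y⁆ = Cfsg.pResidual p H ∧ Cfsg.pResidual p H ≤ ⨆ k : ↥(Cfsg.pResidual p H), Y.map (MulAut.conj (k : H)).toMonoidHom) ∧ (∀ C : Subgroup H, C.Normal → ¬ Cfsg.pResidual p H ≤ C → (Nat.card ↥C).Coprime p) ∧ Cfsg.IsPIrreducible p H := by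
  have hR : (Cfsg.pResidual p H).Normal := by
    rw [← pResOf_top]; exact normal_of_top_le (le_normalizer_pResOf ⊤)
  have hc := comp_of_normal_qs hq
  have hmem : ∀ y : H, (orderOf y).Coprime p → y ∈ Cfsg.pResidual p H := fun y hy => by
    rw [← pResOf_top]; exact mem_pResOf trivial hy
  have e : Cfsg.pResidual p H = Cfsg.generalizedFittingSubgroup H := by
    refine le_antisymm (comp_le_fstar hc) (sup_le ?_ fun x hx => hmem x ?_)
    · exact le_of_perfect_of_forall_coprime layer_perfect fun y _ hy => hmem y hy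
    · exact Nat.Coprime.coprime_dvd_left ((Cfsg.fittingSubgroup H).orderOf_dvd_natCard hx)
        (coprime_fit hO)
  have h3 : ∀ C : Subgroup H, C.Normal → ¬ Cfsg.pResidual p H ≤ C → (Nat.card ↥C).Coprime p := by
    intro C hC hle
    have h := (comp_le_or_commutator_of_normal (N := C) hc).resolve_left hle
    rw [commutator_comm, commutator_eq_bot_iff_le_centralizer, e] at h
    exact Nat.Coprime.coprime_dvd_left (card_dvd_of_le (h.trans centralizer_fstar_le_fit))
      (coprime_fit hO)
  refine ⟨e, fun Y hY hY1 => ?_, h3, fun hcl => ?_, fun N hN hcl => ?_⟩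
  · have h1 : ⁅Cfsg.pResidual p H, Y⁆ = Cfsg.pResidual p H := by
      refine (commutator_eq_or_eq_bot hq le_normalizer_of_normal).resolve_right fun h => hY1 ?_
      rw [commutator_comm, commutator_eq_bot_iff_le_centralizer, e] at h
      exact eq_bot_of_le_centralizer_fstar hO hY h
    exact ⟨h1, h1.ge.trans (le_sup_left.trans (nclIn_eq_commutator_sup Y _).ge)⟩
  · obtain ⟨S⟩ := (inferInstance : Nonempty (Sylow p H))
    refine (isSylowIn_top S).ne_bot (by rwa [card_top]) (eq_bot_iff.2 ?_)
    rw [← hO]
    exact le_pCore (hcl S) S.isPGroup'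
  · by_contra hle
    refine hcl fun S => ?_
    have h1 : (S : Subgroup N) = ⊥ := by
      rw [← card_eq_one]
      exact ((coprime_card_of_isPGroup' S.isPGroup' (h3 N hN hle)).eq_one_of_dvd
        (card_subgroup_dvd_card _))
    rw [h1]; infer_instance

end Cfsg.Agent.S2815
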