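import Cfsg.Statements.S2816
import Cfsg.Agent.Lib.LAE.FStarAct

set_option autoImplicit false
open Cfsg

namespace Cfsg.Agent.S2816

open CfsgLib.LAE Subgroup CfsgLib.Comp

/-- Let H be a finite group and p a prime with O_p(H) = 1, and Y a p-subgroup of H. Then for every subnormal subgroup K of H containing Y, [F*(H), Y] = [F*(K), Y] = [F*(K), Y, Y]; and if Y₀ ≤ Y with [F*(H), Y, Y₀] = 1 then Y₀ = 1 (in particular [F*(H), Y] = 1 forces Y = 1). -/
theorem result {H : Type*} [Group H] [Finite H] {p : ℕ} [Fact p.Prime] (hO : Cfsg.pCore p H = ⊥) (Y : Subgroup H) (hY : IsPGroup p ↥Y) : (∀ K : Subgroup H, K.IsSubnormal → Y ≤ K → ⁅Cfsg.generalizedFittingSubgroup H, Y⁆ = ⁅(Cfsg.generalizedFittingSubgroup ↥K).map K.subtype, Y⁆ ∧ ⁅(Cfsg.generalizedFittingSubgroup ↥K).map K.subtype, Y⁆ = ⁅⁅(Cfsg.generalizedFittingSubgroup ↥K).map K.subtype, Y⁆, Y⁆) ∧ (∀ Y₀ : Subgroup H, Y₀ ≤ Y → ⁅⁅Cfsg.generalizedFittingSubgroup H, Y⁆, Y₀⁆ = ⊥ → Y₀ = ⊥) := by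
  have h0 := commutator_fstar_commutator hO hY
  have hn := fstar_normal (G := H)
  refine ⟨fun K hK hYK => ?_, fun Y₀ hle h => eq_bot_of_commutator_fstar hO (hY.to_le hle) ?_⟩
  · have h1 : ⁅Cfsg.generalizedFittingSubgroup H, Y⁆ ≤ K := by
      obtain ⟨m, hm⟩ := CfsgLib.SolvStruct.iterate_commutator_le_of_isSubnormal hK hYK
      refine le_trans ?_ hm
      clear hm
      induction m with
      | zero => exact le_top
      | succ m ih => rw [Function.iterate_succ_apply', ← h0]; exact commutator_mono ih le_rfl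
    have h2 : ⁅Cfsg.generalizedFittingSubgroup H, Y⁆ =
        ⁅(Cfsg.generalizedFittingSubgroup ↥K).map K.subtype, Y⁆ := by
      rw [map_fstar_of_isSubnormal hK]
      refine le_antisymm (h0.ge.trans (commutator_mono (le_inf ?_ h1) le_rfl))
        (commutator_mono inf_le_left le_rfl)
      exact commutator_le_left _ _
    exact ⟨h2, by rw [← h2, h0]⟩
  · rw [eq_bot_iff, ← h]
    exact commutator_mono (commutator_mono le_rfl hle) le_rfl

end Cfsg.Agent.S2816
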