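import Cfsg.Statements.S2817
import Cfsg.Agent.Lib.LAE.FStarAct
import Cfsg.Agent.Lib.LocStr.SPE
import Cfsg.Agent.Lib.Coprime.Abelian

set_option autoImplicit false
open Cfsg

namespace Cfsg.Agent.S2817

open CfsgLib.LAE Subgroup CfsgLib.Comp

/-- Let H be a finite group and p a prime with O_p(H) = 1, Q a p-subgroup of H, L = [F*(H), Q], and F the largest normal subgroup of F*(H) centralized by Q (a normal subgroup of F*(H) centralized by Q and containing every such). Then F = C_{F*(H)}(LQ); L = [L, Q]; L ∩ F ≤ Φ(L); every p-subgroup B of N_H(Q) with [L, B] ≤ F satisfies [L, B] = 1; and C_H(FL) has order prime to p. -/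
theorem result {H : Type*} [Group H] [Finite H] {p : ℕ} [Fact p.Prime] (hO : Cfsg.pCore p H = ⊥) (Q : Subgroup H) (hQ : IsPGroup p ↥Q) (L : Subgroup H) (hL : L = ⁅Cfsg.generalizedFittingSubgroup H, Q⁆) (F : Subgroup H) (hF : F ≤ Cfsg.generalizedFittingSubgroup H ∧ Cfsg.generalizedFittingSubgroup H ≤ Subgroup.normalizer (F : Set H) ∧ Q ≤ Subgroup.centralizer (F : Set H) ∧ ∀ N : Subgroup H, N ≤ Cfsg.generalizedFittingSubgroup H → Cfsg.generalizedFittingSubgroup H ≤ Subgroup.normalizer (N : Set H) → Q ≤ Subgroup.centralizer (N : Set H) → N ≤ F) : F = Cfsg.generalizedFittingSubgroup H ⊓ Subgroup.centralizer ((L ⊔ Q : Subgroup H) : Set H) ∧ ⁅L, Q⁆ = L ∧ L ⊓ F ≤ (frattini ↥L).map L.subtype ∧ (∀ B : Subgroup H, IsPGroup p ↥B → B ≤ Subgroup.normalizer (Q : Set H) → ⁅L, B⁆ ≤ F → ⁅L, B⁆ = ⊥) ∧ (Nat.card ↥(Subgroup.centralizer ((F ⊔ L : Subgroup H) : Set H))).Coprime p := by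
  obtain ⟨hF1, hF2, hF3, hF4⟩ := hF
  have hn := fstar_normal (G := H)
  set E := Cfsg.generalizedFittingSubgroup H with hE
  have hLE : L ≤ E := hL ▸ commutator_le_left _ _
  have hEL : E ≤ normalizer (L : Set H) := hL ▸ normalizer_commutator_ge_left _ _
  have hQL : Q ≤ normalizer (L : Set H) := hL ▸ normalizer_commutator_ge_right _ _
  have hncl : L ⊔ Q = nclIn Q E := by rw [nclIn_eq_commutator_sup, hL]
  have ha : F = E ⊓ centralizer ((L ⊔ Q : Subgroup H) : Set H) := by
    rw [hncl]
    refine le_antisymm (le_inf hF1 (le_centralizer_iff.1 (nclIn_le_centralizer hF3 hF2)))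
      (hF4 _ inf_le_left (le_normalizer_inf le_normalizer
        (le_normalizer_centralizer (le_normalizer_nclIn Q E))) ?_)
    exact le_centralizer_iff.1 (inf_le_right.trans (centralizer_anti (le_nclIn Q E)))
  have hb : ⁅L, Q⁆ = L := by rw [hL]; exact commutator_fstar_commutator hO hQ
  have hsn : ∀ N : Subgroup H, N ≤ E → E ≤ normalizer (N : Set H) → N.IsSubnormal :=
    fun N h1 h2 => ((SubnormalIn.of_normal h1 h2).trans
      (subnormalIn_top_iff.2 hn.isSubnormal)).isSubnormal_of_top
  have hLs := hsn L hLE hEL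
  have hL1 := fstarOf_eq_self' hLs hLE
  have hL2 := pCoreOf_eq_bot_of_isSubnormal hO hLs
  have hc : L ⊓ F ≤ (frattini ↥L).map L.subtype := by
    have hXE : L ⊔ Q ≤ normalizer (L : Set H) := sup_le le_normalizer hQL
    have hO' : Cfsg.pCoreOf p (L ⊔ Q) = ⊥ := by
      refine eq_bot_of_commutator_fstar hO (isPGroup_pCoreOf _) (eq_bot_iff.2 ?_)
      have h1 : ⁅E, L ⊔ Q⁆ ≤ L := commutator_sup_le' le_normalizer hQL
        (commutator_le_right_of_le_normalizer hEL) hL.ge
      refine (commutator_mono ((commutator_mono le_rfl (pCoreOf_le _)).trans h1) le_rfl).trans ?_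
      rw [← hL2]
      refine le_trans (le_inf ?_ ?_) (inf_pCoreOf_le (le_sup_left : L ≤ L ⊔ Q))
      · exact commutator_le_left_of_le_normalizer ((pCoreOf_le _).trans hXE)
      · exact commutator_le_right_of_le_normalizer (le_sup_left.trans (le_normalizer_pCoreOf _))
    have hR : pResOf p (L ⊔ Q) = L := by
      rw [CfsgLib.LocStr.pResOf_sup hQ hQL]
      refine le_antisymm (pResOf_le L) ?_
      by_contra hne
      have hRn : L ⊔ Q ≤ normalizer (pResOf p L : Set H) := le_normalizer_pResOf_of_le hXE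
      have := normal_subgroupOf_of_le hRn
      have hp : IsPGroup p ((⊤ : Subgroup ↥(L ⊔ Q)).map
          (QuotientGroup.mk' ((pResOf p L).subgroupOf (L ⊔ Q)))) := by
        rw [isPGroup_map_mk'_iff, pResOf_top, ← pResOf_subgroupOf,
          CfsgLib.LocStr.pResOf_sup hQ hQL]
      have h1 := CfsgLib.Coprime.eq_bot_of_le_commutator_of_isNilpotent hp.isNilpotent
        (U := (L.subgroupOf (L ⊔ Q)).map (QuotientGroup.mk' _))
        (P := (Q.subgroupOf (L ⊔ Q)).map (QuotientGroup.mk' _)) (map_mono le_top) (map_mono le_top)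
        (by rw [← map_commutator, commutator_subgroupOf le_sup_left le_sup_right, hb])
      rw [Subgroup.map_eq_bot_iff, QuotientGroup.ker_mk'] at h1
      exact hne ((map_subgroupOf_eq_of_le le_sup_left).ge.trans
        ((map_mono h1).trans (map_comap_le _ _)))
    have hgen : Cfsg.pElementClosure p (L ⊔ Q) = L ⊔ Q := by
      refine le_antisymm (pElementClosure_le _) (le_trans ?_
        (nclIn_le (le_pElementClosure hQ le_sup_right) (le_normalizer_pElementClosure _)))
      rw [nclIn_eq_commutator_sup]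
      exact sup_le_sup_right (hb.ge.trans (commutator_mono le_sup_left le_rfl)) Q
    have h1 := center_le_frattini (pCoreOf_eq_bot_iff.1 hO') (map_injective (L ⊔ Q).subtype_injective
      (by rw [map_pElementClosure_of_injective (L ⊔ Q).subtype_injective, map_top_subtype, hgen]))
    rw [frattini_eq_map_pResidual (pCoreOf_eq_bot_iff.1 hO')] at h1
    have h2 := map_mono (f := (L ⊔ Q).subtype) h1
    rw [CfsgLib.Core.map_map_frattini_of_injective _ (L ⊔ Q).subtype_injective,
      map_center_subtype] at h2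
    have h3 : (Cfsg.pResidual p ↥(L ⊔ Q)).map (L ⊔ Q).subtype = L := hR
    rw [h3] at h2
    exact (inf_le_inf le_sup_left (ha.le.trans inf_le_right)).trans h2
  refine ⟨ha, hb, hc, fun B hB hBQ h => ?_, ?_⟩
  · have hBL : B ≤ normalizer (L : Set H) :=
      hL ▸ le_normalizer_commutator le_normalizer_of_normal hBQ
    have h1 := commutator_sup_centralizer_of_fstarOf hL1 hL2 hB hBL
    have h2 := CfsgLib.Core.eq_of_le_sup_map_frattini (H := L ⊓ centralizer (B : Set H)) (K := L)
      inf_le_left (h1.ge.trans (by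
        rw [sup_comm]
        exact sup_le_sup_left ((le_inf (commutator_le_left_of_le_normalizer hBL) h).trans hc) _))
    rw [commutator_eq_bot_iff_le_centralizer]
    exact h2.ge.trans inf_le_right
  · have hN : E ≤ normalizer ((E ⊓ centralizer (L : Set H) : Subgroup H) : Set H) :=
      le_normalizer_inf le_normalizer (le_normalizer_centralizer hEL)
    have hNs := hsn _ inf_le_left hN
    have h1 := commutator_sup_centralizer_of_fstarOf (fstarOf_eq_self' hNs inf_le_left)
      (pCoreOf_eq_bot_of_isSubnormal hO hNs) hQ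
      (le_normalizer_inf le_normalizer_of_normal (le_normalizer_centralizer hQL))
    have h2 : E ⊓ centralizer (L : Set H) ≤ F ⊔ L := by
      rw [← h1, sup_comm]
      refine sup_le_sup ?_ ((commutator_mono inf_le_left le_rfl).trans hL.ge)
      rw [ha, centralizer_sup, inf_assoc]
    rw [Nat.coprime_comm, Nat.Prime.coprime_iff_not_dvd Fact.out]
    intro hd
    obtain ⟨t, ht, ho⟩ := CfsgLib.LocStr.exists_orderOf_of_dvd hd
    have hB : zpowers t ≤ centralizer ((F ⊔ L : Subgroup H) : Set H) := zpowers_le.2 ht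
    have h3 := eq_bot_of_commutator_fstar hO (CfsgLib.LocStr.isPGroup_zpowers_of_orderOf ho) (by
      rw [commutator_comm, commutator_eq_bot_iff_le_centralizer]
      refine hB.trans (centralizer_anti (le_trans (le_inf (commutator_le_left _ _) ?_) h2))
      refine le_trans (commutator_mono le_rfl (hB.trans (centralizer_anti le_sup_right))) ?_
      exact commutator_le_right_of_le_normalizer (le_normalizer_centralizer hEL))
    exact CfsgLib.LocStr.ne_one_of_orderOf_prime ho (zpowers_eq_bot.1 h3)

end Cfsg.Agent.S2817
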