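import Cfsg.Statements.S2818
import Cfsg.Agent.Lib.LAE.CharP
import Cfsg.Agent.Lib.Core.Frattini

set_option autoImplicit false
open Cfsg

namespace Cfsg.Agent.S2818

open CfsgLib.LAE Subgroup
open scoped commutatorElement

/-- Let P be a finite p-subgroup of a group G and H a subgroup of N_G(P) with [P, H] ≤ Ω₁(Z(P)) (the elements of order dividing p in the centre of P). Then H centralizes the Frattini subgroup of P. -/
theorem result {G : Type*} [Group G] [Finite G] {p : ℕ} [Fact p.Prime] (P : Subgroup G) (hP : IsPGroup p ↥P) (H : Subgroup G) (hH : H ≤ Subgroup.normalizer (P : Set G)) (h : ⁅P, H⁆ ≤ Cfsg.omegaOne p (P ⊓ Subgroup.centralizer (P : Set G))) : ⁅(frattini ↥P).map P.subtype, H⁆ = ⊥ := by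
  rw [commutator_eq_bot_iff_le_centralizer, CfsgLib.Core.map_frattini_le_iff_of_isPGroup hP]
  have key : ∀ g ∈ H, ∀ x ∈ P, ∃ c ∈ omegaZ p P, g * x * g⁻¹ = x * c := by
    intro g hg x hx
    refine ⟨⁅x⁻¹, g⁆, h (commutator_mem_commutator (P.inv_mem hx) hg), ?_⟩
    rw [commutatorElement_def]; group
  constructor
  · rw [commutator_le]
    intro x hx y hy g hg
    obtain ⟨c, hc, e1⟩ := key g hg x hx
    obtain ⟨d, hd, e2⟩ := key g hg y hy
    have hc' := (mem_omegaZ.1 hc).2.1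
    have hd' := (mem_omegaZ.1 hd).2.1
    have e3 : g * ⁅x, y⁆ * g⁻¹ = ⁅x * c, y * d⁆ := by rw [← e1, ← e2, conjugate_commutatorElement]
    have e4 : c * (y * d) = (y * d) * c := (hc' _ (P.mul_mem hy (omegaZ_le P hd))).symm
    have e5 : d * x⁻¹ = x⁻¹ * d := (hd' _ (P.inv_mem hx)).symm
    rw [← mul_inv_eq_iff_eq_mul, e3, commutatorElement_def, commutatorElement_def]
    calc x * c * (y * d) * (x * c)⁻¹ * (y * d)⁻¹
        = x * (c * (y * d)) * c⁻¹ * x⁻¹ * d⁻¹ * y⁻¹ := by group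
      _ = x * y * (d * x⁻¹) * d⁻¹ * y⁻¹ := by rw [e4]; group
      _ = x * y * x⁻¹ * y⁻¹ := by rw [e5]; group
  · intro x hx g hg
    obtain ⟨c, hc, e1⟩ := key g hg x hx
    have hcomm : Commute x c := (mem_omegaZ.1 hc).2.1 x hx
    rw [← mul_inv_eq_iff_eq_mul, ← conj_pow, e1, hcomm.mul_pow, (mem_omegaZ.1 hc).2.2, mul_one]

end Cfsg.Agent.S2818
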