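import Cfsg.Statements.S2819
import Cfsg.Agent.Lib.LAE.PRed
import Cfsg.Agent.Lib.Core.Frattini

set_option autoImplicit false
open Cfsg

namespace Cfsg.Agent.S2819

open CfsgLib.LAE Subgroup
open scoped commutatorElement

theorem mul_pow_mem {G : Type*} [Group G] {P : Subgroup G} {a b : G} (ha : a ∈ P) (hb : b ∈ P)
    (n : ℕ) : (a * b) ^ n * (a ^ n * b ^ n)⁻¹ ∈ ⁅P, P⁆ := by
  rw [← map_subtype_commutator]
  refine ⟨(⟨a, ha⟩ * ⟨b, hb⟩) ^ n * (⟨a, ha⟩ ^ n * ⟨b, hb⟩ ^ n)⁻¹, ?_, rfl⟩
  rw [SetLike.mem_coe, ← Abelianization.ker_of, MonoidHom.mem_ker]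
  simp only [map_mul, map_inv, map_pow, mul_pow, mul_inv_cancel]

/-- Let P be a finite p-subgroup of a group G, H a subgroup of N_G(P), and Y a subgroup of H centralizing the derived subgroup P' such that [P, Y] is elementary abelian. Then O^p(⟨Y^H⟩), the subgroup of the normal closure of Y in H generated by its elements of order prime to p, centralizes the Frattini subgroup of P. -/
theorem result {G : Type*} [Group G] [Finite G] {p : ℕ} [Fact p.Prime] (P : Subgroup G) (hP : IsPGroup p ↥P) (H : Subgroup G) (hH : H ≤ Subgroup.normalizer (P : Set G)) (Y : Subgroup G) (hYH : Y ≤ H) (hYc : Y ≤ Subgroup.centralizer ((⁅P, P⁆ : Subgroup G) : Set G)) (hel : Cfsg.IsElementaryAbelian p ⁅P, Y⁆) (NY : Subgroup G) (hNY : NY = (Subgroup.normalClosure ((Y.subgroupOf H : Subgroup ↥H) : Set ↥H)).map H.subtype) : (Cfsg.pResidual p ↥NY).map NY.subtype ≤ Subgroup.centralizer (((frattini ↥P).map P.subtype : Subgroup G) : Set G) := by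
  rw [map_normalClosure_subgroupOf hYH] at hNY
  subst hNY
  set F := (frattini ↥P).map P.subtype with hF
  have hFP : F ≤ P := map_subtype_le _
  have hHF : H ≤ normalizer (F : Set G) :=
    hH.trans (CfsgLib.Core.normalizer_le_normalizer_map_frattini P)
  have hHD : H ≤ normalizer ((⁅P, P⁆ : Subgroup G) : Set G) := le_normalizer_commutator hH hH
  have hPD : P ≤ normalizer ((⁅P, P⁆ : Subgroup G) : Set G) := normalizer_commutator_ge_left _ _
  have hDP : ⁅P, P⁆ ≤ P := commutator_le_left_of_le_normalizer le_normalizer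
  have h1 : ⁅F, Y⁆ ≤ ⁅P, P⁆ := by
    have hs : F ≤ closure ((⁅P, P⁆ : Subgroup G) ∪ {z | ∃ x ∈ P, x ^ p = z}) :=
      (CfsgLib.Core.map_frattini_le_iff_of_isPGroup hP).2
        ⟨fun x hx => subset_closure (Or.inl hx), fun x hx => subset_closure (Or.inr ⟨x, hx, rfl⟩)⟩
    refine (commutator_mono hs le_rfl).trans (commutator_closure_le (le_trans ?_ hPD) ?_)
    · rw [closure_le]
      rintro z (hz | ⟨x, hx, rfl⟩)
      · exact hDP hz
      · exact P.pow_mem hx p
    · rintro z (hz | ⟨x, hx, rfl⟩) y hy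
      · exact commutator_le_left_of_le_normalizer (hYH.trans hHD) (commutator_mem_commutator hz hy)
      · have hc : ⁅y, x⁆ ∈ ⁅P, Y⁆ := by
          rw [commutator_comm]; exact commutator_mem_commutator hy hx
        have h2 := mul_pow_mem (commutator_le_left_of_le_normalizer (hYH.trans hH) hc) hx p
        have e : ⁅y, x⁆ * x = y * x * y⁻¹ := by rw [commutatorElement_def]; group
        rw [hel.2 _ hc, one_mul, e, conj_pow] at h2
        rw [← commutatorElement_inv]
        exact inv_mem h2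
  have h2 : ⁅nclIn Y H, F⁆ ≤ ⁅P, P⁆ :=
    commutator_nclIn_le (hYH.trans hHD) hHF hHD (by rwa [commutator_comm])
  refine pResOf_le_centralizer_of_le (X := ⁅P, P⁆) (hP.to_le hFP) ((nclIn_le_of_le hYH).trans hHF)
    ?_ ((pResOf_le _).trans (nclIn_le_centralizer hYc hHD))
  rw [commutator_comm]
  exact (commutator_mono (pResOf_le _) le_rfl).trans h2

end Cfsg.Agent.S2819
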