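import Cfsg.Statements.S2825
import Cfsg.Agent.Lib.LAE.PRed

set_option autoImplicit false
open Cfsg

namespace Cfsg.Agent.S2825

open CfsgLib.LAE Subgroup

/-- Let L be a subnormal subgroup of the finite group H, p a prime, Y_H and Y_L the largest p-reduced normal subgroups. Then Y_H ∩ L = Y_H ∩ Y_L and this subgroup is a p-reduced normal subgroup of L; C_L(Y_L) = C_L(Y_H) = C_L(Y_H ∩ L); and if O^p(H) ≤ L, then [Y_L, L] = 1 if and only if [Y_H, H] = 1. -/
theorem result {H : Type*} [Group H] [Finite H] {p : ℕ} [Fact p.Prime] (L : Subgroup H) (hL : L.IsSubnormal) : Cfsg.largestPReduced p H ⊓ L = Cfsg.largestPReduced p H ⊓ (Cfsg.largestPReducedOf p L) ∧ Cfsg.IsPReducedNormal p ((Cfsg.largestPReduced p H ⊓ L).subgroupOf L) ∧ L ⊓ Subgroup.centralizer ((Cfsg.largestPReducedOf p L : Subgroup H) : Set H) = L ⊓ Subgroup.centralizer (Cfsg.largestPReduced p H : Set H) ∧ L ⊓ Subgroup.centralizer (Cfsg.largestPReduced p H : Set H) = L ⊓ Subgroup.centralizer ((Cfsg.largestPReduced p H ⊓ L : Subgroup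 H) : Set H) ∧ (Cfsg.pResidual p H ≤ L → (⁅(Cfsg.largestPReducedOf p L), L⁆ = ⊥ ↔ ⁅Cfsg.largestPReduced p H, (⊤ : Subgroup H)⁆ = ⊥)) := by
  have hK : SubnormalIn L ⊤ := subnormalIn_top_iff.2 hL
  have hY := pRedIn_top_iff.2 (isPReducedNormal_largest (p := p) (G := H))
  have h1 := hY.inf hK
  have h2 := hK.inf_centralizer_largest (p := p)
  rw [largestPReducedOf_top] at h2
  refine ⟨le_antisymm (le_inf inf_le_left h1.le_largest)
    (inf_le_inf_left _ (pRedIn_largest L).le), (isPReducedNormal_subgroupOf_iff inf_le_right).2 h1,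
    h2, (hY.inf_centralizer_inf hK).symm, fun hO => ?_⟩
  rw [commutator_comm, commutator_eq_bot_iff_le_centralizer, commutator_comm,
    commutator_eq_bot_iff_le_centralizer]
  constructor
  · intro h
    have h3 : L ≤ centralizer (Cfsg.largestPReduced p H : Set H) :=
      ((le_inf le_rfl h).trans h2.le).trans inf_le_right
    exact hY.red ⊤ le_rfl le_normalizer (by rw [pResOf_top]; exact hO.trans h3)
  · intro h
    exact ((le_inf le_rfl (le_top.trans h)).trans h2.ge).trans inf_le_right

end Cfsg.Agent.S2825
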