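import Cfsg.Statements.S2826
import Cfsg.Agent.Lib.LAE.Gaschutz

set_option autoImplicit false
open Cfsg

namespace Cfsg.Agent.S2826

open CfsgLib.LAE Subgroup

/-- Let H be a finite group of characteristic p, T a Sylow p-subgroup, and V a normal elementary abelian p-subgroup of H containing Ω₁(Z(T)). Then C_H(Ω₁(Z(T))) = C_H([V, O^p(H)] ∩ Ω₁(Z(T))), O^p(H) being generated by the elements of order prime to p. -/
theorem result {H : Type*} [Group H] [Finite H] {p : ℕ} [Fact p.Prime] (hH : Subgroup.centralizer (Cfsg.pCore p H : Set H) ≤ Cfsg.pCore p H) (T : Sylow p H) (V : Subgroup H) [V.Normal] (hV : Cfsg.IsElementaryAbelian p V) (hZV : (Cfsg.omegaOne p ((T : Subgroup H) ⊓ Subgroup.centralizer (((T : Subgroup H) : Subgroup H) : Set H))) ≤ V) : Subgroup.centralizer ((Cfsg.omegaOne p ((T : Subgroup H) ⊓ Subgroup.centralizer (((T : Subgroup H) : Subgroup H) : Set H))) : Set H) = Subgroup.centralizer (((⁅V, Cfsg.pResidual p H⁆ ⊓ (Cfsg.omegaOne p ((T : Subgroup H) ⊓ Subgroup.centralizer (((T : Subgroup H) : Subgroup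 H) : Set H)))) : Subgroup H) : Set H) := by
  have hT := isSylowIn_top T
  have hp := CfsgLib.PLocal.elemAb_isPGroup hV
  have hVT : V ≤ T := hT.le_of_normal hp le_top le_normalizer_of_normal
  have h1 := hT.inf_centralizer_le_sup hp (CfsgLib.PLocal.elemAb_le_centralizer hV)
    le_normalizer_of_normal
  rw [pResOf_top] at h1
  refine le_antisymm (centralizer_anti inf_le_right) (le_centralizer_iff.1 ?_)
  refine (le_inf hZV (omegaZ_le_centralizer _)).trans (h1.trans (sup_le ?_ ?_))
  · exact inf_le_right.trans (centralizer_anti le_top)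
  · have hc : ⁅V, Cfsg.pResidual p H⁆ ≤ V := commutator_le_left_of_le_normalizer le_normalizer_of_normal
    refine le_trans (le_inf inf_le_left (le_omegaZ (CfsgLib.PLocal.elemAb_mono hV
      (inf_le_left.trans hc)) ((inf_le_left.trans hc).trans hVT) inf_le_right)) ?_
    exact le_centralizer_iff.1 le_rfl

end Cfsg.Agent.S2826
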