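import Cfsg.Statements.S2828
import Cfsg.Agent.Lib.LAE.PIrr

set_option autoImplicit false
open Cfsg

namespace Cfsg.Agent.S2828

open CfsgLib.LAE Subgroup

/-- Let H be a finite group, p a prime and D a normal p-subgroup of H. Then H is p-irreducible if and only if H/D is p-irreducible, and H is strongly p-irreducible if and only if H/D is strongly p-irreducible. -/
theorem result {H : Type*} [Group H] [Finite H] {p : ℕ} [Fact p.Prime] (D : Subgroup H) [D.Normal] (hD : IsPGroup p ↥D) : (Cfsg.IsPIrreducible p H ↔ Cfsg.IsPIrreducible p (H ⧸ D)) ∧ (Cfsg.IsStronglyPIrreducible p H ↔ Cfsg.IsStronglyPIrreducible p (H ⧸ D)) := by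
  have hf := QuotientGroup.mk'_surjective D
  have hk : IsPGroup p (QuotientGroup.mk' D).ker := by rwa [QuotientGroup.ker_mk']
  have ht : (⊤ : Subgroup H).map (QuotientGroup.mk' D) = ⊤ := map_top_of_surjective _ hf
  have hc : Cfsg.IsPClosed p H ↔ Cfsg.IsPClosed p (H ⧸ D) := by
    rw [← CfsgLib.LocStr.isPClosed_top_iff, ← CfsgLib.LocStr.isPClosed_top_iff (G := H ⧸ D), ← ht]
    exact ⟨isPClosed_map _, isPClosed_of_map hk⟩
  have hr : (Cfsg.pResidual p H).map (QuotientGroup.mk' D) = Cfsg.pResidual p (H ⧸ D) := by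
    rw [← pResOf_top, map_pResOf, ht, pResOf_top]
  have hcomm : ∀ N : Subgroup H, ⁅N.map (QuotientGroup.mk' D), (⊤ : Subgroup (H ⧸ D))⁆ ≤
      Cfsg.pCore p (H ⧸ D) ↔ ⁅N, (⊤ : Subgroup H)⁆ ≤ Cfsg.pCore p H := by
    intro N
    rw [← ht, ← map_commutator, map_le_iff_le_comap, comap_pCore_of_ker hf hk]
  refine ⟨by rw [← pIrrIn_top_iff, ← pIrrIn_top_iff, ← ht, pIrrIn_map_iff_of_ker hk], ?_⟩
  refine and_congr (not_congr hc) ⟨fun h N hN hle => ?_, fun h N hN hle => ?_⟩
  · rw [← map_comap_eq_self_of_surjective hf N] at hle ⊢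
    rw [← hr]
    exact map_mono (h _ inferInstance (by rwa [← hcomm]))
  · have h1 := h _ (hN.map _ hf) (by rwa [hcomm])
    rw [← hr, map_le_iff_le_comap, comap_map_eq, QuotientGroup.ker_mk', ← pResOf_top] at h1
    have := CfsgLib.LocStr.pResOf_le_of_le_sup hD le_normalizer_of_normal h1
    rwa [pResOf_pResOf, pResOf_top] at this

end Cfsg.Agent.S2828
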