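import Cfsg.Statements.S2829
import Cfsg.Agent.Lib.LAE.PIrr

set_option autoImplicit false
open Cfsg

namespace Cfsg.Agent.S2829

open CfsgLib.LAE Subgroup

/-- Every strongly p-irreducible finite group is p-irreducible. -/
theorem result {H : Type*} [Group H] [Finite H] {p : ℕ} [Fact p.Prime] (hH : Cfsg.IsStronglyPIrreducible p H) : Cfsg.IsPIrreducible p H := by
  refine ⟨hH.1, fun N hN hc => hH.2 N hN fun h => hc ?_⟩
  refine isPClosed_of_commutator_le (H := ⊤) le_top ?_
  rw [pCoreOf_top]
  exact (commutator_mono le_rfl le_top).trans h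

end Cfsg.Agent.S2829
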