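import Cfsg.Statements.S2831
import Cfsg.Agent.Lib.LAE.PIrr

set_option autoImplicit false
open Cfsg

namespace Cfsg.Agent.S2831

open CfsgLib.LAE Subgroup

/-- Let H be a finite group with Sylow p-subgroup T such that H is T-minimal (H is generated by the conjugates of T and T lies in exactly one maximal subgroup of H). Then H is p-irreducible: H is not p-closed and O^p(H) lies in every normal subgroup of H that is not p-closed. -/
theorem result {H : Type*} [Group H] [Finite H] {p : ℕ} [Fact p.Prime] (T : Sylow p H) (hmin : Cfsg.IsMinimalOver (T : Subgroup H)) : Cfsg.IsPIrreducible p H := by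
  obtain ⟨h1, M, h2⟩ := isMinimalOver_iff.1 hmin
  exact pIrrIn_top_iff.1 (h2.pIrrIn (isSylowIn_top T) ((h2.nclIn_eq_iff (isSylowIn_top T)).1 h1))

end Cfsg.Agent.S2831
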