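import Cfsg.Statements.S2832
import Cfsg.Agent.Lib.LAE.PIrr

set_option autoImplicit false
open Cfsg

namespace Cfsg.Agent.S2832

open CfsgLib.LAE Subgroup

/-- Let H be a finite group with Sylow p-subgroup T such that H is T-minimal (generated by the conjugates of T, with T in exactly one maximal subgroup), and let N be a normal subgroup of H. Then either H/N is a p-group or H/N is minimal over the image of T in the same sense. -/
theorem result {H : Type*} [Group H] [Finite H] {p : ℕ} [Fact p.Prime] (T : Sylow p H) (hmin : Cfsg.IsMinimalOver (T : Subgroup H)) (N : Subgroup H) [N.Normal] : IsPGroup p (H ⧸ N) ∨ Cfsg.IsMinimalOver ((T : Subgroup H).map (QuotientGroup.mk' N)) := by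
  obtain ⟨h1, M, h2⟩ := isMinimalOver_iff.1 hmin
  have hf := QuotientGroup.mk'_surjective N
  have ht : (⊤ : Subgroup H).map (QuotientGroup.mk' N) = ⊤ := map_top_of_surjective _ hf
  rcases h2.normal_cases (isSylowIn_top T) le_top (le_normalizer_of_normal (H := N)) with h | h
  · left
    have h3 := (isPGroup_map_mk'_iff (p := p) (N := N) (D := ⊤)).2
      (CfsgLib.LocStr.pResOf_le_of_le_sup T.isPGroup' le_normalizer_of_normal h.ge)
    rw [ht] at h3
    exact h3.of_equiv topEquiv
  · right
    rw [isMinimalOver_iff, ← ht, ← map_nclIn, h1]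
    exact ⟨rfl, _, h2.map _ (by rw [QuotientGroup.ker_mk']; exact inf_le_right.trans h.1)⟩

end Cfsg.Agent.S2832
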