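import Cfsg.Statements.S2833
import Cfsg.Agent.Lib.LAE.CharP

set_option autoImplicit false
open Cfsg

namespace Cfsg.Agent.S2833

open CfsgLib.LAE Subgroup

/-- Let V be a subgroup of a finite group G normalized by the subgroup L, let X ≤ L and g ∈ L with [V, X, X] = 1 and L generated by X and gXg⁻¹. Put W = [V, L]. Then W = [V, X]·[V, gXg⁻¹], C_W(X) = [V, X], and C_W(L) = [V, X] ∩ [V, gXg⁻¹]. -/
theorem result {G : Type*} [Group G] [Finite G] (V L : Subgroup G) (hLV : L ≤ Subgroup.normalizer (V : Set G)) (X : Subgroup G) (hX : X ≤ L) (g : G) (hg : g ∈ L) (hq : ⁅⁅V, X⁆, X⁆ = ⊥) (hgen : X ⊔ X.map (MulAut.conj g).toMonoidHom = L) (W : Subgroup G) (hW : W = ⁅V, L⁆) : ⁅V, X⁆ ⊔ ⁅V, X.map (MulAut.conj g).toMonoidHom⁆ = W ∧ W ⊓ Subgroup.centralizer (X : Set G) = ⁅V, X⁆ ∧ W ⊓ Subgroup.centralizer (L : Set G) = ⁅V, X⁆ ⊓ ⁅V, X.map (MulAut.conj g).toMonoidHom⁆ := by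
  change ⁅V, X⁆ ⊔ ⁅V, conjS g X⁆ = W ∧ _ ∧ _ = ⁅V, X⁆ ⊓ ⁅V, conjS g X⁆
  change X ⊔ conjS g X = L at hgen
  have hXg : conjS g X ≤ L := conjS_le_of_le_of_mem hX hg
  have hgV : conjS g V = V := mem_normalizer_iff_conjS.1 (hLV hg)
  have hB : conjS g ⁅V, X⁆ = ⁅V, conjS g X⁆ := by rw [conjS_commutator, hgV]
  have hA1 : ⁅V, X⁆ ≤ centralizer (X : Set G) := commutator_eq_bot_iff_le_centralizer.1 hq
  have hB1 : ⁅V, conjS g X⁆ ≤ centralizer (conjS g X : Set G) := by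
    rw [← hB, ← conjS_centralizer]; exact conjS_mono hA1
  have hAV : ⁅V, X⁆ ≤ V := commutator_le_left_of_le_normalizer (hX.trans hLV)
  have hBV : ⁅V, conjS g X⁆ ≤ V := commutator_le_left_of_le_normalizer (hXg.trans hLV)
  have key : ∀ Y : Subgroup G, ⁅V, Y⁆ ≤ ⁅V, X⁆ ⊔ ⁅V, conjS g X⁆ →
      Y ≤ normalizer ((⁅V, X⁆ ⊔ ⁅V, conjS g X⁆ : Subgroup G) : Set G) := fun Y hY => by
    rw [le_normalizer_iff_commutator_le_left]
    exact (commutator_mono (sup_le hAV hBV) le_rfl).trans hY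
  have h1 : ⁅V, X⁆ ⊔ ⁅V, conjS g X⁆ = W := by
    rw [hW]
    refine le_antisymm (sup_le (commutator_mono le_rfl hX) (commutator_mono le_rfl hXg)) ?_
    rw [← hgen]
    exact commutator_sup_le' (key _ le_sup_left) (key _ le_sup_right) le_sup_left le_sup_right
  have hWL : L ≤ normalizer (W : Set G) := hW ▸ le_normalizer_commutator hLV le_normalizer
  have h2 : W ⊓ centralizer (X : Set G) = ⁅V, X⁆ := by
    refine le_antisymm ?_ (le_inf (le_sup_left.trans h1.le) hA1)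
    rintro w ⟨hw, hc⟩
    rw [← h1] at hw
    obtain ⟨a, ha, b, hb, rfl⟩ := (mem_sup_iff_of_left_le_normalizer
      (hAV.trans (normalizer_commutator_ge_left _ _))).1 hw
    refine mul_mem ha ?_
    have hbX : b ∈ centralizer (X : Set G) := by
      have := (centralizer (X : Set G)).mul_mem (inv_mem (hA1 ha)) hc
      rwa [inv_mul_cancel_left] at this
    have hbL : b ∈ centralizer (L : Set G) := by
      rw [← hgen, centralizer_sup]; exact ⟨hbX, hB1 hb⟩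
    rw [← hB, mem_conjS, mul_assoc, ← hbL g hg, inv_mul_cancel_left] at hb
    exact hb
  refine ⟨h1, h2, ?_⟩
  rw [← hB, ← h2, conjS_inf, mem_normalizer_iff_conjS.1 (hWL hg), conjS_centralizer, ← hgen,
    centralizer_sup, inf_inf_inf_comm, inf_idem]

end Cfsg.Agent.S2833
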