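import Cfsg.Statements.S2836
import Cfsg.Agent.Lib.LocStr.Minimal

set_option autoImplicit false
open Cfsg

namespace Cfsg.Agent.S2836

open CfsgLib.LocStr CfsgLib.LAE

/-- Let L be a finite group, L₀ a maximal subgroup, T a Sylow p-subgroup of L₀, Y ≤ T, and suppose L is Y-minimal. Let D be the intersection of the conjugates of L₀ (the core of L₀). Then D contains O_p(L) and D/O_p(L) is the Frattini subgroup of L/O_p(L), so D is p-closed; and every normal subgroup N of L contained in L₀ is p-closed with N/O_p(N) a nilpotent group of order prime to p. -/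
theorem result {L : Type*} [Group L] [Finite L] {p : ℕ} [Fact p.Prime] (L₀ : Subgroup L) (hL₀ : IsCoatom L₀) (T : Sylow p ↥L₀) (Y : Subgroup L) (hYT : Y ≤ (T : Subgroup ↥L₀).map L₀.subtype) (hmin : Cfsg.IsMinimalOver Y) : (Cfsg.pCore p L ≤ L₀.normalCore ∧ (L₀.normalCore).map (QuotientGroup.mk' (Cfsg.pCore p L)) = frattini (L ⧸ Cfsg.pCore p L) ∧ Cfsg.IsPClosed p ↥(L₀.normalCore)) ∧ ∀ (N : Subgroup L) [N.Normal], N ≤ L₀ → Cfsg.IsPClosed p ↥N ∧ Group.IsNilpotent (↥N ⧸ Cfsg.pCore p ↥N) ∧ (Nat.card (↥N ⧸ Cfsg.pCore p ↥N)).Coprime p := by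
  have hT := isSylowIn_map_subtype T
  have h := minOver_top hmin hL₀ (hYT.trans hT.le)
  have hY : IsPGroup p Y := hT.isPGroup.to_le hYT
  have hO0 : pCore p L ≤ L₀ := by rw [← pCoreOf_top]; exact h.op_le hY
  have hn : ∀ N : Subgroup L, N.Normal → ⊤ ≤ Subgroup.normalizer (N : Set L) := fun N hN =>
    (Subgroup.normalizer_eq_top_iff.2 hN).ge
  have hker : (QuotientGroup.mk' (pCore p L)).ker = pCore p L := QuotientGroup.ker_mk' _
  have hsurj := QuotientGroup.mk'_surjective (pCore p L)
  have hfr : ∀ N : Subgroup L, N.Normal → N ≤ L₀ →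
      N.map (QuotientGroup.mk' (pCore p L)) ≤ frattini (L ⧸ pCore p L) := by
    intro N hN hN0
    rw [frattini, Order.radical]
    refine le_iInf₂ fun X hX => ?_
    by_contra hle
    have hX' : IsCoatom (X.comap (QuotientGroup.mk' (pCore p L))) :=
      (Subgroup.isCoatom_comap_of_surjective hsurj hX)
    refine h.not_sup_eq hY hN0 (hn N hN) (X := X.comap (QuotientGroup.mk' (pCore p L))) ?_
      hX'.lt_top ?_
    · rw [pCoreOf_top]
      exact hker.ge.trans (Subgroup.ker_le_comap _ _)
    · refine hX'.2 _ (lt_of_le_of_ne le_sup_right fun he => hle ?_)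
      rw [Subgroup.map_le_iff_le_comap, he]
      exact le_sup_left
  refine ⟨⟨Subgroup.normal_le_normalCore.2 hO0, le_antisymm (hfr _ inferInstance L₀.normalCore_le) ?_,
    h.isPClosed_of_normal hY L₀.normalCore_le (hn _ inferInstance)⟩, fun N hN hN0 => ?_⟩
  · have h1 : (frattini (L ⧸ pCore p L)).comap (QuotientGroup.mk' (pCore p L)) ≤ L₀.normalCore := by
      refine Subgroup.normal_le_normalCore.2 ?_
      have h2 : IsCoatom (L₀.map (QuotientGroup.mk' (pCore p L))) := by
        refine ⟨fun he => hL₀.1 ?_, fun X hX => ?_⟩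
        · have := congrArg (Subgroup.comap (QuotientGroup.mk' (pCore p L))) he
          rwa [Subgroup.comap_map_eq, hker, sup_eq_left.2 hO0, Subgroup.comap_top] at this
        · have h3 : L₀ < X.comap (QuotientGroup.mk' (pCore p L)) := by
            refine lt_of_le_of_ne (Subgroup.map_le_iff_le_comap.1 hX.le) fun he => hX.ne ?_
            rw [he, Subgroup.map_comap_eq_self_of_surjective hsurj]
          rw [← Subgroup.map_comap_eq_self_of_surjective hsurj X, hL₀.2 _ h3,
            Subgroup.map_top_of_surjective _ hsurj]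
      refine (Subgroup.comap_mono (frattini_le_coatom h2)).trans ?_
      rw [Subgroup.comap_map_eq, hker, sup_eq_left.2 hO0]
    rw [← Subgroup.map_comap_eq_self_of_surjective hsurj (frattini _)]
    exact Subgroup.map_mono h1
  · have hc := h.isPClosed_of_normal hY hN0 (hn N hN)
    refine ⟨hc, ?_, ?_⟩
    · have hnil : Group.IsNilpotent (N.map (QuotientGroup.mk' (pCore p L))) := by
        have := frattini_nilpotent (G := L ⧸ pCore p L)
        exact CfsgLib.Core.isNilpotent_of_le (hfr N hN hN0)
      let f : N →* L ⧸ pCore p L := (QuotientGroup.mk' (pCore p L)).comp N.subtype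
      have hk : f.ker = pCore p N := by
        rw [← MonoidHom.comap_ker, hker]
        apply Subgroup.map_injective N.subtype_injective
        rw [CfsgLib.Core.map_pCore_of_normal]
        exact Subgroup.subgroupOf_map_subtype _ _
      have hr : f.range = N.map (QuotientGroup.mk' (pCore p L)) := by
        rw [MonoidHom.range_comp, Subgroup.range_subtype]
      have e : N ⧸ pCore p N ≃* N.map (QuotientGroup.mk' (pCore p L)) :=
        (QuotientGroup.quotientMulEquivOfEq hk.symm).trans
          ((QuotientGroup.quotientKerEquivRange f).trans (MulEquiv.subgroupCongr hr))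
      exact Group.nilpotent_of_mulEquiv e.symm
    · have := (isPClosed_iff_op.1 hc).coprime_relIndex
      rwa [Subgroup.relIndex, pCoreOf_subgroupOf, Subgroup.index] at this

end Cfsg.Agent.S2836
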