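import Cfsg.Statements.S2837
import Cfsg.Agent.Lib.LocStr.MinimalA

set_option autoImplicit false
open Cfsg

namespace Cfsg.Agent.S2837

open CfsgLib.LocStr CfsgLib.LAE

/-- Let L be a finite group of characteristic p, L₀ a maximal subgroup, Y an elementary abelian p-subgroup of L₀ with L Y-minimal and O_p(L) ≤ N_L(Y). Put A = the normal closure of O_p(L) ∩ Y in L. Then for every g ∈ L outside L₀: Φ(A) = A' = [A ∩ Y, A] = [A ∩ Y, A ∩ gYg⁻¹] ≤ C_Y(L), and Y ∩ gYg⁻¹ = (A ∩ Y) ∩ (A ∩ gYg⁻¹) = C_Y(L) = C_A(L). -/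
theorem result {L : Type*} [Group L] [Finite L] {p : ℕ} [Fact p.Prime] (hchar : Subgroup.centralizer (Cfsg.pCore p L : Set L) ≤ Cfsg.pCore p L) (L₀ : Subgroup L) (hL₀ : IsCoatom L₀) (Y : Subgroup L) (hYL₀ : Y ≤ L₀) (hYel : Cfsg.IsElementaryAbelian p Y) (hmin : Cfsg.IsMinimalOver Y) (hOY : Cfsg.pCore p L ≤ Subgroup.normalizer (Y : Set L)) (A : Subgroup L) (hA : A = Subgroup.normalClosure (((Cfsg.pCore p L ⊓ Y : Subgroup L)) : Set L)) (g : L) (hg : g ∉ L₀) : (frattini ↥A).map A.subtype = ⁅A, A⁆ ∧ ⁅A, A⁆ = ⁅A ⊓ Y, A⁆ ∧ ⁅A ⊓ Y, A⁆ = ⁅A ⊓ Y, A ⊓ Y.map (MulAut.conj g).toMonoidHom⁆ ∧ ⁅A ⊓ Y, A⁆ ≤ Y ⊓ Subgroup.center L ∧ Y ⊓ Y.map (MulAut.conj g).toMonoidHom = Y ⊓ Subgroup.center L ∧ (A ⊓ Y) ⊓ (A ⊓ Y.map (MulAut.conj g).toMonoidHom) = Y ⊓ Subgroup.center L ∧ A ⊓ Subgroup.center L = Y ⊓ Subgroup.center L := by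
  have h : MinA p Y ⊤ L₀ := ⟨minOver_top hmin hL₀ hYL₀, hYel, by rwa [pCoreOf_top]⟩
  have hA' : A = nclIn (pCoreOf p ⊤ ⊓ Y) ⊤ := by rw [hA, nclIn_top, pCoreOf_top]
  have hZ : Subgroup.center L = Subgroup.centralizer ((⊤ : Subgroup L) : Set L) := by
    rw [Subgroup.coe_top, Subgroup.centralizer_univ]
  have hg' := Subgroup.mem_top g
  rw [← conjS_def, hZ, hA', h.nclIn_inf_self, h.nclIn_inf hg']
  have e1 := h.commutator_eq hg' hg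
  have l1 : ⁅pCoreOf p ⊤ ⊓ Y, pCoreOf p ⊤ ⊓ conjS g Y⁆ ≤
      ⁅pCoreOf p ⊤ ⊓ Y, nclIn (pCoreOf p ⊤ ⊓ Y) ⊤⁆ := by
    refine Subgroup.commutator_mono le_rfl ?_
    rw [← h.nclIn_inf hg']; exact inf_le_left
  have l2 : ⁅pCoreOf p ⊤ ⊓ Y, nclIn (pCoreOf p ⊤ ⊓ Y) ⊤⁆ ≤
      ⁅nclIn (pCoreOf p ⊤ ⊓ Y) ⊤, nclIn (pCoreOf p ⊤ ⊓ Y) ⊤⁆ :=
    Subgroup.commutator_mono (le_nclIn _ _) le_rfl
  refine ⟨h.frattini_eq, le_antisymm (e1.le.trans l1) l2, le_antisymm (l2.trans e1.le) l1,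
    l2.trans h.commutator_le_center, h.inf_conj hg' hg, ?_, h.nclIn_inf_center⟩
  rw [← inf_inf_distrib_left, h.inf_conj hg' hg]
  exact inf_eq_right.2 h.center_le_op

end Cfsg.Agent.S2837
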