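import Cfsg.Statements.S2840
import Cfsg.Agent.Lib.LocStr.WeakClosed

set_option autoImplicit false
open Cfsg

namespace Cfsg.Agent.S2840

open CfsgLib.LocStr CfsgLib.LAE

/-- Let Q be a nontrivial p-subgroup of the finite group H that is a weakly closed subgroup and K a subgroup containing Q; let K° be the weak closure of Q in K (generated by the H-conjugates of Q inside K). Then K° is generated by the K-conjugates of Q, and K° is the subnormal closure of Q in K. -/
theorem result {H : Type*} [Group H] [Finite H] {p : ℕ} [Fact p.Prime] (Q : Subgroup H) (hQp : IsPGroup p ↥Q) (hQ1 : Q ≠ ⊥) (hwc : Cfsg.IsWeaklyClosedSubgroup p Q) (K : Subgroup H) (hQK : Q ≤ K) (Kc : Subgroup H) (hKc : Kc = Cfsg.weakClosure Q K) : Kc = ⨆ k : ↥K, ((Q : Subgroup H).map (MulAut.conj ((k : H) : H)).toMonoidHom) ∧ Kc = (Cfsg.subnormalClosure (Q.subgroupOf K)).map K.subtype := by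
  subst hKc
  refine ⟨wc_weakClosure_eq_iSup hwc hQK, le_antisymm ?_ ?_⟩
  · rw [wc_weakClosure_le_iff hwc hQK]
    intro k hk x hx
    refine ⟨⟨x, conjS_le_of_le_of_mem hQK hk hx⟩, ?_, rfl⟩
    refine Subgroup.mem_sInf.2 fun S hS => ?_
    apply wc_conj_le_of_isSubnormal (wc_subgroupOf hwc hQK) hS.2 hS.1 ⟨k, hk⟩
    rw [conjS_subgroupOf]
    exact hx
  · rw [Subgroup.map_le_iff_le_comap]
    refine sInf_le ⟨fun x hx => le_weakClosure hQK hx, ?_⟩
    exact (normal_subgroupOf_of_le (le_normalizer_weakClosure Q K)).isSubnormal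

end Cfsg.Agent.S2840
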