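import Cfsg.Statements.S2841
import Cfsg.Agent.Lib.LocStr.WeakClosed

set_option autoImplicit false
open Cfsg

namespace Cfsg.Agent.S2841

open CfsgLib.LocStr CfsgLib.LAE

/-- Let Q be a nontrivial p-subgroup of the finite group H that is a weakly closed subgroup and N a normal subgroup of H. Then N = N_N(Q)·[N, Q] and [N, Q] = (Q ∩ [N, Q])·[N, Q, Q]. -/
theorem result {H : Type*} [Group H] [Finite H] {p : ℕ} [Fact p.Prime] (Q : Subgroup H) (hQp : IsPGroup p ↥Q) (hQ1 : Q ≠ ⊥) (hwc : Cfsg.IsWeaklyClosedSubgroup p Q) (N' : Subgroup H) [N'.Normal] : (∀ n : H, n ∈ N' → ∃ a ∈ N' ⊓ Subgroup.normalizer ((Q : Subgroup H) : Set H), ∃ b ∈ ⁅N', Q⁆, n = a * b) ∧ (∀ c : H, c ∈ ⁅N', Q⁆ → ∃ a ∈ Q ⊓ ⁅N', Q⁆, ∃ b ∈ ⁅⁅N', Q⁆, Q⁆, c = a * b) := by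
  constructor
  · intro n hn
    have h1 : conjS n⁻¹ Q ≤ ⁅N', Q⁆ ⊔ Q := by
      rw [← wc_weakClosure_sup_eq hwc]
      exact conj_le_weakClosure
        (conjS_le_of_le_of_mem le_sup_right (Subgroup.mem_sup_left (inv_mem hn)))
    obtain ⟨k, hk, e⟩ := wc_exists_conj_eq hwc le_sup_right h1
    obtain ⟨c, hc, q, hq, rfl⟩ :=
      (mem_sup_iff_of_right_le_normalizer (Subgroup.normalizer_commutator_ge_right N' Q)).1 hk
    rw [conjS_mul, conjS_eq_of_mem hq] at e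
    refine ⟨n * c, ⟨mul_mem hn (Subgroup.commutator_le_left _ _ hc), ?_⟩, c⁻¹, inv_mem hc, by group⟩
    change n * c ∈ Subgroup.normalizer (Q : Set H)
    rw [mem_normalizer_iff_conjS, conjS_mul, ← e, conjS_conjS_inv]
  · intro c hc
    have h1 : ⁅⁅N', Q⁆, Q⁆ ⊔ Q = ⁅N', Q⁆ ⊔ Q := by
      rw [← wc_weakClosure_sup_eq hwc, ← wc_weakClosure_sup_eq hwc (N := N'), weakClosure_idem]
    have h2 : c ∈ Q ⊔ ⁅⁅N', Q⁆, Q⁆ := by
      rw [sup_comm, h1]; exact Subgroup.mem_sup_left hc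
    obtain ⟨a, ha, b, hb, rfl⟩ :=
      (mem_sup_iff_of_left_le_normalizer (Subgroup.normalizer_commutator_ge_right _ Q)).1 h2
    have hb' : b ∈ ⁅N', Q⁆ :=
      commutator_le_left_of_le_normalizer (Subgroup.normalizer_commutator_ge_right _ Q) hb
    exact ⟨a, ⟨ha, (Subgroup.mul_mem_cancel_right _ hb').1 hc⟩, b, hb, rfl⟩

end Cfsg.Agent.S2841
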