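import Cfsg.Statements.S2844
import Cfsg.Agent.Lib.LocStr.Large

set_option autoImplicit false
open Cfsg

namespace Cfsg.Agent.S2844

open CfsgLib.LocStr CfsgLib.LAE

/-- Let Q be a nontrivial large p-subgroup of the finite group H and Q• = O_p(N_H(Q)). Then for every g ∈ H outside N_H(Q): C_H(Q) ∩ C_H(gQg⁻¹) = 1, C_H(Q•) ∩ C_H(gQ•g⁻¹) = 1, Z(Q) ∩ Z(gQg⁻¹) = 1 and Z(Q•) ∩ Z(gQ•g⁻¹) = 1; moreover N_H(Q) = N_H(Q•) and Q• is large in H. -/
theorem result {H : Type*} [Group H] [Finite H] {p : ℕ} [Fact p.Prime] (Q : Subgroup H) (hQp : IsPGroup p ↥Q) (hQ1 : Q ≠ ⊥) (hL : Cfsg.IsLarge Q) (Qb : Subgroup H) (hQb : Qb = Cfsg.largeBullet p Q) : (∀ g : H, g ∉ Subgroup.normalizer ((Q : Subgroup H) : Set H) → Subgroup.centralizer ((Q : Subgroup H) : Set H) ⊓ Subgroup.centralizer ((((Q : Subgroup H).map (MulAut.conj (g : H)).toMonoidHom) : Subgroup H) : Set H) = ⊥ ∧ Subgroup.centralizer ((Qb : Subgroup H) : Set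 H) ⊓ Subgroup.centralizer ((((Qb : Subgroup H).map (MulAut.conj (g : H)).toMonoidHom) : Subgroup H) : Set H) = ⊥ ∧ (Q ⊓ Subgroup.centralizer ((Q : Subgroup H) : Set H)) ⊓ (((Q : Subgroup H).map (MulAut.conj (g : H)).toMonoidHom) ⊓ Subgroup.centralizer ((((Q : Subgroup H).map (MulAut.conj (g : H)).toMonoidHom) : Subgroup H) : Set H)) = ⊥ ∧ (Qb ⊓ Subgroup.centralizer ((Qb : Subgroup H) : Set H)) ⊓ (((Qb : Subgroup H).map (MulAut.conj (g : H)).toMonoidHom) ⊓ Subgroup.centralizer ((((Qb : Subgroup H).map (MulAut.conj (g : H)).toMonoidHom) : Subgroup H) : Set H)) = ⊥) ∧ Subgroup.normalizer ((Q : Subgroup H) : Set H) = Subgroup.normalizer ((Qb : Subgroup H) : Set H) ∧ Cfsg.IsLarge Qb := by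
  have hQQb : Q ≤ Qb := hQb ▸ le_pCoreOf hQp Subgroup.le_normalizer le_rfl
  have hQbp : IsPGroup p Qb := hQb ▸ isPGroup_pCoreOf _
  have hN : Subgroup.normalizer (Q : Set H) = Subgroup.normalizer (Qb : Set H) :=
    le_antisymm (hQb ▸ le_normalizer_pCoreOf _)
      (wc_normalizer_le (large_wc hQp hQ1 hL) hQbp hQQb)
  refine ⟨fun g hg => ?_, hN, ((centralizer_anti hQQb).trans hL.1).trans hQQb,
    fun U hU hU1 => hN ▸ hL.2 U (hU.trans (centralizer_anti hQQb)) hU1⟩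
  have h1 := large_centralizer_inf_eq_bot hQp hQ1 hL (g := g)
    (fun e => hg (mem_normalizer_iff_conjS.2 e))
  have h2 : Subgroup.centralizer (Qb : Set H) ⊓ Subgroup.centralizer (conjS g Qb : Set H) = ⊥ :=
    le_bot_iff.1 (h1 ▸ inf_le_inf (centralizer_anti hQQb) (centralizer_anti (conjS_mono hQQb)))
  exact ⟨h1, h2, le_bot_iff.1 (h1 ▸ inf_le_inf inf_le_right inf_le_right),
    le_bot_iff.1 (h2 ▸ inf_le_inf inf_le_right inf_le_right)⟩

end Cfsg.Agent.S2844
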