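import Cfsg.Statements.S2845
import Cfsg.Agent.Lib.LocStr.Large

set_option autoImplicit false
open Cfsg

namespace Cfsg.Agent.S2845

open CfsgLib.LocStr CfsgLib.LAE

/-- Let Q be a nontrivial large p-subgroup of the finite group H. Then for every subgroup L ≥ Q with O_p(L) ≠ 1, C_H(O_p(L)) is a p-group and L has characteristic p, and either the weak closure L° of Q in L equals Q or C_H(L°) = 1; for every subgroup R of H containing a Sylow p-subgroup of H with O_p(R) ≠ 1, C_H(O_p(R)) ≤ O_p(R); and H has parabolic characteristic p. -/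
theorem result {H : Type*} [Group H] [Finite H] {p : ℕ} [Fact p.Prime] (Q : Subgroup H) (hQp : IsPGroup p ↥Q) (hQ1 : Q ≠ ⊥) (hL : Cfsg.IsLarge Q) : (∀ L : Subgroup H, Q ≤ L → Cfsg.pCore p ↥L ≠ ⊥ → IsPGroup p ↥(Subgroup.centralizer (((Cfsg.pCoreOf p L) : Subgroup H) : Set H)) ∧ Subgroup.centralizer (Cfsg.pCore p ↥L : Set ↥L) ≤ Cfsg.pCore p ↥L ∧ (Cfsg.weakClosure Q L = Q ∨ Subgroup.centralizer (((Cfsg.weakClosure Q L) : Subgroup H) : Set H) = ⊥)) ∧ (∀ R : Subgroup H, Cfsg.IsParabolic p R → Cfsg.pCore p ↥R ≠ ⊥ → Subgroup.centralizer (((Cfsg.pCoreOf p R) : Subgroup H) : Set H) ≤ (Cfsg.pCoreOf p R)) ∧ Cfsg.IsOfParabolicCharacteristic p H := by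
  refine ⟨fun L hQL h1 => ?_, fun R ⟨S, hS⟩ h1 => large_centralizer_op_le hQp hQ1 hL S hS
    (fun e => h1 (pCoreOf_eq_bot_iff.1 e)), large_parabolic hQp hQ1 hL⟩
  obtain ⟨-, h2, h3⟩ := large_charP hQp hQ1 hL hQL (fun e => h1 (pCoreOf_eq_bot_iff.1 e))
  refine ⟨h2, charP_iff.2 h3, ?_⟩
  by_cases h : weakClosure Q L ≤ Q
  · exact Or.inl (le_antisymm h (le_weakClosure hQL))
  · right
    rw [weakClosure_le_iff] at h
    push Not at h
    obtain ⟨g, hg, hne⟩ := h
    have h4 := large_centralizer_inf_eq_bot hQp hQ1 hL (g := g) (fun e => hne e.le)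
    exact le_bot_iff.1 (h4 ▸ le_inf (centralizer_anti (le_weakClosure hQL))
      (centralizer_anti (conj_le_weakClosure hg)))

end Cfsg.Agent.S2845
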