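import Cfsg.Statements.S2851
import Cfsg.Agent.Lib.LocStr.FrakM
import Cfsg.Agent.Lib.Comp.FStar

set_option autoImplicit false
open Cfsg

namespace Cfsg.Agent.S2851

open CfsgLib.LocStr CfsgLib.LAE CfsgLib.Comp

theorem aux {X : Type*} [Group X] [Finite X] {p : ℕ} [Fact p.Prime] (hO : pCore p X = ⊥)
    {D : Subgroup X} (hD : IsPGroup p D)
    (hn : generalizedFittingSubgroup X ≤ Subgroup.normalizer (D : Set X)) : D = ⊥ := by
  have hF : (generalizedFittingSubgroup X).Normal := fstar_normal
  have h1 : D ⊓ generalizedFittingSubgroup X = ⊥ := by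
    have h2 := le_pCoreOf hD.to_inf_left inf_le_right (le_normalizer_inf hn Subgroup.le_normalizer)
    have h3 := pCoreOf_mono_of_normal (p := p) (K := generalizedFittingSubgroup X) (H := ⊤) le_top
      (Subgroup.normalizer_eq_top_iff.2 hF).ge
    rw [pCoreOf_top, hO] at h3
    exact le_bot_iff.1 (h2.trans h3)
  have h4 := CfsgLib.Core.le_centralizer_of_le_normalizer_of_disjoint
    (le_top.trans (Subgroup.normalizer_eq_top_iff.2 hF).ge) hn h1
  rw [← h1, eq_comm, inf_eq_left]
  exact h4.trans centralizer_fstar_le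

/-- Standing hypotheses: G a finite group, S a Sylow p-subgroup, Q a nontrivial large p-subgroup of G contained in S, M a subgroup containing S with the basic property (M ∈ 𝔐_G(S)); Y_M the largest p-reduced normal subgroup of M and M† = M·C_G(Y_M). Let F be the preimage in M† of the generalized Fitting subgroup of M†/C_{M†}(Y_M). If Y_M is asymmetric in G and H is a subgroup of characteristic p containing F, then Y_M ≤ Y_H. -/
theorem result {G : Type*} [Group G] [Finite G] {p : ℕ} [Fact p.Prime] (S : Sylow p G) (Q : Subgroup G) (hQp : IsPGroup p ↥Q) (hQ1 : Q ≠ ⊥) (hQS : Q ≤ (S : Subgroup G)) (hQ : Cfsg.IsLarge Q) (M : Subgroup G) (hSM : (S : Subgroup G) ≤ M) (hM : Cfsg.IsInFrakM p M) (hasym : ¬ Cfsg.IsSymmetricIn (Cfsg.largestPReducedOf p M)) [hn : ((Subgroup.centralizer (((Cfsg.largestPReducedOf p M) : Subgroup G) : Set G)).subgroupOf (M ⊔ Subgroup.centralizer (((Cfsg.largestPReducedOf p M) : Subgroup G) : Set G))).Normal] (F : Subgroup G) (hF : F = ((Cfsg.generalizedFittingSubgroup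 (↥(M ⊔ Subgroup.centralizer (((Cfsg.largestPReducedOf p M) : Subgroup G) : Set G)) ⧸ (Subgroup.centralizer (((Cfsg.largestPReducedOf p M) : Subgroup G) : Set G)).subgroupOf (M ⊔ Subgroup.centralizer (((Cfsg.largestPReducedOf p M) : Subgroup G) : Set G)))).comap (QuotientGroup.mk' ((Subgroup.centralizer (((Cfsg.largestPReducedOf p M) : Subgroup G) : Set G)).subgroupOf (M ⊔ Subgroup.centralizer (((Cfsg.largestPReducedOf p M) : Subgroup G) : Set G))))).map ((M ⊔ Subgroup.centralizer (((Cfsg.largestPReducedOf p M) : Subgroup G) : Set G))).subtype) (H : Subgroup G) (hFH : F ≤ H) (hH : Subgroup.centralizer (Cfsg.pCore p ↥H : Set ↥H) ≤ Cfsg.pCore p ↥H) : (Cfsg.largestPReducedOf p M) ≤ Cfsg.largestPReducedOf p H := by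
  have h := frakM_of_large hQp hQ1 hQ S hSM hM
  set Y := largestPReducedOf p M with hY
  set C := Subgroup.centralizer (Y : Set G) with hC
  set X := M ⊔ C with hX
  have hYX : largestPReducedOf p X = Y := hM.2.2.2.1.symm
  have hred : pCore p (X ⧸ C.subgroupOf X) = ⊥ := by
    rw [← redAct_iff_pCore]
    have := (pRedIn_largest (p := p) X).red
    rwa [hYX] at this
  have hCF : C ≤ F := by
    rw [hF, ← Subgroup.map_subgroupOf_eq_of_le (le_sup_right : C ≤ X)]
    exact Subgroup.map_mono ((QuotientGroup.ker_mk' _).ge.trans (Subgroup.ker_le_comap _ _))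
  have hFX : F ≤ X := hF ▸ Subgroup.map_subtype_le _
  have hOH : pCoreOf p M ≤ H := (h.op_le_centralizer.trans hCF).trans hFH
  obtain ⟨T, hT, -, hTn⟩ := h.exists_sylow hasym hOH
  have hXn : X ≤ Subgroup.normalizer (Y : Set G) := h.normalizer_Y_eq.ge
  refine PRedIn.le_largest_of_le (R := H ⊓ X) ⟨le_inf (h.Y_le_op.trans hOH) (h.pRed.le.trans le_sup_left),
    inf_le_right.trans hXn, h.Y_elem, fun D hD hDn hr => ?_⟩ (isCharP_iff.2 hH) hT
    (le_inf hT.le ((hTn.trans h.normalizer_op_le_Y).trans h.normalizer_Y_eq.le)) inf_le_left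
  have hDX : D ≤ X := hD.trans inf_le_right
  have h1 : (D.subgroupOf X).map (QuotientGroup.mk' (C.subgroupOf X)) = ⊥ := by
    refine aux hred ?_ ?_
    · rw [isPGroup_map_mk'_iff, pResOf_subgroupOf_of_le hDX]
      exact Subgroup.subgroupOf_mono X hr
    · rw [← Subgroup.map_comap_eq_self_of_surjective (QuotientGroup.mk'_surjective (C.subgroupOf X))
        (generalizedFittingSubgroup _)]
      refine map_le_normalizer_map _ ?_
      rw [← map_le_normalizer_map_iff X.subtype_injective, ← hF, Subgroup.map_subgroupOf_eq_of_le hDX]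
      exact (le_inf hFH hFX).trans hDn
  rw [Subgroup.map_eq_bot_iff, QuotientGroup.ker_mk'] at h1
  intro d hd
  exact h1 (show (⟨d, hDX hd⟩ : X) ∈ D.subgroupOf X from hd)

end Cfsg.Agent.S2851
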