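import Cfsg.Statements.S2852
import Cfsg.Agent.Lib.LocStr.FrakM

set_option autoImplicit false
open Cfsg

namespace Cfsg.Agent.S2852

open CfsgLib.LocStr CfsgLib.LAE

/-- Standing hypotheses: G a finite group, S a Sylow p-subgroup, Q a nontrivial large p-subgroup of G contained in S, M a subgroup containing S with the basic property (M ∈ 𝔐_G(S)); Y_M the largest p-reduced normal subgroup of M. If Y_M is char-p-tall and asymmetric in G, then some subgroup H of G lies in ℌ_G(O_p(M)): H has characteristic p, O_p(M) ≤ H, Y_M ≰ O_p(H), and Y_M ≤ O_p(P) for every proper subgroup P of H containing O_p(M). -/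
theorem result {G : Type*} [Group G] [Finite G] {p : ℕ} [Fact p.Prime] (S : Sylow p G) (Q : Subgroup G) (hQp : IsPGroup p ↥Q) (hQ1 : Q ≠ ⊥) (hQS : Q ≤ (S : Subgroup G)) (hQ : Cfsg.IsLarge Q) (M : Subgroup G) (hSM : (S : Subgroup G) ≤ M) (hM : Cfsg.IsInFrakM p M) (htall : Cfsg.IsCharPTall p (Cfsg.largestPReducedOf p M)) (hasym : ¬ Cfsg.IsSymmetricIn (Cfsg.largestPReducedOf p M)) : ∃ H : Subgroup G, Cfsg.IsInFrakH p M H := by
  have h := frakM_of_large hQp hQ1 hQ S hSM hM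
  obtain ⟨T, L, hTL, hL, hYL⟩ := htall
  obtain ⟨c, hc, he⟩ := (isSylowIn_map_subtype T).exists_conj h.op_sylow
  have hcY : conjS c (largestPReducedOf p M) = largestPReducedOf p M :=
    mem_normalizer_iff_conjS.1 (Subgroup.centralizer_le_normalizer _ hc)
  obtain ⟨H, ⟨h1, h2, h3⟩, hmin⟩ := (wellFounded_lt (α := Subgroup G)).has_min
    {H | H ≤ conjS c L ∧ pCoreOf p M ≤ H ∧ ¬ largestPReducedOf p M ≤ pCoreOf p H}
    ⟨conjS c L, le_rfl, he ▸ conjS_mono hTL, by
      rw [← conjS_pCoreOf, ← hcY, conjS_le_conjS_iff]; exact hYL⟩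
  refine ⟨H, CfsgLib.LocStr.charP_iff.2 (wc_charP_of_le (h.wc_op hasym) h.centralizer_op_le h2 h1
    (charP_conj (CfsgLib.LocStr.charP_iff.1 hL) c)), h2, h3, fun P hP hlt => ?_⟩
  by_contra hY
  exact hmin P ⟨hlt.le.trans h1, hP, hY⟩ hlt

end Cfsg.Agent.S2852
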