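import Cfsg.Statements.S2854
import Cfsg.Agent.Lib.LocStr.FrakH

set_option autoImplicit false
open Cfsg

namespace Cfsg.Agent.S2854

open CfsgLib.LocStr CfsgLib.LAE

/-- Standing hypotheses: G a finite group, S a Sylow p-subgroup, Q a nontrivial large p-subgroup of G contained in S, M a subgroup containing S with the basic property (M ∈ 𝔐_G(S)); Y_M the largest p-reduced normal subgroup of M and M† = M·C_G(Y_M). Suppose Y_M is asymmetric in G, H ∈ ℌ_G(O_p(M)), and H ≤ N_G(gQg⁻¹) for some g ∈ G. Then gQg⁻¹ ≤ O_p(H·gQg⁻¹) ≤ N_G(O_p(M)) ≤ N_G(Y_M) = M†; H is normal in H·gQg⁻¹ with O^p(H) = O^p(H·gQg⁻¹); and H·gQg⁻¹ is p-irreducible. -/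
theorem result {G : Type*} [Group G] [Finite G] {p : ℕ} [Fact p.Prime] (S : Sylow p G) (Q : Subgroup G) (hQp : IsPGroup p ↥Q) (hQ1 : Q ≠ ⊥) (hQS : Q ≤ (S : Subgroup G)) (hQ : Cfsg.IsLarge Q) (M : Subgroup G) (hSM : (S : Subgroup G) ≤ M) (hM : Cfsg.IsInFrakM p M) (hasym : ¬ Cfsg.IsSymmetricIn (Cfsg.largestPReducedOf p M)) (H : Subgroup G) (hH : Cfsg.IsInFrakH p M H) (g : G) (hHQ : H ≤ Subgroup.normalizer ((((Q : Subgroup G).map (MulAut.conj (g : G)).toMonoidHom) : Subgroup G) : Set G)) : ((Q : Subgroup G).map (MulAut.conj (g : G)).toMonoidHom) ≤ Cfsg.pCoreOf p (H ⊔ ((Q : Subgroup G).map (MulAut.conj (g : G)).toMonoidHom)) ∧ Cfsg.pCoreOf p (H ⊔ ((Q : Subgroup G).map (MulAut.conj (g : G)).toMonoidHom)) ≤ Subgroup.normalizer (((Cfsg.pCoreOf p M) : Subgroup G) : Set G) ∧ Subgroup.normalizer (((Cfsg.pCoreOf p M) : Subgroup G) : Set G) ≤ Subgroup.normalizer (((Cfsg.largestPReducedOf p M) : Subgroup G) : Set G) ∧ Subgroup.normalizer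 (((Cfsg.largestPReducedOf p M) : Subgroup G) : Set G) = (M ⊔ Subgroup.centralizer (((Cfsg.largestPReducedOf p M) : Subgroup G) : Set G)) ∧ (H.subgroupOf (H ⊔ ((Q : Subgroup G).map (MulAut.conj (g : G)).toMonoidHom))).Normal ∧ (Cfsg.pResidual p ↥H).map H.subtype = (Cfsg.pResidual p ↥(H ⊔ ((Q : Subgroup G).map (MulAut.conj (g : G)).toMonoidHom))).map (H ⊔ ((Q : Subgroup G).map (MulAut.conj (g : G)).toMonoidHom)).subtype ∧ Cfsg.IsPIrreducible p ↥(H ⊔ ((Q : Subgroup G).map (MulAut.conj (g : G)).toMonoidHom)) := by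
  have h : FrakH p S M H := ⟨frakM_of_large hQp hQ1 hQ S hSM hM, hasym, hH⟩
  rw [← conjS_def] at hHQ ⊢
  have hP : IsPGroup p (conjS g Q) := isPGroup_conjS hQp g
  set P := conjS g Q with hPdef
  have h1 : P ≤ pCoreOf p (H ⊔ P) := le_pCoreOf hP le_sup_right (sup_le hHQ Subgroup.le_normalizer)
  have hU := le_normalizer_pCoreOf (p := p) (H ⊔ P)
  have h2 : pCoreOf p (H ⊔ P) ≤ Subgroup.normalizer (pCoreOf p M : Set G) :=
    h.le_normalizer_op hasym (isPGroup_pCoreOf _) ((h.op_le_H.trans le_sup_left).trans hU)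
  have h3 : H ⊔ P ≤ Subgroup.normalizer (H : Set G) := by
    conv_rhs => rw [← h.nclIn_op, ← nclIn_sup_of_le_normalizer (h1.trans h2) hHQ]
    exact le_normalizer_nclIn _ _
  have h4 : pResOf p (H ⊔ P) = pResOf p H := CfsgLib.LocStr.pResOf_sup hP (le_sup_right.trans h3)
  refine ⟨h1, h2, h.normalizer_op_le_Y, h.normalizer_Y_eq, normal_subgroupOf_of_le h3, h4.symm,
    isPIrreducible_of (fun hc => h.not_isPClosed (isPClosed_of_le hc le_sup_left))
      fun N hN hn hc => ?_⟩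
  set U := pCoreOf p (H ⊔ P) with hUdef
  have hn1 : H ⊔ P ≤ Subgroup.normalizer (((N ⊔ U) ⊓ H : Subgroup G) : Set G) :=
    le_normalizer_inf (le_normalizer_sup hn hU) h3
  rw [h4]
  rcases h.pResOf_le_or_isPClosed inf_le_right (le_sup_left.trans hn1) with h5 | h5
  · rw [← pResOf_pResOf]
    exact pResOf_le_of_le_sup (isPGroup_pCoreOf _) ((pCoreOf_le _).trans hn) (h5.trans inf_le_left)
  · refine absurd (isPClosed_of_le (isPClosed_sup h5 (isPGroup_pCoreOf (H ⊔ P))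
      ((inf_le_right.trans le_sup_left).trans hU)) ?_) hc
    rw [← inf_sup_of_le_of_le_normalizer' ((pCoreOf_le _).trans h3) le_sup_right]
    exact le_inf le_sup_left (hN.trans (sup_le_sup_left h1 H))

end Cfsg.Agent.S2854
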