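import Cfsg.Statements.S2855
import Cfsg.Agent.Lib.LocStr.FrakH

set_option autoImplicit false
open Cfsg

namespace Cfsg.Agent.S2855

open CfsgLib.LocStr CfsgLib.LAE Subgroup
open scoped commutatorElement

variable {G : Type*} [Group G] [Finite G] {p : ℕ} [Fact p.Prime]

omit [Finite G] [Fact p.Prime] in
theorem minOver_unique {Y L A B : Subgroup G} (h : MinOver Y L A) (h' : MinOver Y L B) : A = B :=
  le_antisymm (h'.max A h.le h.lt) (h.max B h'.le h'.lt)

theorem minOver_sup {T E E₀ U : Subgroup G} (h : MinOver T E E₀) (hT : IsSylowIn p T E)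
    (hU : IsPGroup p U) (hn : E ≤ normalizer (U : Set G)) : MinOver (T ⊔ U) (E ⊔ U) (E₀ ⊔ U) := by
  have hUE : E ⊓ U ≤ T := hT.le_of_normal hU.to_inf_right inf_le_left
    (le_normalizer_inf le_normalizer hn)
  have hded : ∀ X, U ≤ X → X ≤ E ⊔ U → X = U ⊔ (X ⊓ E) := fun X h1 h2 => by
    rw [← inf_sup_of_le_of_le_normalizer hn h1, sup_comm, inf_eq_left.2 h2]
  refine ⟨sup_le_sup_right h.le U, lt_of_le_of_ne (sup_le_sup_right h.lt.le U) fun he => h.not_le ?_,
    fun X h1 h2 => ?_, fun N h1 h2 h3 => ?_⟩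
  · have h1 := inf_sup_of_le_of_le_normalizer' (K := E) (h.lt.le.trans hn) h.lt.le
    rw [sup_comm U, he, inf_eq_left.2 le_sup_left] at h1
    exact h1.le.trans (sup_le (hUE.trans h.le) le_rfl)
  · rw [hded X (le_sup_right.trans h1) h2.le, sup_comm]
    refine sup_le_sup_right ((h.eq_or_le (le_inf (le_sup_left.trans h1) hT.le)
      inf_le_right).resolve_left fun he => h2.not_ge ?_) U
    exact sup_le (he ▸ inf_le_left) (le_sup_right.trans h1)
  · exact sup_le ((h.gen (N ⊓ E) (le_inf (le_sup_left.trans h1) hT.le) inf_le_right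
      (le_normalizer_inf (le_sup_left.trans h3) le_normalizer)).trans inf_le_left)
      (le_sup_right.trans h1)

theorem commutator_eq_bot {A B : Subgroup G} (hO : pCoreOf p B = ⊥) (hr : pResOf p B ≤ ⁅B, B⁆)
    (hn : A ≤ normalizer (B : Set G)) (h : ⁅⁅A, B⁆, B⁆ = ⊥) : ⁅A, B⁆ = ⊥ := by
  have h1 : ⁅⁅B, B⁆, A⁆ ≤ ⊥ :=
    CfsgLib.Core.three_subgroups (N := ⊥) (by rw [commutator_comm B A]; exact h.le) h.le
  rw [le_bot_iff, commutator_eq_bot_iff_le_centralizer] at h1
  rw [commutator_eq_bot_iff_le_centralizer] at h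
  rw [eq_bot_iff, commutator_le]
  intro a ha b hb
  obtain ⟨k, hk⟩ := exists_pow_mem_pResOf (p := p) hb
  have hc := h (commutator_mem_commutator ha hb)
  have h2 : ⁅a, b⁆ ^ p ^ k = 1 := by
    rw [← CfsgLib.Core.commutatorElement_pow_right_of_commute (mem_centralizer_iff.1 hc b hb),
      commutatorElement_eq_one_iff_mul_comm]
    exact mem_centralizer_iff.1 (h1 (hr hk)) a ha
  rw [← hO]
  refine le_pCoreOf (CfsgLib.Core.isPGroup_zpowers_iff.2 ⟨k, h2⟩)
    (zpowers_le.2 (commutator_le_right_of_le_normalizer hn (commutator_mem_commutator ha hb))) ?_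
    (mem_zpowers _)
  exact (le_centralizer_iff.1 (zpowers_le.2 hc)).trans (centralizer_le_normalizer _)

theorem pResOf_sSup_le {𝒦 : Set (Subgroup G)} {N : Subgroup G}
    (h1 : ∀ E ∈ 𝒦, sSup 𝒦 ≤ normalizer (E : Set G)) (h2 : sSup 𝒦 ≤ normalizer (N : Set G))
    (h3 : ∀ E ∈ 𝒦, pResOf p E ≤ N) : pResOf p (sSup 𝒦) ≤ N := by
  refine (CfsgLib.Core.sSup_induction_finite
    (P := fun A => A ≤ sSup 𝒦 ∧ sSup 𝒦 ≤ normalizer (A : Set G) ∧ pResOf p A ≤ N) ?_ ?_
    fun E hE => ⟨le_sSup hE, h1 E hE, h3 E hE⟩).2.2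
  · exact ⟨bot_le, le_top.trans (normalizer_eq_top_iff.2 inferInstance).ge,
      (pResOf_le _).trans bot_le⟩
  · rintro A B ⟨a1, a2, a3⟩ ⟨b1, b2, b3⟩
    exact ⟨sup_le a1 b1, le_normalizer_sup a2 b2,
      pResOf_sup_le (a1.trans b2) (a1.trans h2) (b1.trans h2) a3 b3⟩

/-- The case `O_p(G) = 1`. -/
theorem core (hO : pCore p G = ⊥) {𝒦 : Set (Subgroup G)} (hne : 𝒦.Nonempty)
    (hinv : ∀ h : G, ∀ E ∈ 𝒦, conjS h E ∈ 𝒦) (htr : ∀ E ∈ 𝒦, ∀ K ∈ 𝒦, ∃ h : G, K = conjS h E)
    (hres : pResOf p ⊤ ≤ sSup 𝒦) (hnorm : ∀ E ∈ 𝒦, sSup 𝒦 ≤ normalizer (E : Set G))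
    (hnc : ∀ E ∈ 𝒦, ¬ IsPClosed p E)
    (hs : ∀ E ∈ 𝒦, ∀ N ≤ E, E ≤ normalizer (N : Set G) → ⁅N, E⁆ ≠ ⊥ → pResOf p E ≤ N) :
    (∀ N : Subgroup G, N.Normal → ¬ IsPClosed p N → pResOf p ⊤ ≤ N) ∧
      ∀ E ∈ 𝒦, ∀ K ∈ 𝒦, pResOf p E = pResOf p K ∨ ⁅E, K⁆ = ⊥ := by
  have hR : ⊤ ≤ normalizer ((sSup 𝒦 : Subgroup G) : Set G) := by
    intro g _
    refine mem_normalizer_of_conjS_le ?_
    rw [conjS_le_iff, sSup_le_iff]
    intro E hE
    rw [← conjS_le_iff]
    exact le_sSup (hinv g E hE)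
  have hOR : pCoreOf p (sSup 𝒦) = ⊥ := by
    have := pCoreOf_mono_of_normal (p := p) le_top hR
    rwa [pCoreOf_top, hO, le_bot_iff] at this
  have hOE : ∀ E ∈ 𝒦, pCoreOf p E = ⊥ := fun E hE => by
    have := pCoreOf_mono_of_normal (p := p) (le_sSup hE) (hnorm E hE)
    rwa [hOR, le_bot_iff] at this
  have hEE : ∀ E ∈ 𝒦, pResOf p E ≤ ⁅E, E⁆ := by
    intro E hE
    refine hs E hE _ (CfsgLib.Core.commutator_le_of_le le_rfl le_rfl)
      (normalizer_commutator_ge_left _ _) fun h => hnc E hE ?_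
    obtain ⟨T, hT⟩ := exists_isSylowIn p E
    refine isPClosed_of_normal_sylow hT (hT.le_of_pResOf_le ?_ le_normalizer)
    refine le_trans ?_ (centralizer_le_normalizer _)
    refine pResOf_le_iff.2 fun g hg hc => mem_centralizer_iff.2 fun t ht => ?_
    have h1 := commutator_eq_bot_iff_le_centralizer.1 h (commutator_mem_commutator hg (hT.le ht))
    obtain ⟨k, hk⟩ := isPGroup_iff_forall_mem.1 hT.isPGroup t ht
    have h2 : ⁅g, t⁆ ^ p ^ k = 1 := by
      rw [← CfsgLib.Core.commutatorElement_pow_right_of_commute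
        (mem_centralizer_iff.1 h1 t (hT.le ht)), hk, commutatorElement_one_right]
    exact (commute_of_commutator (CfsgLib.Core.isPGroup_zpowers_iff.2 ⟨k, h2⟩) hc (mem_zpowers _)
      (mem_centralizer_iff.1 h1 g hg)).symm
  have key : ∀ E ∈ 𝒦, ∀ A N : Subgroup G, A ≤ normalizer (E : Set G) → E ≤ normalizer (N : Set G) →
      ⁅A, E⁆ ≤ N → pResOf p E ≤ N ∨ ⁅A, E⁆ = ⊥ := by
    intro E hE A N hA hN hle
    by_cases h : ⁅E ⊓ N, E⁆ = ⊥
    · refine Or.inr (commutator_eq_bot (hOE E hE) (hEE E hE) hA (le_bot_iff.1 (h ▸ ?_)))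
      exact commutator_mono (le_inf (commutator_le_right_of_le_normalizer hA) hle) le_rfl
    · exact Or.inl ((hs E hE _ inf_le_left (le_normalizer_inf le_normalizer hN) h).trans inf_le_right)
  refine ⟨fun N hN hc => ?_, fun E hE K hK => ?_⟩
  · have hNn : ∀ X : Subgroup G, X ≤ normalizer (N : Set G) := fun X =>
      le_top.trans (normalizer_eq_top_iff.2 hN).ge
    by_cases h : ∃ E ∈ 𝒦, pResOf p E ≤ N
    · obtain ⟨E, hE, hEN⟩ := h
      rw [← pResOf_eq_of_le hres le_top]
      refine pResOf_sSup_le hnorm (hNn _) fun K hK => ?_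
      obtain ⟨g, rfl⟩ := htr E hE K hK
      rw [← conjS_pResOf, ← conjS_eq_of_normal g N]
      exact conjS_mono hEN
    · push Not at h
      refine absurd ?_ hc
      have h1 : sSup 𝒦 ≤ centralizer ((N ⊓ sSup 𝒦 : Subgroup G) : Set G) := by
        refine sSup_le fun E hE => le_centralizer_iff.1 ?_
        rw [← commutator_eq_bot_iff_le_centralizer]
        refine (key E hE _ N (inf_le_right.trans (hnorm E hE)) (hNn E) ?_).resolve_left (h E hE)
        exact (commutator_mono inf_le_left le_rfl).trans (commutator_le_left_of_le_normalizer (hNn E))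
      have h2 : ⁅N, sSup 𝒦⁆ = ⊥ := by
        refine commutator_eq_bot hOR (pResOf_sSup_le hnorm (normalizer_commutator_ge_left _ _)
          fun E hE => (hEE E hE).trans (commutator_mono (le_sSup hE) (le_sSup hE)))
          (le_top.trans hR) ?_
        rw [commutator_eq_bot_iff_le_centralizer]
        exact (le_inf (commutator_le_left_of_le_normalizer (hNn _))
          (commutator_le_right_of_le_normalizer (le_top.trans hR))).trans (le_centralizer_iff.1 h1)
      refine isPClosed_of_commutator_le (U := ⊥) IsPGroup.of_bot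
        (le_top.trans (normalizer_eq_top_iff.2 inferInstance).ge) ?_
      exact h2 ▸ commutator_mono le_rfl ((pResOf_mono le_top).trans hres)
  · rcases key E hE K K ((le_sSup hK).trans (hnorm E hE)) ((le_sSup hE).trans (hnorm K hK))
      (commutator_le_left_of_le_normalizer ((le_sSup hE).trans (hnorm K hK))) with h | h
    · left
      refine CfsgLib.Core.eq_of_le_of_card_le (pResOf_pResOf (p := p) E ▸ pResOf_mono h) ?_
      obtain ⟨g, rfl⟩ := htr E hE K hK
      rw [← conjS_pResOf, card_conjS]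
    · exact Or.inr (commutator_comm K E ▸ h)

/-- Let H be a finite group, p a prime, and 𝒦 a nonempty set of subgroups of H permuted transitively by conjugation, with R the subgroup generated by the members of 𝒦. Suppose O^p(H) ≤ R, each E ∈ 𝒦 has E·O_p(H) normal in R·O_p(H), and each E ∈ 𝒦 is p-minimal (generated by the conjugates of a Sylow p-subgroup T_E of E, with T_E in exactly one maximal subgroup of E). Then H is p-minimal in the same sense. If instead each E ∈ 𝒦 is strongly p-irreducible, then H is p-irreducible and, for E, K ∈ 𝒦, either O^p(E·O_p(H)) = O^p(K·O_p(H)) or [E, K] ≤ O_p(H). -/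
theorem result {H : Type*} [Group H] [Finite H] {p : ℕ} [Fact p.Prime] (𝒦 : Set (Subgroup H)) (hne : 𝒦.Nonempty) (hinv : ∀ h : H, ∀ E ∈ 𝒦, E.map (MulAut.conj h).toMonoidHom ∈ 𝒦) (htr : ∀ E ∈ 𝒦, ∀ K ∈ 𝒦, ∃ h : H, K = E.map (MulAut.conj h).toMonoidHom) (hres : Cfsg.pResidual p H ≤ sSup 𝒦) (hnorm : ∀ E ∈ 𝒦, sSup 𝒦 ⊔ Cfsg.pCore p H ≤ Subgroup.normalizer ((E ⊔ Cfsg.pCore p H : Subgroup H) : Set H)) : ((∀ E ∈ 𝒦, ∀ T : Sylow p ↥E, Cfsg.IsMinimalOver (T : Subgroup ↥E)) → ∀ T : Sylow p H, Cfsg.IsMinimalOver (T : Subgroup H)) ∧ ((∀ E ∈ 𝒦, Cfsg.IsStronglyPIrreducible p ↥E) → Cfsg.IsPIrreducible p H ∧ ∀ E ∈ 𝒦, ∀ K ∈ 𝒦, (Cfsg.pResidual p ↥(E ⊔ Cfsg.pCore p H)).map (E ⊔ Cfsg.pCore p H).subtype = (Cfsg.pResidual p ↥(K ⊔ Cfsg.pCore p H)).map (K ⊔ Cfsg.pCore p H).subtype ∨ ⁅E, K⁆ ≤ Cfsg.pCore p H) := by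
  set U := pCore p H with hU
  have hUn : ∀ X : Subgroup H, X ≤ normalizer (U : Set H) := fun X =>
    le_top.trans (normalizer_eq_top_iff.2 inferInstance).ge
  have hUp : IsPGroup p U := isPGroup_pCore
  have hR : ⊤ ≤ normalizer ((sSup 𝒦 : Subgroup H) : Set H) := by
    intro g _
    refine mem_normalizer_of_conjS_le ?_
    rw [conjS_le_iff, sSup_le_iff]
    intro E hE
    rw [← conjS_le_iff]
    exact le_sSup (hinv g E hE)
  have hsn : ∀ E ∈ 𝒦, SubnormalIn (E ⊔ U) ⊤ := fun E hE =>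
    (SubnormalIn.of_normal (sup_le_sup_right (le_sSup hE) U) (hnorm E hE)).trans
      (SubnormalIn.of_normal le_top (le_normalizer_sup hR (hUn _)))
  rw [← pResOf_top] at hres
  have hconj : ∀ (g : H) (E : Subgroup H), conjS g (E ⊔ U) = conjS g E ⊔ U := fun g E => by
    rw [conjS_sup, conjS_eq_of_normal g U]
  refine ⟨fun hmin T => ?_, fun hs => ?_⟩
  · have hT := isSylowIn_top T
    have hUT : U ≤ T := pCore_le_sylow T
    have hex : ∀ E ∈ 𝒦, ∃ L₀, MinOver ((T : Subgroup H) ⊓ (E ⊔ U)) (E ⊔ U) L₀ := by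
      intro E hE
      obtain ⟨S, hS⟩ := exists_isSylowIn p E
      obtain ⟨E₀, h0⟩ := exists_minOver hS.le (hS.coe_toSylow ▸ hmin E hE hS.toSylow)
      have h1 := minOver_sup h0 hS hUp (hUn E)
      obtain ⟨x, hx, hle⟩ := ((hsn E hE).isSylowIn_inf hT).exists_conj_le
        (isPGroup_sup hS.isPGroup hUp (hUn S)) (sup_le_sup_right hS.le U)
      have h2 := h1.conj x
      rw [conjS_eq_of_mem hx] at h2
      exact ⟨_, h2.mono hle (h2.le_of_isPGroup
        (isPGroup_conjS (isPGroup_sup hS.isPGroup hUp (hUn S)) x) hT.isPGroup.to_inf_left hle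
        inf_le_right)⟩
    have htrT : ∀ E ∈ 𝒦, ∀ K ∈ 𝒦, ∃ t ∈ (T : Subgroup H), K ⊔ U = conjS t (E ⊔ U) := by
      intro E hE K hK
      obtain ⟨h, rfl⟩ := htr E hE K hK
      obtain ⟨t, ht, r, hr, rfl⟩ := hT.exists_mul' (mem_top h)
      refine ⟨t, ht, ?_⟩
      rw [← conjS_def, ← hconj, conjS_mul,
        mem_normalizer_iff_conjS.1 (hnorm E hE (mem_sup_left (hres hr)))]
    have htop : ∀ X : Subgroup H, (T : Subgroup H) ≤ X → ∀ E ∈ 𝒦, E ⊔ U ≤ X → ⊤ ≤ X := by
      intro X hTX E hE hEX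
      refine hT.le_of_pResOf_le (hres.trans (sSup_le fun K hK => ?_)) hTX
      obtain ⟨t, ht, he⟩ := htrT E hE K hK
      exact (le_sup_left.trans he.le).trans (conjS_le_of_le_of_mem hEX (hTX ht))
    let M : Subgroup H :=
      { carrier := {h | ∀ E ∈ 𝒦, ∀ L₀, MinOver ((T : Subgroup H) ⊓ (E ⊔ U)) (E ⊔ U) L₀ →
          MinOver ((T : Subgroup H) ⊓ (conjS h E ⊔ U)) (conjS h E ⊔ U) (conjS h L₀)}
        one_mem' := fun E _ L₀ h => by simpa only [conjS_one] using h
        mul_mem' := fun {a b} ha hb E hE L₀ h => by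
          rw [conjS_mul, conjS_mul]
          exact ha _ (hinv b E hE) _ (hb E hE L₀ h)
        inv_mem' := fun {a} ha E hE L₀ h => by
          obtain ⟨L₁, h1⟩ := hex _ (hinv a⁻¹ E hE)
          have h2 := ha _ (hinv a⁻¹ E hE) L₁ h1
          rw [← conjS_def, conjS_conjS_inv] at h2
          rw [minOver_unique h h2, conjS_inv_conjS]
          exact h1 }
    have hXM : ∀ X : Subgroup H, (T : Subgroup H) ≤ X → X < ⊤ → X ≤ M := by
      intro X hTX hX x hx E hE L₀ h
      have hE' := hinv x E hE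
      rw [← conjS_def] at hE'
      obtain ⟨L₁, h1⟩ := hex _ hE'
      have h2 := h.conj x
      rw [hconj] at h2
      have h3 : X ⊓ (conjS x E ⊔ U) ≤ L₁ :=
        (h1.eq_or_le (inf_le_inf_right _ hTX) inf_le_right).resolve_left fun he =>
          hX.not_ge (htop X hTX _ hE' (he ▸ inf_le_left))
      have h4 : L₁ ≤ conjS x L₀ := h2.max L₁ (le_trans (le_inf
        (conjS_le_of_le_of_mem (inf_le_left.trans hTX) hx) h2.le_top') h3) h1.lt
      have h5 : conjS x L₀ ≤ L₁ := h1.max _ (h1.le.trans h4) h2.lt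
      rw [le_antisymm h5 h4]
      exact h1
    obtain ⟨E, hE⟩ := hne
    obtain ⟨L₀, h0⟩ := hex E hE
    have hM : M < ⊤ := by
      refine lt_top_iff_ne_top.2 fun he => h0.not_le (le_trans (le_inf le_rfl fun g hg => ?_)
        h0.inf_normalizer_le)
      have h1 := (he.ge (mem_top g) : g ∈ M) E hE L₀ h0
      rw [← hconj, conjS_eq_of_mem hg] at h1
      exact mem_normalizer_iff_conjS.2 (minOver_unique h1 h0)
    have hT1 : (T : Subgroup H) < ⊤ := lt_top_iff_ne_top.2 fun he =>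
      h0.not_le (h0.le_of_isPGroup hT.isPGroup.to_inf_left
        (hT.isPGroup.to_le (he ▸ le_top)) inf_le_right le_rfl)
    refine MinOver.isMinimalOver_top (L₀ := M) ⟨hXM _ le_rfl hT1, hM, hXM, fun N hTN _ hN => ?_⟩
    exact htop N hTN E hE ((h0.gen (N ⊓ (E ⊔ U)) (inf_le_inf_right _ hTN) inf_le_right
      (le_normalizer_inf (le_top.trans hN) le_normalizer)).trans inf_le_left)
  · set f := QuotientGroup.mk' U with hf
    have hsurj : Function.Surjective f := QuotientGroup.mk'_surjective _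
    have hker : f.ker = U := QuotientGroup.ker_mk' _
    have hfU : U.map f = ⊥ := (Subgroup.map_eq_bot_iff _).2 hker.ge
    have hO : pCore p (H ⧸ U) = ⊥ := CfsgLib.Core.pCore_quotient_pCore p H
    have hsS : sSup ((fun E => E.map f) '' 𝒦) = (sSup 𝒦).map f := by
      rw [sSup_image, (gc_map_comap f).l_sSup]
    have hcl : ∀ N : Subgroup H, SubnormalIn (N.map f) ⊤ → IsPClosed p (N.map f) → IsPClosed p N := by
      intro N hN hc
      refine isPClosed_of_forall_le_op fun R hR hRN => ?_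
      have h1 := (le_op_of_isPClosed hc (hR.map f) (map_mono hRN)).trans hN.pCoreOf_le
      rw [pCoreOf_top, hO, le_bot_iff, Subgroup.map_eq_bot_iff, hker] at h1
      exact (le_inf h1 hRN).trans (le_pCoreOf hUp.to_inf_left inf_le_right
        (le_normalizer_inf (hUn N) le_normalizer))
    have hsn' : ∀ E ∈ 𝒦, SubnormalIn (E.map f) ⊤ := fun E hE => by
      have := (hsn E hE).map f
      rwa [Subgroup.map_sup, hfU, sup_bot_eq, map_top_of_surjective f hsurj] at this
    obtain ⟨c1, c2⟩ := core hO (𝒦 := (fun E => E.map f) '' 𝒦) (hne.image _)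
      (by
        rintro h _ ⟨E, hE, rfl⟩
        obtain ⟨g, rfl⟩ := hsurj h
        exact ⟨_, hinv g E hE, map_conjS f g E⟩)
      (by
        rintro _ ⟨E, hE, rfl⟩ _ ⟨K, hK, rfl⟩
        obtain ⟨g, rfl⟩ := htr E hE K hK
        exact ⟨f g, map_conjS f g E⟩)
      (by
        rw [hsS, ← map_top_of_surjective f hsurj, ← map_pResOf]
        exact map_mono hres)
      (by
        rintro _ ⟨E, hE, rfl⟩
        have := map_le_normalizer_map f (hnorm E hE)
        rwa [Subgroup.map_sup, Subgroup.map_sup, hfU, sup_bot_eq, sup_bot_eq, ← hsS] at this)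
      (by
        rintro _ ⟨E, hE, rfl⟩ hc
        exact (hs E hE).1 (hcl E (hsn' E hE) hc))
      (by
        rintro _ ⟨E, hE, rfl⟩ N hN hn hc
        have h1 : (E ⊓ N.comap f).map f = N := by
          refine le_antisymm (map_le_iff_le_comap.2 inf_le_right) fun a ha => ?_
          obtain ⟨m, hm, rfl⟩ := hN ha
          exact ⟨m, ⟨hm, ha⟩, rfl⟩
        have h2 : E ≤ normalizer ((E ⊓ N.comap f : Subgroup H) : Set H) :=
          le_normalizer_inf le_normalizer ((map_le_iff_le_comap.1 hn).trans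
            (Subgroup.le_normalizer_comap f))
        have h3 := (hs E hE).2 ((E ⊓ N.comap f).subgroupOf E) (normal_subgroupOf_of_le h2) (by
          intro hle
          apply hc
          have h4 := map_mono (f := E.subtype) hle
          rw [Subgroup.map_commutator, map_subgroupOf_eq_of_le inf_le_left, ← MonoidHom.range_eq_map,
            range_subtype, ← pCoreOf_def] at h4
          have h5 := (map_mono (f := f) h4).trans ((map_pCoreOf_le f E).trans (hsn' E hE).pCoreOf_le)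
          rwa [pCoreOf_top, hO, le_bot_iff, Subgroup.map_commutator, h1] at h5)
        show pResOf p (E.map f) ≤ N
        rw [← map_pResOf, map_le_iff_le_comap]
        have h6 := map_mono (f := E.subtype) h3
        rw [map_subgroupOf_eq_of_le inf_le_left] at h6
        exact h6.trans inf_le_right)
    refine ⟨⟨fun hc => ?_, fun N hN hc => ?_⟩, fun E hE K hK => ?_⟩
    · obtain ⟨E, hE⟩ := hne
      exact (hs E hE).1 (isPClosed_of_le (isPClosed_top_iff.2 hc) le_top)
    · have hN' := hN.map f hsurj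
      have h1 := c1 _ hN' fun h => hc (hcl N
        (SubnormalIn.of_normal le_top (normalizer_eq_top_iff.2 hN').ge) h)
      rw [← map_top_of_surjective f hsurj, ← map_pResOf, Subgroup.map_le_map_iff, hker] at h1
      rw [← pResOf_top, ← pResOf_pResOf]
      exact pResOf_le_of_le_sup hUp (le_top.trans (normalizer_eq_top_iff.2 hN).ge) h1
    · rw [← pResOf_def, ← pResOf_def]
      have key : ∀ A B : Subgroup H, pResOf p (A.map f) = pResOf p (B.map f) →
          pResOf p (A ⊔ U) ≤ pResOf p (B ⊔ U) := by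
        intro A B h
        have h1 : (pResOf p (A ⊔ U)).map f ≤ (B ⊔ U).map f := by
          rw [map_pResOf, Subgroup.map_sup, Subgroup.map_sup, hfU, sup_bot_eq, sup_bot_eq, h]
          exact pResOf_le _
        rw [Subgroup.map_le_map_iff, hker, sup_assoc, sup_idem] at h1
        rw [← pResOf_pResOf (A ⊔ U)]
        exact pResOf_mono h1
      refine (c2 _ ⟨E, hE, rfl⟩ _ ⟨K, hK, rfl⟩).imp
        (fun h => le_antisymm (key E K h) (key K E h.symm)) fun h => ?_
      rwa [← Subgroup.map_commutator, Subgroup.map_eq_bot_iff, hker] at h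

end Cfsg.Agent.S2855
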