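import Cfsg.Statements.S2859
import Cfsg.Agent.Lib.LocStr.WcRes

set_option autoImplicit false
open Cfsg

namespace Cfsg.Agent.S2859

open CfsgLib.LocStr CfsgLib.LAE Subgroup

theorem aux {G : Type*} [Group G] [Finite G] {p : ℕ} [Fact p.Prime] {Q : Subgroup G}
    (hwc : IsWeaklyClosedSubgroup p Q) {H₁ H₂ : Subgroup G}
    (hn₁ : weakClosure Q ⊤ ≤ normalizer (H₁ : Set G)) (hn₂ : weakClosure Q ⊤ ≤ normalizer (H₂ : Set G))
    (hprod : H₁ ⊔ H₂ = weakClosure Q ⊤) (hcomm : ⁅H₁, H₂⁆ ≤ normalizer (Q : Set G))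
    {K : Subgroup G} (hK : K = pResOf p (weakClosure Q (H₁ ⊔ Q))) :
    (⁅K, Q⁆ = K ∧ ⁅K, H₁⁆ = K ∧ K ≤ ⁅H₁, H₁⁆ ∧ weakClosure Q ⊤ ≤ normalizer (K : Set G)) ∧
      ⁅K, H₂⁆ ≤ pCoreOf p (weakClosure Q ⊤) ∧ nclIn Q H₁ ≤ K ⊔ Q ∧ K ≤ H₁ := by
  set W := weakClosure Q ⊤ with hW
  have hQW : Q ≤ W := le_weakClosure le_top
  have h1W : H₁ ≤ W := hprod ▸ le_sup_left
  have h2W : H₂ ≤ W := hprod ▸ le_sup_right
  have hQp := wc_isPGroup hwc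
  have hD : W ≤ normalizer ((⁅H₁, H₂⁆ : Subgroup G) : Set G) := le_normalizer_commutator hn₁ hn₂
  set E := pCoreOf p (⁅H₁, H₂⁆ : Subgroup G) with hE
  have hEn : W ≤ normalizer (E : Set G) := le_normalizer_pCoreOf_of_le hD
  have hDW : ⁅H₁, H₂⁆ ≤ W := CfsgLib.Core.commutator_le_of_le h1W h2W
  have hEW : E ≤ W := (pCoreOf_le _).trans hDW
  have hWD : ⁅W, ⁅H₁, H₂⁆⁆ ≤ E := by
    have := wc_commutator_le_op hwc hQW hcomm hD
    rwa [hW, weakClosure_idem] at this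
  have hDW' : ∀ X ≤ W, ⁅⁅H₁, H₂⁆, X⁆ ≤ E := fun X hX => by
    rw [commutator_comm]; exact (commutator_mono hX le_rfl).trans hWD
  have h11 : W ≤ normalizer ((⁅H₁, H₁⁆ : Subgroup G) : Set G) := le_normalizer_commutator hn₁ hn₁
  have h3 : ⁅⁅H₁, H₁⁆, H₂⁆ ≤ E :=
    CfsgLib.Core.three_subgroups_of_le_normalizer (h1W.trans hEn) (h1W.trans hEn) (h2W.trans hEn)
      (hDW' _ h1W) (by rw [commutator_comm H₂ H₁]; exact hDW' _ h1W)
  have h4 : ⁅H₁, Q⁆ ≤ ⁅H₁, H₁⁆ ⊔ ⁅H₁, H₂⁆ := by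
    refine (commutator_mono le_rfl (hQW.trans hprod.ge)).trans ?_
    exact commutator_sup_le' (h1W.trans (le_normalizer_sup h11 hD))
      (h2W.trans (le_normalizer_sup h11 hD)) le_sup_left le_sup_right
  have h5 : ⁅⁅H₁, Q⁆, H₂⁆ ≤ E :=
    (commutator_mono h4 le_rfl).trans (CfsgLib.LAE.commutator_sup_le
      ((CfsgLib.Core.commutator_le_of_le h1W h1W).trans hEn) (hDW.trans hEn) h3 (hDW' _ h2W))
  have hQn : Q ≤ normalizer ((⁅H₁, Q⁆ : Subgroup G) : Set G) :=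
    le_normalizer_commutator (hQW.trans hn₁) le_normalizer
  have h1n : H₁ ≤ normalizer ((⁅H₁, Q⁆ : Subgroup G) : Set G) := normalizer_commutator_ge_left _ _
  have hE1 : E ≤ H₁ := (pCoreOf_le _).trans (commutator_le_left_of_le_normalizer (h2W.trans hn₁))
  have hK1 : K = pResOf p (⁅H₁, Q⁆ : Subgroup G) := by
    rw [hK, wc_weakClosure_sup_eq hwc, CfsgLib.LocStr.pResOf_sup hQp hQn]
  have hKQ : K ≤ ⁅H₁, Q⁆ := hK1 ▸ pResOf_le _
  have hKH : K ≤ H₁ := hKQ.trans (commutator_le_left_of_le_normalizer (hQW.trans hn₁))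
  have hKn : W ≤ normalizer (K : Set G) := by
    rw [hK1, ← CfsgLib.LocStr.pResOf_sup (isPGroup_pCoreOf (p := p) ⁅H₁, H₂⁆) (hE1.trans h1n), ← hprod]
    refine le_normalizer_pResOf_of_le (sup_le (le_normalizer_sup h1n (h1W.trans hEn)) ?_)
    refine CfsgLib.Core.le_normalizer_of_commutator_le (CfsgLib.LAE.commutator_sup_le
      (le_sup_left.trans le_normalizer) (le_sup_right.trans le_normalizer) (h5.trans le_sup_right)
      ((commutator_le_left_of_le_normalizer (h2W.trans hEn)).trans le_sup_right))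
  have hK2 : ⁅K, H₂⁆ ≤ E := (commutator_mono hKQ le_rfl).trans h5
  have hc : ⁅K, Q⁆ = K := hK ▸ wc_commutator_pResOf hwc le_sup_right
  have hc1 : ⁅K, H₁⁆ = K := by
    refine le_antisymm (commutator_le_left_of_le_normalizer (h1W.trans hKn)) ?_
    have hX : W ≤ normalizer ((⁅K, H₁⁆ : Subgroup G) : Set G) := le_normalizer_commutator hKn hn₁
    have h6 : K ≤ ⁅K, H₁⁆ ⊔ E := by
      refine hc.ge.trans ((commutator_mono le_rfl (hQW.trans hprod.ge)).trans ?_)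
      exact commutator_sup_le' (h1W.trans (le_normalizer_sup hX hEn))
        (h2W.trans (le_normalizer_sup hX hEn)) le_sup_left (hK2.trans le_sup_right)
    have h7 := pResOf_le_of_le_sup (isPGroup_pCoreOf _) (hEW.trans hX) h6
    rwa [hK1, pResOf_pResOf, ← hK1] at h7
  refine ⟨⟨hc, hc1, hc1.ge.trans (commutator_mono hKH le_rfl), hKn⟩,
    hK2.trans (pCoreOf_mono_of_normal hDW hD), ?_, hKH⟩
  rw [hK, wc_pResOf_sup hwc le_sup_right, wc_weakClosure_eq_nclIn hwc le_sup_right]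
  exact nclIn_mono le_rfl le_sup_left

/-- Let Q be a nontrivial p-subgroup of the finite group H that is a weakly closed subgroup, H° the weak closure of Q in H (generated by the conjugates of Q) and H_∘ = O^p(H°). Suppose H₁, H₂ are normal subgroups of H° with H° = H₁H₂ and [H₁, H₂] ≤ N_H(Q), and put Kᵢ = O^p of the weak closure of Q in HᵢQ. Then for i = 1, 2: Kᵢ = [Kᵢ, Q] = [Kᵢ, Hᵢ] ≤ Hᵢ′ and Kᵢ is normal in H°; H_∘ = K₁K₂; and [K₁, K₂] ≤ O_p(H°). -/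
theorem result {G : Type*} [Group G] [Finite G] {p : ℕ} [Fact p.Prime] (Q : Subgroup G) (hQp : IsPGroup p ↥Q) (hQ1 : Q ≠ ⊥) (hwc : Cfsg.IsWeaklyClosedSubgroup p Q) (Hc : Subgroup G) (hHc : Hc = Cfsg.weakClosure Q ⊤) (H₁ H₂ : Subgroup G) (hn₁ : H₁ ≤ Hc ∧ Hc ≤ Subgroup.normalizer ((H₁ : Subgroup G) : Set G)) (hn₂ : H₂ ≤ Hc ∧ Hc ≤ Subgroup.normalizer ((H₂ : Subgroup G) : Set G)) (hprod : H₁ ⊔ H₂ = Hc) (hcomm : ⁅H₁, H₂⁆ ≤ Subgroup.normalizer ((Q : Subgroup G) : Set G)) (K₁ K₂ : Subgroup G) (hK₁ : K₁ = ((Cfsg.pResidual p ↥(Cfsg.weakClosure Q (H₁ ⊔ Q))).map ((Cfsg.weakClosure Q (H₁ ⊔ Q))).subtype)) (hK₂ : K₂ = ((Cfsg.pResidual p ↥(Cfsg.weakClosure Q (H₂ ⊔ Q))).map ((Cfsg.weakClosure Q (H₂ ⊔ Q))).subtype)) : (⁅K₁, Q⁆ = K₁ ∧ ⁅K₁, H₁⁆ = K₁ ∧ K₁ ≤ ⁅H₁, H₁⁆ ∧ Hc ≤ Subgroup.normalizer ((K₁ : Subgroup G) : Set G)) ∧ (⁅K₂, Q⁆ = K₂ ∧ ⁅K₂, H₂⁆ = K₂ ∧ K₂ ≤ ⁅H₂, H₂⁆ ∧ Hc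 ≤ Subgroup.normalizer ((K₂ : Subgroup G) : Set G)) ∧ K₁ ⊔ K₂ = ((Cfsg.pResidual p ↥Hc).map (Hc).subtype) ∧ ⁅K₁, K₂⁆ ≤ (Cfsg.pCoreOf p Hc) := by
  subst hHc
  rw [← pResOf_def] at hK₁ hK₂ ⊢
  obtain ⟨a1, a2, a3, a4⟩ := aux hwc hn₁.2 hn₂.2 hprod hcomm hK₁
  obtain ⟨b1, -, b3, b4⟩ := aux hwc hn₂.2 hn₁.2 ((sup_comm _ _).trans hprod)
    ((commutator_comm _ _).le.trans hcomm) hK₂
  refine ⟨a1, b1, le_antisymm (sup_le ?_ ?_) ?_, (commutator_mono le_rfl b4).trans a2⟩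
  · rw [hK₁]; exact pResOf_mono (weakClosure_mono Q le_top)
  · rw [hK₂]; exact pResOf_mono (weakClosure_mono Q le_top)
  · have hn := le_normalizer_sup a1.2.2.2 b1.2.2.2
    have hQW : Q ≤ weakClosure Q ⊤ := le_weakClosure le_top
    refine pResOf_le_of_le_sup hQp (hQW.trans hn) ?_
    have key : ∀ X ≤ weakClosure Q ⊤, nclIn Q X ≤ (K₁ ⊔ K₂) ⊔ Q →
        X ≤ normalizer (((K₁ ⊔ K₂) ⊔ Q : Subgroup G) : Set G) := by
      intro X hX h x hx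
      refine mem_normalizer_of_conjS_le ?_
      rw [conjS_sup, mem_normalizer_iff_conjS.1 (hn (hX hx))]
      exact sup_le le_sup_left ((conjS_le_nclIn hx).trans h)
    conv_lhs => rw [← weakClosure_idem]
    refine wc_weakClosure_le_of_normalizer hwc hQW le_sup_right (hprod.ge.trans (sup_le ?_ ?_))
    · exact key _ hn₁.1 (a3.trans (sup_le_sup_right le_sup_left _))
    · exact key _ hn₂.1 (b3.trans (sup_le_sup_right le_sup_right _))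

end Cfsg.Agent.S2859
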