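import Cfsg.Statements.S2860
import Cfsg.Agent.Lib.LocStr.WcRes
import Cfsg.Agent.Lib.Comp.Quasisimple

set_option autoImplicit false
open Cfsg

namespace Cfsg.Agent.S2860

open CfsgLib.LocStr CfsgLib.LAE CfsgLib.Comp Subgroup

theorem aux {X : Type*} [Group X] [Finite X] {p : ℕ} [Fact p.Prime] (hO : pCore p X = ⊥)
    (hK : IsQuasisimple (pResOf p (⊤ : Subgroup X))) {P : Subgroup X} (hP : IsPGroup p P)
    (h1 : P ≠ ⊥) : ⁅pResOf p (⊤ : Subgroup X), P⁆ = pResOf p ⊤ := by
  set K := pResOf p (⊤ : Subgroup X) with hKdef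
  have hn : ⊤ ≤ normalizer (K : Set X) := le_normalizer_pResOf ⊤
  refine (qs_sub_normal hK (commutator_le_left_of_le_normalizer (le_top.trans hn))
    (normalizer_commutator_ge_left _ _)).resolve_right fun hc => h1 ?_
  have h2 : ⁅P, K⁆ = ⊥ := CfsgLib.Core.commutator_eq_bot_of_perfect (qs_sub_perfect hK)
    (by rw [commutator_comm P K]; exact commutator_eq_bot_iff_le_centralizer.2 hc)
  have h3 : IsPClosed p (centralizer (K : Set X)) := by
    obtain ⟨T, hT⟩ := exists_isSylowIn p (centralizer (K : Set X))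
    refine isPClosed_of_normal_sylow hT (hT.le_of_pResOf_le ?_ le_normalizer)
    exact ((pResOf_mono le_top).trans (le_centralizer_iff.1 hT.le)).trans (centralizer_le_normalizer _)
  have h4 := (le_op_of_isPClosed h3 hP (commutator_eq_bot_iff_le_centralizer.1 h2)).trans
    (pCoreOf_mono_of_normal le_top (le_normalizer_centralizer hn))
  rwa [pCoreOf_top, hO, le_bot_iff] at h4

/-- Let Q be a nontrivial large p-subgroup of the finite group H, U a nontrivial elementary abelian p-subgroup of H, and Q ≤ E ≤ N_H(U) with Q not normal in E. Suppose O_p(E/C_E(U)) = 1 and O^p(E)·C_E(U)/C_E(U) is quasisimple. Let E° be the weak closure of Q in E (generated by the conjugates of Q inside E) and E_∘ = O^p(E°). Then O^p(E)·C_E(U) = E_∘·C_E(U); E_∘ is perfect and equals O^p(E_∘); E_∘/C_{E_∘}(U) and E_∘/O_p(E_∘) are quasisimple; and E_∘ = [E_∘, Y] for every p-subgroup Y of E not centralizing U. -/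
theorem result {G : Type*} [Group G] [Finite G] {p : ℕ} [Fact p.Prime] (Q : Subgroup G) (hQp : IsPGroup p ↥Q) (hQ1 : Q ≠ ⊥) (hQ : Cfsg.IsLarge Q) (U : Subgroup G) (hU : Cfsg.IsElementaryAbelian p U) (hU1 : U ≠ ⊥) (E : Subgroup G) (hQE : Q ≤ E) (hEU : E ≤ Subgroup.normalizer ((U : Subgroup G) : Set G)) (hQn : ¬ E ≤ Subgroup.normalizer ((Q : Subgroup G) : Set G)) [hn : ((Subgroup.centralizer ((U : Subgroup G) : Set G)).subgroupOf E).Normal] (hred : Cfsg.pCore p (↥E ⧸ (Subgroup.centralizer ((U : Subgroup G) : Set G)).subgroupOf E) = ⊥) (hqs : Cfsg.IsQuasisimple ↥(((Cfsg.pResidual p ↥E) ⊔ (Subgroup.centralizer ((U : Subgroup G) : Set G)).subgroupOf E).map (QuotientGroup.mk' ((Subgroup.centralizer ((U : Subgroup G) : Set G)).subgroupOf E)))) (Er : Subgroup G) (hEr : Er = ((Cfsg.pResidual p ↥(Cfsg.weakClosure Q E)).map ((Cfsg.weakClosure Q E)).subtype)) [hn2 : ((Subgroup.centralizer ((U : Subgroup G) : Set G)).subgroupOf Er).Normal] : ((Cfsg.pResidual p ↥E).map (E).subtype)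 ⊔ (E ⊓ Subgroup.centralizer ((U : Subgroup G) : Set G)) = Er ⊔ (E ⊓ Subgroup.centralizer ((U : Subgroup G) : Set G)) ∧ ⁅Er, Er⁆ = Er ∧ ((Cfsg.pResidual p ↥Er).map (Er).subtype) = Er ∧ Cfsg.IsQuasisimple (↥Er ⧸ (Subgroup.centralizer ((U : Subgroup G) : Set G)).subgroupOf Er) ∧ Cfsg.IsQuasisimple (↥Er ⧸ Cfsg.pCore p ↥Er) ∧ ∀ Y : Subgroup G, Y ≤ E → IsPGroup p ↥Y → ¬ Y ≤ Subgroup.centralizer ((U : Subgroup G) : Set G) → ⁅Er, Y⁆ = Er := by
  rw [← pResOf_def] at hEr
  rw [← pResOf_def, ← pResOf_def]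
  set C := centralizer (U : Set G) with hC
  set f := QuotientGroup.mk' (C.subgroupOf E) with hf
  have hsurj : Function.Surjective f := QuotientGroup.mk'_surjective _
  have hker : f.ker = C.subgroupOf E := QuotientGroup.ker_mk' _
  have hwc := large_wc hQp hQ1 hQ
  have hUp := CfsgLib.PLocal.elemAb_isPGroup hU
  have hEC : E ≤ normalizer (C : Set G) := le_normalizer_centralizer hEU
  -- bar calculus
  have bar_le : ∀ A B : Subgroup G, A ≤ E → B ≤ E →
      ((A.subgroupOf E).map f ≤ (B.subgroupOf E).map f ↔ A ≤ B ⊔ (E ⊓ C)) := by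
    intro A B hA hB
    rw [Subgroup.map_le_map_iff, hker, ← map_le_map_iff_of_injective E.subtype_injective,
      Subgroup.map_sup, map_subgroupOf_eq_of_le hA, map_subgroupOf_eq_of_le hB,
      subgroupOf_map_subtype, inf_comm C E]
  have bar_comm : ∀ A B : Subgroup G, A ≤ E → B ≤ E →
      ((⁅A, B⁆ : Subgroup G).subgroupOf E).map f = ⁅(A.subgroupOf E).map f, (B.subgroupOf E).map f⁆ := by
    intro A B hA hB
    rw [← commutator_subgroupOf hA hB, Subgroup.map_commutator]
  have bar_res : ∀ A : Subgroup G, A ≤ E →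
      ((pResOf p A).subgroupOf E).map f = pResOf p ((A.subgroupOf E).map f) := by
    intro A hA
    rw [← pResOf_subgroupOf_of_le hA, map_pResOf]
  have bar_bot : ∀ A : Subgroup G, A ≤ E → ((A.subgroupOf E).map f = ⊥ ↔ A ≤ C) := by
    intro A hA
    rw [Subgroup.map_eq_bot_iff, hker, ← map_le_map_iff_of_injective E.subtype_injective,
      map_subgroupOf_eq_of_le hA, subgroupOf_map_subtype, le_inf_iff, and_iff_left hA]
  have hK : ((pResOf p E).subgroupOf E).map f = pResOf p ⊤ := by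
    rw [bar_res E le_rfl, subgroupOf_self, map_top_of_surjective f hsurj]
  have hqs' : IsQuasisimple (pResOf p (⊤ : Subgroup (E ⧸ C.subgroupOf E))) := by
    rwa [Subgroup.map_sup, (Subgroup.map_eq_bot_iff _).2 hker.ge, sup_bot_eq, ← pResOf_subgroupOf,
      hK] at hqs
  have hact : ∀ Y : Subgroup G, Y ≤ E → IsPGroup p Y → ¬ Y ≤ C →
      ⁅pResOf p (⊤ : Subgroup (E ⧸ C.subgroupOf E)), (Y.subgroupOf E).map f⁆ = pResOf p ⊤ :=
    fun Y hY hYp hYC => aux hred hqs' (((isPGroup_subgroupOf_iff hY).2 hYp).map f)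
      (fun h => hYC ((bar_bot Y hY).1 h))
  set W := weakClosure Q E with hW
  have hWE : W ≤ E := weakClosure_le Q E
  have hWn : E ≤ normalizer (W : Set G) := le_normalizer_weakClosure Q E
  have hErW : Er ≤ W := hEr ▸ pResOf_le W
  have hErE : Er ≤ E := hErW.trans hWE
  have hErn : E ≤ normalizer (Er : Set G) := hEr ▸ le_normalizer_pResOf_of_le hWn
  have hErr : pResOf p Er = Er := by rw [hEr, pResOf_pResOf]
  have hQC : ¬ Q ≤ C := by
    intro h
    apply hQn
    intro e he
    rw [mem_normalizer_iff_conjS]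
    refine wc_conj_eq_of_normalizes hwc (le_trans ?_
      (large_centralizer_le_normalizer hQp hQ hUp hU1 (hQE.trans hEU)))
    rw [← hC, ← mem_normalizer_iff_conjS.1 (hEC he)]
    exact conjS_mono h
  have hbar : (Er.subgroupOf E).map f = pResOf p ⊤ := by
    rw [hEr, bar_res W hWE]
    refine le_antisymm (pResOf_mono le_top) ?_
    rw [← pResOf_pResOf]
    refine pResOf_mono ?_
    rw [← hact Q hQE hQp hQC, ← hK, ← bar_comm _ _ (pResOf_le E) hQE]
    refine map_mono (subgroupOf_mono E ?_)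
    exact (commutator_mono le_rfl (le_weakClosure hQE)).trans
      (commutator_le_right_of_le_normalizer ((pResOf_le E).trans hWn))
  -- `P = O_p(Er)` and `D = C_{Er}(U)`
  set P := pCoreOf p Er with hP
  have hPn : E ≤ normalizer (P : Set G) := le_normalizer_pCoreOf_of_le hErn
  have hWD : ⁅W, Er ⊓ C⁆ ≤ P := by
    refine le_trans (le_inf ((commutator_mono le_rfl inf_le_right).trans
      (large_commutator_weakClosure_centralizer hQp hQ hUp hU1 hEU)) ?_) (op_inf_le hErW)
    exact (commutator_mono le_rfl inf_le_left).trans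
      (commutator_le_right_of_le_normalizer (hWE.trans hErn))
  have hsup : ∀ N ≤ Er, (N.subgroupOf E).map f = pResOf p ⊤ → Er ≤ N ⊔ (Er ⊓ C) := by
    intro N hN h
    have h1 := (bar_le Er N hErE (hN.trans hErE)).1 (hbar.trans h.symm).le
    have h2 := inf_sup_of_le_of_le_normalizer' (K := Er) (H := N) (N := E ⊓ C)
      ((hN.trans hErE).trans (le_normalizer_inf le_normalizer hEC)) hN
    rw [sup_comm, inf_eq_left.2 h1, ← inf_assoc, inf_eq_left.2 hErE, sup_comm] at h2
    exact h2.le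
  have hres : ∀ N ≤ Er, Er ≤ normalizer (N : Set G) → Er ≤ N ⊔ P → N = Er := fun N hN hn h =>
    le_antisymm hN (hErr.ge.trans (pResOf_le_of_le_sup (isPGroup_pCoreOf Er)
      ((pCoreOf_le Er).trans hn) h))
  have hcomm : ∀ N ≤ Er, ∀ X ≤ W, ∀ Z : Subgroup G, Er ≤ normalizer (Z : Set G) →
      Er ≤ N ⊔ (Er ⊓ C) → ⁅N, X⁆ ≤ Z → ⁅Er, X⁆ ≤ Z ⊔ P := by
    intro N hN X hX Z hZ h1 h2
    have hn := le_normalizer_sup hZ (hErE.trans hPn)
    refine (commutator_mono h1 le_rfl).trans (CfsgLib.LAE.commutator_sup_le (hN.trans hn)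
      (inf_le_left.trans hn) (h2.trans le_sup_left) ?_)
    rw [commutator_comm]
    exact ((commutator_mono hX le_rfl).trans hWD).trans le_sup_right
  have hEE : ⁅Er, Er⁆ ≤ Er := CfsgLib.Core.commutator_le_of_le le_rfl le_rfl
  have hEEn : E ≤ normalizer ((⁅Er, Er⁆ : Subgroup G) : Set G) := le_normalizer_commutator hErn hErn
  have hperf : ⁅Er, Er⁆ = Er := by
    refine hres _ hEE (hErE.trans hEEn) ?_
    have h1 : ⁅Er, Q⁆ = Er := hEr ▸ wc_commutator_pResOf hwc hQE
    refine h1.ge.trans (hcomm _ hEE Q (le_weakClosure hQE) _ (hErE.trans hEEn) (hsup _ hEE ?_)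
      (commutator_le_left_of_le_normalizer (hQE.trans hEEn)))
    rw [bar_comm _ _ hErE hErE, hbar, qs_sub_perfect hqs']
  -- the quotient maps
  let φ : Er →* E ⧸ C.subgroupOf E := f.comp (inclusion hErE)
  have hφk : φ.ker = C.subgroupOf Er := by
    ext x
    simp only [φ, MonoidHom.mem_ker, MonoidHom.comp_apply]
    rw [← MonoidHom.mem_ker, hker]
    rfl
  have hφr : φ.range = pResOf p ⊤ := by
    rw [MonoidHom.range_comp, inclusion_range, hbar]
  have hq1 : IsQuasisimple (Er ⧸ C.subgroupOf Er) :=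
    qs_of_mulEquiv hqs' ((QuotientGroup.quotientMulEquivOfEq hφk.symm).trans
      ((QuotientGroup.quotientKerEquivRange φ).trans (MulEquiv.subgroupCongr hφr))).symm
  have hPC : P ≤ C := by
    rw [← bar_bot P ((pCoreOf_le Er).trans hErE), ← le_bot_iff, ← hred]
    exact le_pCore (Normal.map (normal_subgroupOf_of_le hPn) f hsurj)
      (((isPGroup_subgroupOf_iff ((pCoreOf_le Er).trans hErE)).2 (isPGroup_pCoreOf Er)).map f)
  have hPC' : pCore p Er ≤ C.subgroupOf Er := by
    rw [← pCoreOf_subgroupOf]; exact subgroupOf_mono Er hPC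
  have hpf : Group.IsPerfect Er := (Subgroup.isPerfect_iff).2 hperf
  have hq2 : IsQuasisimple (Er ⧸ pCore p Er) := by
    refine qs_of_ker_le_center
      (Group.IsPerfect.ofSurjective (QuotientGroup.mk'_surjective (pCore p Er)))
      (QuotientGroup.map (pCore p Er) (C.subgroupOf Er) (MonoidHom.id _) hPC') ?_ ?_ hq1
    · intro y
      obtain ⟨x, rfl⟩ := QuotientGroup.mk_surjective y
      exact ⟨x, rfl⟩
    · intro y hy
      obtain ⟨x, rfl⟩ := QuotientGroup.mk_surjective y
      replace hy : x ∈ C.subgroupOf Er := (QuotientGroup.eq_one_iff x).1 hy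
      rw [mem_center_iff]
      intro z
      obtain ⟨z, rfl⟩ := QuotientGroup.mk_surjective z
      rw [← QuotientGroup.mk_mul, ← QuotientGroup.mk_mul, QuotientGroup.eq, mem_pCore_iff]
      have := hWD (commutator_mem_commutator (hErW (inv_mem z.2)) (inv_mem (⟨x.2, hy⟩ : (x : G) ∈ Er ⊓ C)))
      have h2 := inv_mem this
      simpa [commutatorElement_def, mul_assoc] using h2
  refine ⟨le_antisymm (sup_le ((bar_le _ _ (pResOf_le E) hErE).1 (hK.trans hbar.symm).le) le_sup_right)
    (sup_le ((bar_le _ _ hErE (pResOf_le E)).1 (hbar.trans hK.symm).le) le_sup_right), hperf, hErr,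
    hq1, hq2, fun Y hY hYp hYC => ?_⟩
  have hN : ⁅Er, Y⁆ ≤ Er := commutator_le_left_of_le_normalizer (hY.trans hErn)
  have hNn : Er ≤ normalizer ((⁅Er, Y⁆ : Subgroup G) : Set G) := normalizer_commutator_ge_left _ _
  refine hres _ hN hNn (hperf.ge.trans (hcomm _ hN Er hErW _ hNn (hsup _ hN ?_)
    (commutator_le_left_of_le_normalizer hNn)))
  rw [bar_comm _ _ hErE hY, hbar, hact Y hY hYp hYC]

end Cfsg.Agent.S2860
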