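import Cfsg.Statements.S2861
import Cfsg.Agent.Lib.LocStr.FrakL
import Cfsg.Agent.Lib.LocStr.FrakM
import Cfsg.Agent.Lib.LAE.PIrr

set_option autoImplicit false
open Cfsg

namespace Cfsg.Agent.S2861

open CfsgLib.LAE CfsgLib.LocStr Subgroup

/-- Standing hypotheses: G a finite group, S a Sylow p-subgroup, Q a nontrivial large p-subgroup of G contained in S, M a subgroup containing S with the basic property (M ∈ 𝔐_G(S)); Y_M the largest p-reduced normal subgroup of M and M† = M·C_G(Y_M). Let L ∈ 𝔏_G(Y_M) (L ∈ 𝔏_G(Y_M): Y_M ≤ L; O_p(L) is the normal closure in L of Y_M ∩ O_p(L) and normalizes Y_M; L is Y_M-minimal of characteristic p with N_L(Y_M) its unique maximal subgroup over Y_M; and L/O_p(L) ≅ SL₂(q) with q = |Y_M : Y_M ∩ O_p(L)|, or p = 2 and L/O_p(L) is a Suzuki group Sz(q) or dihedral of order 2r, r an odd prime) and A = O_p(L). Then Y_M·A/A is the unique nontrivial elementary abelian normal p-subgroup of N_L(Y_M)/A. -/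
theorem result {G : Type*} [Group G] [Finite G] {p : ℕ} [Fact p.Prime] (S : Sylow p G) (Q : Subgroup G) (hQp : IsPGroup p ↥Q) (hQ1 : Q ≠ ⊥) (hQS : Q ≤ (S : Subgroup G)) (hQ : Cfsg.IsLarge Q) (M : Subgroup G) (hSM : (S : Subgroup G) ≤ M) (hM : Cfsg.IsInFrakM p M) (L : Subgroup G) (hL : Cfsg.IsInFrakL p M L) (NL : Subgroup G) (hNL : NL = L ⊓ Subgroup.normalizer (((Cfsg.largestPReducedOf p M) : Subgroup G) : Set G)) [hn : (((Cfsg.pCoreOf p L)).subgroupOf NL).Normal] : let Ybar : Subgroup (↥NL ⧸ ((Cfsg.pCoreOf p L)).subgroupOf NL) := (((Cfsg.largestPReducedOf p M)).subgroupOf NL).map (QuotientGroup.mk' (((Cfsg.pCoreOf p L)).subgroupOf NL)); Ybar ≠ ⊥ ∧ Ybar.Normal ∧ Cfsg.IsElementaryAbelian p Ybar ∧ ∀ (V : Subgroup (↥NL ⧸ ((Cfsg.pCoreOf p L)).subgroupOf NL)), V.Normal → Cfsg.IsElementaryAbelian p V → V ≠ ⊥ → V = Ybar := by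
  have hY := (frakM_of_large hQp hQ1 hQ S hSM hM).Y_elem
  obtain ⟨X, _, π, h1, h2, h3⟩ := exists_model hY hL
  have h := minA_of_frakL hY hL
  rw [← hNL] at h
  set Y := largestPReducedOf p M with hYdef
  intro Ybar
  have hle : NL ≤ L := h.lt.le
  have hker : (π.comp (inclusion hle)).ker = (pCoreOf p L).subgroupOf NL := by
    rw [← MonoidHom.comap_ker, h2, ← pCoreOf_subgroupOf]; rfl
  let φ := QuotientGroup.lift ((pCoreOf p L).subgroupOf NL) (π.comp (inclusion hle)) hker.ge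
  have hφ : Function.Injective φ := (QuotientGroup.injective_lift_iff _ _ _).2 hker.symm
  have hYn : (Y.subgroupOf NL).Normal := normal_subgroupOf_of_le (hNL ▸ inf_le_right)
  have hYb : Ybar.Normal := hYn.map _ (QuotientGroup.mk'_surjective _)
  have e1 : Ybar.map φ = (Y.subgroupOf L).map π := by
    apply le_antisymm
    · rintro _ ⟨_, ⟨y, hy, rfl⟩, rfl⟩
      exact ⟨inclusion hle y, hy, rfl⟩
    · rintro _ ⟨y, hy, rfl⟩
      exact ⟨_, ⟨⟨y, h.le hy⟩, hy, rfl⟩, rfl⟩
  have hr : ∀ V : Subgroup (NL ⧸ (pCoreOf p L).subgroupOf NL), V.Normal →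
      φ.range ≤ normalizer (V.map φ : Set X) := fun V hV => by
    rw [MonoidHom.range_eq_map]
    exact map_le_normalizer_map φ (normalizer_eq_top_iff.2 hV).ge
  have e2 : normalizer ((Y.subgroupOf L).map π : Set X) ≤ φ.range := by
    intro x hx
    obtain ⟨l, rfl⟩ := h1 x
    rcases h.eq_or_le (X := ((normalizer ((Y.subgroupOf L).map π : Set X)).comap π).map L.subtype)
      (fun y hy => ⟨⟨y, h.le_top' hy⟩, le_normalizer (mem_map_of_mem π hy), rfl⟩)
      (map_subtype_le _) with e | e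
    · refine absurd (fun y hy => ?_) (h.not_le_op h.isPGroup)
      have hN : (((Y.subgroupOf L).map π).comap π).Normal := by
        rw [← normalizer_eq_top_iff, eq_top_iff]
        refine le_trans (fun a _ => ?_) (comap_le_normalizer_comap π le_rfl)
        obtain ⟨b, hb, e'⟩ := e.ge a.2
        rwa [← Subtype.ext e']
      exact mem_pCore_iff.1 (le_pCore hN (isPGroup_comap_of_ker (h2 ▸ isPGroup_pCore)
        (((isPGroup_subgroupOf_iff h.le_top').2 h.isPGroup).map π))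
          (show (⟨y, h.le_top' hy⟩ : L) ∈ _ from mem_map_of_mem π hy))
    · exact ⟨QuotientGroup.mk ⟨l, e ⟨l, hx, rfl⟩⟩, rfl⟩
  refine ⟨fun e => h.not_le_op h.isPGroup fun y hy => ?_, hYb,
    CfsgLib.PLocal.elemAb_map (CfsgLib.PLocal.elemAb_subgroupOf hY _) _, fun V hV hVe hV1 => ?_⟩
  · rw [Subgroup.map_eq_bot_iff, QuotientGroup.ker_mk'] at e
    exact e (show (⟨y, h.le hy⟩ : NL) ∈ _ from hy)
  · apply map_injective hφ
    rw [e1]
    refine h3.uniq _ ((map_le_range φ V).trans (e1 ▸ hr _ hYb)) (e2.trans (hr V hV)) ?_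
      (by rwa [ne_eq, map_eq_bot_iff_of_injective _ hφ])
    rintro _ ⟨v, hv, rfl⟩
    rw [← map_pow, hVe.2 v hv, map_one]

end Cfsg.Agent.S2861
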