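import Cfsg.Statements.S2864
import Cfsg.Agent.Lib.LocStr.FrakM

set_option autoImplicit false
open Cfsg

namespace Cfsg.Agent.S2864

open CfsgLib.LocStr CfsgLib.LAE

theorem eq_of_le_sup {G : Type*} [Group G] [Finite G] {p : ℕ} [Fact p.Prime] {I B A : Subgroup G}
    (hA : IsPGroup p A) (hBA : B ≤ A) (hIA : I ≤ A) (hI : A ≤ Subgroup.normalizer (I : Set G))
    (hB : A ≤ Subgroup.normalizer (B : Set G)) (h : B ≤ I ⊔ ⁅B, A⁆) : B ≤ I := by
  obtain ⟨n, hn⟩ := exists_iterCommutator_eq_bot_of_isPGroup (hA.to_le hBA) hA hB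
  have hnorm : ∀ k, A ≤ Subgroup.normalizer (iterCommutator B A k : Set G) := by
    intro k
    induction k with
    | zero => exact hB
    | succ k ih =>
      rw [iterCommutator_succ]
      exact le_normalizer_commutator ih Subgroup.le_normalizer
  have key : ∀ k, B ≤ I ⊔ iterCommutator B A k := by
    intro k
    induction k with
    | zero => exact le_sup_right
    | succ k ih =>
      refine h.trans (sup_le le_sup_left ((Subgroup.commutator_mono ih le_rfl).trans ?_))
      have hW := le_normalizer_sup hI (hnorm (k + 1))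
      exact CfsgLib.LAE.commutator_sup_le (hIA.trans hW) (((iterCommutator_le hB k).trans hBA).trans hW)
        ((commutator_le_left_of_le_normalizer hI).trans le_sup_left) le_sup_right
  simpa [hn] using key n

/-- Standing hypotheses: G a finite group, S a Sylow p-subgroup, Q a nontrivial large p-subgroup of G contained in S, M a subgroup containing S with the basic property (M ∈ 𝔐_G(S)); Y_M the largest p-reduced normal subgroup of M and M† = M·C_G(Y_M). Let I be a nontrivial normal p-subgroup of M and Y ≤ O_p(M†); let L be a subgroup of G containing Y and A a normal p-subgroup of L with I ≤ A ≤ M. If [Y, A] ≤ [I, A], then Y ≤ O_p(L). -/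
theorem result {G : Type*} [Group G] [Finite G] {p : ℕ} [Fact p.Prime] (S : Sylow p G) (Q : Subgroup G) (hQp : IsPGroup p ↥Q) (hQ1 : Q ≠ ⊥) (hQS : Q ≤ (S : Subgroup G)) (hQ : Cfsg.IsLarge Q) (M : Subgroup G) (hSM : (S : Subgroup G) ≤ M) (hM : Cfsg.IsInFrakM p M) (I : Subgroup G) (hI1 : I ≠ ⊥) (hIp : IsPGroup p ↥I) (hIM : I ≤ M ∧ M ≤ Subgroup.normalizer ((I : Subgroup G) : Set G)) (Y : Subgroup G) (hY : Y ≤ (Cfsg.pCoreOf p (M ⊔ Subgroup.centralizer (((Cfsg.largestPReducedOf p M) : Subgroup G) : Set G)))) (L : Subgroup G) (hYL : Y ≤ L) (A : Subgroup G) (hAp : IsPGroup p ↥A) (hAL : A ≤ L ∧ L ≤ Subgroup.normalizer ((A : Subgroup G) : Set G)) (hIA : I ≤ A) (hAM : A ≤ M) (hc : ⁅Y, A⁆ ≤ ⁅I, A⁆) : Y ≤ (Cfsg.pCoreOf p L) := by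
  have h := frakM_of_large hQp hQ1 hQ S hSM hM
  have hNI := h.normalizer_le_dagger hIp hI1 hIM.2
  have hAI := hAM.trans hIM.2
  induction L using WellFoundedLT.induction with
  | ind L ih =>
    have hK : nclIn Y L ⊔ A ≤ L := sup_le (nclIn_le_of_le hYL) hAL.1
    have hKn : L ≤ Subgroup.normalizer ((nclIn Y L ⊔ A : Subgroup G) : Set G) :=
      le_normalizer_sup (le_normalizer_nclIn Y L) hAL.2
    rcases hK.eq_or_lt with he | hlt
    · have hB : nclIn I L ≤ A := nclIn_le hIA hAL.2
      have hBn := le_normalizer_nclIn I L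
      have hW : L ≤ Subgroup.normalizer ((⁅nclIn I L, A⁆ : Subgroup G) : Set G) :=
        le_normalizer_commutator hBn hAL.2
      have h1 : ⁅nclIn Y L, A⁆ ≤ ⁅nclIn I L, A⁆ :=
        commutator_nclIn_le (hYL.trans hW) hAL.2 hW
          (hc.trans (Subgroup.commutator_mono (le_nclIn I L) le_rfl))
      have h2 : nclIn I L ≤ I ⊔ ⁅nclIn I L, A⁆ := by
        refine nclIn_le le_sup_left (he.ge.trans (sup_le ?_ (le_normalizer_sup hAI (hAL.1.trans hW))))
        refine CfsgLib.Core.le_normalizer_of_commutator_le_of_le (K := A) ?_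
          (sup_le hIA (commutator_le_right_of_le_normalizer (hB.trans Subgroup.le_normalizer)))
        rw [Subgroup.commutator_comm]
        exact h1.trans le_sup_right
      have h3 := eq_of_le_sup hAp hB hIA hAI (hAL.1.trans hBn) h2
      have h4 : L ≤ Subgroup.normalizer (I : Set G) := by
        rw [le_antisymm (le_nclIn I L) h3]; exact hBn
      exact (le_inf hY hYL).trans (op_inf_le (h4.trans hNI))
    · exact (ih _ hlt ((le_nclIn Y L).trans le_sup_left) ⟨le_sup_right, hK.trans hAL.2⟩).trans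
        (pCoreOf_mono_of_normal hK hKn)

end Cfsg.Agent.S2864
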