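import Cfsg.Statements.S2872
import Cfsg.Agent.Lib.Transfer.Cocycle
import Cfsg.Agent.Lib.Core.Frattini

set_option autoImplicit false
open Cfsg

namespace Cfsg.Agent.S2872

open Subgroup Cfsg CfsgLib.LAE

/-- Let S be a Sylow 2-subgroup of the finite group G. Then G has a proper normal subgroup of 2-power index (O²(G) ≠ G), or Ω₁(Z(S)) is contained in the Frattini subgroup of S, or N_G(S) acts nontrivially on Ω₁(Z(S)) by conjugation. -/
theorem result {G : Type*} [Group G] [Finite G] (S : Sylow 2 G) : Cfsg.pResidual 2 G ≠ ⊤ ∨ Cfsg.omegaOne 2 ((S : Subgroup G) ⊓ Subgroup.centralizer ((S : Subgroup G) : Set G)) ≤ (frattini ↥(S : Subgroup G)).map (S : Subgroup G).subtype ∨ ∃ g ∈ Subgroup.normalizer ((S : Subgroup G) : Set G), ∃ z ∈ Cfsg.omegaOne 2 ((S : Subgroup G) ⊓ Subgroup.centralizer ((S : Subgroup G) : Set G)), g * z * g⁻¹ ≠ z := by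
  by_contra h
  push Not at h
  obtain ⟨h1, h2, h3⟩ := h
  obtain ⟨z, hz, hzF⟩ := SetLike.not_le_iff_exists.1 h2
  obtain ⟨hz1, hz2, hz3⟩ := mem_omegaZ.1 hz
  obtain ⟨M, hM, hzM⟩ : ∃ M : Subgroup (S : Subgroup G), IsCoatom M ∧ ⟨z, hz1⟩ ∉ M := by
    by_contra hc
    push Not at hc
    refine hzF ⟨⟨z, hz1⟩, ?_, rfl⟩
    simp only [frattini, Order.radical, SetLike.mem_coe, mem_iInf]
    exact hc
  have hi : (M.map (S : Subgroup G).subtype).relIndex (S : Subgroup G) = 2 := by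
    rw [relIndex, subgroupOf, comap_map_eq_self_of_injective (S : Subgroup G).subtype_injective]
    exact CfsgLib.Core.index_eq_of_isCoatom_of_isPGroup S.isPGroup' hM
  obtain ⟨t, ht1, ht2⟩ := CfsgLib.Transfer.thompson_transfer_extremal
    (CfsgLib.Transfer.index_ne_two_of_pResidual_eq_top h1) S.not_dvd_index hi
    (u := z) (by rw [← pow_two, hz3]) S.isPGroup'
    (fun x hx => mem_centralizer_singleton_iff.2 (hz2 x hx))
  have ht3 : t⁻¹ ∈ normalizer ((S : Subgroup G) : Set G) :=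
    mem_normalizer_of_conjS_le (conjS_le_iff_forall.2 fun r hr => by simpa using ht2 r hr)
  have h4 := h3 _ ht3 z hz
  rw [inv_inv] at h4
  rw [h4] at ht1
  obtain ⟨y, hy, e⟩ := ht1
  exact hzM ((Subtype.ext e : y = ⟨z, hz1⟩) ▸ hy)

end Cfsg.Agent.S2872
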