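import Cfsg.Statements.S2873
import Cfsg.Agent.Lib.Invol.BaerSuzuki
import Cfsg.Agent.Lib.Invol.Dihedral
import Cfsg.Agent.Lib.Coprime.Action
import Cfsg.Agent.Lib.LocStr.CubicLoc
import Cfsg.Agent.Lib.LocStr.SPE

set_option autoImplicit false
open Cfsg

namespace Cfsg.Agent.S2873

open CfsgLib.LAE CfsgLib.LocStr Subgroup
open scoped Pointwise

theorem card_sq {G : Type*} [Group G] [Finite G] (O : Subgroup G) [hO : O.Normal] {a g : G}
    (ha : a * a = 1) (hy : ∀ q ∈ O, q * (a * (g * a * g⁻¹)) = (a * (g * a * g⁻¹)) * q → q = 1) :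
    Nat.card (O ⊓ centralizer {a} : Subgroup G) ^ 2 = Nat.card O := by
  set a' := g * a * g⁻¹ with ha'
  set y := a * a'
  have ha2 : a' * a' = 1 := by rw [ha']; simp [mul_assoc, ← mul_assoc a a, ha]
  set C := O ⊓ centralizer {a}
  set C' := O ⊓ centralizer {a'}
  have hc : Nat.card C' = Nat.card C := by
    rw [← card_conjS g C]
    congr 2
    ext x
    simp only [C, C', mem_conjS, mem_inf, mem_centralizer_singleton_iff, ha']
    refine and_congr ⟨fun h => by simpa using hO.conj_mem _ h g⁻¹,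
      fun h => by simpa [mul_assoc] using hO.conj_mem _ h g⟩ ⟨fun h => ?_, fun h => ?_⟩
    · calc g⁻¹ * x * g * a = g⁻¹ * (x * (g * a * g⁻¹)) * g := by group
        _ = a * (g⁻¹ * x * g) := by rw [h]; group
    · calc x * (g * a * g⁻¹) = g * (g⁻¹ * x * g * a) * g⁻¹ := by group
        _ = g * a * g⁻¹ * x := by rw [h]; group
  have h1 : Nat.card C * Nat.card C' ≤ Nat.card O := by
    rw [← Nat.card_prod]
    refine Nat.card_le_card_of_injective
      (fun x => (⟨x.1 * x.2, mul_mem x.1.2.1 x.2.2.1⟩ : O)) ?_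
    rintro ⟨x, x'⟩ ⟨z, z'⟩ h
    have h' : (x : G) * x' = z * z' := congrArg Subtype.val h
    have e : (z : G)⁻¹ * x = z' * (x' : G)⁻¹ := by
      calc (z : G)⁻¹ * x = (z : G)⁻¹ * (x * x') * (x' : G)⁻¹ := by group
        _ = _ := by rw [h']; group
    have k1 : (z : G)⁻¹ * x ∈ C := mul_mem (inv_mem z.2) x.2
    have k2 : (z : G)⁻¹ * x ∈ C' := e ▸ mul_mem z'.2 (inv_mem x'.2)
    have k3 := hy _ k1.1 (by
      rw [← mul_assoc, mem_centralizer_singleton_iff.1 k1.2, mul_assoc,
        mem_centralizer_singleton_iff.1 k2.2, ← mul_assoc])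
    exact Prod.ext (Subtype.ext (inv_mul_eq_one.1 k3).symm)
      (Subtype.ext (mul_inv_eq_one.1 (e ▸ k3)).symm)
  have hw : ∀ w : G, w * y⁻¹ ∈ O → ∀ q ∈ O, q * w = w * q → q = 1 := fun w hw q hq hqw => by
    let φ : O → O := fun u => ⟨u * (y * (u : G)⁻¹ * y⁻¹), mul_mem u.2 (hO.conj_mem _ (inv_mem u.2) y)⟩
    have hφ : Function.Injective φ := fun u v h => by
      have h' : (u : G) * (y * (u : G)⁻¹ * y⁻¹) = v * (y * (v : G)⁻¹ * y⁻¹) := congrArg Subtype.val h
      have := hy _ (mul_mem (inv_mem v.2) u.2) (by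
        calc (v : G)⁻¹ * u * y = (v : G)⁻¹ * (u * (y * (u : G)⁻¹ * y⁻¹)) * y * u := by group
          _ = _ := by rw [h']; group)
      exact Subtype.ext (inv_mul_eq_one.1 this).symm
    obtain ⟨u, hu⟩ := Finite.surjective_of_injective hφ ⟨_, hw⟩
    have hu' : (u : G) * (y * (u : G)⁻¹ * y⁻¹) = w * y⁻¹ := congrArg Subtype.val hu
    have e : w = u * y * (u : G)⁻¹ := by
      calc w = w * y⁻¹ * y := by group
        _ = _ := by rw [← hu']; group
    have := hy _ (mul_mem (mul_mem (inv_mem u.2) hq) u.2) (by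
      calc (u : G)⁻¹ * q * u * y = (u : G)⁻¹ * (q * (u * y * (u : G)⁻¹)) * u := by group
        _ = _ := by rw [← e, hqw, e]; group)
    calc q = u * ((u : G)⁻¹ * q * u) * (u : G)⁻¹ := by group
      _ = 1 := by rw [this]; group
  have hmem : ∀ u v : O, (u * a * (u : G)⁻¹) * (v * a' * (v : G)⁻¹) * y⁻¹ ∈ O := fun u v => by
    have : (u * a * (u : G)⁻¹) * (v * a' * (v : G)⁻¹) * y⁻¹ =
        u * (a * ((u : G)⁻¹ * v) * a⁻¹) * (y * (v : G)⁻¹ * y⁻¹) := by simp only [y]; group
    rw [this]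
    exact mul_mem (mul_mem u.2 (hO.conj_mem _ (mul_mem (inv_mem u.2) v.2) a))
      (hO.conj_mem _ (inv_mem v.2) y)
  have h2 : C.relIndex O * C'.relIndex O ≤ Nat.card O := by
    rw [relIndex, relIndex, index_eq_card, index_eq_card, ← Nat.card_prod]
    refine Nat.card_le_card_of_injective (fun x => (⟨_, hmem x.1.out x.2.out⟩ : O)) ?_
    rintro ⟨x, x'⟩ ⟨z, z'⟩ h
    have h' := mul_right_cancel (congrArg Subtype.val h : (_ : G) * y⁻¹ = _ * y⁻¹)
    simp only at h'
    set u := x.out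
    set v := x'.out
    set u' := z.out
    set v' := z'.out
    have sq : ∀ {b : G} (c : G), b * b = 1 → (c * b * c⁻¹) * (c * b * c⁻¹) = 1 := fun {b} c hb => by
      calc _ = c * (b * b) * c⁻¹ := by group
        _ = 1 := by rw [hb]; group
    set s := u * a * (u : G)⁻¹
    set t := v * a' * (v : G)⁻¹
    set s' := u' * a * (u' : G)⁻¹
    set t' := v' * a' * (v' : G)⁻¹
    have k1 := CfsgLib.Invol.conj_mul_eq_inv (sq u ha) (sq v ha2)
    have k2 := CfsgLib.Invol.conj_mul_eq_inv (sq u' ha) (sq v' ha2)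
    change s * (s * t) * s⁻¹ = (s * t)⁻¹ at k1
    change s' * (s' * t') * s'⁻¹ = (s' * t')⁻¹ at k2
    rw [← h'] at k2
    have k3 : s'⁻¹ * s ∈ O := by
      have : s'⁻¹ * s = u' * (a⁻¹ * ((u' : G)⁻¹ * u) * a⁻¹⁻¹) * (u : G)⁻¹ := by
        simp only [s, s']; group
      rw [this]
      exact mul_mem (mul_mem u'.2 (hO.conj_mem _ (mul_mem (inv_mem u'.2) u.2) _)) (inv_mem u.2)
    have k4 := hw (s * t) (hmem u v) _ k3 (by
      calc s'⁻¹ * s * (s * t) = s'⁻¹ * (s * (s * t) * s⁻¹) * s := by group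
        _ = s'⁻¹ * (s' * (s * t) * s'⁻¹) * s := by rw [k1, k2]
        _ = _ := by group)
    have k5 : s' = s := inv_mul_eq_one.1 k4
    have k6 : t = t' := mul_left_cancel (k5 ▸ h')
    refine Prod.ext ?_ ?_
    · rw [← x.out_eq, ← z.out_eq]
      refine QuotientGroup.eq.2 ⟨(u⁻¹ * u').2, mem_centralizer_singleton_iff.2 ?_⟩
      calc (u : G)⁻¹ * u' * a = (u : G)⁻¹ * s' * u' := by simp only [s']; group
        _ = a * ((u : G)⁻¹ * u') := by rw [k5]; simp only [s]; group
    · rw [← x'.out_eq, ← z'.out_eq]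
      refine QuotientGroup.eq.2 ⟨(v⁻¹ * v').2, mem_centralizer_singleton_iff.2 ?_⟩
      calc (v : G)⁻¹ * v' * a' = (v : G)⁻¹ * t' * v' := by simp only [t']; group
        _ = a' * ((v : G)⁻¹ * v') := by rw [← k6]; simp only [t]; group
  have e1 := CfsgLib.Core.card_mul_relIndex_of_le (inf_le_left : C ≤ O)
  have e2 := CfsgLib.Core.card_mul_relIndex_of_le (inf_le_left : C' ≤ O)
  rw [hc] at h1 e2
  have hpos : 0 < Nat.card O := Nat.card_pos
  have h3 : Nat.card O * Nat.card O ≤ Nat.card C * Nat.card C * Nat.card O := by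
    calc Nat.card O * Nat.card O = Nat.card C * Nat.card C * (C.relIndex O * C'.relIndex O) := by
          nth_rewrite 1 [← e1]; nth_rewrite 1 [← e2]; ring
      _ ≤ _ := Nat.mul_le_mul_left _ h2
  rw [pow_two]
  exact le_antisymm h1 (Nat.le_of_mul_le_mul_right h3 hpos)

/-- Let G be a finite group and r an odd prime such that G ⧸ O₂(G) is dihedral of order 2r, and let R be a Sylow r-subgroup of G with C_{O₂(G)}(R) = 1. Then N_G(R) is dihedral of order 2r; for any involution a of N_G(R), every involution of G outside O₂(G) is conjugate to a; and |C_{O₂(G)}(a)|² = |O₂(G)|. -/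
theorem result {G : Type*} [Group G] [Finite G] {r : ℕ} [Fact r.Prime] (hr : r ≠ 2) [hN : (Cfsg.pCore 2 G).Normal] (hquot : Nonempty (G ⧸ Cfsg.pCore 2 G ≃* DihedralGroup r)) (R : Sylow r G) (hC : Cfsg.pCore 2 G ⊓ Subgroup.centralizer ((R : Subgroup G) : Set G) = ⊥) : Nonempty (↥(Subgroup.normalizer ((R : Subgroup G) : Set G)) ≃* DihedralGroup r) ∧ ∀ a : G, a ∈ Subgroup.normalizer ((R : Subgroup G) : Set G) → orderOf a = 2 → (∀ b : G, orderOf b = 2 → b ∉ Cfsg.pCore 2 G → ∃ g : G, g * a * g⁻¹ = b) ∧ Nat.card ↥(Cfsg.pCore 2 G ⊓ Subgroup.centralizer ({a} : Set G)) ^ 2 = Nat.card ↥(Cfsg.pCore 2 G) := by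
  obtain ⟨e⟩ := hquot
  have hrp : r.Prime := Fact.out
  have hodd : Odd r := hrp.odd_of_ne_two hr
  have : NeZero r := ⟨hrp.ne_zero⟩
  let f : G →* DihedralGroup r := e.toMonoidHom.comp (QuotientGroup.mk' _)
  have hf : Function.Surjective f := e.surjective.comp (QuotientGroup.mk'_surjective _)
  have hk : f.ker = pCore 2 G := by
    ext x; simp [f, MonoidHom.mem_ker]
  have hRO : (R : Subgroup G) ⊓ pCore 2 G = ⊥ :=
    (IsPGroup.disjoint_of_ne r 2 hr _ _ R.isPGroup' isPGroup_pCore).eq_bot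
  have hc1 : Nat.card ((R : Subgroup G).map f) = r := by
    have := (R.mapSurjective hf).card_eq_multiplicity
    rw [DihedralGroup.nat_card, Nat.factorization_mul (by decide) hrp.ne_zero] at this
    simpa [hrp.factorization_self, Nat.Prime.factorization Nat.prime_two, hr] using this
  set N := normalizer ((R : Subgroup G) : Set G)
  have hNO : ∀ x ∈ N, f x = 1 → x = 1 := fun x hx h1 => by
    have h2 : x ∈ pCore 2 G := hk ▸ h1
    refine mem_bot.1 (hC ▸ ⟨h2, fun y hy => ?_⟩)
    have h3 : y * x * y⁻¹ * x⁻¹ ∈ (R : Subgroup G) ⊓ pCore 2 G :=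
      ⟨by
        have := (R : Subgroup G).mul_mem hy (conj_mem_of_mem_normalizer hx (Subgroup.inv_mem _ hy))
        rwa [← mul_assoc, ← mul_assoc] at this,
        Subgroup.mul_mem _ (hN.conj_mem x h2 y) (Subgroup.inv_mem _ h2)⟩
    rw [hRO, mem_bot, mul_inv_eq_one, mul_inv_eq_iff_eq_mul] at h3
    exact h3
  obtain ⟨k, hk2⟩ := IsPGroup.iff_card.1 (isPGroup_pCore (p := 2) (G := G))
  obtain ⟨l, hl⟩ := IsPGroup.iff_card.1 R.isPGroup'
  have hNs : N.map f = ⊤ := by
    rw [CfsgLib.Coprime.map_normalizer_of_surjective hf (by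
      rw [hk, hk2, hl]; exact ((Nat.coprime_primes hrp Nat.prime_two).2 hr).pow _ _)
      (Or.inl (CfsgLib.Coprime.isSolvable_of_isPGroup R.isPGroup')), normalizer_eq_top_iff]
    refine normal_of_index_eq_two ?_
    have := ((R : Subgroup G).map f).card_mul_index
    rw [hc1, DihedralGroup.nat_card, mul_comm 2] at this
    exact Nat.eq_of_mul_eq_mul_left hrp.pos this
  have hbij : Function.Bijective (f.comp N.subtype) := by
    refine ⟨(injective_iff_map_eq_one _).2 fun x hx => Subtype.ext (hNO x x.2 hx), fun d => ?_⟩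
    obtain ⟨x, hx, rfl⟩ : d ∈ N.map f := hNs ▸ mem_top d
    exact ⟨⟨x, hx⟩, rfl⟩
  have hcN : Nat.card N = 2 * r := by
    rw [Nat.card_congr (MulEquiv.ofBijective _ hbij).toEquiv, DihedralGroup.nat_card]
  have hcR : Nat.card (R : Subgroup G) = r := by
    refine Eq.trans ?_ hc1
    exact Nat.card_congr (Equiv.ofBijective (f.subgroupMap R) ⟨fun x y h => Subtype.ext (by
      have h' : f x = f y := congrArg Subtype.val h
      have := hNO _ (le_normalizer (mul_mem (inv_mem x.2) y.2)) (by rw [map_mul, map_inv, h']; simp)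
      exact inv_mul_eq_one.1 this), f.subgroupMap_surjective R⟩)
  have hi : (R : Subgroup G).relIndex N = 2 := by
    have := CfsgLib.Core.card_mul_relIndex_of_le (le_normalizer : (R : Subgroup G) ≤ N)
    rw [hcR, hcN, mul_comm 2] at this
    exact Nat.eq_of_mul_eq_mul_left hrp.pos this
  have hoddR : ∀ x ∈ (R : Subgroup G), Odd (orderOf x) := fun x hx =>
    hodd.of_dvd_nat (hcR ▸ (R : Subgroup G).orderOf_dvd_natCard hx)
  have hzp : ∀ y ∈ (R : Subgroup G), y ≠ 1 → zpowers y = R := fun y hy h1 =>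
    eq_of_le_of_card_ge (zpowers_le.2 hy) (by
      rw [Nat.card_zpowers, hcR]
      exact (((Nat.dvd_prime hrp).1 (hcR ▸ (R : Subgroup G).orderOf_dvd_natCard hy)).resolve_left
        (by simpa using h1)).ge)
  refine ⟨⟨MulEquiv.ofBijective _ hbij⟩, fun a ha ha2 => ⟨fun b hb hbO => ?_, ?_⟩⟩
  · obtain ⟨-, y, -, hy1, hyo, hby⟩ := CfsgLib.Invol.exists_inverted_of_not_mem_pCore
      (CfsgLib.Invol.mul_self_of_orderOf_two hb) hbO
    have h1 : y ^ r = 1 := by
      have h2 : y ^ (2 * r) ∈ pCore 2 G := by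
        rw [← hk, MonoidHom.mem_ker, map_pow, ← DihedralGroup.nat_card, pow_card_eq_one']
      have h3 := eq_one_of_coprime_of_mem isPGroup_pCore h2
        ((hyo.coprime_two_right).of_dvd_left (orderOf_pow_dvd _))
      exact orderOf_dvd_iff_pow_eq_one.1 ((hyo.coprime_two_right).dvd_of_dvd_mul_left
        (orderOf_dvd_of_pow_eq_one h3))
    obtain ⟨g, -, hg⟩ := (isSylowIn_top R).exists_conj_le
      (isPGroup_zpowers_of_orderOf (orderOf_eq_prime h1 hy1)) le_top
    have hy' : g * y * g⁻¹ ∈ (R : Subgroup G) := hg (conj_mem_conjS.2 (mem_zpowers y))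
    have hb' : g * b * g⁻¹ ∈ N := by
      refine mem_normalizer_of_conjS_le ?_
      rw [← hzp _ hy' (by simpa using hy1), conjS_def, MonoidHom.map_zpowers, zpowers_le]
      have : (MulAut.conj (g * b * g⁻¹)).toMonoidHom (g * y * g⁻¹) = (g * y * g⁻¹)⁻¹ := by
        calc _ = g * (b * y * b⁻¹) * g⁻¹ := by simp [mul_assoc]
          _ = _ := by rw [hby]; group
      rw [this]; exact inv_mem (mem_zpowers _)
    have hb2 : orderOf (g * b * g⁻¹) = 2 := by rw [CfsgLib.Invol.orderOf_conj, hb]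
    have hn : ∀ x, orderOf x = 2 → x ∉ (R : Subgroup G) := fun x hx hm => by
      have := hoddR x hm; rw [hx] at this; exact absurd this (by decide)
    obtain ⟨c, hc⟩ := isConj_iff.1 (CfsgLib.Invol.isConj_of_odd
      (CfsgLib.Invol.mul_self_of_orderOf_two ha2) (CfsgLib.Invol.mul_self_of_orderOf_two hb2)
      (hoddR _ (mul_mem_of_relIndex_two hi ha hb' (hn _ ha2) (hn _ hb2))))
    exact ⟨g⁻¹ * c, by
      calc _ = g⁻¹ * (c * a * c⁻¹) * g := by group
        _ = b := by rw [hc]; group⟩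
  · obtain ⟨y, hy, hy1⟩ : ∃ y ∈ (R : Subgroup G), y ≠ 1 := by
      by_contra hh; push Not at hh
      have := (eq_bot_iff_forall _).2 hh
      rw [this, card_bot] at hcR
      exact hrp.one_lt.ne hcR
    have haa := CfsgLib.Invol.mul_self_of_orderOf_two ha2
    refine card_sq _ (g := y) haa fun q hq hqy => ?_
    have h1 : a * (y * a * y⁻¹) ∈ (R : Subgroup G) := by
      have := mul_mem (conj_mem_of_mem_normalizer ha hy) (inv_mem hy)
      rwa [inv_eq_of_mul_eq_one_right haa, mul_assoc a y, mul_assoc a] at this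
    have h2 : a * (y * a * y⁻¹) ≠ 1 := fun h0 => by
      have h3 : f a * (f y * f a * (f y)⁻¹) = 1 := by simpa using congrArg f h0
      have h4 : f a ≠ 1 := fun h => CfsgLib.Invol.ne_one_of_orderOf_two ha2 (hNO a ha h)
      have h5 : f y ≠ 1 := fun h => hy1 (hNO y (le_normalizer hy) h)
      have h6 : f a * f a = 1 := by rw [← map_mul, haa, map_one]
      have h7 : f y ^ r = 1 := by
        rw [← map_pow, orderOf_dvd_iff_pow_eq_one.1 (hcR ▸ (R : Subgroup G).orderOf_dvd_natCard hy),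
          map_one]
      have h8 : ∀ i : ZMod r, i + i = 0 → i = 0 := fun i hi => by
        rw [← two_mul] at hi
        exact (mul_eq_zero.1 hi).resolve_left (fun h => hr ((Nat.prime_dvd_prime_iff_eq hrp
          Nat.prime_two).1 ((ZMod.natCast_eq_zero_iff 2 r).1 h)))
      generalize f a = u at *
      generalize f y = v at *
      rcases v with j | j
      · rcases u with i | i
        · exact h4 (by rw [h8 i (DihedralGroup.r.inj h6)]; rfl)
        · refine h5 (by
            rw [h8 j (by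
              simp only [DihedralGroup.inv_r, DihedralGroup.r_mul_sr, DihedralGroup.sr_mul_r,
                DihedralGroup.sr_mul_sr, DihedralGroup.one_def, DihedralGroup.r.injEq] at h3
              linear_combination -h3)]; rfl)
      · have := orderOf_dvd_of_pow_eq_one h7
        rw [DihedralGroup.orderOf_sr] at this
        exact hr ((Nat.prime_dvd_prime_iff_eq Nat.prime_two hrp).1 this).symm
    refine mem_bot.1 (hC ▸ ⟨hq, ?_⟩)
    rw [← hzp _ h1 h2, zpowers_eq_closure, centralizer_closure]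
    exact mem_centralizer_singleton_iff.2 hqy

end Cfsg.Agent.S2873
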