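import Cfsg.Statements.S2874
import Cfsg.Agent.Lib.LAE.Sylow

set_option autoImplicit false
open Cfsg

namespace Cfsg.Agent.S2874

open CfsgLib.LAE Subgroup Matrix

theorem alg {R : Type*} [CommRing R] (h3 : IsUnit (3 : R)) (A : Matrix (Fin 2) (Fin 2) R)
    (h1 : A * A = 1)
    (h2 : A * (!![0, -1; 1, -1] * A * !![-1, 1; -1, 0]) =
      !![0, -1; 1, -1] * (!![0, -1; 1, -1] * A * !![-1, 1; -1, 0]) * !![-1, 1; -1, 0])
    (h4 : A * (!![0, -1; 1, -1] * A * !![-1, 1; -1, 0]) =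
      (!![0, -1; 1, -1] * A * !![-1, 1; -1, 0]) * A) :
    ∃ t₀ t₁ : R, 2 * t₀ = 0 ∧ 2 * t₁ = 0 ∧ A = !![1 + t₀, t₁ - t₀; t₁, 1 - t₀] := by
  obtain ⟨u, hu⟩ := h3.exists_left_inv
  obtain ⟨s₀, s₁, t₀, t₁, rfl⟩ : ∃ s₀ s₁ t₀ t₁ : R,
      A = !![s₀ + t₀, -s₁ - t₀ + t₁; s₁ + t₁, s₀ - s₁ - t₀] := by
    refine ⟨u * (A 0 0 + 2 * A 1 1 + A 1 0 - A 0 1), u * (2 * (A 1 0 - A 0 1) - (A 0 0 - A 1 1)),
      u * (2 * (A 0 0 - A 1 1) - (A 1 0 - A 0 1)), u * (A 1 0 + 2 * A 0 1 + A 0 0 - A 1 1), ?_⟩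
    ext i j
    fin_cases i <;> fin_cases j <;> simp
    · linear_combination (-A 0 0) * hu
    · linear_combination (-A 0 1) * hu
    · linear_combination (-A 1 0) * hu
    · linear_combination (-A 1 1) * hu
  have a00 := congrFun (congrFun h1 0) 0
  have a01 := congrFun (congrFun h1 0) 1
  have a10 := congrFun (congrFun h1 1) 0
  have a11 := congrFun (congrFun h1 1) 1
  have b00 := congrFun (congrFun h2 0) 0
  have b01 := congrFun (congrFun h2 0) 1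
  have b10 := congrFun (congrFun h2 1) 0
  have b11 := congrFun (congrFun h2 1) 1
  have c00 := congrFun (congrFun h4 0) 0
  have c01 := congrFun (congrFun h4 0) 1
  have c10 := congrFun (congrFun h4 1) 0
  have c11 := congrFun (congrFun h4 1) 1
  simp [Matrix.mul_apply, Fin.sum_univ_two] at a00 a01 a10 a11 b00 b01 b10 b11 c00 c01 c10 c11
  have hn : t₀ ^ 2 - t₀ * t₁ + t₁ ^ 2 = 0 := by
    linear_combination u * (c00 + 2 * c11 + c10 - c01) - (t₀ ^ 2 - t₀ * t₁ + t₁ ^ 2) * hu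
  have hs0 : s₀ = 1 := by
    linear_combination -u * (b00 + 2 * b11 + b10 - b01) + u * (a00 + 2 * a11 + a10 - a01)
      - (s₀ - 1 + (t₀ ^ 2 - t₀ * t₁ + t₁ ^ 2)) * hu - hn
  have hs1 : s₁ = 0 := by
    linear_combination -u * (2 * (b10 - b01) - (b00 - b11)) + u * (2 * (a10 - a01) - (a00 - a11))
      - (s₁ - (t₀ ^ 2 - t₀ * t₁ + t₁ ^ 2)) * hu + hn
  subst hs0 hs1
  refine ⟨t₀, t₁, ?_, ?_, ?_⟩
  · linear_combination u * (2 * (a00 - a11) - (a10 - a01)) - 2 * t₀ * hu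
  · linear_combination u * (a10 + 2 * a01 + a00 - a11) - 2 * t₁ * hu
  · ext i j
    fin_cases i <;> fin_cases j <;> simp
    ring

theorem isUnit_of_cast {k : ℕ} (hk : 2 ∣ 2 ^ k) {x : ZMod (2 ^ k)}
    (h : ZMod.castHom hk (ZMod 2) x = 1) : IsUnit x := by
  rw [← ZMod.natCast_zmod_val x] at h ⊢
  rw [map_natCast, ZMod.natCast_eq_one_iff_odd] at h
  exact (ZMod.isUnit_iff_coprime _ _).2 (h.coprime_two_right.pow_right k)

theorem two_cases {k : ℕ} {x : ZMod (2 ^ (k + 1))} (h : 2 * x = 0) : x = 0 ∨ x = 2 ^ k := by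
  rw [← ZMod.natCast_zmod_val x] at h ⊢
  have h1 : 2 * 2 ^ k ∣ 2 * x.val := (pow_succ' 2 k).symm.dvd.trans
    ((ZMod.natCast_eq_zero_iff _ _).1 (by exact_mod_cast h))
  obtain ⟨c, hc⟩ := Nat.dvd_of_mul_dvd_mul_left (by decide) h1
  have h2 : x.val < 2 ^ k * 2 := pow_succ 2 k ▸ ZMod.val_lt x
  rw [hc] at h2 ⊢
  have h3 := Nat.lt_of_mul_lt_mul_left h2
  interval_cases c <;> simp

def om (R : Type*) [CommRing R] : GL (Fin 2) R :=
  ⟨!![0, -1; 1, -1], !![-1, 1; -1, 0], by ext i j; fin_cases i <;> fin_cases j <;> simp,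
    by ext i j; fin_cases i <;> fin_cases j <;> simp⟩

theorem exists_conj_om {k : ℕ} (hk : 2 ∣ 2 ^ k) {g : GL (Fin 2) (ZMod (2 ^ k))} (h3 : g ^ 3 = 1)
    (h1 : g ≠ 1) : ∃ P, P * g * P⁻¹ = om _ := by
  set f := ZMod.castHom hk (ZMod 2)
  set A : Matrix (Fin 2) (Fin 2) (ZMod (2 ^ k)) := g.val with hA
  have hA3 : A ^ 3 = 1 := by rw [hA, ← Units.val_pow_eq_pow_val, h3, Units.val_one]
  have hB3 : (f.mapMatrix A) ^ 3 = 1 := by rw [← map_pow, hA3, map_one]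
  have key : ∀ B : Matrix (Fin 2) (Fin 2) (ZMod 2), B ^ 3 = 1 →
      (B ^ 2 + B + 1).det = 1 ∨ ((B - 1).det = 1 ∧ B 1 0 = 1) := by
    intro B
    rw [B.eta_fin_two]
    generalize B 0 0 = a, B 0 1 = b, B 1 0 = c, B 1 1 = d
    revert a b c d
    decide
  have hmul : (A - 1) * (A ^ 2 + A + 1) = 0 := by
    have : (A - 1) * (A ^ 2 + A + 1) = A ^ 3 - 1 := by noncomm_ring
    rw [this, hA3, sub_self]
  rcases key _ hB3 with h | ⟨h, h'⟩
  · have h4 : IsUnit (A ^ 2 + A + 1) := (isUnit_iff_isUnit_det _).2 (isUnit_of_cast hk (by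
      rw [RingHom.map_det, map_add, map_add, map_pow, map_one]; exact h))
    exact absurd (Units.ext (sub_eq_zero.1 (h4.mul_left_eq_zero.1 hmul))) h1
  · have h4 : IsUnit (A - 1) := (isUnit_iff_isUnit_det _).2 (isUnit_of_cast hk (by
      rw [RingHom.map_det, map_sub, map_one]; exact h))
    have h5 := h4.mul_right_eq_zero.1 hmul
    have h6 : IsUnit (A 1 0) := isUnit_of_cast hk h'
    have h7 : IsUnit (!![1, A 0 0; 0, A 1 0]) := (isUnit_iff_isUnit_det _).2 (by simpa using h6)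
    obtain ⟨P, hP⟩ := h7
    refine ⟨P⁻¹, ?_⟩
    rw [inv_inv, mul_assoc, inv_mul_eq_iff_eq_mul]
    apply Units.ext
    have a00 := congrFun (congrFun h5 0) 0
    have a10 := congrFun (congrFun h5 1) 0
    simp [pow_two, Matrix.mul_apply, Fin.sum_univ_two] at a00 a10
    rw [Units.val_mul, Units.val_mul, hP, ← hA]
    ext i j
    fin_cases i <;> fin_cases j <;> simp [om, Matrix.mul_apply, Fin.sum_univ_two]
    · linear_combination a00
    · linear_combination a10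

theorem exists_gens : ∃ α γ : alternatingGroup (Fin 4), α * α = 1 ∧ α ≠ 1 ∧ γ ^ 3 = 1 ∧ γ ≠ 1 ∧
    α * (γ * α * γ⁻¹) = γ * (γ * α * γ⁻¹) * γ⁻¹ ∧ α * (γ * α * γ⁻¹) = (γ * α * γ⁻¹) * α ∧
    ∀ x, ∃ i j : Fin 2, ∃ l : Fin 3, x = α ^ i.val * (γ * α * γ⁻¹) ^ j.val * γ ^ l.val := by
  refine ⟨⟨Equiv.swap 0 1 * Equiv.swap 2 3, Equiv.Perm.mem_alternatingGroup.2 (by decide)⟩,
    ⟨Equiv.swap 0 1 * Equiv.swap 1 2, Equiv.Perm.mem_alternatingGroup.2 (by decide)⟩,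
    ?_⟩
  decide +kernel

theorem normal_form {k : ℕ} (H : Subgroup (GL (Fin 2) (ZMod (2 ^ (k + 1)))))
    (h : Nonempty (H ≃* alternatingGroup (Fin 4))) :
    ∃ (P a : GL (Fin 2) (ZMod (2 ^ (k + 1)))) (t₀ t₁ : ZMod (2 ^ (k + 1))), 2 * t₀ = 0 ∧
      2 * t₁ = 0 ∧ a ≠ 1 ∧ a.val = !![1 + t₀, t₁ - t₀; t₁, 1 - t₀] ∧
      conjS P H = Subgroup.closure {a, om _} := by
  obtain ⟨e⟩ := h
  obtain ⟨α, γ, h1, h2, h3, h4, h5, h6, h7⟩ := exists_gens
  have hk : 2 ∣ 2 ^ (k + 1) := dvd_pow_self 2 (by omega)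
  let φ := H.subtype.comp e.symm.toMonoidHom
  have hφ : Function.Injective φ := H.subtype_injective.comp e.symm.injective
  obtain ⟨P, hP⟩ := exists_conj_om hk (g := φ γ) (by rw [← map_pow, h3, map_one])
    (by rwa [ne_eq, map_eq_one_iff φ hφ])
  let ψ := (MulAut.conj P).toMonoidHom.comp φ
  have hψ : Function.Injective ψ := (MulAut.conj P).injective.comp hφ
  have hγ : ψ γ = om _ := hP
  have e1 := congrArg (fun x => (ψ x).val) h1
  have e5 := congrArg (fun x => (ψ x).val) h5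
  have e6 := congrArg (fun x => (ψ x).val) h6
  simp only [map_mul, map_inv, map_one, hγ, Units.val_mul, Units.val_one] at e1 e5 e6
  obtain ⟨t₀, t₁, k0, k1, k2⟩ := alg (isUnit_of_cast hk (by rw [map_ofNat]; decide)) _ e1 e5 e6
  refine ⟨P, ψ α, t₀, t₁, k0, k1, by rwa [ne_eq, map_eq_one_iff ψ hψ], k2, le_antisymm ?_ ?_⟩
  · rintro _ ⟨x, hx, rfl⟩
    obtain ⟨i, j, l, hi⟩ := h7 (e ⟨x, hx⟩)
    have : (MulAut.conj P).toMonoidHom x = ψ (e ⟨x, hx⟩) := by simp [ψ, φ]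
    have ha : ψ α ∈ Subgroup.closure {ψ α, om _} := subset_closure (by simp)
    have hb : ψ γ ∈ Subgroup.closure {ψ α, om _} := subset_closure (by simp [hγ])
    rw [this, hi]
    simp only [map_mul, map_pow, map_inv]
    exact mul_mem (mul_mem (pow_mem ha _) (pow_mem (mul_mem (mul_mem hb ha) (inv_mem hb)) _))
      (pow_mem hb _)
  · rw [closure_le, ← hγ]
    rintro _ (rfl | rfl)
    · exact ⟨_, (e.symm α).2, rfl⟩
    · exact ⟨_, (e.symm γ).2, rfl⟩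

theorem closure_le_closure {k : ℕ} {a b : GL (Fin 2) (ZMod (2 ^ (k + 1)))}
    {t₀ t₁ s₀ s₁ : ZMod (2 ^ (k + 1))} (h0 : 2 * t₀ = 0) (h1 : 2 * t₁ = 0) (ha : a ≠ 1)
    (ea : a.val = !![1 + t₀, t₁ - t₀; t₁, 1 - t₀]) (k0 : 2 * s₀ = 0) (k1 : 2 * s₁ = 0)
    (eb : b.val = !![1 + s₀, s₁ - s₀; s₁, 1 - s₀]) :
    Subgroup.closure {b, om _} ≤ Subgroup.closure ({a, om _} : Set (GL (Fin 2) (ZMod (2 ^ (k + 1))))) := by
  have hw : om _ ∈ Subgroup.closure ({a, om _} : Set (GL (Fin 2) (ZMod (2 ^ (k + 1))))) :=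
    subset_closure (by simp)
  have m1 : a ∈ Subgroup.closure ({a, om _} : Set (GL (Fin 2) (ZMod (2 ^ (k + 1))))) :=
    subset_closure (by simp)
  have m2 := mul_mem (mul_mem hw m1) (inv_mem hw)
  have m3 := mul_mem (mul_mem (inv_mem hw) m1) hw
  have e2 : (om _ * a * (om _)⁻¹).val = !![1 + (t₁ - t₀), -t₀ - (t₁ - t₀); -t₀, 1 - (t₁ - t₀)] := by
    rw [Units.val_mul, Units.val_mul, ea]
    ext i j
    fin_cases i <;> fin_cases j <;> simp [om, Matrix.mul_apply, Fin.sum_univ_two] <;> ring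
  have e3 : ((om _)⁻¹ * a * om _).val = !![1 + -t₁, (t₀ - t₁) - -t₁; t₀ - t₁, 1 - -t₁] := by
    rw [Units.val_mul, Units.val_mul, ea]
    ext i j
    fin_cases i <;> fin_cases j <;> simp [om, Matrix.mul_apply, Fin.sum_univ_two] <;> ring
  have hh : -(2 ^ k : ZMod (2 ^ (k + 1))) = 2 ^ k := by
    rw [neg_eq_iff_add_eq_zero, ← two_mul, ← pow_succ']
    exact_mod_cast ZMod.natCast_self (2 ^ (k + 1))
  have one : (1 : GL (Fin 2) (ZMod (2 ^ (k + 1)))).val = !![1, 0; 0, 1] := by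
    rw [Units.val_one, one_fin_two]
  have fin : ∀ c ∈ Subgroup.closure ({a, om _} : Set (GL (Fin 2) (ZMod (2 ^ (k + 1))))),
      c.val = !![1 + s₀, s₁ - s₀; s₁, 1 - s₀] →
      b ∈ Subgroup.closure ({a, om _} : Set (GL (Fin 2) (ZMod (2 ^ (k + 1))))) :=
    fun c hc e => Units.ext (eb.trans e.symm) ▸ hc
  rw [closure_le, Set.insert_subset_iff, Set.singleton_subset_iff]
  refine ⟨?_, hw⟩
  rcases two_cases h0 with rfl | rfl <;> rcases two_cases h1 with rfl | rfl <;>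
    rcases two_cases k0 with rfl | rfl <;> rcases two_cases k1 with rfl | rfl <;>
    first
      | (refine absurd (Units.ext ?_) ha; rw [ea, one]; simp; done)
      | exact fin _ m1 ea
      | (refine fin _ (one_mem _) ?_; rw [one]; simp; done)
      | (refine fin _ m2 ?_; rw [e2]; simp [hh]; done)
      | (refine fin _ m3 ?_; rw [e3]; simp [hh]; done)

/-- For k ≥ 2, any two subgroups of GL₂(ℤ/2ᵏℤ) (the automorphism group of the homocyclic group ℤ/2ᵏ × ℤ/2ᵏ) that are isomorphic to the alternating group of degree 4 are conjugate. -/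
theorem result (k : ℕ) (hk : 2 ≤ k) (H₁ H₂ : Subgroup (GL (Fin 2) (ZMod (2 ^ k)))) (h₁ : Nonempty (↥H₁ ≃* ↥(alternatingGroup (Fin 4)))) (h₂ : Nonempty (↥H₂ ≃* ↥(alternatingGroup (Fin 4)))) : ∃ g : GL (Fin 2) (ZMod (2 ^ k)), H₂ = H₁.map (MulAut.conj g).toMonoidHom := by
  obtain ⟨k, rfl⟩ : ∃ m, k = m + 1 := ⟨k - 1, by omega⟩
  obtain ⟨P, a, t₀, t₁, h0, h1, ha, ea, hP⟩ := normal_form H₁ h₁
  obtain ⟨Q, b, s₀, s₁, k0, k1, hb, eb, hQ⟩ := normal_form H₂ h₂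
  refine ⟨Q⁻¹ * P, ?_⟩
  show H₂ = conjS (Q⁻¹ * P) H₁
  rw [conjS_mul, hP, ← le_antisymm (closure_le_closure h0 h1 ha ea k0 k1 eb)
    (closure_le_closure k0 k1 hb eb h0 h1 ea), ← hQ, conjS_inv_conjS]

end Cfsg.Agent.S2874
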