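import Cfsg.Statements.S2879
import Cfsg.Agent.Lib.TwoGrp.QDFus
import Cfsg.Agent.S0106
import Cfsg.Agent.Lib.Invol.SylowElem
import Cfsg.Agent.Lib.DihSyl.Basic
import Cfsg.Agent.Lib.InvHarv.QuatAut
import Cfsg.Agent.Lib.PLocal.PSolvable
import Cfsg.Agent.Lib.LocStr.SPE

set_option autoImplicit false
open Cfsg

namespace Cfsg.Agent.S2879

open CfsgLib.LAE CfsgLib.LocStr Subgroup CfsgLib.TwoGrp

/-- Let G be a finite solvable group with O(G) = 1 whose Sylow 2-subgroup T is dihedral of order at least 8 or semidihedral, with G ≠ T and Z(T) normal in G. Then G has a normal subgroup isomorphic to SL₂(3). -/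
theorem result {G : Type*} [Group G] [Finite G] (hsol : IsSolvable G) (hO : Cfsg.oddCore G = ⊥) (T : Sylow 2 G) (hT : (∃ n : ℕ, 4 ≤ n ∧ Nonempty (↥(T : Subgroup G) ≃* DihedralGroup n)) ∨ Cfsg.IsQuasiDihedral ↥(T : Subgroup G)) (hne : (T : Subgroup G) ≠ ⊤) (hZ : ((T : Subgroup G) ⊓ Subgroup.centralizer ((T : Subgroup G) : Set G)).Normal) : ∃ U : Subgroup G, U.Normal ∧ Nonempty (↥U ≃* Matrix.SpecialLinearGroup (Fin 2) (ZMod 3)) := by
  have : Group.IsSolvable G := hsol
  have hC : centralizer (pCore 2 G : Set G) ≤ pCore 2 G :=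
    CfsgLib.PLocal.PSolv.centralizer_pCore_le CfsgLib.PLocal.PSolv.of_isSolvable hO
  have hG : ¬ IsPGroup 2 G := fun h => hne (T.is_maximal' (h.to_subgroup ⊤) le_top).symm
  obtain ⟨g, hg, hgC⟩ : ∃ g : G, (orderOf g).Coprime 2 ∧ g ∉ centralizer (pCore 2 G : Set G) := by
    by_contra hh; push Not at hh
    exact hG (CfsgLib.InvHarv.isPGroup_of_char_p hC hh)
  have hQT : pCore 2 G ≤ T := pCore_le_sylow T
  have hgo : Odd (orderOf g) := Nat.coprime_two_right.1 hg
  have hN : normalizer (pCore 2 G : Set G) = ⊤ := normalizer_eq_top_iff.2 inferInstance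
  have hgN : g ∈ normalizer (pCore 2 G : Set G) := hN ▸ mem_top g
  rcases hT with ⟨n, hn, ⟨e⟩⟩ | hT
  · exfalso
    obtain ⟨r, s, h⟩ := CfsgLib.DihSyl.exists_isDih e
    obtain ⟨k, hk⟩ := h.exists_pow_of_isPGroup T.isPGroup'
    refine hgC (h.mem_centralizer_of_odd hk hQT hgo hgN (Or.inr fun z hz hz2 => ?_))
    by_cases hz1 : z = 1
    · simp [hz1]
    have h1 := hZ.conj_mem z ⟨h.zpowers_le hz, fun t ht => h.commute_of_sq hz hz2 ht⟩ g
    have h2 : g * z * g⁻¹ * (g * z * g⁻¹) = 1 := by simp [mul_assoc, ← mul_assoc z z, hz2]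
    refine h.eq_of_sq ?_ hz h2 hz2 (by simpa using hz1) hz1
    obtain ⟨i, hi | hi⟩ := (h.mem _).1 h1.1
    · exact hi ▸ ⟨i, rfl⟩
    · have h3 := h1.2 r h.r_mem
      rw [hi] at h3
      have h4 := h.rpow_conj_rpows 1 i
      rw [zpow_one, h3, mul_inv_cancel_right, mul_left_inj, h.eq_iff] at h4
      have := Int.le_of_dvd (by norm_num) (show (n : ℤ) ∣ 2 by simpa using h4)
      omega
  obtain ⟨k, x, y, h⟩ := exists_isQD hT
  have hz : g * x ^ (4 * k : ℤ) * g⁻¹ = x ^ (4 * k : ℤ) := by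
    rw [h.inf_centralizer_self] at hZ
    have := hZ.conj_mem _ (mem_zpowers _) g
    exact CfsgLib.Transfer.eq_of_orderOf_eq_two_of_isCyclic inferInstance this (mem_zpowers _)
      (by rw [← h.orderOf_z]; exact (MulAut.conj g).orderOf_eq _) h.orderOf_z
  rcases h.eq_of_not_isPGroup hQT (fun hA => hgC
    (CfsgLib.QDFus.mem_centralizer_of_isPGroup_mulAut hA hgN hg)) with ⟨a, ha⟩ | ⟨a, ha⟩
  · exfalso
    have h4 := h.isKleinFour_qdSub a
    rw [← ha] at h4
    have hm := h.mem_four_iff (2 * a)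
    rw [← ha] at hm
    refine hgC fun t ht => ?_
    have hzQ := (hm _).2 (Or.inr (Or.inl rfl))
    by_cases h1 : t = 1
    · simp [h1]
    by_cases h2 : t = x ^ (4 * k : ℤ)
    · rw [h2]; exact (mul_inv_eq_iff_eq_mul.1 hz).symm
    have h3 := (mem_iff_of_isKleinFour h4 ht hzQ h1 h.z_ne_one h2 _).1
      (conj_mem_of_mem_normalizer hgN ht)
    refine (commute_of_commutator (W := zpowers (x ^ (4 * k : ℤ)))
      (isPGroup_zpowers_of_orderOf (h.orderOf_z.trans (pow_one 2).symm ▸ rfl)) hg ?_ ?_).symm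
    all_goals
      rcases h3 with h3 | h3 | h3 | h3
      · exact absurd (by simpa using h3) h1
      · rw [commutatorElement_def, h3]; simp
      · exact absurd (by simpa using h3.trans hz.symm) h2
      · rw [commutatorElement_def, h3, comm_of_isKleinFour h4 ht hzQ, mul_inv_cancel_right]
        first | exact mem_zpowers _ | exact mul_inv_eq_iff_eq_mul.1 hz
  obtain ⟨e⟩ := h.nonempty_quaternion (d := k) (e := 2) (by ring) a
  have e' : pCore 2 G ≃* QuaternionGroup 2 := (MulEquiv.subgroupCongr (by rw [ha])).trans e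
  obtain ⟨x', y', h', -, hQ⟩ := h.exists_adapted (h.qdSub_le _ _) (h.isKleinFour_qdSub 0) hQT e'
  have hd := h'.Q_dichotomy
  rw [← hQ, sup_eq_left.2 hC, hN, relIndex_top_right] at hd
  have hc8 : Nat.card (pCore 2 G) = 8 := by
    rw [Nat.card_congr e'.toEquiv, Nat.card_eq_fintype_card, QuaternionGroup.card]
  have hcG := (pCore 2 G).card_mul_index
  rcases hd with ⟨hd, -⟩ | ⟨hd, -⟩
  · exact absurd (IsPGroup.of_card (n := 4) (by rw [← hcG, hc8, hd]; rfl)) hG
  rw [hc8, hd] at hcG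
  have : Fact (Nat.Prime 3) := ⟨by decide⟩
  obtain ⟨u, hu⟩ := exists_prime_orderOf_dvd_card' (G := G) 3 (by rw [← hcG]; decide)
  have hbot : pCore 2 G ⊓ zpowers u = ⊥ :=
    inf_eq_bot_of_coprime (by rw [hc8, Nat.card_zpowers, hu]; decide)
  have hU : Nat.card (pCore 2 G ⊔ zpowers u : Subgroup G) = 24 := by
    rw [CfsgLib.Coprime.card_sup_of_le_normalizer le_normalizer_of_normal hbot, hc8,
      Nat.card_zpowers, hu]
  set U := pCore 2 G ⊔ zpowers u
  have hUi : U.index = 2 := by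
    have := U.card_mul_index
    rw [hU, ← hcG] at this
    omega
  refine ⟨U, normal_of_index_eq_two hUi, ?_⟩
  have hS : IsSylowIn 2 (pCore 2 G) U := isSylowIn_of_not_dvd_relIndex le_sup_left isPGroup_pCore (by
    have : Nat.card (pCore 2 G) * (pCore 2 G).relIndex U = Nat.card U :=
      CfsgLib.Core.card_mul_relIndex_of_le le_sup_left
    rw [hc8, hU] at this
    rw [show (pCore 2 G).relIndex U = 3 by omega]; decide)
  rcases Cfsg.Agent.S0106.result hS.toSylow 1 le_rfl
    ⟨(subgroupOfEquivOfLe le_sup_left).trans e'⟩ with ⟨P, N, hNn, hc⟩ | ⟨H, K, _, ⟨f⟩⟩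
  · exfalso
    have huU : u ∈ U := mem_sup_right (mem_zpowers u)
    obtain ⟨hNo, hN2⟩ := CfsgLib.Invol.odd_of_isComplement' P hc
    have h1 := hN2 ⟨u, huU⟩ (by rw [← orderOf_coe, hu]; decide)
    have h2 : u ∈ centralizer (pCore 2 G : Set G) := fun q hq => by
      have hqU : q ∈ U := mem_sup_left hq
      have h3 := CfsgLib.Invol.odd_orderOf_of_mem hNo
        (N.mul_mem (hNn.conj_mem _ h1 ⟨q, hqU⟩) (N.inv_mem h1))
      have h4 : q * u * q⁻¹ * u⁻¹ ∈ pCore 2 G := by
        have := mul_mem hq ((inferInstance : (pCore 2 G).Normal).conj_mem _ (inv_mem hq) u)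
        simpa [mul_assoc] using this
      have h5 := eq_one_of_coprime_of_mem isPGroup_pCore h4
        (by rw [← orderOf_coe] at h3; exact h3.coprime_two_right)
      rwa [mul_inv_eq_one, mul_inv_eq_iff_eq_mul] at h5
    have : u ∈ pCore 2 G ⊓ zpowers u := ⟨hC h2, mem_zpowers u⟩
    rw [hbot, mem_bot] at this
    rw [this] at hu; simp at hu
  · have h1 := Nat.card_congr f.toEquiv
    rw [Cfsg.Agent.S2427.result.1, ← index_eq_card] at h1
    have h2 := (K.subgroupOf H).card_mul_index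
    have h3 := H.card_mul_index
    rw [hU, ← h2, h1] at h3
    have h4 : Nat.card (K.subgroupOf H) * H.index = 1 := by nlinarith
    have h5 : K.subgroupOf H = ⊥ := card_eq_one.1 (Nat.eq_one_of_mul_eq_one_right h4)
    have h6 : H = ⊤ := index_eq_one.1 (Nat.eq_one_of_mul_eq_one_left h4)
    exact ⟨(topEquiv.symm.trans (MulEquiv.subgroupCongr h6.symm)).trans
      ((QuotientGroup.quotientBot.symm.trans (QuotientGroup.quotientMulEquivOfEq h5.symm)).trans f)⟩

end Cfsg.Agent.S2879
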