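import Cfsg.Statements.S2880
import Cfsg.Agent.Lib.ExtraTwo.Classify

set_option autoImplicit false
open Cfsg

namespace Cfsg.Agent.S2880

/-- Let E be an extraspecial 2-group of order 2^(2m+1) of plus type, that is, containing an elementary abelian subgroup of order 2^(m+1) (equivalently, a central product of m dihedral groups of order 8). Then E has exactly 2^(2m) − 2^m elements of order 4. -/
theorem result {E : Type*} [Group E] [Finite E] (m : ℕ) (hm : 1 ≤ m) (hE : Cfsg.IsExtraspecial 2 E) (hcard : Nat.card E = 2 ^ (2 * m + 1)) (hplus : ∃ A : Subgroup E, Cfsg.IsElementaryAbelian 2 A ∧ Nat.card A = 2 ^ (m + 1)) : Nat.card {x : E // orderOf x = 4} = 2 ^ (2 * m) - 2 ^ m := by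
  obtain ⟨z, e⟩ := CfsgLib.ExtraTwo.exists_ES_top hE
  obtain ⟨A, hA, hAc⟩ := hplus
  have t := e.plusType_of_exists (n := m) (by rw [Subgroup.card_top, hcard]) le_top hA.2
    (by rw [hAc]; exact Nat.pow_lt_pow_right one_lt_two (by omega))
  have h1 := t.card_sq
  rw [CfsgLib.ExtraTwo.card_top_and] at h1
  have h2 : Nat.card {x : E // orderOf x = 4} = Nat.card {x : E // ¬ x ^ 2 = 1} :=
    Nat.card_congr (Equiv.subtypeEquivRight fun x => ⟨fun h h' => by
      have := Nat.le_of_dvd two_pos (orderOf_dvd_of_pow_eq_one h')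
      omega, fun h => orderOf_eq_prime_pow (p := 2) (n := 1) h (e.pow_four trivial)⟩)
  classical
  have h3 := Nat.card_congr (Equiv.sumCompl fun x : E => x ^ 2 = 1)
  rw [Nat.card_sum, hcard, h1, ← h2, pow_succ] at h3
  omega

end Cfsg.Agent.S2880
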