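import Cfsg.Statements.S2881
import Cfsg.Agent.Lib.ExtraTwo.Classify

set_option autoImplicit false
open Cfsg

namespace Cfsg.Agent.S2881

open Subgroup CfsgLib.ExtraTwo

theorem key {α : Type*} [Finite α] (f : α → α) (hf : ∀ x, f^[5] x = x) :
    Nat.card α ≡ Nat.card {x // f x = x} [MOD 5] := by
  classical
  have := Fintype.ofFinite α
  have : Fact (Nat.Prime 5) := ⟨by decide⟩
  have h := Equiv.Perm.card_fixedPoints_modEq (f := (f : Function.End α)) (p := 5) (n := 1)
    (funext hf)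
  rw [Nat.card_eq_fintype_card, Nat.card_eq_fintype_card]
  exact h

/-- Let E be an extraspecial 2-group of order 2^(2m+1) of plus type (containing an elementary abelian subgroup of order 2^(m+1)), and let ω be an automorphism of E of order 5 whose fixed points are exactly the centre of E. Then m is divisible by 4. -/
theorem result {E : Type*} [Group E] [Finite E] (m : ℕ) (hm : 1 ≤ m) (hE : Cfsg.IsExtraspecial 2 E) (hcard : Nat.card E = 2 ^ (2 * m + 1)) (hplus : ∃ A : Subgroup E, Cfsg.IsElementaryAbelian 2 A ∧ Nat.card A = 2 ^ (m + 1)) (ω : E ≃* E) (hω : orderOf ω = 5) (hfix : ∀ x : E, ω x = x ↔ x ∈ Subgroup.center E) : 4 ∣ m := by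
  obtain ⟨z, hz⟩ := exists_ES_top hE
  obtain ⟨A, hA, hAc⟩ := hplus
  have hP := hz.plusType_of_exists (n := m) (by rw [card_top, hcard]) (A := A) le_top hA.2
    (by rw [hAc]; exact Nat.pow_lt_pow_right (by decide) (by omega))
  have h5 : ∀ x, (ω : E → E)^[5] x = x := fun x => by
    have : ω ^ 5 = 1 := hω ▸ pow_orderOf_eq_one ω
    exact congrArg (fun f : E ≃* E => f x) this
  have hZ : Nat.card (center E) = 2 := hE.2
  have h1 := key ω h5
  rw [hcard, Nat.card_congr (Equiv.subtypeEquivRight hfix)] at h1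
  let f : {x : E // x ^ 2 = 1} → {x : E // x ^ 2 = 1} := fun x => ⟨ω x, by rw [← map_pow, x.2, map_one]⟩
  have h2 := key f (fun x => Subtype.ext (h5 x))
  have h3 : Nat.card {x // f x = x} = Nat.card (center E) := by
    refine Nat.card_congr ⟨fun x => ⟨x.1.1, (hfix _).1 (congrArg Subtype.val x.2)⟩,
      fun y => ⟨⟨y.1, ?_⟩, Subtype.ext ((hfix _).2 y.2)⟩, fun _ => rfl, fun _ => rfl⟩
    have := pow_card_eq_one' (x := y)
    rw [hZ] at this
    exact congrArg Subtype.val this
  have h4 := hP.card_sq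
  rw [card_top_and] at h4
  rw [h3, hZ, h4] at h2
  have h1' : 2 ^ (2 * m + 1) ≡ 2 [MOD 5] := hZ ▸ h1
  obtain ⟨k, r, hr, rfl⟩ : ∃ k r, r < 4 ∧ m = 4 * k + r :=
    ⟨m / 4, m % 4, Nat.mod_lt _ (by decide), (Nat.div_add_mod m 4).symm⟩
  have h16 : (2 ^ 4) ^ k ≡ 1 ^ k [MOD 5] := Nat.ModEq.pow k (by decide)
  rw [one_pow] at h16
  have e1 : 2 ^ (4 * k + r) ≡ 2 ^ r [MOD 5] := by
    rw [pow_add, pow_mul]; simpa using h16.mul_right (2 ^ r)
  have e2 : 2 ^ (2 * (4 * k + r)) ≡ (2 ^ r) ^ 2 [MOD 5] := by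
    rw [mul_comm, pow_mul]; exact e1.pow 2
  have e3 := (e2.add e1).symm.trans h2
  have e4 := (e2.mul_right 2).symm.trans (pow_succ 2 _ ▸ h1')
  interval_cases r
  · simp
  · exact absurd e3 (by decide)
  · exact absurd e3 (by decide)
  · exact absurd e4 (by decide)

end Cfsg.Agent.S2881
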