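import Cfsg.Statements.S2906
import Mathlib
import Cfsg.Agent.S2905
import Cfsg.Agent.Lib.Fgs.SylowNumber
import Cfsg.Agent.Lib.LAE.PIrr
import Cfsg.Agent.Lib.Comp.FStar
import Cfsg.Agent.Lib.Core.Fitting
import Cfsg.Agent.Lib.Core.Commutator

set_option autoImplicit false
open Cfsg

namespace Cfsg.Agent.S2906

open Subgroup CfsgLib
open scoped Pointwise

theorem le_of_not_dvd {G : Type*} [Group G] [Finite G] {p : ℕ} [Fact p.Prime] {R W E : Subgroup G}
    (hR : IsPGroup p R) (hRE : R ≤ E) (hWE : W ≤ E) (hn : R ≤ normalizer (W : Set G))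
    (h : ¬ p ∣ W.relIndex E) : R ≤ W := by
  have h1 : W.relIndex (W ⊔ R) = W.relIndex R := Coprime.relIndex_sup_of_le_normalizer hn
  have h2 : W.relIndex (W ⊔ R) ∣ W.relIndex E :=
    Dvd.intro _ (relIndex_mul_relIndex W (W ⊔ R) E le_sup_left (sup_le hWE hRE))
  obtain ⟨k, hk⟩ := hR.index (W.subgroupOf R)
  rw [h1] at h2
  rw [← relIndex_eq_one, relIndex, hk]
  rcases k with _ | k
  · rfl
  · exfalso
    apply h
    refine Dvd.dvd.trans ?_ h2
    rw [relIndex, hk]
    exact dvd_pow_self p (Nat.succ_ne_zero k)

/-- The join of the `S`-conjugates of `K`. -/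
theorem le_normalizer_iSup {G : Type*} [Group G] [Finite G] (S K : Subgroup G) :
    S ≤ normalizer ((⨆ s : S, Tech.cj (s : G) K : Subgroup G) : Set G) := by
  intro t ht
  apply Tech.mem_normalizer_of_cj_le
  show Subgroup.map _ _ ≤ _
  rw [Subgroup.map_iSup]
  refine iSup_le fun s => ?_
  refine le_trans (le_of_eq ?_) (le_iSup (fun s : S => Tech.cj (s : G) K) (⟨t, ht⟩ * s))
  exact (Tech.cj_mul t s K).symm

/-- Let P be a finite p-minimal group with O_p(P) = 1, S a Sylow p-subgroup of P and K a component of P. Then O^p(P) = F*(P) = E(P) is generated by the S-conjugates of K, and the subgroup K·N_S(K) is again p-minimal. -/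
theorem result {P : Type*} [Group P] [Finite P] {p : ℕ} [Fact p.Prime] (hP : Cfsg.IsPMinimal p P) (hOp : Cfsg.pCore p P = ⊥) (S : Sylow p P) (K : Subgroup P) (hK : Cfsg.IsComponent K) : Cfsg.pResidual p P = Cfsg.generalizedFittingSubgroup P ∧ Cfsg.generalizedFittingSubgroup P = Cfsg.layer P ∧ Cfsg.layer P = ⨆ s : ↥(S : Subgroup P), K.map (MulAut.conj (s : P)).toMonoidHom ∧ Cfsg.IsPMinimal p ↥(K ⊔ ((S : Subgroup P) ⊓ Subgroup.normalizer (K : Set P))) := by
  classical
  have hp : p.Prime := Fact.out
  obtain ⟨M, ⟨hM, hSM⟩, -⟩ := (hP S).2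
  have hle := fun K => S2905.le_of_ne_top (K := K) hP S hM hSM
  set E := Cfsg.layer P with hE
  haveI : E.Normal := Comp.layer_normal
  have hSp := S.isPGroup'
  -- normal `p'`-subgroups are nilpotent
  have hp' : ∀ N : Subgroup P, N.Normal → (Nat.card N).Coprime p → N ≤ M → N ≤ fittingSubgroup P := by
    intro N hN hc hNM
    have key := Coprime.eq_of_forall_invariant_pgroup_le (K := N) (A := (S : Subgroup P))
      (H := N ⊓ fittingSubgroup P) le_normalizer_of_normal
      (Coprime.coprime_card_of_isPGroup hSp hc).symm (Or.inl (Coprime.isSolvable_of_isPGroup hSp))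
      inf_le_left (by
        intro q Q hq hQ hQq hQi hSQ
        haveI : Fact q.Prime := ⟨hq⟩
        refine le_inf hQ ?_
        haveI : Q.Normal := by
          rw [← normalizer_eq_top_iff]
          by_contra hne
          have h2 := hle _ hSQ hne
          apply hM.1
          rw [eq_top_iff]
          intro g _
          obtain ⟨n, hn, hg⟩ := (Tech.IsSylowIn.mk hQ hQq hQi).frattini (g := g)
            (le_normalizer_of_normal (mem_top g))
          have := M.mul_mem (M.inv_mem (hNM hn)) (h2 hg)
          simpa using this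
        exact (Core.le_pCore hQq).trans (Core.pCore_le_fittingSubgroup hq))
    exact key ▸ inf_le_right
  have hFcop : (Nat.card M.normalCore).Coprime p := by
    haveI := S2905.inf_normal hP S hM hSM M.normalCore (normalCore_le M)
    have h1 : (S : Subgroup P) ⊓ M.normalCore = ⊥ :=
      Core.pCore_eq_bot_iff.1 hOp _ this (hSp.to_le inf_le_left)
    rw [inf_comm] at h1
    exact ((Nat.Prime.coprime_iff_not_dvd hp).2 (Transfer.not_dvd_card_of_inf_sylow_eq_bot S _ h1)).symm
  have hKF : ¬ K ≤ M.normalCore := fun h =>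
    Comp.comp_not_le_solvable hK Comp.fit_solvable (h.trans (hp' _ inferInstance hFcop (normalCore_le M)))
  have hKM : ¬ K ≤ M := fun h => hKF (S2905.subnormal_le_core hM hK.1 h)
  have hKE : K ≤ E := Comp.comp_le_layer hK
  have hOE : Cfsg.pResidual p P ≤ E :=
    (S2905.normal_cases hP S hM hSM E inferInstance).resolve_right fun h => hKF (hKE.trans h)
  have hEO : E ≤ Cfsg.pResidual p P := by
    haveI := Transfer.pResidual_normal p P
    have h1 : E.map (QuotientGroup.mk' (Cfsg.pResidual p P)) = ⊥ := by
      apply Comp.eq_bot_of_perfect_of_solvable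
      · rw [← map_commutator, Comp.layer_perfect]
      · exact Coprime.isSolvable_of_isPGroup (Transfer.isPGroup_quotient_pResidual.to_subgroup _)
    rwa [Subgroup.map_eq_bot_iff, QuotientGroup.ker_mk'] at h1
  have hOE' : Cfsg.pResidual p P = E := le_antisymm hOE hEO
  have hFE : Cfsg.generalizedFittingSubgroup P = E := by
    rw [Comp.fstar_def]
    refine sup_eq_left.2 ?_
    exact (Core.fittingSubgroup_le_pPrimeCore_of_pCore_eq_bot hp hOp).trans
      ((Transfer.le_pResidual_of_coprime (Core.coprime_card_pPrimeCore p P)).trans hOE)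
  have hES : E ⊔ (S : Subgroup P) = ⊤ := hOE' ▸ Transfer.pResidual_sup_sylow S
  have hcj : ∀ g : P, IsComponent (Tech.cj g K) := fun g => Comp.comp_map_conj hK g
  set L := ⨆ s : (S : Subgroup P), Tech.cj (s : P) K with hL
  have hLE : L ≤ E := iSup_le fun s => Comp.comp_le_layer (hcj s)
  have hKL : K ≤ L := le_trans (le_of_eq (Tech.cj_one K).symm)
    (le_iSup (fun s : (S : Subgroup P) => Tech.cj (s : P) K) 1)
  have hLn : L.Normal := by
    rw [← normalizer_eq_top_iff, eq_top_iff, ← hES]
    refine sup_le ?_ (le_normalizer_iSup _ _)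
    intro e he
    apply Tech.mem_normalizer_of_cj_le
    show Subgroup.map _ _ ≤ _
    rw [Subgroup.map_iSup]
    refine iSup_le fun s => ?_
    refine le_trans (le_of_eq ?_) (le_iSup (fun s : (S : Subgroup P) => Tech.cj (s : P) K) s)
    exact Tech.mem_normalizer_iff_cj.1 (Comp.layer_le_normalizer_comp (hcj s) he)
  have hEL : E = L := le_antisymm (hOE' ▸ (S2905.normal_cases hP S hM hSM L hLn).resolve_right
    fun h => hKF (hKL.trans h)) hLE
  refine ⟨hOE'.trans hFE.symm, hFE, hEL, ?_⟩
  set T := (S : Subgroup P) ⊓ normalizer (K : Set P) with hT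
  have hTp : IsPGroup p T := hSp.to_le inf_le_left
  have hSK : ¬ p ∣ (S : Subgroup P).relIndex K := by
    obtain ⟨Q, hQ⟩ := SolvStruct.exists_sylow_eq_subgroupOf_of_isSubnormal hK.1 S
    rw [relIndex, ← hQ]
    exact Q.not_dvd_index
  have hTK : T.relIndex K = (S : Subgroup P).relIndex K := by
    rw [← inf_relIndex_right T, ← inf_relIndex_right (S : Subgroup P), hT, inf_assoc,
      inf_eq_right.2 (le_normalizer (H := K))]
  have hTH : LAE.IsSylowIn p T (K ⊔ T) := by
    apply LAE.isSylowIn_of_not_dvd_relIndex le_sup_right hTp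
    rw [sup_comm, Fgs.relIndex_sup_eq_of_le_normalizer inf_le_right, hTK]
    exact hSK
  rw [LAE.isPMinimal_iff hTH]
  constructor
  · -- `T` is not normal
    intro hn
    have h1 : K ≤ normalizer (((S : Subgroup P) ⊓ K : Subgroup P) : Set P) := by
      have : (S : Subgroup P) ⊓ K = T ⊓ K := by
        rw [hT, inf_assoc, inf_eq_right.2 (le_normalizer (H := K))]
      rw [this]
      exact (le_inf (le_sup_left.trans hn) le_normalizer).trans inf_normalizer_le_normalizer_inf
    have h2 : (S : Subgroup P) ⊓ K = ⊥ := by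
      rw [eq_bot_iff, ← hOp]
      refine Core.le_pCore_of_isSubnormal ?_ (hSp.to_le inf_le_left)
      exact IsSubnormal.trans inf_le_right
        ((normal_subgroupOf_iff_le_normalizer inf_le_right).2 h1).isSubnormal hK.1
    have h3 : (Nat.card K).Coprime p := by
      rw [← inf_relIndex_right, h2, relIndex_bot_left] at hSK
      exact ((Nat.Prime.coprime_iff_not_dvd hp).2 hSK).symm
    have h4 : E ≤ pPrimeCore p P := by
      rw [hEL]
      exact iSup_le fun s => Core.le_pPrimeCore_of_isSubnormal (hcj s).1 (by rwa [Tech.card_cj])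
    have hc : (Nat.card E).Coprime p :=
      Nat.Coprime.coprime_dvd_left (card_dvd_of_le h4) (Core.coprime_card_pPrimeCore p P)
    have key := Coprime.eq_of_forall_invariant_pgroup_le (K := E) (A := (S : Subgroup P))
      (H := E ⊓ M) le_normalizer_of_normal
      (Coprime.coprime_card_of_isPGroup hSp hc).symm (Or.inl (Coprime.isSolvable_of_isPGroup hSp))
      inf_le_left (by
        intro q Q hq hQ hQq hQi hSQ
        haveI : Fact q.Prime := ⟨hq⟩
        refine le_inf hQ (le_sup_right.trans (hle _ le_sup_left ?_))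
        intro htop
        haveI : Group.IsSolvable Q := Coprime.isSolvable_of_isPGroup hQq
        haveI : Group.IsSolvable (S : Subgroup P) := Coprime.isSolvable_of_isPGroup hSp
        have h5 := Core.isSolvable_sup_of_le_normalizer hSQ
        exact Comp.comp_not_le_solvable hK h5 (htop ▸ le_top))
    exact hKM (hKE.trans (key ▸ inf_le_right))
  · refine ⟨(K ⊔ T) ⊓ M, le_inf le_sup_right (inf_le_left.trans hSM),
      lt_of_le_of_ne inf_le_left fun h => hKM (le_sup_left.trans (h.ge.trans inf_le_right)), ?_⟩
    intro H₁ hTH₁ hlt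
    refine le_inf hlt.le ?_
    set K₁ := H₁ ⊓ K with hK₁
    have hH₁ : H₁ = T ⊔ K₁ := by
      have := Core.sup_inf_assoc_of_le_normalizer (A := T) (B := K) (C := H₁) hTH₁ inf_le_right
      rw [inf_eq_right.2 (by rw [sup_comm]; exact hlt.le), inf_comm K] at this
      exact this
    have hTK₁ : T ≤ normalizer (K₁ : Set P) :=
      (le_inf (hTH₁.trans le_normalizer) inf_le_right).trans inf_normalizer_le_normalizer_inf
    set Y := ⨆ s : (S : Subgroup P), Tech.cj (s : P) K₁ with hY
    have hK₁Y : K₁ ≤ Y := le_trans (le_of_eq (Tech.cj_one K₁).symm)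
      (le_iSup (fun s : (S : Subgroup P) => Tech.cj (s : P) K₁) 1)
    suffices hne : (S : Subgroup P) ⊔ Y ≠ ⊤ by
      rw [hH₁]
      exact sup_le (inf_le_left.trans hSM) (hK₁Y.trans (le_sup_right.trans (hle _ le_sup_left hne)))
    intro htop
    set C := E ⊓ centralizer (K : Set P) with hC
    set W := K₁ ⊔ C with hW
    have hWE : W ≤ E := sup_le (inf_le_right.trans hKE) inf_le_left
    have hYW : Y ≤ W := by
      refine iSup_le fun s => ?_
      by_cases hs : (s : P) ∈ normalizer (K : Set P)
      · rw [Tech.mem_normalizer_iff_cj.1 (hTK₁ ⟨s.2, hs⟩)]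
        exact le_sup_left
      · refine (Tech.cj_mono _ inf_le_right).trans (le_trans (le_inf (Comp.comp_le_layer (hcj s)) ?_) le_sup_right)
        exact Comp.comp_le_centralizer_of_ne (hcj s) hK fun h => hs (Tech.mem_normalizer_iff_cj.2 h)
    have hNC : normalizer (K : Set P) ≤ normalizer (C : Set P) :=
      (le_inf le_normalizer_of_normal (Core.normalizer_le_normalizer_centralizer _)).trans
        inf_normalizer_le_normalizer_inf
    have hEK : E ≤ normalizer (K : Set P) := Comp.layer_le_normalizer_comp hK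
    have hRW : (S : Subgroup P) ⊓ E ≤ W := by
      refine le_of_not_dvd (hSp.to_le inf_le_left) inf_le_right hWE ?_ ?_
      · refine le_trans ?_ (Core.normalizer_inf_le_normalizer_sup _ _)
        exact le_inf ((inf_le_inf_left _ hEK).trans hTK₁) (inf_le_right.trans (hEK.trans hNC))
      · have e1 : E = W ⊔ K := by
          refine le_antisymm ?_ (sup_le hWE hKE)
          refine (Comp.layer_eq_comp_sup_centralizer hK).le.trans ?_
          exact sup_le le_sup_right (le_sup_right.trans le_sup_left)
        rw [e1, Fgs.relIndex_sup_eq_of_le_normalizer (hWE.trans hEK)]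
        intro hd
        apply hSK
        rw [← inf_relIndex_right] at hd ⊢
        refine hd.trans (relIndex_dvd_of_le_left _ (le_inf (le_trans ?_ le_sup_left) inf_le_right))
        exact le_inf (le_trans (inf_le_inf_left _ le_normalizer) hTH₁) inf_le_right
    have hKW : K ≤ W := by
      intro k hk
      obtain ⟨s, hs, y, hy, rfl⟩ := (Core.mem_sup_of_le_normalizer_right (le_normalizer_iSup _ K₁)).1
        (htop ▸ mem_top k)
      refine W.mul_mem (hRW ⟨hs, ?_⟩) (hYW hy)
      have := E.mul_mem (hKE hk) (E.inv_mem (hWE (hYW hy)))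
      simpa using this
    have h6 : K ≤ K₁ ⊔ (K ⊓ centralizer (K : Set P)) := by
      have := Core.sup_inf_assoc_of_le_normalizer (A := K₁) (B := C) (C := K) inf_le_right
        (inf_le_right.trans (le_normalizer.trans hNC))
      rw [inf_eq_right.2 hKW] at this
      refine this.le.trans (sup_le_sup_left ?_ _)
      exact le_inf inf_le_right (inf_le_left.trans inf_le_right)
    have h7 : K ≤ K₁ := by
      have h8 := commutator_mono h6 h6
      rw [Comp.comp_perfect hK, Core.commutator_sup_self_of_le_centralizer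
        (inf_le_right.trans (centralizer_le (SetLike.coe_subset_coe.2 (sup_le inf_le_right inf_le_left))))] at h8
      exact h8.trans (Core.commutator_le_of_le le_rfl le_rfl)
    exact absurd (sup_le (h7.trans inf_le_left) hTH₁) (not_le_of_gt hlt)

end Cfsg.Agent.S2906
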