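import Cfsg.Statements.S2914
import Cfsg.Agent.Lib.Rec3D.Fin23
import Cfsg.Agent.Lib.Rec3D.Co1
import Cfsg.Agent.Lib.Rec3D.Co2

set_option autoImplicit false
open Cfsg

namespace Cfsg.Agent.S2914

open CfsgLib CfsgLib.Tech CfsgLib.Rec3D

/-- Let G be a finite group with O_{3'}(G) = 1, S a Sylow 3-subgroup, Z ≤ S of order 3 and M = C_G(Z). Suppose Q = F*(M) is extraspecial of order 3⁹ and exponent 3; F*(M ⧸ Q) = O₂(M ⧸ Q) is extraspecial of order 2⁷ of minus type (no elementary abelian subgroup of order 2⁴); (M ⧸ Q) ⧸ O₂(M ⧸ Q) is isomorphic to the centralizer in PSp₄(3) of an element of order 3 whose centralizer contains a Sylow 3-subgroup; and Z is not weakly closed in S. Then G is isomorphic to the Fischer group Fi₂₃. -/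
theorem result {G : Type*} [Group G] [Finite G] (hO : Cfsg.pPrimeCore 3 G = ⊥) (S : Sylow 3 G) (Z : Subgroup G) (hZS : Z ≤ (S : Subgroup G)) (hZ : Nat.card ↥Z = 3) (hQ : Cfsg.IsExtraspecial 3 ↥(Cfsg.generalizedFittingSubgroup ↥(Subgroup.centralizer (Z : Set G)))) (hQcard : Nat.card ↥(Cfsg.generalizedFittingSubgroup ↥(Subgroup.centralizer (Z : Set G))) = 3 ^ 9) [hQn : (Cfsg.generalizedFittingSubgroup ↥(Subgroup.centralizer (Z : Set G))).Normal] (hexp : ∀ x ∈ Cfsg.generalizedFittingSubgroup ↥(Subgroup.centralizer (Z : Set G)), x ^ 3 = 1) (hFR : Cfsg.generalizedFittingSubgroup (↥(Subgroup.centralizer (Z : Set G)) ⧸ Cfsg.generalizedFittingSubgroup ↥(Subgroup.centralizer (Z : Set G))) = Cfsg.pCore 2 (↥(Subgroup.centralizer (Z : Set G)) ⧸ Cfsg.generalizedFittingSubgroup ↥(Subgroup.centralizer (Z : Set G)))) (hR : Cfsg.IsExtraspecial 2 ↥(Cfsg.pCore 2 (↥(Subgroup.centralizer (Z : Set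 G)) ⧸ Cfsg.generalizedFittingSubgroup ↥(Subgroup.centralizer (Z : Set G))))) (hRcard : Nat.card ↥(Cfsg.pCore 2 (↥(Subgroup.centralizer (Z : Set G)) ⧸ Cfsg.generalizedFittingSubgroup ↥(Subgroup.centralizer (Z : Set G)))) = 2 ^ 7) (hRminus : ∀ A : Subgroup ↥(Cfsg.pCore 2 (↥(Subgroup.centralizer (Z : Set G)) ⧸ Cfsg.generalizedFittingSubgroup ↥(Subgroup.centralizer (Z : Set G)))), Cfsg.IsElementaryAbelian 2 A → Nat.card ↥A ≤ 2 ^ 3) [hRn : (Cfsg.pCore 2 (↥(Subgroup.centralizer (Z : Set G)) ⧸ Cfsg.generalizedFittingSubgroup ↥(Subgroup.centralizer (Z : Set G)))).Normal] (hTop : ∃ (F : Type) (_ : Field F) (_ : Fintype F) (x : Cfsg.PSp 2 F), Fintype.card F = 3 ∧ orderOf x = 3 ∧ (∃ P : Sylow 3 (Cfsg.PSp 2 F), (P : Subgroup (Cfsg.PSp 2 F)) ≤ Subgroup.centralizer ({x} : Set (Cfsg.PSp 2 F))) ∧ Nonempty (((↥(Subgroup.centralizer (Z : Set G)) ⧸ Cfsg.generalizedFittingSubgroup ↥(Subgroup.centralizer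 (Z : Set G))) ⧸ Cfsg.pCore 2 (↥(Subgroup.centralizer (Z : Set G)) ⧸ Cfsg.generalizedFittingSubgroup ↥(Subgroup.centralizer (Z : Set G)))) ≃* ↥(Subgroup.centralizer ({x} : Set (Cfsg.PSp 2 F))))) (hwc : ∃ g : G, (Z.map (MulAut.conj g).toMonoidHom) ≤ (S : Subgroup G) ∧ Z.map (MulAut.conj g).toMonoidHom ≠ Z) : Cfsg.Spor.IsoFi23 G := by
  obtain ⟨F, _, _, x, hF, hx, ⟨P, hP⟩, ⟨e⟩⟩ := hTop
  obtain ⟨z, Q, θ, eZ, ab, hc, ht⟩ := exists_Ab Z hZ _ rfl hQ hQcard hexp _ hR hRcard hRminus e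
  obtain ⟨φ, ψ, h, ez, rfl, hθ⟩ := ab.exists_HS
  have ec : W2.Cx (φ zz) = W2.Cx z := by
    rcases ez with e | e <;> rw [e]
    exact Subgroup.ext fun g => by rw [W2.Cx_comm, inv_mem_iff, W2.Cx_comm]
  have eZ' : Z = Subgroup.zpowers (φ zz) := by
    rcases ez with e | e <;> rw [e, eZ]
    rw [Subgroup.zpowers_inv]
  have t : TF h.Im := h.tf (ec ▸ ab.θz) hθ (by rw [ec, hc, psp_cent hF hx P hP]) (by
    have := ht ⟨⟨x, Subgroup.mem_centralizer_singleton_iff.2 rfl⟩, fun e => by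
      rw [show x = 1 from congrArg Subtype.val e] at hx; simp at hx,
      Subtype.ext (hx ▸ pow_orderOf_eq_one x), fun s => Subtype.ext (Subgroup.mem_centralizer_singleton_iff.1 s.2)⟩
    unfold AbT at this ⊢
    rwa [ec])
  obtain ⟨g, h1, h2⟩ := hwc
  obtain ⟨φ', ψ', a, K, k, -, rfl, -⟩ : ∃ φ' ψ' a K, HA φ' ψ' _ a K ∧ φ' zz = φ zz ∧ K = N0 ∧ True := by
    obtain ⟨φ', ψ', a, K, k, e, f, -⟩ := h.exists_HA (Or.inl t) (h.exists_in_Q (h.nw eZ' S hZS h1 h2))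
    exact ⟨φ', ψ', a, K, k, e, f t, trivial⟩
  exact k.fi23

end Cfsg.Agent.S2914
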