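import Cfsg.Statements.S3337
import Cfsg.Agent.Lib.Rec3E.Main
import Cfsg.Agent.Lib.Rec3E.E1
import Cfsg.Agent.Lib.Rec3C.Fin

set_option autoImplicit false
open Cfsg

namespace Cfsg.Agent.S3337

open CfsgLib CfsgLib.Tech CfsgLib.W2 CfsgLib.Rec3B CfsgLib.Rec3E

/-- Recognition of the groups with socle ²E₆(2) from a 3-centralizer. Let G be a finite group and H ≤ G a subgroup with the following structure: Q = F*(H) is extraspecial of order 3^7 with Z(Q) = Z(H), and O₂(H/Q) is isomorphic to the direct product of three quaternion groups of order 8. Put Z = Z(H) and suppose H = C_G(Z). If S is a Sylow 3-subgroup of G containing Z and Z is not weakly closed in S with respect to G, then Z is not weakly closed in O₃(H), and G has a normal subgroup N isomorphic to ²E₆(2) (realised over the field with four elements) with C_G(N) = 1 and index dividing 6. -/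
theorem result {G : Type*} [Group G] [Finite G]
    (H : Subgroup G) (Q : Subgroup H) (hQF : Q = Cfsg.generalizedFittingSubgroup H) [hQn : Q.Normal]
    (hQex : Cfsg.IsExtraspecial 3 Q) (hQcard : Nat.card Q = 3 ^ 7)
    (hZZ : (Subgroup.center Q).map Q.subtype = Subgroup.center H)
    (eO : Cfsg.pCore 2 (H ⧸ Q) ≃* QuaternionGroup 2 × QuaternionGroup 2 × QuaternionGroup 2)
    (Z : Subgroup G) (hZ : Z = (Subgroup.center H).map H.subtype) (hHC : H = Subgroup.centralizer (Z : Set G))
    (S : Sylow 3 G) (hZS : Z ≤ S) (hnwc : ¬ Cfsg.IsWeaklyClosed Z S) :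
    ¬ Cfsg.IsWeaklyClosed Z ((Cfsg.pCore 3 H).map H.subtype) ∧
    ∃ N : Subgroup G, N.Normal ∧
      (∃ (K : Type) (_ : Field K) (_ : Fintype K), Fintype.card K = 4 ∧ Nonempty (N ≃* Cfsg.Lie.twistedE6 K 2)) ∧
      Subgroup.centralizer (N : Set G) = ⊥ ∧ N.index ∣ 6 := by
  obtain ⟨z, Qi, r, π, τ, h, eZ⟩ := exists_EH H Q hQF hQex hQcard hZZ eO Z hZ hHC
  have hZ3 : Nat.card Z = 3 := by
    rw [hZ, Subgroup.card_map_of_injective (Subgroup.subtype_injective _), ← hZZ,
      Subgroup.card_map_of_injective (Subgroup.subtype_injective _), hQex.2]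
  have n := Rec3C.not_wc_cent hZ3 S hZS hnwc
  have nw : NW z := by
    by_contra k
    simp only [NW, not_exists, not_and, not_not] at k
    have eH : Subgroup.centralizer (Z : Set G) = Cx z := by
      rw [eZ, Subgroup.zpowers_eq_closure, Subgroup.centralizer_closure]
    rw [eH, eZ] at n
    refine n ⟨by rw [Subgroup.zpowers_le]; exact mem_Cx.2 rfl, fun g hg => ?_⟩
    change cj g _ ≤ _ at hg
    change cj g _ = _
    rw [cj_zpowers, Subgroup.zpowers_le] at hg
    exact Subgroup.eq_of_le_of_card_ge (by rw [cj_zpowers, Subgroup.zpowers_le]; exact k g hg) (card_cj _ _).ge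
  have hK : Fintype.card Classical.GF4 = 4 := FTHM.gf4_card
  obtain ⟨N, n1, n2, n3, n4⟩ := h.main nw hK
  refine ⟨fun w => ?_, N, n1, ⟨_, _, _, hK, n2⟩, n3, n4⟩
  obtain ⟨g, g1, g2⟩ := h.exists_in_Q nw
  have l : Q ≤ pCore 3 H := le_sSup ⟨hQn, IsPGroup.of_card hQcard⟩
  have e := w.2 g (show cj g _ ≤ _ by rw [eZ, cj_zpowers, Subgroup.zpowers_le]; exact Subgroup.map_mono l g1)
  change cj g _ = _ at e
  rw [eZ, cj_zpowers] at e
  exact g2 (e ▸ Subgroup.mem_zpowers _)

end Cfsg.Agent.S3337
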