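import Cfsg.Statements.S2920
import Cfsg.Agent.Lib.O83.Main
import Cfsg.Agent.Lib.Classical.SmallIso3

set_option autoImplicit false
open Cfsg

namespace Cfsg.Agent.S2920

/-- Let G be a finite group of even order with parabolic characteristic 2 and H a subgroup of odd index such that F*(H) ≅ PΩ₈⁺(2) and H = N_G(F*(H)). Then F*(G) is isomorphic to PΩ₈⁺(2) or to PΩ₈⁺(3). -/
theorem result {G : Type*} [Group G] [Finite G] (h2 : 2 ∣ Nat.card G) (hG : Cfsg.IsOfParabolicCharacteristic 2 G) (H : Subgroup G) (hidx : ¬ 2 ∣ H.index) (hF : (∃ (F : Type) (_ : Field F) (_ : Fintype F), Fintype.card F = 2 ∧ Nonempty (↥(Cfsg.generalizedFittingSubgroup ↥H) ≃* Cfsg.POmega F (Cfsg.quadFormPlus 4 F)))) (hN : Subgroup.normalizer (((Cfsg.generalizedFittingSubgroup ↥H).map H.subtype : Subgroup G) : Set G) = H) : (∃ (F : Type) (_ : Field F) (_ : Fintype F), Fintype.card F = 2 ∧ Nonempty (↥(Cfsg.generalizedFittingSubgroup G) ≃* Cfsg.POmega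 F (Cfsg.quadFormPlus 4 F))) ∨ (∃ (F : Type) (_ : Field F) (_ : Fintype F), Fintype.card F = 3 ∧ Nonempty (↥(Cfsg.generalizedFittingSubgroup G) ≃* Cfsg.POmega F (Cfsg.quadFormPlus 4 F))) := by
  obtain ⟨F, _, _, hq, ⟨φ⟩⟩ := hF
  let e₂ : POmega (ZMod 2) (quadFormPlus 4 (ZMod 2)) ≃* CfsgLib.O83.Om :=
    (QuotientGroup.quotientMulEquivOfEq CfsgLib.O83.center_Om).trans QuotientGroup.quotientBot
  let σ := ZMod.ringEquivOfPrime F Nat.prime_two hq
  let ψ : CfsgLib.O83.Om ≃* generalizedFittingSubgroup H := (e₂.symm.trans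
    (CfsgLib.Classical.pomegaMapEquiv σ _ _ (CfsgLib.Classical.quadFormPlus_map σ 4))).trans φ.symm
  let ι : CfsgLib.O83.Om →* G := (H.subtype.comp (generalizedFittingSubgroup H).subtype).comp ψ.toMonoidHom
  have hι : Function.Injective ι := (H.subtype_injective.comp (Subgroup.subtype_injective _)).comp ψ.injective
  have hr : ι.range = (generalizedFittingSubgroup H).map H.subtype := by
    ext x
    exact ⟨fun ⟨k, e⟩ => ⟨ψ k, (ψ k).2, e⟩, fun ⟨k, hk, e⟩ => ⟨ψ.symm ⟨k, hk⟩, by simpa [ι] using e⟩⟩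
  refine (CfsgLib.O83.main hG hι (by rwa [hr, hN]) fun c hc => ?_).imp
    (fun ⟨k⟩ => ⟨ZMod 2, inferInstance, inferInstance, ZMod.card 2, ⟨k.trans e₂.symm⟩⟩)
    fun k => ⟨ZMod 3, inferInstance, inferInstance, ZMod.card 3, k⟩
  have h1 : c ∈ H := by
    rw [← hN, ← hr]
    exact Subgroup.centralizer_le_normalizer _ fun k hk => (hc k hk).symm
  obtain ⟨k, rfl⟩ : c ∈ ι.range := hr ▸ ⟨⟨c, h1⟩, CfsgLib.Comp.centralizer_fstar_le fun k hk =>
    Subtype.ext (hc k (hr ▸ ⟨k, hk, rfl⟩)).symm, rfl⟩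
  have : k ∈ Subgroup.center CfsgLib.O83.Om := Subgroup.mem_center_iff.2 fun l =>
    hι (by rw [map_mul, map_mul, hc _ ⟨l, rfl⟩])
  rw [CfsgLib.O83.center_Om, Subgroup.mem_bot] at this
  rw [this, map_one]

end Cfsg.Agent.S2920
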