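import Cfsg.Statements.S2931
import Cfsg.Agent.S0288
import Cfsg.Agent.Lib.GHM.W8
import Cfsg.Agent.Lib.W2.A8a
import Cfsg.Agent.Lib.W2.P43Model
import Cfsg.Agent.Lib.Classical.SmallIso3

set_option autoImplicit false
open Cfsg

namespace Cfsg.Agent.S2931

open Subgroup CfsgLib CfsgLib.W2 CfsgLib.W2.P43 Matrix

theorem syl_equiv {M G : Type*} [Group M] [Group G] [Finite G] (φ : M →* G)
    (hφ : Function.Injective φ) {n m : ℕ} (hM : Nat.card M = 2 ^ n) (hG : Nat.card G = 2 ^ n * m)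
    (hm : ¬ 2 ∣ m) (Q : Sylow 2 G) : Nonempty (M ≃* (Q : Subgroup G)) := by
  have hc : Nat.card φ.range = 2 ^ n := by
    rw [← Nat.card_congr (MonoidHom.ofInjective hφ).toEquiv, hM]
  have hi : φ.range.index = m := by
    have h1 := φ.range.card_mul_index
    rw [hc, hG] at h1
    exact Nat.eq_of_mul_eq_mul_left (by positivity) h1
  exact ⟨(MonoidHom.ofInjective hφ).trans
    (Sylow.equiv ((IsPGroup.of_card hc).toSylow (by rw [hi]; exact hm)) Q)⟩

noncomputable section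

def u1 : H1 := hi * (hs * hj * hs)
def u2 : H1 := hj * (hs * (hi * hj) * hs)
def pw (g : T8) (i : ℕ) (x : H1) : H1 := cond (bit g.v i) x 1
def ff (g : T8) : H1 := pw g 0 hs * pw g 1 (u1 * hs * u1) * pw g 2 (u2 * hs * u2) *
  pw g 3 (u1 * u2 * hs * (u1 * u2)) * pw g 4 u1 * pw g 5 u2

def th : T8 →* H1 := TG.homOf (gs := [T8.e0, T8.v1, T8.v2]) (D := 4) (by decide +kernel) ff
  (by decide +kernel) (by decide +kernel)

theorem th_inj : Function.Injective th :=
  (injective_iff_map_eq_one th).2 (by decide +kernel : ∀ a, ff a = 1 → a = 1)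

abbrev I6 : Type := (Fin 2 ⊕ Fin 2) ⊕ Fin 2

def ix : I6 → Fin 6
  | .inl (.inl i) => ![0, 1] i
  | .inl (.inr i) => ![2, 3] i
  | .inr i => ![4, 5] i

def mt (A : Matrix (Fin 6) (Fin 6) (ZMod 2)) : Matrix I6 I6 (ZMod 2) := A.submatrix ix ix

def el (A : Matrix (Fin 6) (Fin 6) (ZMod 2)) (h : mt A * mt A = 1 ∧ ∀ v, quadFormMinus 2 (ZMod 2) 1 1
    (mt A *ᵥ v) = quadFormMinus 2 (ZMod 2) 1 1 v) :
    isometryGroup (ZMod 2) (quadFormMinus 2 (ZMod 2) 1 1) :=
  ⟨⟨mt A, mt A, h.1, h.1⟩, fun u _ => h.2 u⟩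

def ma : Matrix (Fin 6) (Fin 6) (ZMod 2) := !![0, 0, 1, 0, 0, 0; 0, 1, 0, 0, 0, 0; 1, 0, 0, 0, 0, 0;
  0, 0, 0, 1, 0, 0; 0, 0, 0, 0, 1, 0; 0, 0, 0, 0, 0, 1]
def mb : Matrix (Fin 6) (Fin 6) (ZMod 2) := !![1, 0, 0, 1, 0, 0; 0, 1, 1, 0, 0, 0; 0, 0, 1, 0, 0, 0;
  0, 0, 0, 1, 0, 0; 0, 0, 0, 0, 1, 0; 0, 0, 0, 0, 0, 1]
def ms : Matrix (Fin 6) (Fin 6) (ZMod 2) := !![1, 0, 1, 0, 0, 1; 1, 1, 0, 1, 1, 1; 1, 0, 1, 1, 1, 1;
  0, 0, 0, 1, 0, 0; 1, 0, 1, 1, 0, 0; 1, 0, 0, 1, 1, 0]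

def ea := el ma (by decide +kernel)
def eb := el mb (by decide +kernel)
def es := el ms (by decide +kernel)

def vl : isometryGroup (ZMod 2) (quadFormMinus 2 (ZMod 2) 1 1) →* Matrix I6 I6 (ZMod 2) :=
  (Units.coeHom _).comp (Subgroup.subtype _)

theorem vl_inj : Function.Injective vl := Units.val_injective.comp Subtype.val_injective

theorem exists_inj : ∃ φ : GHM.W8.M →* isometryGroup (ZMod 2) (quadFormMinus 2 (ZMod 2) 1 1),
    Function.Injective φ := by
  have ha : vl ea = mt ma := rfl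
  have hb : vl eb = mt mb := rfl
  have hs : vl es = mt ms := rfl
  obtain ⟨φ, h1, h2, h3⟩ := GHM.W8.exists_hom (a := ea) (b := eb) (s := es) (by
    unfold GHM.W8.Tr
    simp only [← vl_inj.eq_iff, map_mul, map_one, ha, hb, hs]
    decide +kernel)
  refine ⟨φ, ?_⟩
  have hM : IsPGroup 2 GHM.W8.M := IsPGroup.of_card (n := 7) TG.card_eq
  rw [← MonoidHom.ker_eq_bot_iff]
  by_contra hn
  have := hM.isNilpotent
  obtain ⟨c, h4, h5, h6⟩ := PGroup.exists_mem_center_of_normal φ.ker hn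
  have h7 := fun s => (mem_center_iff.1 h5 s).symm
  obtain rfl := (GHM.W8.cent_cases c (h7 _) (h7 _) (h7 _)).resolve_left h6
  open GHM.W8 in
  rw [MonoidHom.mem_ker, show z0 = a1 * b1 * (a1 * b1) * (s0 * (a1 * b1 * (a1 * b1)) * s0) by
    decide +kernel] at h4
  simp only [← vl_inj.eq_iff, map_mul, map_one, h1, h2, h3, ha, hb, hs] at h4
  exact absurd h4 (by decide +kernel)

end

/-- The Sylow 2-subgroups of the alternating group of degree 8 and of PSp₄(3) are isomorphic, and so are the Sylow 2-subgroups of the symmetric group of degree 8 and of the full isometry group of a non-degenerate quadratic form of minus type in dimension 6 over the field with 2 elements. -/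
theorem result (F : Type) [Field F] [Fintype F] (hF : Fintype.card F = 3) (K : Type) [Field K] [Fintype K] (hK : Fintype.card K = 2) (a b : K) (hab : ∀ z₁ z₂ : K, z₁ ^ 2 + a * z₁ * z₂ + b * z₂ ^ 2 = 0 → z₁ = 0 ∧ z₂ = 0) (P : Sylow 2 ↥(alternatingGroup (Fin 8))) (Q : Sylow 2 (Cfsg.PSp 2 F)) (P' : Sylow 2 (Equiv.Perm (Fin 8))) (Q' : Sylow 2 ↥(Cfsg.isometryGroup K (Cfsg.quadFormMinus 2 K a b))) : Nonempty (↥(P : Subgroup ↥(alternatingGroup (Fin 8))) ≃* ↥(Q : Subgroup (Cfsg.PSp 2 F))) ∧ Nonempty (↥(P' : Subgroup (Equiv.Perm (Fin 8))) ≃* ↥(Q' : Subgroup ↥(Cfsg.isometryGroup K (Cfsg.quadFormMinus 2 K a b)))) := by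
  constructor
  · obtain ⟨ι, hι⟩ := exists_cz_psp hF
    obtain ⟨e1⟩ := T8.sylow_A8 P
    have hc := Symp.card_PSp (F := F) (m := 2) (by norm_num)
    rw [hF] at hc
    have hfin : Finite (PSp 2 F) := Nat.finite_of_card_ne_zero (by
      intro h
      rw [h] at hc
      exact absurd hc (by decide))
    obtain ⟨e2⟩ := syl_equiv (ι.comp th) (hι.inj.comp th_inj) (n := 6) (m := 405) T8.card_T
      (by simp [Finset.prod_range_succ] at hc; omega) (by decide) Q
    exact ⟨e1.trans e2⟩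
  · obtain ⟨e1⟩ := GHM.W8.nonempty_equiv P'
    obtain ⟨φ, hφ⟩ := exists_inj
    let e : ZMod 2 ≃+* K := FiniteField.ringEquivOfCardEq (K := ZMod 2) (by rw [hK, ZMod.card])
    have h2 : ∀ x : ZMod 2, x = 0 ∨ x = 1 := by decide
    have hb : b = e 1 := by
      obtain ⟨x, rfl⟩ := e.surjective b
      rcases h2 x with rfl | rfl
      · exact absurd (hab 0 1 (by simp)).2 one_ne_zero
      · rfl
    have ha : a = e 1 := by
      obtain ⟨x, rfl⟩ := e.surjective a
      rcases h2 x with rfl | rfl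
      · refine absurd (hab 1 1 ?_).2 one_ne_zero
        rw [hb, ← map_one e]
        simp only [← map_pow, ← map_mul, ← map_add]
        rw [show (1 : ZMod 2) ^ 2 + 0 * 1 * 1 + 1 * 1 ^ 2 = 0 by decide, map_zero]
      · rfl
    have hc := S0288.result hK 3 (by norm_num) a b hab
    let E := Classical.isometryGroupMapEquiv e (quadFormMinus 2 (ZMod 2) 1 1) (quadFormMinus 2 K a b)
      (fun v => by rw [ha, hb]; exact Classical.quadFormMinus_map e 2 1 1 v)
    obtain ⟨e2⟩ := syl_equiv (E.toMonoidHom.comp φ) (E.injective.comp hφ) (n := 7) (m := 405)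
      TG.card_eq (hc.trans (by decide)) (by decide) Q'
    exact ⟨e1.symm.trans e2⟩

end Cfsg.Agent.S2931
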