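import Cfsg.Statements.S2933
import Cfsg.Agent.Lib.TwoGrp2.FinkAb

set_option autoImplicit false
open Cfsg

namespace Cfsg.Agent.S2933

/-- Let T be a 2-subgroup of a finite group G, V ≤ Z(T) a four-group, and t, ρ ∈ N_G(V) ∩ N_G(T) elements of order 2 and 3 with t commuting with ρ and with V. If [V, ρ] = V and C_T(t) = V, then T is elementary abelian of order 16, or homocyclic of rank 2 (ℤ/2ⁿ × ℤ/2ⁿ for some n ≥ 1), or isomorphic to a Sylow 2-subgroup of PSL₃(4) or of PSU₃(4). -/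
theorem result {G : Type*} [Group G] [Finite G] (T V : Subgroup G) (hT : IsPGroup 2 ↥T) (hVT : V ≤ T ⊓ Subgroup.centralizer (T : Set G)) (hV : Nat.card ↥V = 4 ∧ ∀ v ∈ V, v ^ 2 = 1) (t ρ : G) (ht : orderOf t = 2) (hρ : orderOf ρ = 3) (htn : t ∈ Subgroup.normalizer (V : Set G) ⊓ Subgroup.normalizer (T : Set G)) (hρn : ρ ∈ Subgroup.normalizer (V : Set G) ⊓ Subgroup.normalizer (T : Set G)) (htρ : t * ρ = ρ * t) (htV : t ∈ Subgroup.centralizer (V : Set G)) (hVρ : ⁅V, Subgroup.zpowers ρ⁆ = V) (hCt : T ⊓ Subgroup.centralizer ({t} : Set G) = V) : (Nat.card ↥T = 16 ∧ ∀ x ∈ T, x ^ 2 = 1) ∨ (∃ n : ℕ, 1 ≤ n ∧ Nonempty (↥T ≃* Multiplicative (ZMod (2 ^ n)) × Multiplicative (ZMod (2 ^ n)))) ∨ (∃ (F : Type) (_ : Field F) (_ : Fintype F), Fintype.card F = 4 ∧ ∀ P : Sylow 2 (Matrix.ProjectiveSpecialLinearGroup (Fin 3) F), Nonempty (↥T ≃* ↥(P : Subgroup (Matrix.ProjectiveSpecialLinearGroup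 (Fin 3) F)))) ∨ (∃ (F : Type) (_ : Field F) (_ : Fintype F), Fintype.card F = 16 ∧ ∀ P : Sylow 2 (Cfsg.PSU 3 F 4), Nonempty (↥T ≃* ↥(P : Subgroup (Cfsg.PSU 3 F 4)))) := by
  have hVT' : V ≤ T := hVT.trans inf_le_left
  have ht2 : t * t = 1 := by rw [← sq, ← ht, pow_orderOf_eq_one]
  have hρ3 : ρ * ρ * ρ = 1 := by rw [← pow_three', ← hρ, pow_orderOf_eq_one]
  obtain ⟨v, hv, hne⟩ : ∃ v ∈ V, ρ * v * ρ⁻¹ ≠ v := by
    by_contra! h
    have : ⁅V, Subgroup.zpowers ρ⁆ = ⊥ := Subgroup.commutator_eq_bot_iff_le_centralizer.2 fun v hv =>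
      (Subgroup.mem_centralizer_iff).2 fun g ⟨k, hk⟩ => hk ▸
        ((show Commute ρ v from mul_inv_eq_iff_eq_mul.1 (h v hv)).zpow_left k).eq
    rw [hVρ] at this
    simp [this] at hV
  rcases CfsgLib.TwoGrp2.fink_four (α := T.normalizerMonoidHom ⟨t, htn.2⟩) (ρ := T.normalizerMonoidHom ⟨ρ, hρn.2⟩)
    (C := V.subgroupOf T) (v := ⟨v, hVT' hv⟩) hT (fun x => Subtype.ext (by
      change t * (t * x * t⁻¹) * t⁻¹ = x
      rw [show t * (t * x * t⁻¹) * t⁻¹ = t * t * x * (t * t)⁻¹ by group, ht2]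
      group)) (fun x => Subtype.ext (by
      change t * (ρ * x * ρ⁻¹) * t⁻¹ = ρ * (t * x * t⁻¹) * ρ⁻¹
      rw [show t * (ρ * x * ρ⁻¹) * t⁻¹ = t * ρ * x * (t * ρ)⁻¹ by group, htρ]
      group)) (fun x => Subtype.ext (by
      change ρ * (ρ * (ρ * x * ρ⁻¹) * ρ⁻¹) * ρ⁻¹ = x
      rw [show ρ * (ρ * (ρ * x * ρ⁻¹) * ρ⁻¹) * ρ⁻¹ = ρ * ρ * ρ * x * (ρ * ρ * ρ)⁻¹ by group, hρ3]
      group)) (fun x => by
      rw [Subtype.ext_iff]
      change (x : G) ∈ V ↔ t * x * t⁻¹ = x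
      rw [← hCt, Subgroup.mem_inf, Subgroup.mem_centralizer_singleton_iff, mul_inv_eq_iff_eq_mul, and_iff_right x.2,
        eq_comm])
    (fun c hc => Subtype.ext (by simpa [sq] using hV.2 c hc))
    (by rw [Nat.card_congr (Subgroup.subgroupOfEquivOfLe hVT').toEquiv, hV.1]) hv
    (fun e => hne (congrArg Subtype.val e)) with h | h
  · exact Or.inl ⟨h.1, fun x hx => by simpa [sq] using congrArg Subtype.val (h.2 ⟨x, hx⟩)⟩
  · exact Or.inr h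

end Cfsg.Agent.S2933
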