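import Cfsg.Statements.S2937
import Cfsg.Agent.Lib.LieAll.Star
import Cfsg.Agent.Lib.LieAll.Rank
import Cfsg.Agent.Lib.Comp.FStar

set_option autoImplicit false
open Cfsg CfsgLib.LieAll CfsgLib.BN

namespace Cfsg.Agent.S2937

/-- Let X be a finite p-minimal group whose generalized Fitting subgroup K = F*(X) is a simple group of Lie type in characteristic p, and let U be a Sylow p-subgroup of K. Then N_X(U) is a maximal subgroup of X, and either K has Lie rank one (K ≅ PSL₂(pᵉ), PSU₃(pᵉ), a Suzuki group for p = 2, or a Ree group or PSL₂(8) for p = 3), or p = 2, K ≠ X and K is isomorphic to PSL₃(2ᵉ) or to PSp₄(2ᵉ) (e ≥ 2) or to the alternating group of degree 6. -/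
theorem result {X : Type*} [Group X] [Finite X] {p : ℕ} [Fact p.Prime] (hX : Cfsg.IsPMinimal p X) (hK : Cfsg.IsChevSimple p ↥(Cfsg.generalizedFittingSubgroup X)) (U : Sylow p ↥(Cfsg.generalizedFittingSubgroup X)) : IsCoatom (Subgroup.normalizer (((U : Subgroup ↥(Cfsg.generalizedFittingSubgroup X)).map (Cfsg.generalizedFittingSubgroup X).subtype : Subgroup X) : Set X)) ∧ (Cfsg.IsLieRankOneChar p ↥(Cfsg.generalizedFittingSubgroup X) ∨ (p = 2 ∧ Cfsg.generalizedFittingSubgroup X ≠ ⊤ ∧ ((∃ (F : Type) (_ : Field F) (_ : Fintype F) (_ : CharP F 2), Nonempty (↥(Cfsg.generalizedFittingSubgroup X) ≃* Matrix.ProjectiveSpecialLinearGroup (Fin 3) F)) ∨ (∃ (F : Type) (_ : Field F) (_ : Fintype F) (_ : CharP F 2), 4 ≤ Fintype.card F ∧ Nonempty (↥(Cfsg.generalizedFittingSubgroup X) ≃* Cfsg.PSp 2 F)) ∨ Nonempty (↥(Cfsg.generalizedFittingSubgroup X) ≃* ↥(alternatingGroup (Fin 6)))))) := by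
  have := CfsgLib.Comp.fstar_normal (G := X)
  generalize Cfsg.generalizedFittingSubgroup X = K at *
  obtain h | ⟨rfl, h⟩ | ⟨rfl, F, _, _, hF, ⟨e⟩⟩ := hK
  · have := isSimpleGroup h
    obtain ⟨D, ⟨e⟩, h1, -⟩ := exists_res h
    obtain ⟨e, he⟩ := exists_equiv_sylow e U (D.good.tw.sylow p)
    have := D.good.ne.map D.T.orb
    replace he := fun x => (he x).trans (D.good.tw.mem_sylow p)
    obtain ⟨h2, h3⟩ := pmin hX U (emb_top D.good e he).par
    refine ⟨h2, (h1 (sw_of_par D.good e he Fact.out fun b c => let ⟨θ, k1, k2, k3, _⟩ := h3 b c; ⟨θ, k1, k2, k3⟩)).imp_right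
      fun ⟨k1, ⟨b, c, k2⟩, k3⟩ => ⟨k1, fun e => let ⟨_, _, _, _, k⟩ := h3 b c; k2 (k e), k3.imp_right .inl⟩⟩
  · obtain ⟨D, f, E, h1, ⟨b, c, h2⟩, h3⟩ : Emb2 U := by
      obtain ⟨⟨e⟩⟩ | ⟨F, _, _, hF, ⟨e⟩⟩ | ⟨⟨e⟩⟩ := h
      exacts [emb_A6 e U, emb_U33 hF e U, emb_tits e U]
    have : Nonempty D.B := ⟨b⟩
    obtain ⟨h4, h5⟩ := pmin hX U E.par
    obtain ⟨θ, -, k1, k2, k3⟩ := h5 b c
    have key : IsSimpleGroup K → ¬ CfsgLib.LieAll.Star (U : Subgroup K) := fun _ h =>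
      h2 (Set.singleton_injective (E.par.inj ((h.smul_eq E.par h1 h3 k1 b).symm.trans k2)))
    obtain h | ⟨F, _, _, hF, ⟨e⟩⟩ | ⟨⟨e⟩⟩ := h
    · exact ⟨h4, .inr ⟨rfl, fun e => h2 (k3 e), .inr (.inr h)⟩⟩
    · exact absurd (star_U33 hF e U) (key (@MulEquiv.isSimpleGroup _ _ _ _
        (S0283.result (q := 3) hF 3 (by decide) (by decide)) e))
    · exact absurd (star_tits e U) (key (@MulEquiv.isSimpleGroup _ _ _ _ S1074.result.2.1 e))
  · have : IsSimpleGroup K := @MulEquiv.isSimpleGroup _ _ _ _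
      (CfsgLib.Classical.psl_fin_isSimpleGroup 2 le_rfl fun _ => by omega) e
    refine ⟨(pmin hX U (.unit (fun h => ?_) fun D h => le_normalizer_L28 hF e U (Subgroup.le_normalizer.trans h))).1,
      .inl (.inr (.inr (.inr ⟨rfl, .inr ⟨F, _, _, hF, ⟨e⟩⟩⟩)))⟩
    have h1 := card_L28 hF e U
    have h2 := CfsgLib.Dickson.card_psl (K := F)
    rw [Nat.card_eq_fintype_card (α := F), hF, ← Nat.card_congr e.toEquiv] at h2
    obtain k | k := (Subgroup.normalizer_eq_top_iff.1 h).eq_bot_or_eq_top <;> rw [k] at h1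
    · simp at h1
    · rw [Subgroup.card_top] at h1
      simp [h1] at h2

end Cfsg.Agent.S2937
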