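import Mathlib
import Cfsg.Statements.S2964
import Cfsg.Agent.Lib.KRow.Cond
import Cfsg.Agent.Lib.KRow.SporOut
-- import your own Cfsg.Agent.* helpers here

set_option autoImplicit false
open Cfsg

namespace Cfsg.Agent.S2964

/-- Let K be a finite simple group all of whose simple sections are known finite simple groups, and let r be a prime not dividing the order of K. Then the Sylow r-subgroups of the automorphism group of K are cyclic. -/
theorem result (K : Type*) [Group K] [Finite K] [IsSimpleGroup K] (hK : Cfsg.IsKGroup K) (r : ℕ) [Fact r.Prime] (hr : ¬ r ∣ Nat.card K) (R : Sylow r (MulAut K)) : IsCyclic ↥(R : Subgroup (MulAut K)) := by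
  exact CfsgLib.KRow.c2964 CfsgLib.KRow.sporOut K hK r hr R

end Cfsg.Agent.S2964
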