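import Cfsg.Statements.S2971
import Cfsg.Agent.Lib.IsolP.Basic
import Cfsg.Agent.Lib.PLocal.Rank2
import Cfsg.Agent.Lib.Core.MinNormal

set_option autoImplicit false
open Cfsg

namespace Cfsg.Agent.S2971

/-- Let G be a finite group and p an odd prime such that G has p-rank at most 1 (no elementary abelian subgroup of order p²). If x ∈ G is an isolated element of order p, then x is central modulo the largest normal subgroup of G of order prime to p. -/
theorem result {G : Type*} [Group G] [Finite G] {p : ℕ} [Fact p.Prime] (hp : p ≠ 2) (hrk : Cfsg.PRankLE p 1 G) (x : G) (hx : orderOf x = p) (hiso : Cfsg.IsIsolated x) : Cfsg.InZStar p x := by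
  have hpp : p.Prime := Fact.out
  have hc : ∀ P : Sylow p G, IsCyclic (P : Subgroup G) := by
    intro P
    by_contra hnc
    obtain ⟨A, -, hA, hcard⟩ := CfsgLib.PLocal.Rank2.exists_normal_elemAb hp P.isPGroup' hnc
    have h1 := CfsgLib.Core.isElementaryAbelian_map hA (P : Subgroup G).subtype
    have h2 := hrk _ h1.1 h1.2
    rw [Subgroup.card_map_of_injective (Subgroup.subtype_injective _), hcard] at h2
    have := (Nat.pow_le_pow_iff_right hpp.one_lt).mp h2
    omega
  have hx1 : x ≠ 1 := by
    rintro rfl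
    rw [orderOf_one] at hx
    exact hpp.one_lt.ne hx
  have h := CfsgLib.IsolP.hasNormalPComplement_of_isCyclic ⟨1, by rw [hx, pow_one]⟩ hiso hx1 hc
  intro g
  have := CfsgLib.Transfer.pResidual_characteristic p G
  rw [← CfsgLib.Transfer.pResidual_eq_pPrimeCore h]
  obtain ⟨P⟩ : Nonempty (Sylow p G) := inferInstance
  have hcomp := CfsgLib.Transfer.isComplement'_pResidual h P
  have := hc P
  obtain ⟨⟨n, a⟩, hna⟩ := hcomp.2 g
  obtain ⟨⟨m, b⟩, hmb⟩ := hcomp.2 x
  have hab : (a : G) * b = b * a := by
    have := (IsCyclic.commGroup (α := (P : Subgroup G))).mul_comm a b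
    exact congrArg Subtype.val this
  rw [← QuotientGroup.eq_one_iff]
  have hn : ((n : G) : G ⧸ pResidual p G) = 1 := (QuotientGroup.eq_one_iff _).mpr n.2
  have hm : ((m : G) : G ⧸ pResidual p G) = 1 := (QuotientGroup.eq_one_iff _).mpr m.2
  simp only at hna hmb
  rw [← hna, ← hmb]
  simp only [QuotientGroup.mk_mul, QuotientGroup.mk_inv, hn, hm, one_mul]
  rw [← QuotientGroup.mk_mul, hab]
  simp

end Cfsg.Agent.S2971
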