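import Cfsg.Statements.S2981
import Cfsg.Agent.Lib.BHS.Hol

set_option autoImplicit false
open Cfsg

namespace Cfsg.Agent.S2981

open Subgroup CfsgLib.LAE CfsgLib.PLocal CfsgLib.Push CfsgLib.LocStr CfsgLib.BHS CfsgLib.PLocal.Holo in

/-- The local C**(G,T)-Theorem for minimal parabolic groups. Let G be a finite p-minimal group (a Sylow p-subgroup T is not normal and lies in exactly one maximal subgroup) of characteristic p (C_G(O_p(G)) ≤ O_p(G)), and suppose G ≠ C**(G,T), the subgroup generated by C_G(Ω₁(Z(T))) and N_G(J(T)) (J(T) generated by the elementary abelian p-subgroups of T of largest order). Put V = Ω₁(Z(O_p(G))) and C = C_G(V). Then there are subgroups E₁, …, E_r of G containing C such that: J(G)TC = G and the E_i C/C form an internal direct product equal to J(G)C/C; any two of the E_i are conjugate by an element of T; V = C_V(⟨E_i⟩)·∏[V, E_i] with [V, E_i, E_j] = 1 for i ≠ j; for some n ≥ 1, each E_i/C is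 isomorphic to SL₂(pⁿ), or p = 2 and to the symmetric group of degree 2ⁿ + 1; and E_i acts on [V, E_i]/C_{[V,E_i]}(E_i) as the natural two-dimensional SL₂(pⁿ)-module, respectively as the symmetric group of degree 2ⁿ+1 on its even-weight permutation module. -/
theorem result {G : Type*} [Group G] [Finite G] {p : ℕ} [Fact p.Prime] (hmin : Cfsg.IsPMinimal p G) (hG : Subgroup.centralizer (Cfsg.pCore p G : Set G) ≤ Cfsg.pCore p G) (T : Sylow p G) (hne : Cfsg.cStarStarOf p (T : Subgroup G) ≠ ⊤) : ∃ (r : ℕ) (E : Fin r → Subgroup G), (∀ i, Subgroup.centralizer (Cfsg.omegaOneCenter p (Cfsg.pCore p G) : Set G) ≤ E i) ∧ Cfsg.thompsonSubgroup p G ⊔ (T : Subgroup G) ⊔ Subgroup.centralizer (Cfsg.omegaOneCenter p (Cfsg.pCore p G) : Set G) = ⊤ ∧ (⨆ i, E i) = Cfsg.thompsonSubgroup p G ⊔ Subgroup.centralizer (Cfsg.omegaOneCenter p (Cfsg.pCore p G) : Set G) ∧ (∀ i j, i ≠ j → ⁅E i, E j⁆ ≤ Subgroup.centralizer (Cfsg.omegaOneCenter p (Cfsg.pCore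 p G) : Set G)) ∧ (∀ i, E i ⊓ (⨆ j ∈ {j | j ≠ i}, E j) ≤ Subgroup.centralizer (Cfsg.omegaOneCenter p (Cfsg.pCore p G) : Set G)) ∧ (∀ i j, ∃ t ∈ (T : Subgroup G), (E i).map (MulAut.conj t).toMonoidHom = E j) ∧ (Cfsg.omegaOneCenter p (Cfsg.pCore p G) ⊓ Subgroup.centralizer ((⨆ i, E i : Subgroup G) : Set G)) ⊔ (⨆ i, ⁅Cfsg.omegaOneCenter p (Cfsg.pCore p G), E i⁆) = Cfsg.omegaOneCenter p (Cfsg.pCore p G) ∧ (∀ i j, i ≠ j → ⁅⁅Cfsg.omegaOneCenter p (Cfsg.pCore p G), E i⁆, E j⁆ = ⊥) ∧ ∀ i, ∃ n : ℕ, 1 ≤ n ∧ ((∃ (F : Type) (_ : Field F) (_ : Fintype F), Fintype.card F = p ^ n ∧ (∃ _ : ((Subgroup.centralizer (Cfsg.omegaOneCenter p (Cfsg.pCore p G) : Set G)).subgroupOf (E i)).Normal, Nonempty (↥(E i) ⧸ (Subgroup.centralizer (Cfsg.omegaOneCenter p (Cfsg.pCore p G) : Set G)).subgroupOf (E i) ≃* Matrix.SpecialLinearGroup (Fin 2) F)) ∧ Cfsg.ActsAsSL2OnSection F ⊤ (E i) ⁅Cfsg.omegaOneCenter p (Cfsg.pCore p G), E i⁆ (⁅Cfsg.omegaOneCenter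 p (Cfsg.pCore p G), E i⁆ ⊓ Subgroup.centralizer ((E i : Subgroup G) : Set G))) ∨ (p = 2 ∧ (∃ _ : ((Subgroup.centralizer (Cfsg.omegaOneCenter p (Cfsg.pCore p G) : Set G)).subgroupOf (E i)).Normal, Nonempty (↥(E i) ⧸ (Subgroup.centralizer (Cfsg.omegaOneCenter p (Cfsg.pCore p G) : Set G)).subgroupOf (E i) ≃* Equiv.Perm (Fin (2 ^ n + 1)))) ∧ Cfsg.ActsAsOddPermModuleOnSection (2 ^ n + 1) ⊤ (E i) ⁅Cfsg.omegaOneCenter p (Cfsg.pCore p G), E i⁆ (⁅Cfsg.omegaOneCenter p (Cfsg.pCore p G), E i⁆ ⊓ Subgroup.centralizer ((E i : Subgroup G) : Set G)))) := by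
  obtain ⟨M, ⟨hM, hTM⟩, -⟩ := (hmin T).2
  have h0 := minOver_of_isPMinimal hmin T hM hTM
  have hC : Cfsg.cStarStarOf p (T : Subgroup G) ≤ M := h0.max _
    (le_sup_of_le_left (le_centralizer_omegaZ _)) hne.lt_top
  have h : CP p (T : Subgroup G) M := ⟨hG, isSylowIn_top T, h0, le_sup_left.trans hC⟩
  have hJ := le_sup_right.trans hC
  have eV : Cfsg.omegaOneCenter p (Cfsg.pCore p G) = VO p G := rfl
  rw [eV]
  obtain ⟨-, -, B, -, hB⟩ := h.exists_root hJ
  obtain ⟨g, -, E, hE⟩ := h.pm.exists_comp hB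
  obtain ⟨r, F, hF, -⟩ := h.pm.exists_fam hE
  have hr : ∀ i, F i ≤ (rho (VO p G)).range := fun i => (hF.le i).trans (map_le_range _ _)
  have e1 : ∀ i, ((F i).comap (rho (VO p G))).map (rho (VO p G)) = F i := fun i =>
    map_comap_eq_self (hr i)
  have e2 : ∀ i, centralizer (VO p G : Set G) ≤ (F i).comap (rho (VO p G)) := fun i =>
    ker_rho.ge.trans (ker_le_comap _ _)
  have e3 : (⨆ i, (F i).comap (rho (VO p G))).map (rho (VO p G)) = ⨆ i, F i := by
    simp_rw [Subgroup.map_iSup, e1]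
  have inj : ∀ {X Y : Subgroup G}, centralizer (VO p G : Set G) ≤ X →
      centralizer (VO p G : Set G) ≤ Y → X.map (rho (VO p G)) = Y.map (rho (VO p G)) → X = Y :=
    fun hX hY e => by
      rw [← comap_map_eq_self (ker_rho.le.trans hX), e, comap_map_eq_self (ker_rho.le.trans hY)]
  have e4 : (centralizer (VO p G : Set G)).map (rho (VO p G)) = ⊥ := map_rho_eq_bot_iff.2 le_rfl
  have e5 : ∀ X : Subgroup G, ⁅VO p G, X⁆ ≤ VO p G := fun X => Subgroup.commutator_le_left _ _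
  refine ⟨r, fun i => (F i).comap (rho (VO p G)), e2, inj le_sup_right le_top ?_,
    inj ((e2 ⟨0, hF.pos⟩).trans (le_iSup (fun i => (F i).comap (rho (VO p G))) _)) le_sup_right ?_,
    fun i j hij => map_rho_eq_bot_iff.1 ?_, fun i => map_rho_eq_bot_iff.1 ?_, fun i j => ?_,
    im_inj (V := VO p G) (sup_le inf_le_left (iSup_le fun i => e5 _)) le_rfl ?_,
    fun i j hij => (im_eq_bot_iff (V := VO p G) (commutator_le_of_le_of_normalizes
      le_normalizer_of_normal (e5 _))).1 ?_, fun i => ?_⟩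
  · rw [Subgroup.map_sup, Subgroup.map_sup, e4, sup_bot_eq, h.map_thompson hJ, h.pm.sSup_sup hB]
  · rw [Subgroup.map_sup, e4, sup_bot_eq, h.map_thompson hJ, e3, hF.roots]
  · rw [map_commutator, e1, e1, hF.comm i j hij]
  · rw [eq_bot_iff, ← hF.indep i]
    refine (Subgroup.map_inf_le _ _ _).trans ?_
    simp_rw [Subgroup.map_iSup, e1]
    exact le_rfl
  · obtain ⟨_, ⟨t, ht, rfl⟩, e⟩ := hF.conj i j
    refine ⟨t, ht, inj ?_ (e2 j) ?_⟩
    · exact (conjS_eq_of_normal t _).ge.trans (conjS_mono (e2 i))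
    · rw [← conjS_def, map_conjS, e1, e1, e]
  · rw [im_sup inf_le_left (iSup_le fun i => e5 _), im_iSup fun i => e5 _, ← im_inf_centralizer, e3]
    simp_rw [← commutator_im le_rfl, e1]
    exact hF.dec
  · rw [← commutator_im (e5 _), ← commutator_im le_rfl, e1, e1, hF.comm_V i j hij]
  · obtain ⟨n, hn, ⟨K, _, _, hK, D, hk⟩ | ⟨hp, D, hk⟩⟩ := NatTyp.of_hol h.pm.comm
      ((e1 i).symm ▸ hF.typ i) ((e1 i).symm ▸ hF.sup_cen i)
    · have e : D.φh.ker = (centralizer (VO p G : Set G)).subgroupOf _ := by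
        rw [← inf_subgroupOf_left, ← hk]
        exact (comap_map_eq_self_of_injective (subtype_injective _) _).symm
      exact ⟨n, hn, .inl ⟨K, inferInstance, inferInstance, hK, ⟨inferInstance,
        D.nonempty_quot_equiv.map fun f => (QuotientGroup.quotientMulEquivOfEq e).symm.trans
          (f.trans topEquiv)⟩, actsAsSL2OnSection_iff.2 ⟨D⟩⟩⟩
    · have e : D.ρh.ker = (centralizer (VO p G : Set G)).subgroupOf _ := by
        rw [← inf_subgroupOf_left, ← hk, D.ker_subgroupOf]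
      exact ⟨n, hn, .inr ⟨hp, ⟨inferInstance,
        D.nonempty_quot_equiv.map fun f => (QuotientGroup.quotientMulEquivOfEq e).symm.trans
          (f.trans topEquiv)⟩, actsAsOddPerm_iff.2 ⟨D⟩⟩⟩

end Cfsg.Agent.S2981
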