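import Mathlib
import Cfsg.Statements.S3018
import Cfsg.Agent.Lib.XC.Main
import Cfsg.Agent.Lib.XC.SOL
-- import your own Cfsg.Agent.* helpers here

set_option autoImplicit false
open Cfsg

namespace Cfsg.Agent.S3018

/-- Let G be a finite group, p a prime and H an abelian p-subgroup of G that is extremely closed (for every g, the subgroup generated by H and g H g⁻¹ meets N_G(H) exactly in H). Then H is contained in a solvable normal subgroup of G, that is, in the solvable radical of G. -/
theorem result {G : Type*} [Group G] [Finite G] {p : ℕ} [Fact p.Prime] (H : Subgroup G) (hHp : IsPGroup p H) (hHab : IsMulCommutative H) (hcl : Cfsg.IsExtremelyClosed H) : ∃ N : Subgroup G, N.Normal ∧ Group.IsSolvable ↥N ∧ H ≤ N := by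
  by_cases hp : p = 2
  · subst hp
    exact CfsgLib.XC.solv_two ⟨hHp, hHab, hcl⟩
  · have h : CfsgLib.XC.Hyp p H := ⟨hHp, hHab, hcl⟩
    exact ⟨_, inferInstance, CfsgLib.XC.solv_of_tt h (CfsgLib.XC.main hp h), Subgroup.le_normalClosure⟩

end Cfsg.Agent.S3018
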