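import Mathlib
import Cfsg.Statements.S3041
import Cfsg.Agent.Lib.Flav.Q5

set_option autoImplicit false
open Cfsg

namespace Cfsg.Agent.S3041


/-- A fixed-point result of Shult type. Let X be a finite group with a normal subgroup G and a subgroup R of prime order r not dividing |G| such that X = GR, and let ρ be a faithful irreducible representation of X on a nonzero finite-dimensional vector space V over a field of prime characteristic in which R has no nonzero fixed vector. Then either [G, R] = 1, or r has the form 2^m + 1 and [G, R] is a non-abelian special 2-group. -/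
theorem result {X : Type*} [Group X] [Finite X] (G R : Subgroup X) [G.Normal] (hX : G ⊔ R = ⊤) (r : ℕ) (hr : r.Prime)
    (hR : Nat.card R = r) (hcop : ¬ r ∣ Nat.card G)
    {k : Type*} [Field k] {p : ℕ} [Fact p.Prime] [CharP k p] {V : Type*} [AddCommGroup V] [Module k V] [FiniteDimensional k V] [Nontrivial V]
    (ρ : Representation k X V) (hfaith : Function.Injective ρ)
    (hirr : ∀ W : Submodule k V, (∀ x : X, W.map (ρ x) ≤ W) → W = ⊥ ∨ W = ⊤)
    (hfix : ∀ v : V, (∀ x ∈ R, ρ x v = v) → v = 0) :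
    ⁅G, R⁆ = ⊥ ∨ ((∃ m : ℕ, r = 2 ^ m + 1) ∧ ¬ IsMulCommutative ↥⁅G, R⁆ ∧ Cfsg.IsSpecial 2 ↥⁅G, R⁆) := by
  obtain ⟨a, rfl, ha⟩ := CfsgLib.HH.exists_zpowers_eq_of_prime_card hr hR
  refine or_iff_not_imp_left.2 fun hne => ?_
  obtain ⟨q, rfl, k⟩ := CfsgLib.Flav.shult (p := p) ρ hr (ha ▸ pow_orderOf_eq_one a) (fun v hv => hfix v fun x hx =>
      (CfsgLib.Flav.zp_le (H := MulAction.stabilizer (V →ₗ[k] V)ˣ v |>.comap ρ.asGroupHom) hv hx :))
    (Subgroup.le_normalizer_of_normal (Subgroup.mem_top a)) hcop (fun x e => hfaith (by rw [e, map_one]))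
    (fun U h1 h2 => hirr U fun x => Submodule.map_le_iff_le_comap.2
      ((sup_le h1 (CfsgLib.Flav.zp_le h2) : G ⊔ Subgroup.zpowers a ≤ CfsgLib.HH.stab ρ U) (hX.ge (Subgroup.mem_top x))))
    hne
  obtain ⟨m, -, hm⟩ := k.pow
  refine ⟨⟨m, by rw [hm]⟩, fun hc => hne ?_, k.special⟩
  rw [← k.comm]
  exact CfsgLib.Flav.comm_bot.2 fun x hx => CfsgLib.Flav.fx_comm (k.le_fx_of_comm le_rfl k.norm
    (fun x hx y hy => congrArg Subtype.val (hc.is_comm.comm ⟨x, hx⟩ ⟨y, hy⟩)) hx)

end Cfsg.Agent.S3041
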