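import Cfsg.Statements.S3043
import Cfsg.Agent.Lib.CCZ.Large
import Cfsg.Agent.Lib.Sz.SelfCent
import Cfsg.Agent.Lib.Fgs.ClassSize
import Cfsg.Agent.S2503
import Cfsg.Agent.Lib.Invol.BaerSuzuki
import Cfsg.Agent.Lib.Dickson.SmallRecog

set_option autoImplicit false
open Cfsg

namespace Cfsg.Agent.S3043


open CfsgLib CfsgLib.CCZ CfsgLib.BG CfsgLib.BSW CfsgLib.Invol CfsgLib.Dickson CfsgLib.Perm.SpecPSL Subgroup
open scoped MatrixGroups

theorem elem {G : Type*} [Group G] [Finite G] {M H : Subgroup G} (hS : SelfCent M) (h0 : M ≠ ⊥) (hH : H ≤ 𝒩(M))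
    (hd : M ⊓ H = ⊥) (hc : Nat.card M ≤ 2 * Nat.card H + 1) : ∃ p, p.Prime ∧ ∀ x ∈ M, x ^ p = 1 := by
  obtain ⟨p, hp, h1⟩ := Nat.exists_prime_and_dvd (mt card_eq_one.1 h0)
  obtain ⟨x, hx, ho⟩ := Cauchy hp h1
  let E : Subgroup G :=
    { carrier := {y | y ∈ M ∧ y ^ p = 1}
      one_mem' := ⟨one_mem _, one_pow _⟩
      mul_mem' := fun {a b} ha hb => ⟨mul_mem ha.1 hb.1, by
        rw [Commute.mul_pow (cents_iff.1 (abelian_iff.1 hS.comm) a ha.1 b hb.1), ha.2, hb.2, mul_one]⟩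
      inv_mem' := fun ha => ⟨inv_mem ha.1, by rw [inv_pow, ha.2, inv_one]⟩ }
  have hE : E ≤ M := fun _ h => h.1
  have h2 : Nat.card H ∣ Nat.card E - 1 := by
    rw [← PF.ncard_sharp]
    exact Frob.card_dvd_ncard_of_free_conj (fun y hy w hw => ⟨⟨conj_mem_of_mem_norm (hH hy) hw.1.1, by
      rw [conj_pow, hw.1.2, mul_one, mul_inv_cancel]⟩, fun e => hw.2 (by simpa using e)⟩) fun y hy w hw e =>
      hd.le ⟨hS w hw.1.1 hw.2 ▸ mem_cent1.2 e.symm, hy⟩
  have h3 : 1 < Nat.card E := (one_lt_card_iff_ne_bot E).2 fun e => hp.one_lt.ne' (by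
    rw [← ho, mem_bot.1 (e.le ⟨hx, ho ▸ pow_orderOf_eq_one x⟩), orderOf_one])
  have h4 := Nat.le_of_dvd (by omega) h2
  obtain ⟨k, hk⟩ := card_dvd_of_le hE
  obtain rfl : k = 1 := by
    rcases k with _ | _ | k
    · have := cardG_pos M; omega
    · rfl
    · nlinarith [Nat.zero_le (Nat.card E * k), show Nat.card H + 1 ≤ Nat.card E by omega]
  exact ⟨p, hp, fun y hy => ((eq_of_le_of_card_ge hE (by omega)).ge hy).2⟩

set_option maxHeartbeats 800000 in
/-- Let M be a nontrivial subgroup of a finite group G meeting each of its other conjugates trivially, with N_G(M) = M · C_{N_G(M)}(z) for some involution z ∈ N_G(M), and with C_G(x) of odd order for every nontrivial x ∈ M. Then one of the following holds: M is normal in G; the number of involutions of G is at most |G : M|; G is isomorphic to PGL₂(F) or to PSL₂(F) for a finite field F with |F| = |M|, M is an elementary abelian p-group for the characteristic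 p of F, and |F| ≡ 1 (mod 4) in the PSL₂ case; G is isomorphic to PSL₂(F) with |F| = 2^e, e > 1, and M is cyclic of order 2^e + 1; or for some d ≥ 1, G has an elementary abelian normal subgroup of order 2^{2d} complemented by N_G(M), and N_G(M) is dihedral of order 2(2^d + 1). -/
theorem result {G : Type*} [Group G] [Finite G] (M : Subgroup G) (hM1 : M ≠ ⊥)
    (hTI : ∀ g : G, M ⊓ M.map (MulAut.conj g).toMonoidHom ≠ ⊥ → M.map (MulAut.conj g).toMonoidHom = M)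
    (z : G) (hz : orderOf z = 2) (hzN : z ∈ Subgroup.normalizer (M : Set G))
    (hfac : M ⊔ (Subgroup.normalizer (M : Set G) ⊓ Subgroup.centralizer ({z} : Set G)) = Subgroup.normalizer (M : Set G))
    (hodd : ∀ x ∈ M, x ≠ 1 → Odd (Nat.card ↥(Subgroup.centralizer ({x} : Set G)))) :
    M.Normal ∨
    Nat.card {g : G // orderOf g = 2} ≤ M.index ∨
    (∃ (F : Type) (_ : Field F) (_ : Fintype F) (p : ℕ) (_ : Fact p.Prime) (_ : CharP F p), Fintype.card F = Nat.card M ∧ Cfsg.IsElementaryAbelian p M ∧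
        (Nonempty (G ≃* (GL (Fin 2) F ⧸ Subgroup.center (GL (Fin 2) F))) ∨
         (Fintype.card F % 4 = 1 ∧ Nonempty (G ≃* Matrix.ProjectiveSpecialLinearGroup (Fin 2) F)))) ∨
    (∃ (F : Type) (_ : Field F) (_ : Fintype F) (e : ℕ), 1 < e ∧ Fintype.card F = 2 ^ e ∧ IsCyclic ↥M ∧ Nat.card M = 2 ^ e + 1 ∧
        Nonempty (G ≃* Matrix.ProjectiveSpecialLinearGroup (Fin 2) F)) ∨
    (∃ (d : ℕ) (E : Subgroup G), 1 ≤ d ∧ E.Normal ∧ Cfsg.IsElementaryAbelian 2 E ∧ Nat.card E = 2 ^ (2 * d) ∧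
        E ⊓ Subgroup.normalizer (M : Set G) = ⊥ ∧ E ⊔ Subgroup.normalizer (M : Set G) = ⊤ ∧
        Nonempty (↥(Subgroup.normalizer (M : Set G)) ≃* DihedralGroup (2 ^ d + 1))) := by
  have h : Lg M z := ⟨fun x hx h1 g hg => inv_mem_iff.1 (mem_norm_iff.2 (hTI g⁻¹ fun e =>
    h1 (e.le ⟨hx, mem_cj_inv.2 hg⟩))), hz, hzN, hfac, hodd⟩
  refine or_iff_not_imp_left.2 fun hn => or_iff_not_imp_left.2 fun hI => ?_
  have hA := h.all hM1 (not_le.1 hI)
  obtain ⟨g, hg⟩ : ∃ g, g ∉ 𝒩(M) := not_forall.1 fun e => hn (normalizer_eq_top_iff.1 (eq_top_iff.2 fun g _ => e g))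
  obtain ⟨g, hg, hgn, -⟩ := h.exists_out hA (one_mem _) (mem_cent1.2 (by simp)) hg
  have hS := h.selfCent hA hM1 hg hgn
  have hS' : Sz.SelfCent M := ⟨hM1, hS⟩
  have e1 := h.card_inv hM1
  have e2 := h.card_eq hA
  have e3 := TI_cardMg (.inr inf_le_left) h.inf_eq
  have e4 : ((𝒞[z] : Set G) \ 𝒩(M)).ncard + Nat.card ↥(𝒩(M) ⊓ 𝒞[z]) = Nat.card 𝒞[z] := by
    rw [add_comm, inf_comm]
    exact Set.ncard_inter_add_ncard_sdiff_eq_ncard _ _
  have e5 := card_mul_index 𝒞[z]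
  have s1 : {y | IsConj z y} ⊆ {y : G | orderOf y = 2} := fun y hy => (orderOf_eq_of_isConj hy).symm.trans hz
  have e6 : 𝒞[z].index ≤ Nat.card {g : G // orderOf g = 2} := Fgs.ncard_isConj_eq_index z ▸ Set.ncard_le_ncard s1
  have e7 := hS.card_dvd inf_le_left h.inf_eq
  have e8 : 2 ∣ Nat.card ↥(𝒩(M) ⊓ 𝒞[z]) := hz ▸ order_dvdG ⟨hzN, cent1id z⟩
  have e9 : 1 < Nat.card M := (one_lt_card_iff_ne_bot M).2 hM1
  have e0 : Odd (Nat.card M) := by
    obtain ⟨x, hx, h1⟩ := exists_ne_one_of_ne_bot hM1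
    exact hS x hx h1 ▸ hodd x hx h1
  rw [hfac] at e3
  rw [h.card_Io hA] at e1 e2
  rw [e3, ← e5, ← e4] at e2
  have hH := cardG_pos (𝒩(M) ⊓ 𝒞[z])
  by_cases hc : ∀ k ∈ 𝒞[z], k ∉ 𝒩(M) → g * k ∈ 𝒩(M)
  · have f1 : ((𝒞[z] : Set G) \ 𝒩(M)).ncard = Nat.card ↥(𝒩(M) ⊓ 𝒞[z]) :=
      Set.ncard_congr (fun k _ => g * k) (fun k hk => ⟨hc k hk.1 hk.2, mul_mem hg hk.1⟩)
        (fun _ _ _ _ => mul_left_cancel) fun k hk => ⟨g⁻¹ * k, ⟨mul_mem (inv_mem hg) hk.2,
          mt (fun e => inv_mem_iff.1 ((Subgroup.mul_mem_cancel_right _ hk.1).1 e)) hgn⟩, by simp⟩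
    rw [f1] at e1 e2 e4
    have f2 : Nat.card M ≤ 2 * Nat.card ↥(𝒩(M) ⊓ 𝒞[z]) + 1 := by
      rw [e1] at e6
      have := Nat.mul_le_mul_left (Nat.card ↥(𝒩(M) ⊓ 𝒞[z]) + Nat.card ↥(𝒩(M) ⊓ 𝒞[z])) e6
      rw [e2] at this
      exact Nat.le_of_mul_le_mul_left (c := Nat.card ↥(𝒩(M) ⊓ 𝒞[z]) * Nat.card M) (by linarith) (by positivity)
    obtain ⟨p, hp, he⟩ := elem hS hM1 inf_le_left h.inf_eq f2
    have := Fact.mk hp
    obtain ⟨n, hn⟩ := IsPGroup.iff_card.1 (show IsPGroup p M from fun x => ⟨1, Subtype.ext (by simpa using he x x.2)⟩)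
    have := Fintype.ofFinite (GaloisField p n)
    have hF : Fintype.card (GaloisField p n) = Nat.card M := by
      rw [← Nat.card_eq_fintype_card, GaloisField.card p n (by rintro rfl; simp [hn] at e9), hn]
    refine .inl ⟨GaloisField p n, _, _, p, ‹_›, inferInstance, hF, ⟨h.comm, he⟩, ?_⟩
    obtain ⟨k, hk⟩ := e7
    rw [← e4, e2] at e5
    obtain ⟨m, hm⟩ : ∃ m, Nat.card M = m + 1 := ⟨Nat.card M - 1, by omega⟩
    have f3 : (m + 1) ^ 2 - 1 = m * (m + 2) := Nat.sub_eq_of_eq_add (by ring)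
    rw [hm, Nat.add_sub_cancel] at hk
    rcases k with _ | _ | _ | k
    · omega
    · refine .inl (pgl hS hF.symm (by rw [hF, ← e5, hm, f3, hk]; ring) (.inr (le_of_eq ?_)))
      rw [hF, ← Nat.card_coe_set_eq]
      exact (e1.trans (by rw [hm, hk]; ring)).symm
    · exact .inr ⟨by omega, psl hS hF.symm (by omega) (by rw [hF, ← e5, hm, f3, hk]; ring)⟩
    · nlinarith [Nat.zero_le (Nat.card ↥(𝒩(M) ⊓ 𝒞[z]) * k)]
  push Not at hc
  obtain ⟨k, hk, hkn, hgk⟩ := hc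
  have f0 : ∀ x ∈ 𝒩(M) ⊓ 𝒞[z], x * x = 1 := fun x hx => by
    have := h.inverts hA (mul_mem hg hk) hgk hx
    rwa [show g * k * x * (g * k)⁻¹ = g * (k * x * k⁻¹) * g⁻¹ by group, h.inverts hA hk hkn hx,
      h.inverts hA hg hgn (inv_mem hx), inv_inv, ← mul_eq_one_iff_eq_inv] at this
  have f1 : ∀ x ∈ 𝒞[z], x * x = 1 := fun x hx => by
    by_cases e : x ∈ 𝒩(M)
    exacts [f0 x ⟨e, hx⟩, mul_self_of_orderOf_two (h.invol hA hx e)]
  have f2 : Nat.card ↥(𝒩(M) ⊓ 𝒞[z]) = 2 := by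
    rw [← hz, ← Nat.card_zpowers]
    refine congrArg (fun K : Subgroup G => Nat.card K) (le_antisymm (fun x hx => (mem_zpowers_two hz).2 ?_)
      (zpowers_le.2 ⟨hzN, cent1id z⟩))
    refine or_iff_not_imp_left.2 fun h1 => ?_
    have := h.eq_one hz (h.mul_mem hM1 (orderOf_eq_two h1 (f0 x hx)) hx.1) (by rw [← mul_assoc, mem_cent1.1 hx.2])
    rw [eq_inv_of_mul_eq_one_left this, inv_of_orderOf_two hz]
  obtain ⟨e, he⟩ := IsPGroup.iff_card.1 (show IsPGroup 2 𝒞[z] from fun x => ⟨1, Subtype.ext (by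
    simpa [sq] using f1 x x.2)⟩)
  have f3 : 0 < ((𝒞[z] : Set G) \ 𝒩(M)).ncard := (Set.ncard_pos).2 ⟨g, hg, hgn⟩
  rw [f2] at e2 e4
  obtain ⟨d, rfl⟩ : ∃ d, e = d + 2 := ⟨e - 2, by rcases e with _ | _ | e <;> omega⟩
  obtain ⟨f, hf⟩ : ∃ f, 2 ^ (d + 1) = f + 1 := ⟨2 ^ (d + 1) - 1, by have := Nat.one_le_two_pow (n := d + 1); omega⟩
  have f4 : 0 < f := by have := Nat.one_le_two_pow (n := d); omega
  rw [pow_succ, hf] at he
  rw [show ((𝒞[z] : Set G) \ 𝒩(M)).ncard = 2 * f by omega] at e1 e2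
  obtain ⟨m, hm⟩ : ∃ m, Nat.card M = m + 1 := ⟨Nat.card M - 1, by omega⟩
  have f5 : (f + 1) * 𝒞[z].index = (m + 1) * (f * (m + 1) + 1) := by rw [hm] at e2; linarith
  obtain ⟨j, hj⟩ : f + 1 ∣ m := by
    have := Nat.Coprime.dvd_of_dvd_mul_left (hf ▸ hm ▸ (Nat.coprime_two_left.2 e0).pow_left _) (Dvd.intro _ f5)
    exact (Nat.dvd_add_right this).1 (Dvd.intro (m + 1) (by ring))
  rw [he] at e5
  have f6 : 𝒞[z].index = (m + 1) * (f * j + 1) :=
    Nat.eq_of_mul_eq_mul_left (show 0 < f + 1 by omega) (f5.trans (by rw [hj]; ring))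
  rw [hm] at e1
  rcases j with _ | _ | _ | j
  · omega
  · have g0 : Nat.card G = 2 ^ (2 * d + 3) * Nat.card M := by
      rw [← e5, f6, hm, zero_add, mul_one, ← hf]; ring
    have g1 : ({y : G | orderOf y = 2} \ {y | IsConj z y}).ncard + 1 = (f + 1) ^ 2 := by
      rw [Set.ncard_sdiff s1, Fgs.ncard_isConj_eq_index, ← Nat.card_coe_set_eq]
      erw [e1]
      rw [f6, hj, Nat.sub_eq_of_eq_add (c := f * (f + 2)) (by ring)]
      ring
    have g2 : insert 1 ({y : G | orderOf y = 2} \ {y | IsConj z y}) ⊆ pCore 2 G := by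
      rintro t (rfl | ht)
      · exact one_mem _
      by_contra h1
      obtain ⟨-, y, -, h2, h3, h4⟩ := exists_inverted_of_not_mem_pCore (mul_self_of_orderOf_two ht.1) h1
      obtain ⟨a, ha⟩ := hS'.exists_conj_mem (x := y) fun e => h2 (orderOf_eq_one_iff.1 (e.eq_one_of_dvd
        (((Nat.coprime_two_right.2 h3).pow_right (2 * d + 3)).dvd_of_dvd_mul_left (g0 ▸ orderOf_dvd_natCard y))))
      obtain ⟨b, -, e⟩ := h.exists_conj hM1 (u := a * t * a⁻¹) ((BG.orderOf_conj ..).trans ht.1)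
        (h.ti _ ha (by simpa using h2) _ (by
          rw [show a * t * a⁻¹ * (a * y * a⁻¹) * (a * t * a⁻¹)⁻¹ = (a * (t * y * t⁻¹)⁻¹ * a⁻¹)⁻¹ by group, h4, inv_inv]
          exact inv_mem ha))
      exact ht.2 ((isConj_iff.2 ⟨a, rfl⟩).trans (isConj_iff.2 ⟨b, e⟩)).symm
    have := pCore_normal 2 G
    have g3 := Core.isPGroup_pCore 2 G
    have g4 : pCore 2 G ⊓ 𝒩(M) = ⊥ := card_eq_one.1 <| (g3.to_le inf_le_left).card_eq_or_dvd.resolve_right fun e => by
      obtain ⟨u, hu, ho⟩ := Cauchy Nat.prime_two e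
      obtain ⟨y, hy, h1⟩ := exists_ne_one_of_ne_bot hM1
      have k1 := mul_mem (this.conj_mem u hu.1 y) (inv_mem hu.1)
      rw [show y * u * y⁻¹ * u⁻¹ = y * (u * y * u⁻¹)⁻¹ by group, h.inv ho hu.2 hy, inv_inv, ← sq] at k1
      obtain ⟨i, hi⟩ := g3 ⟨_, k1⟩
      exact h1 (orderOf_eq_one_iff.1 (((Nat.coprime_two_right.2 (h.odd_ord hy)).pow_right (i + 1)).eq_one_of_dvd
        (orderOf_dvd_of_pow_eq_one (by simpa [pow_succ', pow_mul] using congrArg Subtype.val hi))))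
    have g5 := TI_cardMg (.inr le_normalizer_of_normal) g4
    have g6 := card_le_card_group (pCore 2 G ⊔ 𝒩(M))
    have g7 := Set.ncard_insert_of_notMem (s := {y : G | orderOf y = 2} \ {y | IsConj z y}) (a := 1) (by simp)
    have g8 := Set.ncard_le_ncard g2
    have g9 : Nat.card (pCore 2 G) = (f + 1) ^ 2 := le_antisymm (Nat.le_of_mul_le_mul_right (c := (m + 1) * 2) (by
      rw [g5, e3, f2, hm, ← e5, f6, hj] at g6; rw [hj]; exact g6.trans_eq (by ring)) (by omega)) (g1 ▸ g7 ▸ g8)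
    have k1 : ∀ x ∈ pCore 2 G, x * x = 1 := fun x hx => by
      rcases (Set.eq_of_subset_of_ncard_le g2 (g9.trans (g7.trans g1).symm).le).ge hx with rfl | e
      exacts [mul_one _, mul_self_of_orderOf_two e.1]
    have k2 : IsCyclic M := by
      by_contra k
      have := h.comm
      obtain ⟨a, ha, h1, e⟩ := Coprime.exists_centralizer_ne_bot (K := pCore 2 G) k le_normalizer_of_normal
        (by rw [g9, ← hf, ← pow_mul]; exact (Nat.coprime_two_right.2 e0).pow_right _) (by rw [Ne, ← card_eq_one, g9]; nlinarith)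
      exact e (eq_bot_iff.2 (g4 ▸ inf_le_inf_left _ (hS a ha h1 ▸ le_normalizer)))
    obtain ⟨r, hr⟩ := k2.exists_ofOrder_eq_natCard
    refine .inr (.inr ⟨d + 1, _, by omega, this, ⟨comm_of_sq k1, fun x hx => sq x ▸ k1 x hx⟩, by rw [g9, ← hf]; ring, g4,
      eq_top_of_card_eq _ (by rw [g5, g9, ← e5, f6, e3, f2, hm, hj]; ring),
      nonempty_equiv_dihedral ⟨r, le_normalizer r.2⟩ ⟨z, hzN⟩ ?_ (Subtype.ext (mul_self_of_orderOf_two hz))
        (Subtype.ext (h.inv hz hzN r.2)) (fun e => ?_) (by rw [e3, f2, hm, hf]; omega)⟩)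
    · rw [orderOf_mk, orderOf_coe, hr, hm, hf]; omega
    · obtain ⟨i, hi⟩ := e
      have k : (r : G) ^ i = z := congrArg Subtype.val hi
      exact (h.odd_ord (k ▸ zpow_mem r.2 i)).not_two_dvd_nat hz.symm.dvd
  · have g1 := Set.eq_of_subset_of_ncard_le s1 (by
      rw [Fgs.ncard_isConj_eq_index, ← Nat.card_coe_set_eq]; erw [e1]; rw [f6]; exact le_of_eq (by ring))
    have := Fintype.ofFinite (GaloisField 2 (d + 2))
    have hF : Fintype.card (GaloisField 2 (d + 2)) = 2 ^ (d + 2) := by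
      rw [← Nat.card_eq_fintype_card, GaloisField.card 2 _ (by omega)]
    have hF' := hF.trans (by rw [pow_succ, hf] : _ = (f + 1) * 2)
    obtain ⟨φ⟩ := pgl (selfCent_of_card_dvd (comm_of_sq f1) fun y hy h1 => (Char.card_centralizer_eq_of_isConj
      (g1.ge (orderOf_eq_two h1 (f1 y hy)))).symm.dvd) (he.trans hF'.symm) (by
        rw [← e5, f6, hF', hj, Nat.sub_eq_of_eq_add (c := (2 * f + 3) * (2 * f + 1)) (by ring)]; ring)
      (.inl (hF' ▸ even_two.mul_left _))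
    have hi := index_psl_even (F := GaloisField 2 (d + 2)) (by rw [Nat.card_eq_fintype_card, hF']; exact even_two.mul_left _)
    rw [Subgroup.index_eq_one, MonoidHom.range_eq_top] at hi
    let ψ := φ.trans (MulEquiv.ofBijective (pslPGL _) ⟨pslPGL_injective, hi⟩).symm
    obtain ⟨A, -, k1, k2, -⟩ := S2503.result (F := GaloisField 2 (d + 2)) (by omega) (by omega)
    obtain ⟨r, hr⟩ := k1.exists_ofOrder_eq_natCard
    have k3 : orderOf (ψ.symm r) = Nat.card M := by rw [MulEquiv.orderOf_eq, orderOf_coe, hr, k2, hm]; omega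
    obtain ⟨a, ha⟩ := hS'.exists_conj_mem (x := ψ.symm r) (by rw [k3, Nat.coprime_self]; omega)
    exact .inr (.inl ⟨_, _, this, d + 2, by omega, hF, isCyclic_of_orderOf_eq_card (⟨_, ha⟩ : M) (by
      rw [orderOf_mk, BG.orderOf_conj, k3]), by omega, ⟨ψ⟩⟩)
  · rw [e1, f6] at e6
    have := Nat.le_of_mul_le_mul_left (e6.trans_eq (show _ = (m + 1) * (2 * f + 1) by ring)) m.succ_pos
    nlinarith [Nat.zero_le (f * j)]

end Cfsg.Agent.S3043
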