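import Cfsg.Statements.S3066
import Cfsg.Agent.Lib.OutSolv.Basic
import Cfsg.Agent.Lib.KRow.OutCl
import Cfsg.Agent.Lib.KRow.OutExc
import Cfsg.Agent.Lib.ReeRec.Walter
import Cfsg.Agent.Lib.BenderRed.Final
import Cfsg.Agent.Lib.Fgs.AutBound
import Cfsg.Agent.Lib.Core.Frattini
import Cfsg.Agent.Lib.Char.Burnside
import Cfsg.Agent.Lib.FT.OddOrder
import Cfsg.Agent.S1169
import Cfsg.Agent.S2065

set_option autoImplicit false
open Cfsg

namespace Cfsg.Agent.S3066

open Subgroup CfsgLib CfsgLib.OutSolv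

theorem card_aut {P : Type*} [Group P] [Finite P] (hP : IsPGroup 2 P) (T : Finset P) (hT : closure (T : Set P) = ⊤)
    (h3 : T.card ≤ 3) : ∃ k, Nat.card (MulAut P) ∣ 2 ^ k * 21 ∧ (T.card ≤ 2 → Nat.card (MulAut P) ∣ 2 ^ k * 3 ^ 1) := by
  obtain ⟨n, hn⟩ := IsPGroup.iff_card.1 hP
  obtain ⟨r, -, hr⟩ := (Nat.dvd_prime_pow Nat.prime_two).1 (hn ▸ (frattini P).index_dvd_card)
  have h1 := Core.burnside_basis_le hP hr T hT
  have h2 := Fgs.card_mulAut_dvd hn hr
  refine ⟨r * (n - r) + 3, h2.trans ?_, fun h => h2.trans ?_⟩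
  · rw [pow_add, mul_assoc]
    refine mul_dvd_mul_left _ ?_
    have : r ≤ 3 := h1.trans h3
    interval_cases r <;> decide
  · rw [pow_add, mul_assoc]
    refine mul_dvd_mul_left _ ?_
    have : r ≤ 2 := h1.trans h
    interval_cases r <;> decide

theorem solv_b {G : Type*} [Group G] [Finite G] (S : Sylow 2 G) {k : ℕ}
    (hk : Nat.card (MulAut (S : Subgroup G)) ∣ 2 ^ k * 21) {g : G} (hg : g ∈ normalizer ((S : Subgroup G) : Set G))
    (ho : Odd (orderOf g)) (hc : g ∉ centralizer ((S : Subgroup G) : Set G)) :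
    Group.IsSolvable (res (S : Subgroup G)).range := by
  let N := normalizer ((S : Subgroup G) : Set G)
  let ν : N →* stab (S : Subgroup G) :=
    { toFun := fun x => ⟨MulAut.conj x.1, conj_mem_stab x.2⟩
      map_one' := Subtype.ext (map_one _)
      map_mul' := fun a b => Subtype.ext (map_mul _ _ _) }
  let ρ := (res (S : Subgroup G)).rangeRestrict.comp ν
  have hN : Group.IsSolvable N := by
    have : Group.IsNilpotent ((S : Subgroup G).subgroupOf N) := (S.isPGroup'.comap_subtype (K := N)).isNilpotent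
    have h2 : Group.IsSolvable (N ⧸ (S : Subgroup G).subgroupOf N) := by
      refine FT.odd_order_solvable (Nat.not_even_iff_odd.1 fun h => S.not_dvd_index ?_)
      exact (even_iff_two_dvd.1 h).trans (relIndex_dvd_index_of_le le_normalizer)
    exact Group.isSolvable_of_ker_le_range ((S : Subgroup G).subgroupOf N).subtype
      (QuotientGroup.mk' ((S : Subgroup G).subgroupOf N)) (by simp)
  have hB : Group.IsSolvable ρ.range := Group.isSolvable_of_surjective ρ.rangeRestrict_surjective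
  have hn : ρ.range.Normal := ⟨by
    rintro _ ⟨x, rfl⟩ ⟨_, φ, rfl⟩
    have hx : φ.1 x ∈ N := by
      refine mem_normalizer_iff.2 fun y => ?_
      have h1 := ((stab (S : Subgroup G)).inv_mem φ.2 y).trans (mem_normalizer_iff.1 x.2 _)
      rw [h1, φ.2]
      simp
    refine ⟨⟨_, hx⟩, Subtype.ext (MulEquiv.ext fun y => Subtype.ext ?_)⟩
    change φ.1 x * y * (φ.1 x)⁻¹ = φ.1 (x * (φ.1⁻¹ y) * x⁻¹)
    simp⟩
  have h1 : ρ ⟨g, hg⟩ ≠ 1 := fun h => hc (mem_centralizer_iff.2 fun y hy => by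
    have := congrArg (fun a : (res (S : Subgroup G)).range => (a.1 ⟨y, hy⟩ : G)) h
    change g * y * g⁻¹ = y at this
    rw [mul_inv_eq_iff_eq_mul] at this
    exact this.symm)
  have h2 : Odd (orderOf (ρ ⟨g, hg⟩)) :=
    Odd.of_dvd_nat (by rwa [← orderOf_mk g hg] at ho) (orderOf_map_dvd ρ _)
  obtain ⟨r, hr, hr1⟩ := Nat.exists_prime_and_dvd (mt orderOf_eq_one_iff.1 h1)
  have h3 : r ∣ Nat.card ρ.range := hr1.trans (orderOf_dvd_natCard _ ⟨_, rfl⟩)
  have h4 : Nat.card (_ ⧸ ρ.range) * r ∣ 2 ^ k * 21 :=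
    ((mul_dvd_mul_left _ h3).trans (card_eq_card_quotient_mul_card_subgroup _).symm.dvd).trans
      ((card_subgroup_dvd_card _).trans hk)
  have h5 : r ∣ 21 := by
    refine (Nat.Coprime.pow_right k ?_).dvd_of_dvd_mul_left ((dvd_mul_left _ _).trans h4)
    exact Nat.coprime_two_right.2 (h2.of_dvd_nat hr1)
  have h6 : Group.IsSolvable (_ ⧸ ρ.range) := by
    rcases (Nat.Prime.dvd_mul hr (m := 3) (n := 7)).1 h5 with h | h
    · obtain rfl := (Nat.prime_dvd_prime_iff_eq hr (by norm_num)).1 h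
      refine Char.isSolvable_of_card_dvd_pow_mul_pow (a := k) (b := 1) Nat.prime_two (by norm_num : Nat.Prime 7)
        (Nat.dvd_of_mul_dvd_mul_right (by norm_num : 0 < 3) (by convert h4 using 1; ring))
    · obtain rfl := (Nat.prime_dvd_prime_iff_eq hr (by norm_num)).1 h
      refine Char.isSolvable_of_card_dvd_pow_mul_pow (a := k) (b := 1) Nat.prime_two Nat.prime_three
        (Nat.dvd_of_mul_dvd_mul_right (by norm_num : 0 < 7) (by convert h4 using 1; ring))
  exact Group.isSolvable_of_ker_le_range ρ.range.subtype (QuotientGroup.mk' ρ.range) (by simp)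

/-- Let G be a finite non-abelian simple group with a nontrivial Sylow 2-subgroup S (that is, G has even order). Then Out(G) = Aut(G)/Inn(G) is solvable provided one of the following holds: (a) S is generated by two elements; (b) S is generated by three elements and N_G(S)/C_G(S) is not a 2-group (some element of N_G(S) of odd order does not centralize S); (c) the involutions of S commute pairwise and are all conjugate in G. -/
theorem result {G : Type*} [Group G] [Finite G] [IsSimpleGroup G]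
    (hG : ¬ IsMulCommutative G) (S : Sylow 2 G) (hS1 : (S : Subgroup G) ≠ ⊥)
    (h : (∃ a b : ↥S, Subgroup.closure ({a, b} : Set ↥S) = ⊤) ∨
      ((∃ a b c : ↥S, Subgroup.closure ({a, b, c} : Set ↥S) = ⊤) ∧
        ∃ g ∈ Subgroup.normalizer ((S : Subgroup G) : Set G), Odd (orderOf g) ∧ g ∉ Subgroup.centralizer ((S : Subgroup G) : Set G)) ∨
      ((∀ s ∈ S, ∀ t ∈ S, orderOf s = 2 → orderOf t = 2 → s * t = t * s) ∧
        (∀ s ∈ S, ∀ t ∈ S, orderOf s = 2 → orderOf t = 2 → ∃ g : G, g * s * g⁻¹ = t))) :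
    Group.IsSolvable (Cfsg.Out G) := by
  classical
  have hO := odd_normal_eq_bot S hS1
  rcases h with ⟨a, b, h⟩ | ⟨⟨a, b, c, h⟩, g, hg, ho, hc⟩ | ⟨h, -⟩
  · obtain ⟨k, -, hk⟩ := card_aut S.isPGroup' {a, b} (by simpa using h) (Finset.card_le_two.trans (by norm_num))
    have := Char.isSolvable_of_card_dvd_pow_mul_pow Nat.prime_two Nat.prime_three (hk Finset.card_le_two)
    exact out_solvable_of_range hO S inferInstance
  · obtain ⟨k, hk, -⟩ := card_aut S.isPGroup' {a, b, c} (by simpa using h) Finset.card_le_three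
    exact out_solvable_of_range hO S (solv_b S hk hg ho hc)
  have hc : ∀ s ∈ (S : Subgroup G), ∀ t ∈ (S : Subgroup G), s * s = 1 → t * t = 1 → s * t = t * s := by
    intro s hs t ht h1 h2
    by_cases e1 : s = 1
    · simp [e1]
    by_cases e2 : t = 1
    · simp [e2]
    exact h s hs t ht (orderOf_eq_prime (by rwa [sq]) e1) (orderOf_eq_prime (by rwa [sq]) e2)
  let A : Subgroup G :=
    { carrier := {x | x ∈ (S : Subgroup G) ∧ x * x = 1}
      one_mem' := ⟨one_mem _, mul_one _⟩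
      mul_mem' := fun {a b} ha hb => ⟨(S : Subgroup G).mul_mem ha.1 hb.1, by
        rw [mul_assoc, ← mul_assoc b, ← hc a ha.1 b hb.1 ha.2 hb.2, mul_assoc, hb.2, mul_one, ha.2]⟩
      inv_mem' := fun {a} ha => ⟨(S : Subgroup G).inv_mem ha.1, by rw [← mul_inv_rev, ha.2, inv_one]⟩ }
  have hA : A ≠ ⊥ := by
    obtain ⟨n, hn⟩ := IsPGroup.iff_card.1 S.isPGroup'
    have h2 : 2 ∣ Nat.card (S : Subgroup G) := by
      rw [hn]
      exact dvd_pow_self _ fun e => hS1 (card_eq_one.1 (by rw [hn, e, pow_zero]))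
    obtain ⟨x, hx⟩ := exists_prime_orderOf_dvd_card' 2 h2
    intro e
    have h3 : (x : G) ∈ A := ⟨x.2, by simpa [hx, sq] using pow_orderOf_eq_one (x : G)⟩
    rw [e, mem_bot] at h3
    simp [← orderOf_coe, h3] at hx
  rcases S1169.result S A hA ⟨⟨fun a b => Subtype.ext (hc _ a.2.1 _ b.2.1 a.2.2 b.2.2)⟩⟩
    ⟨fun x hx => hx.1, fun x hx g hg => ⟨hg, by
      rw [mul_assoc, mul_assoc, mul_assoc, inv_mul_cancel_left, ← mul_assoc x, hx.2, one_mul, mul_inv_cancel]⟩⟩
    with hab | ⟨H, hH⟩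
  · have hab' : Abel2.Ab2 G := fun T =>
      ⟨⟨fun a b => (S.equiv T).symm.injective (by rw [map_mul, map_mul, hab.1.1])⟩⟩
    rcases ReeRec.walter hG hab' with ⟨a, ha, F, _, _, hF, e⟩ | ⟨F, _, _, hF, -, e⟩ | h1 | ⟨⟨e⟩⟩
    · refine (KRow.od_psl ⟨F, inferInstance, inferInstance, 2, le_rfl, fun _ => ?_, e⟩).solvable
      rw [hF]
      exact Nat.pow_le_pow_right two_pos ha
    · exact (KRow.od_psl ⟨F, inferInstance, inferInstance, 2, le_rfl, fun _ => by omega, e⟩).solvable
    · exact (KRow.od_exc (n := 0) (by unfold IsExceptionalLieType; tauto)).solvable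
    · exact (KRow.od_of_card (n := 0) (by rw [MultC.card_out_congr e, S2065.result]; norm_num)).solvable
  · rcases BenderRed.benderSimple G hG H hH with ⟨F, _, _, -, hF, e⟩ | h1 | ⟨F, _, _, q, -, hq, hF, e⟩
    · exact (KRow.od_psl ⟨F, inferInstance, inferInstance, 2, le_rfl, fun _ => hF, e⟩).solvable
    · exact (KRow.od_exc (n := 0) (by unfold IsExceptionalLieType; tauto)).solvable
    · exact (KRow.od_psu ⟨F, inferInstance, inferInstance, 3, q, hF, le_rfl, by omega, e⟩).solvable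

end Cfsg.Agent.S3066
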