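import Cfsg.Statements.S3077
import Cfsg.Agent.Lib.Rec3C.Fin

set_option autoImplicit false
open Cfsg

namespace Cfsg.Agent.S3077

/-- Let G be a finite group and Z a subgroup of order 3 whose centralizer X has Q = F*(X) extraspecial of order 3⁵ with Z(Q) = Z(X), and X/Q possessing a normal subgroup isomorphic to Q₈ × Q₈. If some conjugate of Z other than Z lies in Q, then G is isomorphic to the Chevalley group F₄(2) or to its automorphism group. -/
theorem result {G : Type*} [Group G] [Finite G] (Z : Subgroup G) (hZ3 : Nat.card ↥Z = 3)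
    (hQ : Cfsg.IsExtraspecial 3 ↥(Cfsg.generalizedFittingSubgroup ↥(Subgroup.centralizer (Z : Set G)))) (hQord : Nat.card ↥(Cfsg.generalizedFittingSubgroup ↥(Subgroup.centralizer (Z : Set G))) = 3 ^ 5)
    (hZQ : Subgroup.center ↥(Cfsg.generalizedFittingSubgroup ↥(Subgroup.centralizer (Z : Set G))) = (Subgroup.center ↥(Subgroup.centralizer (Z : Set G))).subgroupOf (Cfsg.generalizedFittingSubgroup ↥(Subgroup.centralizer (Z : Set G))))
    (hN : ∃ _ : (Cfsg.generalizedFittingSubgroup ↥(Subgroup.centralizer (Z : Set G))).Normal, ∃ N : Subgroup (↥(Subgroup.centralizer (Z : Set G)) ⧸ Cfsg.generalizedFittingSubgroup ↥(Subgroup.centralizer (Z : Set G))),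
      N.Normal ∧ Nonempty (↥N ≃* QuaternionGroup 2 × QuaternionGroup 2))
    (hnwc : ∃ g : G, Z.map (MulAut.conj g).toMonoidHom ≠ Z ∧
      Z.map (MulAut.conj g).toMonoidHom ≤ (Cfsg.generalizedFittingSubgroup ↥(Subgroup.centralizer (Z : Set G))).map (Subgroup.centralizer (Z : Set G)).subtype)
    {F : Type*} [Field F] [Fintype F] (hF : Fintype.card F = 2) :
    Nonempty (G ≃* ↥(Cfsg.Lie.chevF4.group F)) ∨ Nonempty (G ≃* MulAut ↥(Cfsg.Lie.chevF4.group F)) := by
  open Subgroup CfsgLib.Rec3C in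
  obtain ⟨g, h1, h2⟩ := hnwc
  obtain ⟨φ, hi, hn, h3, hc⟩ := f4_core hF Z hZ3 _ rfl hQ hQord hN fun k => h1 (k.2 g h2)
  have e := MonoidHom.ofInjective hi
  rcases h3 with h3 | h3
  · exact Or.inl ⟨(topEquiv.symm.trans (MulEquiv.subgroupCongr h3.symm)).trans e.symm⟩
  · let f : G →* MulAut (Cfsg.Lie.chevF4.group F) :=
      (MulAut.congr e.symm).toMonoidHom.comp (MulAut.conjNormal (H := φ.range))
    have hf : Function.Injective f := (MulAut.congr e.symm).injective.comp (by
      rw [← MonoidHom.ker_eq_bot_iff, eq_bot_iff, ← hc]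
      intro x hx y hy
      have := congrArg Subtype.val (DFunLike.congr_fun (MonoidHom.mem_ker.1 hx) ⟨y, hy⟩)
      exact (mul_inv_eq_iff_eq_mul.1 this).symm)
    have := Finite.of_injective φ hi
    refine Or.inr ⟨MulEquiv.ofBijective f (hf.bijective_of_nat_card_le ?_)⟩
    rw [f4_card_aut hF, ← φ.range.index_mul_card, h3, Nat.card_congr e.toEquiv]

end Cfsg.Agent.S3077
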