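import Cfsg.Statements.S3090
import Cfsg.Agent.Lib.CGT2.PAt

set_option autoImplicit false
open Cfsg

namespace Cfsg.Agent.S3090

open Subgroup CfsgLib.LAE CfsgLib.CGT2

/-- Let G be a finite group of characteristic 2 type, H a subgroup, K = O²(H) (the subgroup generated by the elements of H of odd order), M = N_G(K), and T a Sylow 2-subgroup of H. Assume: K/O₂(K) (that is, O²(H/O₂(H))) is cyclic of order 3 or isomorphic to L₂(2ⁿ) = SL(2, 2ⁿ) for some n ≥ 1; O₂(H) is a Sylow 2-subgroup of the centralizer in M of K/O₂(K) (every 2-subgroup of M containing O₂(H) and acting trivially on K/O₂(K) equals O₂(H)); and M is the unique maximal 2-local subgroup of G containing H. Then N_G(T) ≤ M, or G has sectional 2-rank at most 4. -/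
theorem result
    {G : Type*} [Group G] [Finite G] (hG : Cfsg.IsCharacteristicTwoType G)
    (H : Subgroup G) (T : Sylow 2 ↥H)
    (hstar : Nonempty (↥(Cfsg.oddGenerated H) ⧸ Cfsg.pCore 2 ↥(Cfsg.oddGenerated H) ≃* Multiplicative (ZMod 3)) ∨
      ∃ n : ℕ, 1 ≤ n ∧ Nonempty (↥(Cfsg.oddGenerated H) ⧸ Cfsg.pCore 2 ↥(Cfsg.oddGenerated H) ≃* Matrix.SpecialLinearGroup (Fin 2) (GaloisField 2 n)))
    (hsyl : ∀ S : Subgroup G, IsPGroup 2 ↥S → (Cfsg.pCore 2 ↥H).map H.subtype ≤ S →
      S ≤ Subgroup.normalizer (Cfsg.oddGenerated H : Set G) →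
      (∀ s ∈ S, ∀ k ∈ Cfsg.oddGenerated H, s * k * s⁻¹ * k⁻¹ ∈ (Cfsg.pCore 2 ↥(Cfsg.oddGenerated H)).map (Cfsg.oddGenerated H).subtype) →
      S = (Cfsg.pCore 2 ↥H).map H.subtype)
    (huniq : Cfsg.maxTwoLocalsContaining H = {Subgroup.normalizer (Cfsg.oddGenerated H : Set G)}) :
    Subgroup.normalizer (((T : Subgroup ↥H).map H.subtype : Subgroup G) : Set G) ≤ Subgroup.normalizer (Cfsg.oddGenerated H : Set G) ∨
      Cfsg.SectionalPRankLE 2 4 G := by
  have eK : pResOf 2 H = oddGenerated H := by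
    rw [pResOf_eq_closure, oddGenerated]
    simp only [Nat.coprime_two_right]
  have loc : Loc G := fun X h1 h2 => isCharP_iff.2 (hG.2 X h1 h2)
  have hM : normalizer (oddGenerated H : Set G) ∈ maxTwoLocalsContaining H := huniq ▸ rfl
  obtain ⟨⟨⟨X, x1, x2, x3⟩, -⟩, hH⟩ := hM
  have cM : IsCharP 2 (normalizer (oddGenerated H : Set G)) := x3 ▸ loc X x1 x2
  have hs : ∀ S : Subgroup G, IsPGroup 2 S → pCoreOf 2 H ≤ S →
      S ≤ normalizer (oddGenerated H : Set G) → ⁅S, oddGenerated H⁆ ≤ pCoreOf 2 (oddGenerated H) →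
      S ≤ pCoreOf 2 H := fun S h1 h2 h3 h4 =>
    (hsyl S h1 h2 h3 fun s hs k hk => h4 (commutator_mem_commutator hs hk)).le
  have hK : oddGenerated H ≤ H := eK ▸ pResOf_le H
  have h : PH H ((T : Subgroup H).map H.subtype) (oddGenerated H) := by
    refine ⟨loc, isSylowIn_map_subtype T, eK, cM.of_pCoreOf_le hH ?_, fun Y h1 h2 h3 => ?_, hs⟩
    · have n1 := hH.trans (le_normalizer_pCoreOf (p := 2) (normalizer (oddGenerated H : Set G)))
      have p1 := isPGroup_sup (isPGroup_pCoreOf (p := 2) H) (isPGroup_pCoreOf _)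
        ((pCoreOf_le H).trans n1)
      have l1 := sup_le ((pCoreOf_le (p := 2) H).trans hH) (pCoreOf_le (p := 2) _)
      have n2 := hK.trans (CfsgLib.LAE.le_normalizer_sup (le_normalizer_pCoreOf (p := 2) H) n1)
      exact le_sup_right.trans ((hs _ p1 le_sup_left l1 (le_pCoreOf
        (p1.to_le (commutator_le_left_of_le_normalizer n2)) (commutator_le_right_of_le_normalizer l1)
        (le_normalizer_commutator n2 le_normalizer))).trans (pCoreOf_le H))
    · obtain ⟨M, h4, hM⟩ := Finite.exists_le_maximal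
        (p := fun M : Subgroup G => IsTwoLocal M) (a := normalizer (Y : Set G)) ⟨Y, h1, h2, rfl⟩
      have : M ∈ maxTwoLocalsContaining H :=
        ⟨⟨hM.1, fun N a b => le_antisymm (hM.2 a b) b⟩, h3.trans h4⟩
      rw [huniq] at this
      exact h4.trans this.le
  have ker : ∀ {Y : Type} [Group Y] (e : (oddGenerated H ⧸ pCore 2 (oddGenerated H)) ≃* Y),
      (e.toMonoidHom.comp (QuotientGroup.mk' _)).ker = pCore 2 (oddGenerated H) := fun e => by
    ext x
    simp
  rcases hstar with ⟨⟨e⟩⟩ | ⟨n, hn, ⟨e⟩⟩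
  · exact h.main (e.surjective.comp (QuotientGroup.mk'_surjective _)) (ker e) rk_three
  have := Fintype.ofFinite (GaloisField 2 n)
  have hc : Fintype.card (GaloisField 2 n) = 2 ^ n := by
    rw [← Nat.card_eq_fintype_card, GaloisField.card 2 n (by omega)]
  rcases (by omega : n = 1 ∨ 2 ≤ n) with rfl | h2
  · exfalso
    have h1 := map_pResOf (p := 2) (e.toMonoidHom.comp (QuotientGroup.mk' _)) ⊤
    rw [map_top_of_surjective _ (e.surjective.comp (QuotientGroup.mk'_surjective _))] at h1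
    have h2 : pResOf 2 (⊤ : Subgroup (oddGenerated H)) = ⊤ :=
      map_injective (oddGenerated H).subtype_injective (by
        rw [map_pResOf, map_top_subtype, h.resK])
    rw [h2, map_top_of_surjective _ (e.surjective.comp (QuotientGroup.mk'_surjective _)),
      CfsgLib.BHS.pResOf_SL] at h1
    refine CfsgLib.Blocks.not_dvd_card_SLc (F := GaloisField 2 1) (p := 2) (by omega) ?_
    rw [← h1, card_top, CfsgLib.SL2.card_SL2, hc]
    decide
  · exact h.main (e.surjective.comp (QuotientGroup.mk'_surjective _)) (ker e)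
      (rk_sl2 (hc ▸ Nat.pow_le_pow_right (n := 2) (by norm_num) h2))

end Cfsg.Agent.S3090
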