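import Cfsg.Statements.S3105
import Cfsg.Agent.Lib.GHM.L7C
import Cfsg.Agent.Lib.D8Cent.Main
import Cfsg.Agent.Lib.Classical.SmallIso

set_option autoImplicit false
open Cfsg

namespace Cfsg.Agent.S3105

/-- Let X be a finite nonsolvable 2-constrained group with no nontrivial normal subgroup of odd order and of sectional 2-rank at most 4, and suppose X/O₂(X) is isomorphic to the projective special linear group of dimension 3 over the field with 2 elements. Then O₂(X) is elementary abelian of order 8 or 16, or is isomorphic to the direct product of a cyclic group of order 4 and an elementary abelian group of order 8. -/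
theorem result {X : Type*} [Group X] [Finite X] (hns : ¬ Group.IsSolvable X) (hc : Cfsg.IsPConstrained 2 X) (hO : Cfsg.oddCore X = ⊥)
    (h4 : Cfsg.SectionalPRankLE 2 4 X) {F : Type*} [Field F] [Fintype F] (hF : Fintype.card F = 2)
    (hQ : Nonempty (X ⧸ Cfsg.pCore 2 X ≃* Matrix.ProjectiveSpecialLinearGroup (Fin 3) F)) :
    (Cfsg.IsElementaryAbelian 2 (Cfsg.pCore 2 X) ∧ (Nat.card ↥(Cfsg.pCore 2 X) = 8 ∨ Nat.card ↥(Cfsg.pCore 2 X) = 16)) ∨
      Nonempty (↥(Cfsg.pCore 2 X) ≃* Multiplicative (ZMod 4) × (Fin 3 → Multiplicative (ZMod 2))) := by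
  have : Fact (Nat.Prime 2) := ⟨Nat.prime_two⟩
  have h : CfsgLib.GHM.Cs (pCore 2 X) := ⟨inferInstance, CfsgLib.Core.isPGroup_pCore 2 X,
    (CfsgLib.PLocal.Constr.isPConstrained_iff_of_pPrimeCore_eq_bot hO).1 hc,
    CfsgLib.Sect.sr_top_iff.1 h4⟩
  obtain ⟨e1⟩ := hQ
  obtain ⟨e3⟩ := CfsgLib.D8Cent.nonempty_psl_three_two_equiv
  let e := (e1.trans (CfsgLib.Classical.pslMapEquiv
    (FiniteField.ringEquivOfCardEq (hF.trans (ZMod.card 2).symm)))).trans e3
  have hs : Function.Surjective (e.toMonoidHom.comp (QuotientGroup.mk' (pCore 2 X))) :=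
    e.surjective.comp (QuotientGroup.mk'_surjective _)
  have hk : ∀ y, e.toMonoidHom.comp (QuotientGroup.mk' (pCore 2 X)) y = 1 ↔ y ∈ pCore 2 X :=
    fun y => (map_eq_one_iff e e.injective).trans (QuotientGroup.eq_one_iff y)
  obtain ⟨r, hr, h7⟩ := h.exists_r hs hk
  obtain ⟨R, c, s⟩ := h.sev hs hk h7 hr
  by_cases cc : c * c = 1
  · refine Or.inl ⟨⟨CfsgLib.PGroup.isMulCommutative_iff.2 s.comm, fun q hq => ?_⟩, ?_⟩
    · obtain ⟨i, a, ha, rfl⟩ := s.sup q hq
      rw [Commute.mul_pow (s.comm _ (zpow_mem s.cQ i) a (s.RQ ha)), pow_two a, s.R2 a ha, mul_one,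
        pow_two, ← (Commute.refl c).mul_zpow, cc, one_zpow]
    · rw [s.card]
      rcases (Nat.dvd_prime Nat.prime_two).1 (orderOf_dvd_of_pow_eq_one ((pow_two c).trans cc))
        with e | e <;> simp [e]
  · exact Or.inr (s.iso cc)

end Cfsg.Agent.S3105
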