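import Cfsg.Statements.S3129
import Cfsg.Agent.Lib.SPC.Fin

set_option autoImplicit false
open Cfsg

namespace Cfsg.Agent.S3129

/-- Let G be a finite group whose generalized Fitting subgroup F*(G) is a non-abelian simple group and in which every section has the B-property, and let L be a standard subgroup of G whose centralizer has cyclic Sylow 2-subgroups. Suppose L modulo its largest normal odd-order subgroup is isomorphic to the projective symplectic group of dimension m = 2k ≥ 6 over the field with q = 2^n elements, with (m, q) ≠ (6, 2). Then F*(G) is isomorphic to one of: the projective special linear group of dimension m or m + 1 over the field with q elements; the projective special unitary group of dimension m or m + 1 with parameter q (realised over the field with q² elements); the simple orthogonal group PΩ⁺ or PΩ⁻ of dimension m + 2 over the field with q elements; or the projective symplectic group of dimension m over the field with q² elements. -/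
theorem result {G : Type*} [Group G] [Finite G]
    (hF : IsSimpleGroup ↥(Cfsg.generalizedFittingSubgroup G)) (hF' : ¬ IsMulCommutative ↥(Cfsg.generalizedFittingSubgroup G))
    (hB : Cfsg.HasStrongBProperty G) (L : Subgroup G) (hL : Cfsg.IsStandardSubgroup L)
    (hR : ∀ R : Sylow 2 ↥(Subgroup.centralizer (L : Set G)), IsCyclic ↥(R : Subgroup ↥(Subgroup.centralizer (L : Set G))))
    (k n : ℕ) (hk : 3 ≤ k) (hn : 1 ≤ n) (hex : ¬ (k = 3 ∧ n = 1))
    {F : Type*} [Field F] [Fintype F] (hFq : Fintype.card F = 2 ^ n)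
    (hLX : Nonempty ((↥L ⧸ Cfsg.oddCore ↥L) ≃* Cfsg.PSp k F)) :
    Nonempty (↥(Cfsg.generalizedFittingSubgroup G) ≃* Matrix.ProjectiveSpecialLinearGroup (Fin (2 * k)) F) ∨
      Nonempty (↥(Cfsg.generalizedFittingSubgroup G) ≃* Matrix.ProjectiveSpecialLinearGroup (Fin (2 * k + 1)) F) ∨
      (∃ (K : Type) (_ : Field K) (_ : Fintype K), Fintype.card K = (2 ^ n) ^ 2 ∧
        (Nonempty (↥(Cfsg.generalizedFittingSubgroup G) ≃* Cfsg.PSU (2 * k) K (2 ^ n)) ∨ Nonempty (↥(Cfsg.generalizedFittingSubgroup G) ≃* Cfsg.PSU (2 * k + 1) K (2 ^ n)) ∨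
          Nonempty (↥(Cfsg.generalizedFittingSubgroup G) ≃* Cfsg.PSp k K))) ∨
      Nonempty (↥(Cfsg.generalizedFittingSubgroup G) ≃* Cfsg.POmega F (Cfsg.quadFormPlus (k + 1) F)) ∨
      (∃ a b : F, (∀ z₁ z₂ : F, z₁ ^ 2 + a * z₁ * z₂ + b * z₂ ^ 2 = 0 → z₁ = 0 ∧ z₂ = 0) ∧ Nonempty (↥(Cfsg.generalizedFittingSubgroup G) ≃* Cfsg.POmega F (Cfsg.quadFormMinus k F a b))) := by
  obtain ⟨F₀, _, _, h2, hc, ⟨f⟩⟩ := CfsgLib.SPC.exists_GF F hn hFq
  obtain ⟨e⟩ := hLX
  obtain ⟨i⟩ := CfsgLib.SPC.psp_field f k
  have h := (CfsgLib.SPC.std_simple hF hF' hL hR hk h2 (e.trans i)).field f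
  rwa [hc] at h

end Cfsg.Agent.S3129
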