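import Cfsg.Statements.S3130
import Cfsg.Agent.Lib.SLD.Main
import Cfsg.Agent.Lib.SLD.Wrp
import Cfsg.Agent.Lib.HX.Red
import Cfsg.Agent.Lib.SLE.Red
import Cfsg.Agent.Lib.Classical.SmallIso3

set_option autoImplicit false
open Cfsg

namespace Cfsg.Agent.S3130

open CfsgLib CfsgLib.SLD Subgroup in
theorem aux {G : Type*} [Group G] [Finite G] (hF : IsSimpleGroup (generalizedFittingSubgroup G))
    (hF' : ¬ IsMulCommutative (generalizedFittingSubgroup G)) {L : Subgroup G}
    (hL : IsStandardSubgroup L)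
    (hR : ∀ R : Sylow 2 (centralizer (L : Set G)), IsCyclic (R : Subgroup (centralizer (L : Set G))))
    {F V : Type} [Field F] [Finite F] [AddCommGroup V] [Module F V] [Finite V] {Q : QuadraticForm F V}
    {k : ℕ} (h : OS Q k) (e : (L ⧸ oddCore L) ≃* Om Q) :
    ∃ (K : Type) (_ : Field K) (_ : Fintype K), Fintype.card K = Nat.card F ^ 2 ∧
      Nonempty (generalizedFittingSubgroup G ≃* POmega K (quadFormPlus k K)) := by
  obtain ⟨t, ht⟩ := HX.exists_std hL hR
  have g := SLE.glob_sub Comp.fstar_normal hF hF' Comp.centralizer_fstar_le ht.t2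
  have hLF := StdW.le_fstar hF hF' hL
  have hK : L ≤ generalizedFittingSubgroup G ⊔ zpowers t := hLF.trans le_sup_left
  obtain ⟨a⟩ := h.exists_equiv hL.1 e
  have e1 : ((inclusion hK).comp a.toMonoidHom).range = L.subgroupOf _ := by
    rw [MonoidHom.range_comp, MonoidHom.range_eq_top.2 a.surjective, ← MonoidHom.range_eq_map,
      inclusion_range]
  obtain ⟨K, _, _, c, ⟨b⟩⟩ := Sit.main (φ := (inclusion hK).comp a.toMonoidHom)
    ⟨⟨h, (inclusion_injective hK).comp a.injective⟩,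
      e1.symm ▸ HX.RedAux.std_sub ht hK (mem_sup_right (mem_zpowers t))⟩ g (e1.trans_le (comap_mono hLF))
  exact ⟨K, inferInstance, Fintype.ofFinite K, by rw [← c, Fintype.card_eq_nat_card],
    ⟨(subgroupOfEquivOfLe le_sup_left).symm.trans b⟩⟩

/-- Let G be a finite group whose generalized Fitting subgroup F*(G) is a non-abelian simple group and in which every section has the B-property, and let L be a standard subgroup of G whose centralizer has cyclic Sylow 2-subgroups. Suppose L modulo its largest normal odd-order subgroup is isomorphic to the simple orthogonal group PΩ⁺ or PΩ⁻ of even dimension m = 2k ≥ 8 over the field with q = 2^n elements, with (m, q) ≠ (8, 2). Then F*(G) is isomorphic to the simple orthogonal group PΩ⁺ of dimension m over the field with q² elements. -/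
theorem result {G : Type*} [Group G] [Finite G]
    (hF : IsSimpleGroup ↥(Cfsg.generalizedFittingSubgroup G)) (hF' : ¬ IsMulCommutative ↥(Cfsg.generalizedFittingSubgroup G))
    (hB : Cfsg.HasStrongBProperty G) (L : Subgroup G) (hL : Cfsg.IsStandardSubgroup L)
    (hR : ∀ R : Sylow 2 ↥(Subgroup.centralizer (L : Set G)), IsCyclic ↥(R : Subgroup ↥(Subgroup.centralizer (L : Set G))))
    (k n : ℕ) (hk : 4 ≤ k) (hn : 1 ≤ n) (hex : ¬ (k = 4 ∧ n = 1))
    {F : Type*} [Field F] [Fintype F] (hFq : Fintype.card F = 2 ^ n)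
    (hLX : Nonempty ((↥L ⧸ Cfsg.oddCore ↥L) ≃* Cfsg.POmega F (Cfsg.quadFormPlus k F)) ∨
      ∃ a b : F, (∀ z₁ z₂ : F, z₁ ^ 2 + a * z₁ * z₂ + b * z₂ ^ 2 = 0 → z₁ = 0 ∧ z₂ = 0) ∧ Nonempty ((↥L ⧸ Cfsg.oddCore ↥L) ≃* Cfsg.POmega F (Cfsg.quadFormMinus (k - 1) F a b))) :
    ∃ (K : Type) (_ : Field K) (_ : Fintype K), Fintype.card K = (2 ^ n) ^ 2 ∧ Nonempty (↥(Cfsg.generalizedFittingSubgroup G) ≃* Cfsg.POmega K (Cfsg.quadFormPlus k K)) := by
  have hc : Nat.card (GaloisField 2 n) = 2 ^ n := GaloisField.card 2 n (by omega)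
  have := Fintype.ofFinite (GaloisField 2 n)
  have f : F ≃+* GaloisField 2 n :=
    FiniteField.ringEquivOfCardEq (by rw [hFq, ← hc, Fintype.card_eq_nat_card])
  have h2 : (2 : GaloisField 2 n) = 0 := CharTwo.two_eq_zero
  have h5 : Nat.card (GaloisField 2 n) = 2 → 5 ≤ k := fun h => by
    have : n = 1 := Nat.pow_right_injective le_rfl ((hc.symm.trans h).trans (pow_one 2).symm)
    omega
  rw [← hc]
  rcases hLX with ⟨⟨e⟩⟩ | ⟨a, b, hab, ⟨e⟩⟩
  · obtain ⟨e'⟩ := CfsgLib.SLD.equiv_plus h2 hk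
    exact aux hF hF' hL hR ⟨CfsgLib.SLD.os0_plus h2 hk, h5⟩ (e.trans
      ((CfsgLib.Classical.pomegaMapEquiv f _ _ (CfsgLib.Classical.quadFormPlus_map f k)).trans e'))
  · have hab' : ∀ z₁ z₂, z₁ ^ 2 + f a * z₁ * z₂ + f b * z₂ ^ 2 = 0 → z₁ = 0 ∧ z₂ = 0 := fun x y h => by
      obtain ⟨x, rfl⟩ := f.surjective x
      obtain ⟨y, rfl⟩ := f.surjective y
      simpa using hab x y (f.injective (by simpa using h))
    obtain ⟨e'⟩ := CfsgLib.SLD.equiv_minus h2 hk hab'
    exact aux hF hF' hL hR ⟨CfsgLib.SLD.os0_minus h2 hk hab', h5⟩ (e.trans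
      ((CfsgLib.Classical.pomegaMapEquiv f _ _ (CfsgLib.Classical.quadFormMinus_map f _ a b)).trans e'))

end Cfsg.Agent.S3130
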