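import Cfsg.Statements.S3131
import Cfsg.Agent.Lib.StdL.Top
import Cfsg.Agent.Lib.StdL.KM23
import Cfsg.Agent.Lib.StdL.KMc

set_option autoImplicit false
open Cfsg

namespace Cfsg.Agent.S3131

/-- Let G be a finite group whose generalized Fitting subgroup F*(G) is a non-abelian simple group and in which every section has the B-property, and let L be a standard subgroup of G. Then L modulo its largest normal odd-order subgroup is not isomorphic to the Mathieu group of degree 23 or to the McLaughlin group. -/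
theorem result {G : Type*} [Group G] [Finite G]
    (hF : IsSimpleGroup ↥(Cfsg.generalizedFittingSubgroup G)) (hF' : ¬ IsMulCommutative ↥(Cfsg.generalizedFittingSubgroup G))
    (hB : Cfsg.HasStrongBProperty G) (L : Subgroup G) (hL : Cfsg.IsStandardSubgroup L) :
    ¬ (Cfsg.Spor.IsoM23 (↥L ⧸ Cfsg.oddCore ↥L) ∨ Cfsg.Spor.IsoMcL (↥L ⧸ Cfsg.oddCore ↥L)) := by
  rintro (⟨⟨e⟩⟩ | ⟨⟨e⟩⟩)
  · obtain ⟨g, k, n⟩ := CfsgLib.StdL.M23.good
    exact CfsgLib.StdL.main hF hF' hL e CfsgLib.Mathieu.simple_M23 n g k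
  · obtain ⟨g, k, n⟩ := CfsgLib.StdL.McL.good
    obtain ⟨f⟩ := CfsgLib.McLRec.iso_McL
    exact CfsgLib.StdL.main hF hF' hL (e.trans f) CfsgLib.McLRec.simple_X n g k

end Cfsg.Agent.S3131
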