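import Mathlib
import Cfsg.Statements.S3139
import Cfsg.Agent.Lib.L33.Top
import Cfsg.Agent.Lib.LBal.Two
import Cfsg.Agent.Lib.Comp.FStar

set_option autoImplicit false
open Cfsg

namespace Cfsg.Agent.S3139

/-- Let G be a finite group whose generalized Fitting subgroup F*(G) is a non-abelian simple group, and let t be an involution of G with centralizer H. Suppose H has a 2-component L such that L modulo its largest normal odd-order subgroup O(L) is isomorphic to the projective special linear group of dimension 3 over the field with 3 elements, and such that every 2-subgroup of H whose elements act trivially on L/O(L) by conjugation is cyclic (the centralizer of L/O(L) in H has cyclic Sylow 2-subgroups). Then the 2-part of the order of F*(G) is at most 2¹⁰. -/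
theorem result {G : Type*} [Group G] [Finite G]
    (hF : IsSimpleGroup ↥(Cfsg.generalizedFittingSubgroup G)) (hF' : ¬ IsMulCommutative ↥(Cfsg.generalizedFittingSubgroup G))
    (t : G) (ht : orderOf t = 2) (L : Subgroup ↥(Subgroup.centralizer ({t} : Set G))) (hL : Cfsg.IsPComponent 2 L)
    {F : Type*} [Field F] [Fintype F] (hF3 : Fintype.card F = 3)
    (hLX : Nonempty ((↥L ⧸ Cfsg.oddCore ↥L) ≃* Matrix.ProjectiveSpecialLinearGroup (Fin 3) F))
    (hc : ∀ P : Subgroup ↥(Subgroup.centralizer ({t} : Set G)), IsPGroup 2 ↥P →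
      (∀ g ∈ P, ∀ l ∈ L, ∃ o ∈ Cfsg.oddCore ↥L, g * (l : ↥(Subgroup.centralizer ({t} : Set G))) * g⁻¹ = l * o) → IsCyclic ↥P) :
    ¬ 2 ^ 11 ∣ Nat.card ↥(Cfsg.generalizedFittingSubgroup G) := by
  obtain ⟨φ⟩ := hLX
  obtain ⟨M⟩ := CfsgLib.L33.exists_mod hF3 (MulEquiv.refl _)
  have := Fact.mk Nat.prime_two
  let H := Subgroup.centralizer ({t} : Set G)
  let π₀ : L →* Matrix.ProjectiveSpecialLinearGroup (Fin 3) F := φ.toMonoidHom.comp (QuotientGroup.mk' _)
  have π₀s : Function.Surjective π₀ := φ.surjective.comp (QuotientGroup.mk'_surjective _)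
  have k₀ : ∀ l, π₀ l = 1 ↔ l ∈ oddCore L := fun l => by
    simp only [π₀, MonoidHom.comp_apply, MulEquiv.coe_toMonoidHom, EmbeddingLike.map_eq_one_iff, QuotientGroup.mk'_apply,
      QuotientGroup.eq_one_iff]
  have hc' : ∀ P : Subgroup H, IsPGroup 2 P → (∀ g ∈ P, ∀ l ∈ L, l⁻¹ * (g * l * g⁻¹) ∈ CfsgLib.PComp.opOf 2 L) →
      IsCyclic P := fun P hP h => hc P hP fun g hg l hl => by
    obtain ⟨o, ho, e⟩ := h g hg l hl
    exact ⟨o, ho, by rw [show (o : H) = _ from e]; group⟩
  have Ln : L.Normal := ⟨fun l hl h => by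
    by_contra hcon
    have hne : L ≠ L.map (MulAut.conj h).toMonoidHom := fun e => hcon (e ▸ ⟨l, hl, rfl⟩)
    have h1 := CfsgLib.PComp.commutator_le_opOf_of_le hL
      (CfsgLib.PComp.pc_commutator_le_of_ne hL (CfsgLib.PComp.pc_map_conj hL h) hne)
    obtain ⟨P, hP, hn⟩ := CfsgLib.L33.exists_noncyclic M π₀ π₀s
    let ι : L →* H := (MulAut.conj h).toMonoidHom.comp L.subtype
    have ιi : Function.Injective ι := (MulAut.conj h).injective.comp L.subtype_injective
    have := hc' (P.map ι) (hP.map _) (by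
      rintro _ ⟨g, -, rfl⟩ k hk
      have := h1 (Subgroup.commutator_mem_commutator (L.inv_mem hk) (⟨g, g.2, rfl⟩ : ι g ∈ L.map (MulAut.conj h).toMonoidHom))
      simpa only [commutatorElement_def, inv_inv, mul_assoc] using this)
    exact hn (isCyclic_of_surjective _ (Subgroup.equivMapOfInjective P _ ιi).symm.surjective)⟩
  let Fs := generalizedFittingSubgroup G
  have Fn : Fs.Normal := CfsgLib.Comp.fstar_normal
  have hC : Subgroup.centralizer (Fs : Set G) = ⊥ := by
    have h1 : Subgroup.centralizer (Fs : Set G) ≤ Fs := CfsgLib.Comp.centralizer_fstar_le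
    rcases IsSimpleGroup.eq_bot_or_eq_top_of_normal ((Subgroup.centralizer (Fs : Set G)).subgroupOf Fs) inferInstance with h | h
    · rwa [Subgroup.subgroupOf_eq_bot, disjoint_iff, inf_eq_left.2 h1] at h
    · rw [Subgroup.subgroupOf_eq_top] at h
      exact (hF' ⟨⟨fun a b => Subtype.ext (h b.2 a a.2)⟩⟩).elim
  intro hd
  have hO : pPrimeCore 2 G = ⊥ := by
    have : (pPrimeCore 2 G).Normal := haveI := CfsgLib.Core.pPrimeCore_characteristic 2 G; inferInstance
    rcases IsSimpleGroup.eq_bot_or_eq_top_of_normal ((pPrimeCore 2 G).subgroupOf Fs) inferInstance with h | h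
    · rw [Subgroup.subgroupOf_eq_bot] at h
      exact le_bot_iff.1 (hC ▸ fun o ho g hg => (Subgroup.commute_of_normal_of_disjoint _ _ this Fn h o g ho hg).symm)
    · rw [Subgroup.subgroupOf_eq_top] at h
      exact absurd (((CfsgLib.Core.odd_card_oddCore G).of_dvd_nat (Subgroup.card_dvd_of_le h)).of_dvd_nat
        ((show 2 ∣ 2 ^ 11 by norm_num).trans hd)) (by decide)
  have LF : L.map H.subtype ≤ Fs := (CfsgLib.LBal.bal_two_singleton ht (CfsgLib.LBal.pc_map_subtype.2 hL)).trans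
    ((CfsgLib.PComp.pLayer_eq_layer_of_pPrimeCore_eq_bot hO).le.trans CfsgLib.Comp.layer_le_fstar)
  let e := (Subgroup.equivMapOfInjective L _ H.subtype_injective).symm
  have hn : ∀ h ∈ H, ∀ l ∈ L.map H.subtype, h * l * h⁻¹ ∈ L.map H.subtype := by
    rintro h hh _ ⟨l, hl, rfl⟩
    exact ⟨_, Ln.conj_mem l hl ⟨h, hh⟩, rfl⟩
  have ee : ∀ (l : H) (hl : l ∈ L) (h' : (l : G) ∈ L.map H.subtype), e ⟨l, h'⟩ = ⟨l, hl⟩ := fun l hl h' =>
    (MulEquiv.symm_apply_eq _).2 rfl
  refine CfsgLib.L33.top hF' hC M ht LF (Subgroup.map_subtype_le L) hn (π₀.comp e.toMonoidHom) (π₀s.comp e.surjective)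
    ?_ ?_ ?_ hd
  · rw [← MonoidHom.comap_ker, Subgroup.comap_equiv_eq_map_symm', Subgroup.card_map_of_injective e.symm.injective,
      show π₀.ker = oddCore L from Subgroup.ext k₀]
    exact CfsgLib.Core.odd_card_oddCore L
  · rintro h hh ⟨_, l, hl, rfl⟩ h1
    have h2 : π₀ ⟨l, hl⟩ = 1 := ee l hl _ ▸ h1
    have h3 := ee _ (Ln.conj_mem l hl ⟨h, hh⟩) (hn h hh _ ⟨l, hl, rfl⟩)
    refine (congrArg π₀ h3).trans ((k₀ _).2 ?_)
    have := CfsgLib.Core.pPrimeCore_characteristic 2 L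
    exact Subgroup.characteristic_iff_map_le.1 this (MulAut.conjNormal ⟨h, hh⟩) ⟨_, (k₀ _).1 h2, rfl⟩
  · intro P hP hPH h
    have := hc' (P.subgroupOf H) (hP.comap_subtype) fun g hg l hl => by
      have h1 := h g hg ⟨l, l, hl, rfl⟩
      have h3 := ee _ (Ln.conj_mem l hl g) (hn g g.2 _ ⟨l, hl, rfl⟩)
      have h4 : π₀ ⟨_, Ln.conj_mem l hl g⟩ = π₀ ⟨l, hl⟩ := (congrArg π₀ h3).symm.trans (h1.trans (congrArg π₀ (ee l hl _)))
      exact ⟨(⟨l, hl⟩ : L)⁻¹ * ⟨_, Ln.conj_mem l hl g⟩, (k₀ _).1 (by rw [map_mul, map_inv, h4, inv_mul_cancel]), rfl⟩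
    exact isCyclic_of_surjective _ (Subgroup.subgroupOfEquivOfLe hPH).surjective

end Cfsg.Agent.S3139
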