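import Cfsg.Statements.S3149
import Cfsg.Agent.Lib.StdRu.Cov
import Cfsg.Agent.Lib.StdInt.Wrap
import Cfsg.Agent.Lib.Ru.Main
import Cfsg.Agent.Lib.MultC.Ru.Out

set_option autoImplicit false
open Cfsg

namespace Cfsg.Agent.S3149

/-- Let G be a finite group with no nontrivial normal subgroup of odd order and A a standard subgroup of G which is a double cover of the Rudvalis group (the centre of A has order 2 and A modulo its centre is isomorphic to the Rudvalis group). If the centralizer of A in G has cyclic Sylow 2-subgroups, then A is normal in G. -/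
theorem result {G : Type*} [Group G] [Finite G] (hO : Cfsg.oddCore G = ⊥) (A : Subgroup G) (hA : Cfsg.IsStandardSubgroup A)
    (hZ : Nat.card ↥(Subgroup.center ↥A) = 2) (hAX : Cfsg.Spor.IsoRu (↥A ⧸ Subgroup.center ↥A))
    (hR : ∀ R : Sylow 2 ↥(Subgroup.centralizer (A : Set G)), IsCyclic ↥(R : Subgroup ↥(Subgroup.centralizer (A : Set G)))) : A.Normal := by
  obtain ⟨e⟩ := hAX
  have hp := CfsgLib.StdInt.commutator_of_standard hA
  obtain ⟨t, σ, h⟩ := CfsgLib.StdInt.exists_dbl'
    (CfsgLib.StdInt.nonsplit_of_perfect hp hZ (e.trans CfsgLib.Ru.iso))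
  have h1 := (CfsgLib.StdRu.pw_cover h hp).map A.subtype_injective
  rw [← MonoidHom.range_eq_map, Subgroup.range_subtype] at h1
  exact CfsgLib.StdRu.normal_of_pw hO hA (CfsgLib.StdInt.dbl_ne h) h.tt h.cent (CfsgLib.StdInt.dbl_inner h hp
    (CfsgLib.StdInt.inner_of_out (CfsgLib.MultC.Ru.O.out CfsgLib.MultC.Ru.model CfsgLib.MultC.Ru.real0
      CfsgLib.MultC.Ru.card))) h1 hR

end Cfsg.Agent.S3149
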