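import Cfsg.Statements.S3150
import Cfsg.Agent.Lib.StdInt.Wrap
import Cfsg.Agent.Lib.StdInt.Co0
import Cfsg.Agent.Lib.StdInt.Co0Fus

set_option autoImplicit false
open Cfsg

namespace Cfsg.Agent.S3150

/-- Let G be a finite group with no nontrivial normal subgroup of odd order and A a standard subgroup of G isomorphic to the automorphism group of the Leech lattice (the double cover of the first Conway group). If the centralizer of A in G has cyclic Sylow 2-subgroups, then A is normal in G. -/
theorem result {G : Type*} [Group G] [Finite G] (hO : Cfsg.oddCore G = ⊥) (A : Subgroup G) (hA : Cfsg.IsStandardSubgroup A)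
    (hAX : Nonempty (↥A ≃* ↥Cfsg.Co0)) (hR : ∀ R : Sylow 2 ↥(Subgroup.centralizer (A : Set G)), IsCyclic ↥(R : Subgroup ↥(Subgroup.centralizer (A : Set G)))) : A.Normal := by
  obtain ⟨e⟩ := hAX
  obtain ⟨h1, h2⟩ := CfsgLib.StdInt.co0_good
  refine (CfsgLib.StdInt.normal_or_fus hO hA (h1.map e.symm) (h2.map e.symm)).resolve_right fun ⟨T, h⟩ => ?_
  have h3 := h.map e
  rw [e.apply_symm_apply] at h3
  exact CfsgLib.StdInt.co0_not_fus _ h3

end Cfsg.Agent.S3150
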