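import Cfsg.Statements.S3326
import Cfsg.Agent.Lib.SLE.Top
import Cfsg.Agent.Lib.SLE.NF
import Cfsg.Agent.Lib.SLE.NQ

set_option autoImplicit false
open Cfsg

namespace Cfsg.Agent.S3326

open Cfsg.Lie CfsgLib CfsgLib.SLE CfsgLib.Weyl CfsgLib.Chev CfsgLib.Stein Subgroup in
theorem aux {G : Type*} [Group G] [Finite G] (hF : IsSimpleGroup (generalizedFittingSubgroup G))
    (hF' : ¬ IsMulCommutative (generalizedFittingSubgroup G)) {L : Subgroup G}
    (hL : IsStandardSubgroup L)
    (hR : ∀ R : Sylow 2 (centralizer (L : Set G)), IsCyclic (R : Subgroup (centralizer (L : Set G))))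
    {D : ChevalleyDatum} [Good D] {h : RtOK D} {E : ER (rootSys h)} (hE : Mod D h E)
    {F : Type} [Field F] [Finite F] [CharP F 2] (e : (L ⧸ oddCore L) ≃* D.group F) :
    ∃ (K : Type) (_ : Field K) (_ : Fintype K), Fintype.card K = Nat.card F ^ 2 ∧
      Nonempty (generalizedFittingSubgroup G ≃* D.group K) := by
  obtain ⟨⟨t, tC⟩, ht⟩ := exists_prime_orderOf_dvd_card' 2 (even_iff_two_dvd.1 hL.2.1.1)
  rw [← orderOf_coe] at ht
  have t2 : t * t = 1 := by rw [← sq, ← ht, pow_orderOf_eq_one]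
  have t1 : t ≠ 1 := fun k => by simp [k] at ht
  have g := glob_sub Comp.fstar_normal hF hF' Comp.centralizer_fstar_le t2
  have hLF := StdW.le_fstar hF hF' hL
  obtain ⟨S, e1, hS⟩ := hE.exists_sit hL hR e (hLF.trans (le_sup_left (b := zpowers t)))
    (t := ⟨t, mem_sup_right (mem_zpowers t)⟩) tC (Subtype.ext t2) fun k => t1 (congrArg Subtype.val k)
  obtain ⟨Z, ⟨K, _, _, _, T, f, τ, d⟩ | ⟨S₁, S₂, d⟩⟩ := hS.dbl hE.kit g (e1 ▸ comap_mono hLF)
  · have e2 := d.eq g
    obtain ⟨e3⟩ := hE.equiv d.ambT (e2 ▸ g.simple)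
    exact ⟨K, inferInstance, Fintype.ofFinite K, by rw [← d.card, Fintype.card_eq_nat_card],
      ⟨(subgroupOfEquivOfLe le_sup_left).symm.trans ((MulEquiv.subgroupCongr e2.symm).trans e3)⟩⟩
  · exact (d.false g).elim

/-- Let G be a finite group whose generalized Fitting subgroup F*(G) is a non-abelian simple group and in which every section has the B-property, and let L be a standard subgroup of G whose centralizer has cyclic Sylow 2-subgroups. Suppose L modulo its largest normal odd-order subgroup is isomorphic to the Chevalley group of type E₆, E₇ or E₈ (the matrix group generated by root elements) over the field with q = 2^n elements. Then F*(G) is isomorphic to the Chevalley group of the same type over the field with q² elements. -/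
theorem result {G : Type*} [Group G] [Finite G]
    (hF : IsSimpleGroup ↥(Cfsg.generalizedFittingSubgroup G)) (hF' : ¬ IsMulCommutative ↥(Cfsg.generalizedFittingSubgroup G))
    (hB : Cfsg.HasStrongBProperty G) (L : Subgroup G) (hL : Cfsg.IsStandardSubgroup L)
    (hR : ∀ R : Sylow 2 ↥(Subgroup.centralizer (L : Set G)), IsCyclic ↥(R : Subgroup ↥(Subgroup.centralizer (L : Set G))))
    (n : ℕ) (hn : 1 ≤ n) (D : Cfsg.Lie.ChevalleyDatum) (hD : D = Cfsg.Lie.chevE6 ∨ D = Cfsg.Lie.chevE7 ∨ D = Cfsg.Lie.chevE8) {F : Type*} [Field F] [Fintype F] (hFq : Fintype.card F = 2 ^ n) (hLX : Nonempty ((↥L ⧸ Cfsg.oddCore ↥L) ≃* ↥(D.group F))) :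
    ∃ (K : Type) (_ : Field K) (_ : Fintype K), Fintype.card K = (2 ^ n) ^ 2 ∧ Nonempty (↥(Cfsg.generalizedFittingSubgroup G) ≃* ↥(D.group K)) := by
  have hc : Nat.card (GaloisField 2 n) = 2 ^ n := GaloisField.card 2 n (by omega)
  have := Fintype.ofFinite (GaloisField 2 n)
  have f : F ≃+* GaloisField 2 n :=
    FiniteField.ringEquivOfCardEq (by rw [hFq, ← hc, Fintype.card_eq_nat_card])
  obtain ⟨e⟩ := hLX
  replace e := e.trans (CfsgLib.Stein.groupEquiv D f)
  rw [← hc]
  rcases hD with rfl | rfl | rfl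
  · exact CfsgLib.SLE.exists_er6.elim fun _ hE => aux hF hF' hL hR hE e
  · exact CfsgLib.SLE.exists_er7.elim fun _ hE => aux hF hF' hL hR hE e
  · exact CfsgLib.SLE.exists_er8.elim fun _ hE => aux hF hF' hL hR hE e

end Cfsg.Agent.S3326
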