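import Cfsg.Statements.S3327
import Cfsg.Agent.Lib.SLT.Top

set_option autoImplicit false
open Cfsg

namespace Cfsg.Agent.S3327

open Cfsg.Lie CfsgLib CfsgLib.SLE CfsgLib.SLT CfsgLib.Weyl CfsgLib.Chev CfsgLib.Stein Subgroup in
theorem aux {G : Type*} [Group G] [Finite G] (hF : IsSimpleGroup (generalizedFittingSubgroup G))
    (hF' : ¬ IsMulCommutative (generalizedFittingSubgroup G)) {L : Subgroup G}
    (hL : IsStandardSubgroup L)
    (hR : ∀ R : Sylow 2 (centralizer (L : Set G)), IsCyclic (R : Subgroup (centralizer (L : Set G))))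
    {F K : Type} [Field F] [Finite F] [CharP F 2] [Field K] [Finite K] [CharP K 2] (P : QE F K)
    (e : (L ⧸ oddCore L) ≃* twistedE6 K (Nat.card F)) :
    Nonempty (generalizedFittingSubgroup G ≃* chevE6.group K) := by
  obtain ⟨⟨t, tC⟩, ht⟩ := exists_prime_orderOf_dvd_card' 2 (even_iff_two_dvd.1 hL.2.1.1)
  rw [← orderOf_coe] at ht
  have t2 : t * t = 1 := by rw [← sq, ← ht, pow_orderOf_eq_one]
  have t1 : t ≠ 1 := fun k => by simp [k] at ht
  have g := glob_sub Comp.fstar_normal hF hF' Comp.centralizer_fstar_le t2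
  have hLF := StdW.le_fstar hF hF' hL
  obtain ⟨E, hE⟩ := exists_er6
  obtain ⟨T, s, hM⟩ := exists_modT hE P
  obtain ⟨e₀, -⟩ := hM.exists_equiv
  obtain ⟨X, ρ, e1, hS⟩ := hM.vir.exists_sit hL hR (e.trans e₀) (hLF.trans (le_sup_left (b := zpowers t)))
    (t := ⟨t, mem_sup_right (mem_zpowers t)⟩) tC (Subtype.ext t2) fun k => t1 (congrArg Subtype.val k)
  obtain ⟨T', A, e2⟩ := hS.main hE.kit g (e1 ▸ comap_mono hLF)
  obtain ⟨e3⟩ := hE.equiv A (e2 ▸ g.simple)
  exact ⟨(subgroupOfEquivOfLe le_sup_left).symm.trans ((MulEquiv.subgroupCongr e2.symm).trans e3)⟩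

/-- Let G be a finite group whose generalized Fitting subgroup F*(G) is a non-abelian simple group and in which every section has the B-property, and let L be a standard subgroup of G whose centralizer has cyclic Sylow 2-subgroups. Suppose L modulo its largest normal odd-order subgroup is isomorphic to the twisted group ²E₆(q), q = 2^n, realised over the field with q² elements. Then F*(G) is isomorphic to the Chevalley group of type E₆ over the field with q² elements. -/
theorem result {G : Type*} [Group G] [Finite G]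
    (hF : IsSimpleGroup ↥(Cfsg.generalizedFittingSubgroup G)) (hF' : ¬ IsMulCommutative ↥(Cfsg.generalizedFittingSubgroup G))
    (hB : Cfsg.HasStrongBProperty G) (L : Subgroup G) (hL : Cfsg.IsStandardSubgroup L)
    (hR : ∀ R : Sylow 2 ↥(Subgroup.centralizer (L : Set G)), IsCyclic ↥(R : Subgroup ↥(Subgroup.centralizer (L : Set G))))
    (n : ℕ) (hn : 1 ≤ n) {K : Type*} [Field K] [Fintype K] (hK : Fintype.card K = (2 ^ n) ^ 2) (hLX : Nonempty ((↥L ⧸ Cfsg.oddCore ↥L) ≃* ↥(Cfsg.Lie.twistedE6 K (2 ^ n)))) :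
    ∃ (K' : Type) (_ : Field K') (_ : Fintype K'), Fintype.card K' = (2 ^ n) ^ 2 ∧ Nonempty (↥(Cfsg.generalizedFittingSubgroup G) ≃* ↥(Cfsg.Lie.chevE6.group K')) := by
  have hc : Nat.card (GaloisField 2 (n * 2)) = (2 ^ n) ^ 2 := by
    rw [GaloisField.card 2 _ (by omega), pow_mul]
  have i := Fintype.ofFinite (GaloisField 2 (n * 2))
  have f : K ≃+* GaloisField 2 (n * 2) :=
    FiniteField.ringEquivOfCardEq (by rw [hK, ← hc, Fintype.card_eq_nat_card])
  obtain ⟨e⟩ := hLX
  replace e := e.trans (CfsgLib.LieModel.genEquiv _ f (CfsgLib.SLT.e6Words_map f _)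
    (CfsgLib.SLT.e6Words_map f.symm _))
  obtain ⟨F, _, _, _, P, hq⟩ := CfsgLib.SLT.exists_qe hn hc
  exact ⟨_, inferInstance, i, by rw [← hc, Fintype.card_eq_nat_card], aux hF hF' hL hR P (hq ▸ e)⟩

end Cfsg.Agent.S3327
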