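import Cfsg.Statements.S3159
import Cfsg.Agent.Lib.S86.Main

set_option autoImplicit false
open Cfsg

namespace Cfsg.Agent.S3159

/-- Let G be a finite group of characteristic 2 type with no nontrivial normal 3-subgroup and no normal subgroup of index 3, and let b be an element of order 3 with centralizer C such that: C has a quasisimple normal subgroup L isomorphic to the symplectic group of dimension 6 over the field with 2 elements; the centralizer of L in G has cyclic Sylow 3-subgroups; G and C have the same 2-local 3-rank (for every k, all 2-local subgroups of G have 3-rank at most k exactly when all 2-local subgroups of C do); the subgroup generated by b is not weakly closed in C (some G-conjugate of b lies in C and generates a different subgroup); and every elementary abelian 3-subgroup B of C lying in a 2-local subgroup of C and of largest order among such subgroups normalizes without centralizing some 2-subgroup of C. Then G is isomorphic to the symplectic group of dimension 8 over the field with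 2 elements or to the Chevalley group of type F₄ over that field. -/
theorem result {G : Type*} [Group G] [Finite G] (hG : Cfsg.IsCharacteristicTwoType G) (hO3 : Cfsg.pCore 3 G = ⊥) (hO3' : ∀ N : Subgroup G, N.Normal → N.index = 3 → False)
    (b : G) (hb : orderOf b = 3) (L : Subgroup G) (hLC : L ≤ Subgroup.centralizer ({b} : Set G)) (hLn : (L.subgroupOf (Subgroup.centralizer ({b} : Set G))).Normal)
    (hq : Cfsg.IsQuasisimple ↥L) {F : Type*} [Field F] [Fintype F] (hF : Fintype.card F = 2) (hLX : Nonempty (↥L ≃* Cfsg.PSp 3 F))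
    (hcyc : ∀ R : Sylow 3 ↥(Subgroup.centralizer (L : Set G)), IsCyclic ↥(R : Subgroup ↥(Subgroup.centralizer (L : Set G))))
    (hrk : ∀ k : ℕ, Cfsg.TwoLocalPRankLE 3 k G ↔ Cfsg.TwoLocalPRankLE 3 k ↥(Subgroup.centralizer ({b} : Set G)))
    (hwc : ∃ g : G, g * b * g⁻¹ ∈ Subgroup.centralizer ({b} : Set G) ∧ Subgroup.zpowers (g * b * g⁻¹) ≠ Subgroup.zpowers b)
    (hA5 : ∀ B : Subgroup ↥(Subgroup.centralizer ({b} : Set G)), Cfsg.IsElementaryAbelian 3 B → (∃ H : Subgroup ↥(Subgroup.centralizer ({b} : Set G)), Cfsg.IsTwoLocal H ∧ B ≤ H) →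
      (∀ B' : Subgroup ↥(Subgroup.centralizer ({b} : Set G)), Cfsg.IsElementaryAbelian 3 B' → (∃ H : Subgroup ↥(Subgroup.centralizer ({b} : Set G)), Cfsg.IsTwoLocal H ∧ B' ≤ H) → Nat.card ↥B' ≤ Nat.card ↥B) →
      ∃ Q : Subgroup ↥(Subgroup.centralizer ({b} : Set G)), IsPGroup 2 ↥Q ∧ B ≤ Subgroup.normalizer (Q : Set ↥(Subgroup.centralizer ({b} : Set G))) ∧ ⁅Q, B⁆ ≠ ⊥) :
    (∃ (K : Type) (_ : Field K) (_ : Fintype K), Fintype.card K = 2 ∧ (Nonempty (G ≃* Cfsg.PSp 4 K) ∨ Nonempty (G ≃* ↥(Cfsg.Lie.chevF4.group K)))) := by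
  obtain ⟨e1⟩ := CfsgLib.S86.exists_iso hF
  obtain ⟨e2⟩ := hLX
  obtain ⟨φ, ev, h0⟩ := CfsgLib.S86.exists_bd0 b hb L hLC hLn (e1.trans e2.symm) hcyc
  have hv := h0.wc hwc
  have h : CfsgLib.S86.Bd b φ ev := ⟨h0, h0.three hv, h0.od hA5⟩
  exact ⟨ZMod 2, inferInstance, inferInstance, ZMod.card 2, CfsgLib.S86.main_fr (h.hy hG hO3' hrk) h hv⟩

end Cfsg.Agent.S3159
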