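import Cfsg.Statements.S3192
import Cfsg.Agent.Lib.Ito.Basic

set_option autoImplicit false
open Cfsg

namespace Cfsg.Agent.S3192

open CfsgLib.Ito CfsgLib.CIT


/-- Simple groups of conjugate type rank three. For a finite group G consider the set of indices of the centralizers of the non-central elements of G. Then G is a non-abelian simple group for which this set has exactly three members if and only if G is isomorphic to PSL(2, 2^m) for some m ≥ 2. -/
theorem result (G : Type*) [Group G] [Finite G] :
    (IsSimpleGroup G ∧ ¬ IsMulCommutative G ∧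
        Set.ncard {m : ℕ | ∃ x : G, x ∉ Subgroup.center G ∧ m = (Subgroup.centralizer ({x} : Set G)).index} = 3) ↔
      ∃ (m : ℕ) (F : Type) (_ : Field F) (_ : Fintype F), 2 ≤ m ∧ Fintype.card F = 2 ^ m ∧
        Nonempty (G ≃* Matrix.ProjectiveSpecialLinearGroup (Fin 2) F) := by
  constructor
  · rintro ⟨hs, hG, h⟩
    obtain ⟨n, hn, -, -, F, _, _, hF, e⟩ := App.l2even_data (l2even_of_rank_le_three hG h.le)
    exact ⟨n, F, _, _, hn, hF, e⟩
  · rintro ⟨m, F, _, _, hm, hF, ⟨e⟩⟩
    have h4 : 4 ≤ Fintype.card F := hF ▸ Nat.pow_le_pow_right two_pos hm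
    haveI := App.charP_of_card_eq Nat.prime_two hF
    obtain ⟨h1, h2⟩ := psl_simple h4
    refine ⟨e.isSimpleGroup, fun h => h2 ⟨⟨fun a b => e.symm.injective (by
      rw [map_mul, map_mul, mul_comm'])⟩⟩, ?_⟩
    exact (congrArg Set.ncard (sizes_equiv e)).trans (ncard_sizes_psl_even CharTwo.two_eq_zero h4)

end Cfsg.Agent.S3192
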