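import Cfsg.Statements.S3217
import Cfsg.Agent.Lib.F42.Top
import Cfsg.Agent.Lib.F42.QPin
import Cfsg.Agent.Lib.F42.Geo3

set_option autoImplicit false
open Cfsg

namespace Cfsg.Agent.S3217

/-- Let q = 2^(2m+1) and let C_q denote the centralizer, in the Ree group ²F₄(q), of an involution lying in the centre of a Sylow 2-subgroup. Let G be a finite group of even order with an involution τ central in some Sylow 2-subgroup of G, such that C_G(τ) has no nontrivial normal subgroup of odd order and has a normal subgroup C ≅ C_q of odd index ρ. If q > 2 then O(G) ≠ 1, or O(G) = 1 and some nontrivial subgroup of Z(C) is normal in G, or G has a normal subgroup of index ρ isomorphic to ²F₄(q). If q = 2 then G = O(G)C or G ≅ ²F₄(2). -/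
theorem result {G : Type*} [Group G] [Finite G] (hev : Even (Nat.card G))
    (τ : G) (hτ : orderOf τ = 2) (S : Sylow 2 G) (hτS : τ ∈ (S : Subgroup G)) (hτc : ∀ s ∈ (S : Subgroup G), s * τ = τ * s)
    {K : Type*} [Field K] [Fintype K] (m : ℕ) (hK : Fintype.card K = 2 ^ (2 * m + 1))
    (U : Sylow 2 ↥(Cfsg.Lie.twistedF4 K (2 ^ m))) (z : ↥(Cfsg.Lie.twistedF4 K (2 ^ m))) (hz : orderOf z = 2) (hzU : z ∈ (U : Subgroup ↥(Cfsg.Lie.twistedF4 K (2 ^ m))))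
    (hzc : ∀ u ∈ (U : Subgroup ↥(Cfsg.Lie.twistedF4 K (2 ^ m))), u * z = z * u)
    (C : Subgroup G) (hCle : C ≤ Subgroup.centralizer ({τ} : Set G))
    (hCn : (C.subgroupOf (Subgroup.centralizer ({τ} : Set G))).Normal) (ρ : ℕ) (hρ : Odd ρ)
    (hCi : C.relIndex (Subgroup.centralizer ({τ} : Set G)) = ρ)
    (e : ↥C ≃* ↥(Subgroup.centralizer ({z} : Set ↥(Cfsg.Lie.twistedF4 K (2 ^ m)))))
    (hO : Cfsg.oddCore ↥(Subgroup.centralizer ({τ} : Set G)) = ⊥) :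
    (1 ≤ m → Cfsg.oddCore G ≠ ⊥ ∨
        (Cfsg.oddCore G = ⊥ ∧ ∃ E : Subgroup G, E ≠ ⊥ ∧ E.Normal ∧ E ≤ C ⊓ Subgroup.centralizer (C : Set G)) ∨
        (∃ N : Subgroup G, N.Normal ∧ N.index = ρ ∧ Nonempty (↥N ≃* ↥(Cfsg.Lie.twistedF4 K (2 ^ m))))) ∧
      (m = 0 → Cfsg.oddCore G ⊔ C = ⊤ ∨ Nonempty (G ≃* ↥(Cfsg.Lie.twistedF4 K (2 ^ m)))) := by
  have _ := hev
  obtain ⟨σ, sz, O, hb, hG, hsz⟩ := CfsgLib.F42.model hK
  have h1 : τ ≠ 1 := fun h => by simp [h] at hτ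
  have h0 : τ ∈ C := CfsgLib.F42.top_two (C := C.subgroupOf _) (hCi ▸ hρ : Odd (C.relIndex _))
    (x := ⟨τ, Subgroup.mem_centralizer_singleton_iff.2 rfl⟩) (k := 1) (Subtype.ext (show τ ^ 2 = 1 from hτ ▸ pow_orderOf_eq_one τ))
  obtain ⟨φ, hφ, rfl, rfl⟩ := CfsgLib.F42.exists_phi O hb hG U hz hzU hzc e h1 h0 hCle
  have hC := O.map_C φ hφ
  have H := (O.map φ hφ).hyp_of S hτc (hC ▸ hCn) (hC ▸ hCi ▸ hρ) hO
  refine ⟨fun hm => or_iff_not_imp_left.2 fun h => ?_, fun hm => ?_⟩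
  · rw [not_not] at h
    by_cases hB : (O.map φ hφ).CaseB
    · exact Or.inr (hCi ▸ CfsgLib.F42.top_big hK hm O hb hG φ hφ H hB h)
    · exact Or.inl ⟨h, _, fun e => h1 (Subgroup.mem_bot.1 (e ▸ (O.map φ hφ).τ_mem)),
        H.caseA_big (CfsgLib.F42.big_of hK hm).1 hB h,
        hC ▸ le_inf ((O.map φ hφ).pat_le_C _) fun z hz x hx => (O.map φ hφ).C_cent_Z hx hz⟩
  · subst hm
    have h2 := CfsgLib.F42.two_of hK
    cases hsz h2
    by_cases hB : (O.map φ hφ).CaseB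
    · obtain ⟨O', -, -, H'⟩ := H.pin_two h2 hB
      obtain ⟨f⟩ := O'.equiv O (CfsgLib.F42.OP.braid_two H' h2) hb
      exact Or.inr ⟨(Subgroup.topEquiv.symm.trans (MulEquiv.subgroupCongr (O'.fin_two H' h2).symm)).trans
        (f.trans ((MulEquiv.subgroupCongr hG).trans Subgroup.topEquiv))⟩
    · exact Or.inl (hC ▸ H.caseA_two h2 hB)

end Cfsg.Agent.S3217
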