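import Mathlib
import Cfsg.Statements.S3219
import Cfsg.Agent.Lib.Kim.AH0
import Cfsg.Agent.Lib.Kim.AHE
import Cfsg.Agent.Lib.Kim.AHO

set_option autoImplicit false
open Cfsg

namespace Cfsg.Agent.S3219

open CfsgLib.Kim CfsgLib.Perm

/-- Let G be a finite doubly transitive permutation group on a set Ω in which the stabilizer of two points is isomorphic to the alternating group A₄. Then Ω has 6 points and G ≅ A₆, or Ω has 15 points and G ≅ A₇, or Ω has 16 points and G is isomorphic to the group of all affine transformations of the affine plane over the field with 4 elements, or G = C_G(J)O(G) for some involution J of G, where O(G) is the largest normal subgroup of G of odd order. -/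
theorem result {G : Type*} [Group G] [Finite G] {Ω : Type*} [Fintype Ω] [MulAction G Ω] [FaithfulSMul G Ω]
    (h2 : MulAction.IsMultiplyPretransitive G Ω 2) (a b : Ω) (hab : a ≠ b)
    (e : ↥(MulAction.stabilizer G a ⊓ MulAction.stabilizer G b) ≃* ↥(alternatingGroup (Fin 4))) :
    (Fintype.card Ω = 6 ∧ Nonempty (G ≃* ↥(alternatingGroup (Fin 6)))) ∨ (Fintype.card Ω = 15 ∧ Nonempty (G ≃* ↥(alternatingGroup (Fin 7)))) ∨
      (Fintype.card Ω = 16 ∧ ∃ (F : Type) (_ : Field F) (_ : Fintype F), Fintype.card F = 4 ∧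
        Nonempty (G ≃* ((Fin 2 → F) ≃ᵃ[F] (Fin 2 → F)))) ∨
      (∃ J : G, orderOf J = 2 ∧ Subgroup.centralizer ({J} : Set G) ⊔ Cfsg.oddCore G = ⊤) := by
  classical
  obtain ⟨τ, v, h⟩ := exists_AH4 h2 hab e
  rw [← Nat.card_eq_fintype_card]
  rcases Nat.even_or_odd (Nat.card Ω) with he | ho
  · rcases h.even he with ⟨-, h6⟩ | ⟨-, h16⟩ | ⟨h3, -⟩
    · refine Or.inl ⟨h6, ?_⟩
      have hG := (tt_top h2).card_grp trivial trivial hab
      rw [top_inf_eq, Subgroup.card_top, Set.ncard_univ, h.cardK, h6] at hG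
      have hG' : Nat.card G = 360 := by omega
      have hi : Function.Injective (MulAction.toPermHom G Ω) := MulAction.toPerm_injective
      have h1 := (MulAction.toPermHom G Ω).range.card_mul_index
      rw [← Nat.card_congr (MonoidHom.ofInjective hi).toEquiv, hG', Nat.card_perm, h6] at h1
      have h3 := Equiv.Perm.eq_alternatingGroup_of_index_eq_two (G := (MulAction.toPermHom G Ω).range)
        (by simp only [Nat.factorial] at h1; omega)
      exact ⟨((MonoidHom.ofInjective hi).trans (MulEquiv.subgroupCongr h3)).trans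
        (Finite.equivFinOfCardEq h6).altCongrHom⟩
    · exact Or.inr (Or.inr (Or.inl h16))
    · omega
  · rcases h.odd ho with ⟨⟨-, h15⟩ | ⟨h3, -⟩, h7⟩ | ⟨J, hJ, -, hC⟩
    · exact Or.inr (Or.inl ⟨h15, h7⟩)
    · omega
    · exact Or.inr (Or.inr (Or.inr ⟨J, hJ, hC⟩))

end Cfsg.Agent.S3219
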