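import Cfsg.Statements.S3221
import Cfsg.Agent.Lib.W2.P43Main

set_option autoImplicit false
open Cfsg

namespace Cfsg.Agent.S3221

/-- Let F be the field with 3 elements and t₀ an involution of PSp₄(3) = PSp₄(F) lying in the centre of a Sylow 2-subgroup. If G is a finite group of even order that has no subgroup of index 2 and contains an involution t whose centralizer C_G(t) is isomorphic to C_{PSp₄(3)}(t₀), then G ≅ PSp₄(3). -/
theorem result {G : Type*} [Group G] [Finite G] (hev : Even (Nat.card G))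
    (hG : ∀ H : Subgroup G, H.index ≠ 2) {F : Type*} [Field F] [Fintype F] (hF : Fintype.card F = 3)
    (U : Sylow 2 (Cfsg.PSp 2 F)) (t₀ : Cfsg.PSp 2 F) (ht₀ : orderOf t₀ = 2) (ht₀U : t₀ ∈ (U : Subgroup (Cfsg.PSp 2 F)))
    (ht₀c : ∀ u ∈ (U : Subgroup (Cfsg.PSp 2 F)), u * t₀ = t₀ * u) (t : G) (ht : orderOf t = 2)
    (e : ↥(Subgroup.centralizer ({t} : Set G)) ≃* ↥(Subgroup.centralizer ({t₀} : Set (Cfsg.PSp 2 F)))) :
    Nonempty (G ≃* Cfsg.PSp 2 F) := by
  obtain ⟨ι', h'⟩ := CfsgLib.W2.P43.exists_cz_psp hF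
  have : Finite (Cfsg.PSp 2 F) := Nat.finite_of_card_ne_zero (by
    have := CfsgLib.Symp.card_PSp (F := F) (m := 2) one_le_two
    rw [hF] at this
    intro e
    simp [e, Finset.prod_range_succ] at this)
  obtain ⟨ι, h⟩ := CfsgLib.W2.P43.exists_cz_of_equiv h' U ht₀ ht₀U ht₀c ht e
  exact h.equiv_psp hF hG

end Cfsg.Agent.S3221
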