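import Mathlib
import Cfsg.Statements.S3222
import Cfsg.Agent.Lib.D8Cent.Main
import Cfsg.Agent.Lib.AltAut.Basic
import Cfsg.Agent.Lib.Fgs.SymSolv
import Cfsg.Agent.S3309
import Cfsg.Agent.Lib.Dickson.Cayley

set_option autoImplicit false
open Cfsg

namespace Cfsg.Agent.S3222

open Subgroup CfsgLib CfsgLib.Tech Equiv

abbrev K := Multiplicative (ZMod 2) × Perm (Fin 4)

def τ : K := (Multiplicative.ofAdd 1, 1)
def ρ : K := (1, c[0, 1, 2, 3])
def ζ : K := (1, swap 0 2 * swap 1 3)
def σ : K := (1, swap 0 2)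
def η : K := (1, c[0, 1, 2])

def chi (i : Bool) : K →* Multiplicative (ZMod 2) :=
  MonoidHom.mk' (fun x => if i && decide (Perm.sign x.2 = -1) then x.1 * Multiplicative.ofAdd 1
    else x.1) (by revert i; decide +kernel)

theorem d0 : ∀ k : K, k ≠ 1 → (∀ x, x * k = k * x) → k = τ := by decide +kernel
theorem d1 : Fintype.card {k : K // k * ζ = ζ * k} = 16 := by decide +kernel
theorem d2 : ∀ a b : K, a * ζ = ζ * a → b * ζ = ζ * b →
    a * b * a⁻¹ * b⁻¹ = 1 ∨ a * b * a⁻¹ * b⁻¹ = ζ := by decide +kernel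
theorem d3 : ∀ a : K, a * ζ = ζ * a → a * a ≠ 1 → a * a = ζ := by decide +kernel
set_option synthInstance.maxSize 2000 in
theorem d4 : ∀ a b : K, a * ζ = ζ * a → b * ζ = ζ * b → a * b = b * a → a * a = 1 → a ≠ 1 →
    b * b = 1 → b ≠ 1 → b ≠ τ → a = ζ ∨ a = τ * ζ ∨
    ∃ y, a = y * τ * y⁻¹ ∨ a = y * σ * y⁻¹ ∨ a = y * (τ * σ) * y⁻¹ ∨ b = y * ζ * y⁻¹ ∨
      b = y * (τ * ζ) * y⁻¹ := by decide +kernel
set_option synthInstance.maxSize 2000 in
theorem d5 : ∀ m : K, m * m = 1 → m ≠ 1 → (chi false m = 1 → ∃ y, m = y * ζ * y⁻¹ ∨ m = y * σ * y⁻¹) ∧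
    (chi true m = 1 → ∃ y, m = y * ζ * y⁻¹ ∨ m = y * (τ * σ) * y⁻¹) := by decide +kernel
set_option synthInstance.maxSize 2000 in
theorem d6 : ∀ r s : K, (r = ρ ∨ r = τ * ρ) → (s = σ ∨ s = τ * σ) →
    r ^ 2 = ζ ∧ s * s = 1 ∧ s * r * s⁻¹ = r⁻¹ ∧ (∀ i : Fin 4, s ≠ r ^ i.val) ∧ s * ζ = ζ * s ∧
    (∀ k : K, k * ζ = ζ * k → ∃ i : Fin 4, k = r ^ i.val ∨ k = r ^ i.val * s ∨
      k = τ * r ^ i.val ∨ k = τ * (r ^ i.val * s)) ∧
    ∀ k : K, k * r = r * k → k * η = η * k → k = 1 ∨ k = τ := by decide +kernel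

theorem not_168 {G : Type*} [Group G] [Finite G] {G0 : Subgroup G} [hN : G0.Normal]
    [IsSimpleGroup G0] (hi : G0.index = 2) (hc : Nat.card G0 = 168)
    (hC : centralizer (G0 : Set G) = ⊥) {t y z : G} (ht : orderOf t = 2) (htG : t ∉ G0)
    (h48 : Nat.card (centralizer ({t} : Set G)) = 48) (hy : orderOf y = 3) (hyG : y ∈ G0)
    (hty : Commute t y) (hz : orderOf z = 2) (hzG : z ∈ G0)
    (hzt : ∀ g, g * z = z * g → g * t = t * g)
    (hinv : ∀ u ∈ G0, orderOf u = 2 → ¬ Commute u y) : False := by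
  set C := centralizer ({t} : Set G)
  have hG : Nat.card G = 336 := by rw [← G0.card_mul_index, hc, hi]
  have h7 : Nat.card (G ⧸ C) = 7 := by
    have := C.card_mul_index
    rw [h48, hG] at this
    change C.index = 7
    omega
  have hfix : ∀ g x : G, g • (x : G ⧸ C) = x ↔ g * (x * t * x⁻¹) = (x * t * x⁻¹) * g := by
    intro g x
    rw [MulAction.Quotient.smul_coe, smul_eq_mul, QuotientGroup.eq, mem_centralizer_singleton_iff]
    constructor
    · intro h
      calc g * (x * t * x⁻¹) = g * x * (t * ((g * x)⁻¹ * x)) * x⁻¹ * g := by group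
        _ = _ := by rw [← h]; group
    · intro h
      calc (g * x)⁻¹ * x * t = x⁻¹ * g⁻¹ * (x * t * x⁻¹ * g) * g⁻¹ * x := by group
        _ = _ := by rw [← h]; group
  have htt := Invol.mul_self_of_orderOf_two ht
  have hone : Nat.card {a : G ⧸ C // t • a = a ∧ y • a = a} = 1 := by
    rw [Nat.card_eq_one_iff_exists]
    refine ⟨⟨(1 : G), (hfix _ _).2 (by simp), (hfix _ _).2 (by simpa using hty.eq.symm)⟩, ?_⟩
    rintro ⟨a, h1, h2⟩
    obtain ⟨x, rfl⟩ := QuotientGroup.mk_surjective a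
    rw [hfix] at h1 h2
    refine Subtype.ext (QuotientGroup.eq.2 (mem_centralizer_singleton_iff.2 ?_))
    by_contra hne
    have h3 : t * (x * t * x⁻¹) ∈ G0 := (mul_mem_iff_of_index_two hi).2 (iff_of_false htG
      fun h => htG (by simpa [mul_assoc] using hN.conj_mem _ h x⁻¹))
    refine hinv _ h3 (Invol.orderOf_eq_two (fun e => hne ?_) ?_) (hty.mul_left (Commute.symm h2))
    · have e' : x * t * x⁻¹ = t := by rw [← htt] at e; exact mul_left_cancel e
      rw [mul_one]
      nth_rewrite 1 [← e']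
      group
    · rw [mul_assoc, ← mul_assoc (x * t * x⁻¹), ← h1, mul_assoc t, conj_mul, htt]
      simpa using htt
  have h1 := PSL2Rec.card_fixedBy_modEq_of_commute (X := G ⧸ C) (p := 3) (k := 1) (z := y) (x := t)
    (by rw [pow_one, ← hy, pow_orderOf_eq_one]) hty
  have h2 := PSL2Rec.card_fixedBy_modEq (X := G ⧸ C) (p := 2) (k := 1) (x := t)
    (by rw [pow_one, sq, htt])
  have h3 := PSL2Rec.card_fixedBy_lt (X := G ⧸ C) (x := t) (by
    by_contra h
    push Not at h
    have hle : normalClosure ({t} : Set G) ≤ C.normalCore := by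
      refine normalClosure_le_normal (Set.singleton_subset_iff.2 ?_)
      rw [normalCore_eq_ker]
      exact Equiv.ext h
    rcases (inferInstance : (C.normalCore.subgroupOf G0).Normal).eq_bot_or_eq_top with h4 | h4
    · refine Invol.ne_one_of_orderOf_two ht (mem_bot.1 (hC ▸ fun g hg => ?_))
      exact (commute_of_normal_of_disjoint _ _ inferInstance hN (subgroupOf_eq_bot.1 h4) t g
        (hle (subset_normalClosure rfl)) hg).eq.symm
    · have := card_le_of_le ((subgroupOf_eq_top.1 h4).trans C.normalCore_le)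
      omega)
  have h4 := PSL2Rec.simple_involution_moved (G := G0) (by rw [hc]; norm_num) (G ⧸ C)
    (x := ⟨z, hzG⟩) (Subtype.ext (Invol.sq_of_orderOf_two hz))
  have h5 : Nat.card (MulAction.fixedBy (G ⧸ C) (⟨z, hzG⟩ : G0)) ≤
      Nat.card (MulAction.fixedBy (G ⧸ C) t) := by
    refine Nat.card_mono (Set.toFinite _) fun a ha => ?_
    obtain ⟨x, rfl⟩ := QuotientGroup.mk_surjective a
    exact (hfix t x).2 (hzt _ ((hfix z x).1 ha).symm).symm
  rw [hone] at h1
  rw [h7] at h2 h3 h4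
  unfold Nat.ModEq at h1 h2 h4
  omega


/-- Let G be a finite group of even order such that (1) some involution t lying in the centre of a Sylow 2-subgroup of G has C_G(t) ≅ Z₂ × S₄, and (2) every Sylow 2-subgroup S of G satisfies C_G(S′) = S, where S′ is the derived subgroup of S. Then G = C_G(t) if G is solvable, and G ≅ S₆ otherwise. -/
theorem result {G : Type*} [Group G] [Finite G] (hev : Even (Nat.card G))
    (t : G) (ht : orderOf t = 2) (T : Sylow 2 G) (htT : t ∈ (T : Subgroup G)) (htc : ∀ s ∈ (T : Subgroup G), s * t = t * s)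
    (e : ↥(Subgroup.centralizer ({t} : Set G)) ≃* (Multiplicative (ZMod 2) × Equiv.Perm (Fin 4)))
    (h2 : ∀ S : Sylow 2 G, Subgroup.centralizer ((⁅(S : Subgroup G), (S : Subgroup G)⁆ : Subgroup G) : Set G) = (S : Subgroup G)) :
    (Group.IsSolvable G → Subgroup.centralizer ({t} : Set G) = ⊤) ∧
      (¬ Group.IsSolvable G → Nonempty (G ≃* Equiv.Perm (Fin 6))) := by
  let ι : K →* G := (centralizer ({t} : Set G)).subtype.comp e.symm.toMonoidHom
  have hι : Function.Injective ι := (subtype_injective _).comp e.symm.injective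
  have hr : ∀ g : G, g * t = t * g ↔ ∃ k, ι k = g := fun g =>
    ⟨fun h => ⟨e ⟨g, mem_centralizer_singleton_iff.2 h⟩, by simp [ι]⟩,
      fun ⟨k, hk⟩ => hk ▸ mem_centralizer_singleton_iff.1 (e.symm k).2⟩
  have hτ : ι τ = t := by
    obtain ⟨k, hk⟩ := (hr t).1 rfl
    rw [← d0 k (fun h => Invol.ne_one_of_orderOf_two ht (by rw [← hk, h, map_one])) fun x =>
      hι (by rw [map_mul, map_mul, hk]; exact (hr _).2 ⟨x, rfl⟩), hk]
  have h48 : Nat.card (centralizer ({t} : Set G)) = 48 := by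
    rw [Nat.card_congr e.toEquiv, Nat.card_eq_fintype_card]
    decide +kernel
  set z := ι ζ with hz
  have hS16 : Nat.card ((centralizer ({ζ} : Set K)).map ι) = 16 := by
    rw [card_map_of_injective hι, ← d1, ← Nat.card_eq_fintype_card]
    exact Nat.card_congr (Equiv.subtypeEquivRight fun k => mem_centralizer_singleton_iff)
  obtain ⟨S, hS⟩ : ∃ S : Sylow 2 G, (S : Subgroup G) = (centralizer ({ζ} : Set K)).map ι := by
    obtain ⟨S, hS⟩ := (IsPGroup.of_card (p := 2) (n := 4) hS16).exists_le_sylow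
    refine ⟨S, (eq_of_le_of_card_ge hS ?_).symm⟩
    have h1 := card_dvd_of_le (show (T : Subgroup G) ≤ centralizer {t} from fun s hs =>
      mem_centralizer_singleton_iff.2 (htc s hs))
    obtain ⟨k, hk⟩ := T.isPGroup'.exists_card_eq
    rw [hS16, Nat.card_congr (S.equiv T).toEquiv, hk]
    rw [h48, hk] at h1
    have h3 : 2 ^ k ∣ 2 ^ 4 := (Nat.Coprime.pow_left k (by norm_num : Nat.Coprime 2 3)).dvd_of_dvd_mul_left h1
    exact Nat.le_of_dvd (by norm_num) h3
  have hmS : ∀ g : G, g ∈ (S : Subgroup G) ↔ ∃ k, k * ζ = ζ * k ∧ ι k = g := fun g => by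
    rw [hS, mem_map]
    simp only [mem_centralizer_singleton_iff]
  have hCz : ∀ g : G, g * z = z * g ↔ g ∈ (S : Subgroup G) := by
    intro g
    constructor
    · intro h
      rw [← h2 S]
      refine centralizer_le (t := ((zpowers z : Subgroup G) : Set G)) ?_ ?_
      · rw [SetLike.coe_subset_coe, commutator_le]
        intro a ha b hb
        obtain ⟨a, ha', rfl⟩ := (hmS a).1 ha
        obtain ⟨b, hb', rfl⟩ := (hmS b).1 hb
        rw [← map_commutatorElement, commutatorElement_def]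
        rcases d2 a b ha' hb' with h | h <;> rw [h]
        · simp
        · exact mem_zpowers _
      · rintro _ ⟨i, rfl⟩
        exact (Commute.zpow_left (Commute.symm h) i).eq
    · intro h
      obtain ⟨k, hk, rfl⟩ := (hmS g).1 h
      rw [hz, ← map_mul, hk, map_mul]
  have hCz' : centralizer ({z} : Set G) = S := by
    ext g; rw [mem_centralizer_singleton_iff, hCz]
  have hzt : ∀ g : G, g * z = z * g → g * t = t * g := fun g hg => by
    obtain ⟨k, -, hk⟩ := (hmS g).1 ((hCz g).1 hg)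
    exact (hr g).2 ⟨k, hk⟩
  have htS : t ∈ centralizer ((S : Subgroup G) : Set G) := fun g hg => hzt g ((hCz g).2 hg)
  have hzS : z ∈ centralizer ((S : Subgroup G) : Set G) := fun g hg => (hCz g).2 hg
  have hcj : ∀ a y : K, IsConj (ι a) (ι (y * a * y⁻¹)) := fun a y =>
    isConj_iff.2 ⟨ι y, by simp⟩
  have n1 : ¬ IsConj z t := fun h => by
    have := PSL2Rec.card_centralizer_of_isConj h
    rw [hCz', hS, hS16, h48] at this
    omega
  have hext : ∀ c ∈ centralizer ((S : Subgroup G) : Set G), IsConj (ι (τ * ζ)) c → ι (τ * ζ) = c := by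
    intro c hc h
    obtain ⟨g, h1, h3⟩ := Cfsg.Agent.S3309.extremal S hc h
    obtain ⟨r, hr1, hr2⟩ := (hmS _).1 (h3 (ι ρ) ((hmS _).2 ⟨ρ, by decide +kernel, rfl⟩)
      (by rw [← map_mul, ← map_mul]; exact congrArg ι (by decide +kernel)))
    have h4 : ι (r * r) = g * z * g⁻¹ := by
      rw [map_mul, hr2, conj_mul, ← map_mul]
      exact congrArg (fun k => g * ι k * g⁻¹) (by decide +kernel)
    have h5 : r * r = ζ := d3 r hr1 fun e => by
      rw [e, map_one, eq_comm, conj_eq_one_iff] at h4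
      exact absurd (hι (h4.trans (map_one ι).symm)) (by decide +kernel)
    rw [h5] at h4
    have h6 := mul_inv_eq_iff_eq_mul.1 h4.symm
    rw [← h1, map_mul, hτ, ← hz, ← mul_assoc, hzt g h6, mul_assoc t, h6]
    group
    rfl
  have n2 : ¬ IsConj (ι (τ * ζ)) t := fun h =>
    absurd (hι ((hext t htS h).trans hτ.symm)) (by decide +kernel)
  have n3 : ¬ IsConj (ι (τ * ζ)) z := fun h => absurd (hι (hext z hzS h)) (by decide +kernel)
  have n4 : ¬ (IsConj (ι σ) t ∧ IsConj (ι (τ * σ)) t) := by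
    rintro ⟨h1, h3⟩
    obtain ⟨g, h4, h5⟩ := Cfsg.Agent.S3309.extremal S htS h1
    obtain ⟨a, ha1, ha2⟩ := (hmS _).1 (h5 z ((hCz z).1 rfl)
      (by rw [hz, ← map_mul, ← map_mul]; exact congrArg ι (by decide +kernel)))
    obtain ⟨b, hb1, hb2⟩ := (hmS _).1 (h5 t ((hCz t).1 (hzt z rfl).symm) ((hr _).2 ⟨σ, rfl⟩).symm)
    have hg : ¬ g * t = t * g := fun h => by
      have : ι σ = ι τ := by
        rw [hτ]
        calc ι σ = g⁻¹ * (t * g) := by rw [← h4]; group
          _ = t := by rw [← h]; group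
      exact absurd (hι this) (by decide +kernel)
    have haz : IsConj z (ι a) := isConj_iff.2 ⟨g, ha2.symm⟩
    have hbt : IsConj t (ι b) := isConj_iff.2 ⟨g, hb2.symm⟩
    rcases d4 a b ha1 hb1 (hι (by rw [map_mul, map_mul, ha2, hb2, conj_mul, conj_mul, hzt z rfl]))
      (hι (by rw [map_mul, ha2, conj_mul, hz, ← map_mul, show ζ * ζ = 1 by decide +kernel]; simp))
      (fun e => by
        rw [e, map_one, eq_comm, conj_eq_one_iff] at ha2
        exact absurd (hι (ha2.trans (map_one ι).symm)) (by decide +kernel))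
      (hι (by rw [map_mul, hb2, conj_mul, Invol.mul_self_of_orderOf_two ht]; simp))
      (fun e => by
        rw [e, map_one, eq_comm, conj_eq_one_iff] at hb2
        exact Invol.ne_one_of_orderOf_two ht hb2)
      (fun e => hg (by rw [e, hτ] at hb2; exact mul_inv_eq_iff_eq_mul.1 hb2.symm))
      with rfl | rfl | ⟨y, rfl | rfl | rfl | rfl | rfl⟩
    · exact hg (hzt g (mul_inv_eq_iff_eq_mul.1 ha2.symm))
    · exact n3 haz.symm
    · exact n1 (hτ ▸ haz.trans (hcj _ y).symm)
    · exact n1 ((haz.trans (hcj _ y).symm).trans h1)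
    · exact n1 ((haz.trans (hcj _ y).symm).trans h3)
    · exact n1 (hbt.trans (hcj _ y).symm).symm
    · exact n2 (hbt.trans (hcj _ y).symm).symm
  obtain ⟨i, hi⟩ : ∃ i : Bool, ∀ m : K, chi i m = 1 → ¬ IsConj (ι m) t := by
    have h1 : ∀ m : K, IsConj (ι m) t → m * m = 1 ∧ m ≠ 1 := fun m hm => by
      have := (PSL2Rec.orderOf_eq_of_isConj hm).trans ht
      rw [orderOf_injective ι hι] at this
      exact ⟨Invol.mul_self_of_orderOf_two this, Invol.ne_one_of_orderOf_two this⟩
    rcases not_and_or.1 n4 with h | h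
    · refine ⟨false, fun m hm hc => ?_⟩
      obtain ⟨y, rfl | rfl⟩ := (d5 m (h1 m hc).1 (h1 m hc).2).1 hm
      · exact n1 ((hcj _ y).trans hc)
      · exact h ((hcj _ y).trans hc)
    · refine ⟨true, fun m hm hc => ?_⟩
      obtain ⟨y, rfl | rfl⟩ := (d5 m (h1 m hc).1 (h1 m hc).2).2 hm
      · exact n1 ((hcj _ y).trans hc)
      · exact h ((hcj _ y).trans hc)
  obtain ⟨G0, hN, hi2, htG⟩ : ∃ G0 : Subgroup G, G0.Normal ∧ G0.index = 2 ∧ t ∉ G0 := by
    refine (Transfer.thompson_transfer (H := centralizer {t}) (Q := (chi i).ker.map ι) ?_ ?_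
      ht).resolve_right ?_
    · exact fun h => S.not_dvd_index (h.trans (index_dvd_of_le fun g hg =>
        mem_centralizer_singleton_iff.2 (hzt g ((hCz g).2 hg))))
    · have : centralizer ({t} : Set G) = (⊤ : Subgroup K).map ι := by
        ext g
        simp [mem_centralizer_singleton_iff, hr]
      rw [this, relIndex_map_map_of_injective _ _ hι, relIndex_top_right, index_ker,
        MonoidHom.range_eq_top.2 ?_]
      · simp
      · exact (by decide +kernel : ∀ i, Function.Surjective (chi i)) i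
    · rintro ⟨g, m, hm, e⟩
      exact hi m hm (isConj_iff.2 ⟨g, e.symm⟩).symm
  have hmod : ∀ k : K, ∃ r, (r = k ∨ r = τ * k) ∧ ι r ∈ G0 := fun k => by
    by_cases h : ι k ∈ G0
    · exact ⟨k, Or.inl rfl, h⟩
    · exact ⟨τ * k, Or.inr rfl, by
        rw [map_mul, hτ]; exact (mul_mem_iff_of_index_two hi2).2 (iff_of_false htG h)⟩
  obtain ⟨r, hr1, hr2⟩ := hmod ρ
  obtain ⟨s, hs1, hs2⟩ := hmod σ
  obtain ⟨e1, e2, e3, e4, e5, e6, e7⟩ := d6 r s hr1 hs1
  have hzG : z ∈ G0 := by rw [hz, ← e1, map_pow]; exact pow_mem hr2 2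
  have hz2 : orderOf z = 2 := by
    rw [hz, orderOf_injective ι hι]
    exact orderOf_eq_prime (by decide +kernel) (by decide +kernel)
  have hy3 : orderOf (ι η) = 3 := by
    rw [orderOf_injective ι hι]
    exact orderOf_eq_prime (by decide +kernel) (by decide +kernel)
  have hyG : ι η ∈ G0 := by
    rw [show η = (η * η) ^ 2 by decide +kernel, map_pow]
    exact sq_mem_of_index_two hi2 _
  have hr4 : orderOf (⟨ι r, hr2⟩ : G0) = 4 := by
    rw [orderOf_mk, orderOf_injective ι hι]
    refine orderOf_eq_prime_pow (p := 2) (n := 1) (by rw [pow_one, e1]; decide +kernel) ?_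
    rw [show 2 ^ (1 + 1) = 2 * 2 from rfl, pow_mul, e1]
    decide +kernel
  have hrz : (⟨ι r, hr2⟩ : G0) ^ 2 = ⟨z, hzG⟩ := Subtype.ext (by simp [hz, ← e1])
  have hD : D8Cent.IsD8 (⟨ι r, hr2⟩ : G0) ⟨ι s, hs2⟩ := by
    have hrC : (⟨ι r, hr2⟩ : G0) ∈ centralizer {(⟨ι r, hr2⟩ : G0) ^ 2} :=
      mem_centralizer_singleton_iff.2 (Commute.self_pow _ 2).eq
    have hsC : (⟨ι s, hs2⟩ : G0) ∈ centralizer {(⟨ι r, hr2⟩ : G0) ^ 2} := by
      rw [hrz, mem_centralizer_singleton_iff]
      exact Subtype.ext (by simpa using congrArg ι e5)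
    refine ⟨hr4, Subtype.ext (by simpa using congrArg ι e2),
      Subtype.ext (by simpa using congrArg ι e3), fun h => ?_, fun g => ⟨fun hg => ?_, ?_⟩⟩
    · classical
      rw [mem_zpowers_iff_mem_range_orderOf, hr4, Finset.mem_image] at h
      obtain ⟨k, hk, h⟩ := h
      exact e4 ⟨k, Finset.mem_range.1 hk⟩ (hι (by simpa using (congrArg Subtype.val h).symm))
    · rw [hrz, mem_centralizer_singleton_iff] at hg
      obtain ⟨k, hk, hg'⟩ := (hmS g).1 ((hCz g).1 (congrArg Subtype.val hg))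
      have hg2 := g.2
      obtain ⟨j, rfl | rfl | rfl | rfl⟩ := e6 k hk
      · exact ⟨j.val, Or.inl (Subtype.ext (by simp [← hg']))⟩
      · exact ⟨j.val, Or.inr (Subtype.ext (by simp [← hg']))⟩
      · rw [← hg', map_mul, hτ, map_pow] at hg2
        exact absurd ((G0.mul_mem_cancel_right (pow_mem hr2 _)).1 hg2) htG
      · rw [← hg', map_mul, hτ, map_mul, map_pow] at hg2
        exact absurd ((G0.mul_mem_cancel_right (mul_mem (pow_mem hr2 _) hs2)).1 hg2) htG
    · rintro ⟨j, rfl | rfl⟩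
      · exact zpow_mem hrC j
      · exact mul_mem (zpow_mem hrC j) hsC
  by_cases htop : centralizer ({t} : Set G) = ⊤
  · refine ⟨fun _ => htop, fun h => absurd ?_ h⟩
    have := Fgs.isSolvable_perm_fin_four
    exact Group.isSolvable_of_surjective (f := ι) fun g =>
      (hr g).1 (mem_centralizer_singleton_iff.1 (htop ▸ mem_top g))
  have hC : centralizer (G0 : Set G) = ⊥ := by
    rw [eq_bot_iff]
    intro g hg
    obtain ⟨k, rfl⟩ := (hr g).1 (hzt g (hg z hzG).symm)
    rcases e7 k (hι (by simpa using (hg _ hr2).symm)) (hι (by simpa using (hg _ hyG).symm))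
      with rfl | rfl
    · simp
    · refine absurd (eq_top_iff.2 fun g _ => mem_centralizer_singleton_iff.2 ?_) htop
      rw [hτ] at hg
      by_cases h : g ∈ G0
      · exact hg g h
      · have := hg _ ((mul_mem_iff_of_index_two hi2).2 (iff_of_false htG h))
        rw [mul_assoc] at this
        exact mul_left_cancel this
  have hty : t * ι η = ι η * t := ((hr _).2 ⟨η, rfl⟩).symm
  suffices h : Nonempty (G ≃* Perm (Fin 6)) by
    obtain ⟨f⟩ := h
    exact ⟨fun h => absurd (Group.isSolvable_of_surjective (f := f.toMonoidHom) f.surjective)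
      (Perm.not_isSolvable _ (by simp; norm_num)), fun _ => ⟨f⟩⟩
  have hG := G0.card_mul_index
  have hG' := (centralizer ({t} : Set G)).card_mul_index
  rw [hi2] at hG
  rw [h48] at hG'
  by_cases hi0 : ∀ M : Subgroup G0, M.index ≠ 2
  · rcases hD.of_no_index_two hi0 with ⟨h1, h3⟩ | ⟨⟨f⟩⟩
    · refine (not_168 hi2 h3 hC ht htG h48 hy3 hyG hty hz2 hzG hzt fun u hu hu2 huy => ?_).elim
      obtain ⟨c, hc⟩ := isConj_iff.1 (hD.isConj_of_no_index_two hi0 (a := ⟨u, hu⟩)
        (by rw [orderOf_mk, hu2]))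
      have h4 : c * ⟨ι η, hyG⟩ * c⁻¹ ∈ centralizer {(⟨ι r, hr2⟩ : G0) ^ 2} := by
        rw [mem_centralizer_singleton_iff, ← hc, conj_mul, conj_mul]
        congr 2
        exact Subtype.ext huy.eq.symm
      have h5 := orderOf_dvd_of_pow_eq_one (PSL2Rec.pow_card_eq_one_of_mem h4)
      rw [hD.card_eq, show orderOf (c * ⟨ι η, hyG⟩ * c⁻¹) = orderOf (⟨ι η, hyG⟩ : G0) from
        (MulAut.conj c).orderOf_eq _, orderOf_mk, hy3] at h5
      omega
    · exact AltAut.nonempty_equiv_perm_six f hi2 hC htG hyG hy3 hty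
  · exfalso
    push Not at hi0
    obtain ⟨H, hH⟩ := hi0
    rcases hD.of_index_two hH with h1 | ⟨⟨f⟩⟩ | ⟨⟨f⟩⟩
    · have h3 := Transfer.hasNormalPComplement_iff_mul_coprime.1 h1 ⟨ι η, hyG⟩
        ⟨z * (ι η)⁻¹ * z⁻¹, hN.conj_mem _ (inv_mem hyG) z⟩ (by rw [orderOf_mk, hy3]; norm_num)
        (by
          rw [orderOf_mk, show orderOf (z * (ι η)⁻¹ * z⁻¹) = orderOf (ι η)⁻¹ from
            (MulAut.conj z).orderOf_eq _, orderOf_inv, hy3]
          norm_num)
      rw [← orderOf_coe, coe_mul, hz] at h3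
      simp only [← map_inv, ← map_mul] at h3
      rw [orderOf_injective ι hι, orderOf_eq_prime (p := 2) (by decide +kernel)
        (by decide +kernel)] at h3
      norm_num at h3
    · rw [Nat.card_congr f.toEquiv, Dickson.card_S4] at hG
      exact htop (index_eq_one.1 (by omega))
    · have h120 : Nat.card G0 = 120 := by
        rw [Nat.card_congr f.toEquiv, Nat.card_perm]
        simp [Nat.factorial]
      set C := centralizer ({t} : Set G)
      have h1 : C.normalCore ≠ ⊥ := fun h => by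
        have := PSL2Rec.card_dvd_factorial_of_normalCore C h
        rw [← hG, h120, show C.index = 5 by omega] at this
        norm_num [Nat.factorial] at this
      have h3 : C.normalCore.subgroupOf G0 ≠ ⊥ := fun h => h1 (by
        rw [eq_bot_iff, ← hC]
        exact fun g hg x hx => (commute_of_normal_of_disjoint _ _ inferInstance hN
          (subgroupOf_eq_bot.1 h) g x hg hx).eq.symm)
      have : ((C.normalCore.subgroupOf G0).map f.toMonoidHom).Normal :=
        Normal.map inferInstance _ f.surjective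
      have h4 := card_le_of_le (Perm.alternatingGroup_le_of_normal (α := Fin 5) (by simp)
        (N := (C.normalCore.subgroupOf G0).map f.toMonoidHom)
        ((nontrivial_iff_ne_bot _).2 (by rwa [Ne, map_eq_bot_iff_of_injective _ f.injective])))
      have h5 := Classical.alt_card_mul 5 (by norm_num)
      rw [card_map_of_injective f.injective, ← inf_subgroupOf_right,
        Nat.card_congr (subgroupOfEquivOfLe inf_le_right).toEquiv] at h4
      have h6 := card_le_of_le (inf_le_left.trans C.normalCore_le : C.normalCore ⊓ G0 ≤ C)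
      have h7 : Nat.card (alternatingGroup (Fin 5)) = 60 := by
        norm_num [Nat.factorial] at h5 ⊢
        omega
      omega

end Cfsg.Agent.S3222
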