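import Cfsg.Statements.S3233
import Cfsg.Agent.Lib.Parr.Set3
import Cfsg.Agent.S0815

set_option autoImplicit false
open Cfsg CfsgLib CfsgLib.Parr CfsgLib.ExtraTwo Subgroup

namespace Cfsg.Agent.S3233

/-- Let G be a finite group with an involution z, H = C_G(z), such that (i) J = O₂(H) is an (internal) direct product of a four-group and an extraspecial group of order 2⁹, with C_H(J) ≤ J, and (ii) H contains an element c of order 3 such that J⟨c⟩ is normal in H with H/J⟨c⟩ ≅ Aut(PSp₄(3)) and C_H(c)/⟨c, z⟩ ≅ PSp₄(3). Then G = H·O(G), or G is isomorphic to the Fischer group Fi₂₃, or G has a normal four-group V with G/V ≅ Aut(U₆(2)). -/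
theorem result {G : Type*} [Group G] [Finite G] (z : G) (hz : orderOf z = 2)
    {F : Type*} [Field F] [Fintype F] (hF : Fintype.card F = 3) {K : Type*} [Field K] [Fintype K] (hK : Fintype.card K = 4)
    (V E : Subgroup ↥(Subgroup.centralizer ({z} : Set G))) (hVE : Cfsg.IsInternalDirectProduct V E (Cfsg.pCore 2 ↥(Subgroup.centralizer ({z} : Set G)))) (hV : Nat.card ↥V = 4) (hV2 : ∀ v ∈ V, v ^ 2 = 1)
    (hE : Cfsg.IsExtraspecial 2 ↥E) (hEc : Nat.card ↥E = 2 ^ 9)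
    (hCJ : Subgroup.centralizer ((Cfsg.pCore 2 ↥(Subgroup.centralizer ({z} : Set G))) : Set ↥(Subgroup.centralizer ({z} : Set G))) ≤ Cfsg.pCore 2 ↥(Subgroup.centralizer ({z} : Set G)))
    (zc c : ↥(Subgroup.centralizer ({z} : Set G))) (hzc : (zc : G) = z) (hc : orderOf c = 3)
    [hJc : (Cfsg.pCore 2 ↥(Subgroup.centralizer ({z} : Set G)) ⊔ Subgroup.zpowers c).Normal] (e : (↥(Subgroup.centralizer ({z} : Set G)) ⧸ (Cfsg.pCore 2 ↥(Subgroup.centralizer ({z} : Set G)) ⊔ Subgroup.zpowers c)) ≃* MulAut (Cfsg.PSp 2 F))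
    [hcz : ((Subgroup.zpowers c ⊔ Subgroup.zpowers zc).subgroupOf (Subgroup.centralizer ({c} : Set ↥(Subgroup.centralizer ({z} : Set G))))).Normal]
    (e' : (↥(Subgroup.centralizer ({c} : Set ↥(Subgroup.centralizer ({z} : Set G)))) ⧸ (Subgroup.zpowers c ⊔ Subgroup.zpowers zc).subgroupOf (Subgroup.centralizer ({c} : Set ↥(Subgroup.centralizer ({z} : Set G))))) ≃* Cfsg.PSp 2 F) :
    Subgroup.centralizer ({z} : Set G) ⊔ Cfsg.oddCore G = ⊤ ∨ Cfsg.Spor.IsoFi23 G ∨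
      (∃ (W : Subgroup G) (hW : W.Normal), Nat.card ↥W = 4 ∧ (∀ w ∈ W, w ^ 2 = 1) ∧
        Nonempty ((G ⧸ W) ≃* MulAut (Cfsg.PSU 6 K 2))) := by
  obtain ⟨i⟩ := exists_Gam0_aut hF
  obtain ⟨m, mk, mr⟩ := exists_hom e i
  obtain ⟨i'⟩ := exists_L0_psp hF
  obtain ⟨ψ, k1, k2⟩ := exists_hom e' i'
  have hp := Core.isPGroup_pCore 2 (centralizer {z})
  have nQ : (pCore 2 (centralizer {z})).Normal := inferInstance
  generalize pCore 2 (centralizer {z}) = Q at *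
  have cz : ∀ h, Commute h zc := fun h => Subtype.ext (show Commute h.1 zc.1 from hzc.symm ▸ mc.1 h.2)
  have o2 : orderOf zc = 2 := by rw [← orderOf_coe, hzc, hz]
  have c3 : c ^ 3 = 1 := hc ▸ pow_orderOf_eq_one c
  have nz : (zpowers zc).Normal := ⟨fun x hx g => by rwa [← (comm_zpowers (cz g).symm hx).eq, mul_inv_cancel_right]⟩
  have dec : ∀ x ∈ zpowers c ⊔ zpowers zc, ∃ a ∈ zpowers c, ∃ b ∈ zpowers zc, a * b = x := fun x hx => by
    rwa [← SetLike.mem_coe, mul_normal] at hx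
  have zQ : zpowers zc ≤ Q := zpowers_le.2 (hCJ fun j _ => cz j)
  have dis : ∀ x ∈ zpowers c, x ∈ Q → x = 1 := fun x a b => by
    obtain ⟨k, e⟩ := hp ⟨x, b⟩
    exact (pow_eq_one_iff_of_coprime ((by decide : Nat.Coprime 3 2).pow_right k)).1
      ⟨by obtain ⟨n, rfl⟩ := a; simp only [← zpow_natCast, ← zpow_mul, mul_comm n]; simp [zpow_mul, zpow_ofNat, c3],
        congrArg Subtype.val e⟩
  have hq : ∀ j ∈ Q, Commute c j → j = 1 ∨ j = zc := fun j hj c' => by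
    have : ψ ⟨j, mc.2 c'.symm⟩ = 1 := by_contra fun n => by
      obtain ⟨k, e⟩ := (hp.comap_subtype (K := centralizer {c})).map ψ ⟨h0, L0_le_of_normal (N := (Q.subgroupOf _).map ψ) (fun g hg => by
        obtain ⟨g, rfl⟩ := k2.ge hg
        rintro _ ⟨x, hx, rfl⟩
        exact ⟨g * x * g⁻¹, nQ.conj_mem _ hx g.1, by simp⟩) (k2.le ⟨_, rfl⟩) ⟨_, hj, rfl⟩ n h0_mem⟩
      exact absurd ((pow_eq_one_iff_of_coprime ((by decide : Nat.Coprime 3 2).pow_right k)).1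
        ⟨by rw [← h0_cube, pow_three, mul_assoc], congrArg Subtype.val e⟩) (by decide +kernel : h0 ≠ 1)
    obtain ⟨a, ha, b, hb, rfl⟩ := dec j (k1.le this)
    rw [dis a ha ((mul_mem_cancel_right (zQ hb)).1 hj), one_mul]
    exact (mem_zpowers_iff_of_mul_self (mul_self_of_orderOf o2)).1 hb
  obtain ⟨z', es⟩ := exists_ES hE
  have sq : ∀ a ∈ V, a * a = 1 := fun a ha => pow_two a ▸ hV2 a ha
  obtain rfl : zc = z' := by
    obtain ⟨x, hx, y, hy, e⟩ := es.exists_commutator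
    refine ((hq z' (hVE.2.1 es.mem) (mul_inv_eq_iff_eq_mul.1 ?_)).resolve_left es.ne_one).symm
    have := (DP.of' hVE es hEc sq).comm (nQ.conj_mem x (hVE.2.1 hx) c) (nQ.conj_mem y (hVE.2.1 hy) c)
    rw [conj_inv, conj_inv, conj_mul, conj_mul, conj_mul, e, conj_eq_one_iff] at this
    exact this.resolve_left es.ne_one
  have T : T3 zc c V E Q := ⟨DP.of' hVE es hEc sq, hV, nQ, cz, hc, hq, hJc⟩
  have ce : Nat.card (centralizer {c}) = 6 * 25920 := by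
    rw [card_eq_card_quotient_mul_card_subgroup ψ.ker, Nat.card_congr (QuotientGroup.quotientKerEquivRange ψ).toEquiv, k2, card_L0, k1,
      Nat.card_congr (subgroupOfEquivOfLe (sup_le (zpowers_le.2 (mc.2 (Commute.refl c))) (zpowers_le.2 (mc.2 (cz c).symm)))).toEquiv,
      card_eq_mul le_sup_left le_sup_right (fun x a b => dis x a (zQ b)) dec, Nat.card_zpowers, Nat.card_zpowers, hc, o2]
  obtain ⟨f, f1, f2, f3, f4⟩ := T.exf mk mr ce
  have P := hzc ▸ DP.of hVE es hEc sq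
  have cA := (card_map_of_injective (K := V) (subtype_injective _)).trans hV
  have mZ : ∀ d : centralizer {z}, d.1 ∈ Zs (LargeExtra.amb Q) ↔ d ∈ Zs Q := fun d =>
    ⟨fun h => ⟨LargeExtra.coe_mem_amb.1 h.1, fun j hj => Subtype.ext (h.2 _ ⟨j, hj, rfl⟩)⟩, fun h => ⟨⟨d, h.1, rfl⟩, by
      rintro _ ⟨j, hj, rfl⟩; exact congrArg Subtype.val (h.2 j hj)⟩⟩
  obtain ⟨Φ, hz', rJ, h1, h2⟩ := P.setup (by omega) hCJ f f1 f2.le (f2 ▸ L0_le_Gam) (fun h e => by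
    obtain ⟨x, hx, y, hy, n⟩ := es.nonab
    have q : c⁻¹ * h ∈ Q := f1.le (by simp [e, f3])
    refine ⟨x, ⟨x, hVE.2.1 hx, rfl⟩, fun s => n ((T.fpf (hVE.2.1 hx) ?_).2 y (hVE.2.1 hy)).symm⟩
    have := mul_mem ((mZ (x⁻¹ * (h * x * h⁻¹))).1 s) (T.nZ (T.P.zZ (T.P.comm (inv_mem (hVE.2.1 hx)) (inv_mem q))) h)
    convert this using 1
    group) fun κ θ π ρ A B => by
      have cc := mc.1 c.2
      obtain ⟨k, a, b⟩ := A.mL v0 v0_mem
      refine absurd (A.rt k a VV b ▸ ts_of_free (A.ok cc) ?_ (fun v hv => ?_) (A.ok a) (by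
        rw [A.rt k a VV b, ← map_mul, show VV * VV = 1 from Subtype.ext v0_sq, map_one]) ?_) B.v.2
      · rw [← A.rm cc cc, ← A.rm (cc.mul_left cc) cc, ← pow_three', show c.1 ^ 3 = 1 from congrArg Subtype.val c3, A.rJ (one_mem _)]
      · obtain ⟨_, ⟨j, hj, rfl⟩, rfl⟩ := A.ps v
        exact (A.mem_Z.1 ((mZ j).2 (T.fpf hj ((mZ _).1 (A.diff ⟨j, hj, rfl⟩ (A.nJ _ cc _ ⟨j, hj, rfl⟩)
          (hv.symm.trans (A.ra _ cc _ ⟨j, hj, rfl⟩))))))).2
      · have := A.rJ (A.mem_of_comm cc a (by rw [b, ext_eq f cc, f3]; exact (mem_U0.1 (L0_le v0_mem)).2.symm))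
        rw [mul_assoc, mul_assoc, ← mul_inv_rev, ← mul_assoc, A.rm (cc.mul_left a) (a.mul_left cc).inv_left] at this
        refine (mul_left_injective (ρ (k * c)⁻¹)) ?_
        beta_reduce
        rw [← A.rm cc a, this, ← A.rm a cc, ← A.rm (a.mul_left cc) (a.mul_left cc).inv_left, mul_inv_cancel, A.rJ (one_mem _)]
  rw [f2, card_Gam] at h1
  have X : Φ.W4 z (LargeExtra.amb T.W) := ⟨hz', by rw [rJ, P.card_Z, cA], by rintro _ ⟨w, hw, rfl⟩; exact rJ ▸ (mZ w).2 hw.1,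
    fun h => T.zW (LargeExtra.coe_mem_amb.1 (by rwa [hzc])), fun d hd => by
      obtain ⟨d, -, rfl⟩ := rJ ▸ hd.1
      exact (T.two ((mZ d).1 (rJ ▸ hd))).imp (fun h => ⟨_, h, rfl⟩) fun h => ⟨_, h, congrArg (· * d.1) hzc⟩, by
      rintro h a _ ⟨w, hw, rfl⟩; exact ⟨_, T.nW hw ⟨h, mc.2 a⟩, rfl⟩, (LargeExtra.card_amb _).trans T.cW, by
      rintro _ ⟨w, hw, rfl⟩ w1 _ ⟨v, hv, rfl⟩ v1
      obtain ⟨n, e⟩ := T.tr hw (fun s => w1 (congrArg _ s)) hv fun s => v1 (congrArg _ s)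
      exact ⟨_, mc.1 (c ^ n).2, congrArg Subtype.val e⟩,
    fun h a e => (h2 ⟨h, mc.2 a⟩).2 (f4 _ fun w hw => Subtype.ext (e _ ⟨w, hw, rfl⟩)), by
      rintro _ ⟨w, hw, rfl⟩ w1
      obtain ⟨s, a, v, hv, b⟩ := T.sw mk mr ce hw fun s => w1 (congrArg _ s)
      exact ⟨s, mc.1 s.2, congrArg Subtype.val a, _, ⟨v, hv, rfl⟩, fun e => b (Subtype.ext e)⟩⟩
  refine X.main.imp_right (Or.imp_right fun Y => ?_)
  have hn := Y.normal
  obtain ⟨L, l0, l1, ⟨j⟩, l2⟩ := Y.fin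
  refine ⟨_, hn, X.h4, fun w hw => (pow_two w).trans ((Φ.loc z hz').sqZ (X.hW hw)),
    aut_of l2 (j.trans (Unitary.psuMapEquiv (FiniteField.ringEquivOfCardEq (FTHM.gf4_card.trans hK.symm)))) ?_⟩
  rw [Cfsg.Agent.S0815.result 2 1 le_rfl (by norm_num) hK 6 (by decide) (by decide), show L.index = 6 by omega]
  rfl

end Cfsg.Agent.S3233
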