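import Cfsg.Statements.S3257
import Cfsg.Agent.Lib.FsV.Frob

set_option autoImplicit false
open Cfsg

namespace Cfsg.Agent.S3257

/-- Let p be an odd prime and G a finite non-abelian group generated by a G-invariant set D of subgroups of order p such that any two distinct members of D generate a subgroup isomorphic to one fixed group of odd order. Then G/Z(G) is a Frobenius group of odd order. -/
theorem result {G : Type*} [Group G] [Finite G] (hG : ¬ IsMulCommutative G)
    (p : ℕ) (hp : p.Prime) (hp2 : p ≠ 2) (D : Set (Subgroup G)) (hDp : ∀ A ∈ D, Nat.card ↥A = p)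
    (hDinv : ∀ A ∈ D, ∀ g : G, A.map (MulAut.conj g).toMonoidHom ∈ D) (hDgen : sSup D = ⊤)
    {F : Type*} [Group F] [Finite F] (hF : Odd (Nat.card F)) (hpair : ∀ A ∈ D, ∀ B ∈ D, A ≠ B → Nonempty (↥(A ⊔ B) ≃* F)) :
    Odd (Nat.card (G ⧸ Subgroup.center G)) ∧ ∃ H : Subgroup (G ⧸ Subgroup.center G), Cfsg.IsFrobeniusComplement H := by
  open Subgroup CfsgLib.FsV CfsgLib.FsU in
  have := Fact.mk hp
  have := Cfsg.Agent.S0205.result hF
  let X : Set G := {x | x ≠ 1 ∧ ∃ A ∈ D, x ∈ A}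
  have zp : ∀ A ∈ D, ∀ x ∈ A, x ≠ 1 → orderOf x = p ∧ zpowers x = A := fun A hA x hx h1 => by
    have o : orderOf x = p := orderOf_eq_prime (by
      rw [← hDp A hA]
      exact congrArg Subtype.val (pow_card_eq_one' (x := (⟨x, hx⟩ : A)))) h1
    exact ⟨o, eq_of_le_of_card_ge (zpowers_le.2 hx) (by rw [Nat.card_zpowers, o, hDp A hA])⟩
  have gen : ∀ H : Subgroup G, (∀ x ∈ X, x ∈ H) → H = ⊤ := fun H h =>
    top_unique (hDgen.ge.trans (sSup_le fun A hA x hx => by
      by_cases e : x = 1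
      · rw [e]; exact one_mem _
      · exact h x ⟨e, A, hA, hx⟩))
  have hX : ∀ x ∈ X, ∀ y ∈ X, y ∉ zpowers x → Nonempty (↥(zpowers x ⊔ zpowers y) ≃* F) := by
    rintro x ⟨h1, A, hA, hx⟩ y ⟨h2, B, hB, hy⟩ h
    rw [(zp A hA x hx h1).2] at h ⊢
    rw [(zp B hB y hy h2).2]
    exact hpair A hA B hB fun e => h (e ▸ hy)
  have hn : ¬ IsMulCommutative F := fun c => hG ⟨⟨fun a b => by
    have : Ab (closure X) := aff_ab fun x hx y hy => by
      by_cases h : y ∈ zpowers x
      · exact ab_zpowers x x (mem_zpowers x) y h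
      · obtain ⟨e⟩ := hX x hx y hy h
        exact congrArg Subtype.val (e.injective (a₁ := ⟨x, mem_sup_left (mem_zpowers x)⟩ *
          ⟨y, mem_sup_right (mem_zpowers y)⟩) (a₂ := ⟨y, mem_sup_right (mem_zpowers y)⟩ *
          ⟨x, mem_sup_left (mem_zpowers x)⟩) (by rw [map_mul, map_mul, c.is_comm.comm]))
    rw [gen (closure X) fun x hx => subset_closure hx] at this
    exact this a (mem_top a) b (mem_top b)⟩⟩
  obtain ⟨r, fs, pF, iso⟩ := exists_fs (X := X) hp hp2
    (fun x ⟨h1, A, hA, hx⟩ => (zp A hA x hx h1).1)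
    (fun x ⟨h1, A, hA, hx⟩ g => ⟨fun e => h1 (by simpa [mul_inv_eq_one] using e), _, hDinv A hA g,
      mem_map_of_mem _ hx⟩)
    (fun x ⟨_, A, hA, hx⟩ y hy h2 => ⟨h2, A, hA, zpowers_le.2 hx hy⟩) hX hn
  have ab : ∀ A : Subgroup G, Ab A → A ≠ ⊤ := fun A hA e =>
    hG ⟨⟨fun a b => hA a (e.ge (mem_top a)) b (e.ge (mem_top b))⟩⟩
  replace pF := pF (by_contra fun c => ab ⊥ (fun a ha b _ => by rw [mem_bot.1 ha, one_mul, mul_one])
    (gen _ fun x hx => (c ⟨x, hx⟩).elim)) fun x _ => by_contra fun c =>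
      ab _ (ab_zpowers x) (gen _ fun y hy => by_contra fun d => c ⟨y, hy, d⟩)
  refine fs.frob gen (fun e => hn ((commutator_eq_bot_iff F).1 ?_)) hG ?_
  · subst e
    have := Fact.mk Nat.prime_two
    obtain ⟨n, e⟩ := IsPGroup.iff_card.1 pF
    have o := hF.of_dvd_nat (card_subgroup_dvd_card (commutator F))
    rw [e] at o
    rw [← card_eq_one, e, (by_contra fun c => absurd ((Nat.odd_pow_iff c).1 o) (by decide) : n = 0),
      pow_zero]
  · by_cases c : IsMulCommutative (commutator F)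
    · refine Or.inl fun x hx y hy o a ha b hb => ?_
      by_cases e : x = y
      · subst e
        rw [mem_bot.1 (RR_le (K := ⊥) (CfsgLib.Tech.mem_normalizer_iff_cj.2 (CfsgLib.Tech.cj_bot x))
          (by simp) ha), one_mul, mul_one]
      · obtain ⟨e⟩ := iso x hx y hy o e
        exact congrArg Subtype.val (e.injective (a₁ := ⟨a, ha⟩ * ⟨b, hb⟩) (a₂ := ⟨b, hb⟩ * ⟨a, ha⟩)
          (by rw [map_mul, map_mul, c.is_comm.comm]))
    · refine Or.inr fun x hx y hy o h => by_contra fun e => c ⟨⟨fun a b => ?_⟩⟩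
      obtain ⟨e⟩ := iso x hx y hy o e
      obtain ⟨a, rfl⟩ := e.surjective a
      obtain ⟨b, rfl⟩ := e.surjective b
      rw [← map_mul, ← map_mul]
      exact congrArg e (Subtype.ext (h _ a.2 _ b.2))

end Cfsg.Agent.S3257
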