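import Mathlib
import Cfsg.Statements.S3261
import Cfsg.Agent.Lib.D8Cent.Main

set_option autoImplicit false
open Cfsg

namespace Cfsg.Agent.S3261

open Subgroup CfsgLib Equiv

theorem a6aux : ∀ g : Perm (Fin 6), Perm.sign g = 1 →
    g * (swap 0 1 * swap 2 3) = (swap 0 1 * swap 2 3) * g →
    ∃ i : Fin 4, g = (c[0, 2, 1, 3] * swap 4 5) ^ i.val ∨
      g = (c[0, 2, 1, 3] * swap 4 5) ^ i.val * (swap 0 1 * swap 4 5) := by
  decide +kernel

theorem a6cent (z : alternatingGroup (Fin 6)) (hz : (z : Perm (Fin 6)) = swap 0 1 * swap 2 3) :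
    Nonempty (centralizer ({z} : Set (alternatingGroup (Fin 6))) ≃* DihedralGroup 4) := by
  let r : alternatingGroup (Fin 6) := ⟨c[0, 2, 1, 3] * swap 4 5, by
    rw [Perm.mem_alternatingGroup]; decide +kernel⟩
  let s : alternatingGroup (Fin 6) := ⟨swap 0 1 * swap 4 5, by
    rw [Perm.mem_alternatingGroup]; decide +kernel⟩
  have hr : orderOf r = 4 := orderOf_eq_prime_pow (p := 2) (n := 1)
    (fun e => absurd (congrArg Subtype.val e) (by decide +kernel)) (Subtype.ext (by decide +kernel))
  have hrz : r ∈ centralizer ({z} : Set (alternatingGroup (Fin 6))) :=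
    mem_centralizer_singleton_iff.2 (Subtype.ext (by rw [coe_mul, coe_mul, hz]; decide +kernel))
  have hsz : s ∈ centralizer ({z} : Set (alternatingGroup (Fin 6))) :=
    mem_centralizer_singleton_iff.2 (Subtype.ext (by rw [coe_mul, coe_mul, hz]; decide +kernel))
  refine TwoGrp.nonempty_mulEquiv_dihedral (r := r) (s := s) hr (Subtype.ext (by decide +kernel))
    (Subtype.ext (by decide +kernel)) ?_ fun g => ⟨fun hg => ?_, ?_⟩
  · intro h
    rw [mem_zpowers_iff_mem_range_orderOf, hr, Finset.mem_image] at h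
    obtain ⟨k, hk, e⟩ := h
    have e' := congrArg Subtype.val e
    rw [Finset.mem_range] at hk
    interval_cases k <;> exact absurd e' (by decide +kernel)
  · have h1 := congrArg Subtype.val (mem_centralizer_singleton_iff.1 hg)
    rw [coe_mul, coe_mul, hz] at h1
    obtain ⟨i, h | h⟩ := a6aux g (Perm.mem_alternatingGroup.1 g.2) h1
    · exact ⟨i.val, Or.inl (Subtype.ext (by rw [zpow_natCast]; exact h))⟩
    · exact ⟨i.val, Or.inr (Subtype.ext (by rw [zpow_natCast]; exact h))⟩
  · rintro ⟨i, rfl | rfl⟩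
    · exact zpow_mem hrz i
    · exact mul_mem (zpow_mem hrz i) hsz

theorem cycleType_eq {a : Perm (Fin 6)} (h1 : orderOf a = 2) (h2 : a.support.card = 4) :
    a.cycleType = Multiset.replicate 2 2 := by
  obtain ⟨n, hn⟩ := Perm.cycleType_prime_order (σ := a) (h1 ▸ Nat.prime_two)
  have h3 := a.sum_cycleType
  rw [hn, h1, h2, Multiset.sum_replicate, smul_eq_mul] at h3
  rw [hn, h1, show n + 1 = 2 by omega]


/-- Let α̃ be an involution of the alternating group A₆ that is a product of two disjoint transpositions (it lies in the centre of a Sylow 2-subgroup of A₆; its centralizer is dihedral of order 8). Let G be a finite group that has no subgroup of index 2 and contains an involution α, central in some Sylow 2-subgroup of G, with C_G(α) ≅ C_{A₆}(α̃). Then G is isomorphic to A₆ or to PSL₂(7). -/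
theorem result {G : Type*} [Group G] [Finite G]
    (hG : ∀ H : Subgroup G, H.index ≠ 2)
    (αt : ↥(alternatingGroup (Fin 6))) (hαt : orderOf αt = 2) (hsupp : (αt : Equiv.Perm (Fin 6)).support.card = 4)
    (α : G) (hα : orderOf α = 2) (S : Sylow 2 G) (hαS : α ∈ (S : Subgroup G)) (hαc : ∀ s ∈ (S : Subgroup G), s * α = α * s)
    (e : ↥(Subgroup.centralizer ({α} : Set G)) ≃* ↥(Subgroup.centralizer ({αt} : Set ↥(alternatingGroup (Fin 6))))) :
    Nonempty (G ≃* ↥(alternatingGroup (Fin 6))) ∨
      (∃ (F : Type) (_ : Field F) (_ : Fintype F), Fintype.card F = 7 ∧ Nonempty (G ≃* Matrix.ProjectiveSpecialLinearGroup (Fin 2) F)) := by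
  obtain ⟨c, hc⟩ := isConj_iff.1 (Perm.isConj_iff_cycleType_eq.2
    ((cycleType_eq (a := αt) (by rw [orderOf_coe, hαt]) hsupp).trans
      (cycleType_eq (a := swap 0 1 * swap 2 3) (orderOf_eq_prime (by decide +kernel)
        (by decide +kernel)) (by decide +kernel)).symm))
  let φ : MulAut (alternatingGroup (Fin 6)) := MulAut.conjNormal c
  obtain ⟨e1⟩ := a6cent (φ αt) hc
  have hmap : (centralizer ({αt} : Set (alternatingGroup (Fin 6)))).map φ.toMonoidHom =
      centralizer {φ αt} := by
    ext g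
    obtain ⟨g, rfl⟩ := φ.surjective g
    rw [mem_centralizer_singleton_iff, ← map_mul, ← map_mul, φ.apply_eq_iff_eq,
      ← mem_centralizer_singleton_iff]
    exact mem_map_iff_mem φ.injective
  have e2 := (equivMapOfInjective _ φ.toMonoidHom φ.injective).trans (MulEquiv.subgroupCongr hmap)
  rcases D8Cent.of_no_index_two hα ((e.trans e2).trans e1) hG with ⟨h1, h2⟩ | h
  · have : Fact (Nat.Prime 7) := ⟨by norm_num⟩
    exact Or.inr ⟨ZMod 7, inferInstance, inferInstance, ZMod.card 7,
      Cfsg.Agent.S0495.result h2 (ZMod.card 7)⟩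
  · exact Or.inl h

end Cfsg.Agent.S3261
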