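import Mathlib
import Cfsg.Statements.S3262
import Cfsg.Agent.Lib.Kim.AH0
import Cfsg.Agent.Lib.Kim.AHE
import Cfsg.Agent.Lib.Kim.AHO
import Cfsg.Agent.Lib.MathRec.U11

set_option autoImplicit false
open Cfsg

namespace Cfsg.Agent.S3262

open CfsgLib.Kim CfsgLib.Perm

/-- Let G be a finite doubly transitive permutation group on a set Ω with no regular normal subgroup, in which the stabilizer of two points is isomorphic to the alternating group A₅. Then either Ω has 7 points and G ≅ A₇, or Ω has 12 points and G is isomorphic to the Mathieu group M₁₁. -/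
theorem result {G : Type*} [Group G] [Finite G] {Ω : Type*} [Fintype Ω] [MulAction G Ω] [FaithfulSMul G Ω]
    (h2 : MulAction.IsMultiplyPretransitive G Ω 2) (a b : Ω) (hab : a ≠ b)
    (hnr : ∀ N : Subgroup G, N.Normal → MulAction.IsPretransitive ↥N Ω → (∀ x : Ω, MulAction.stabilizer ↥N x = ⊥) → False)
    (e : ↥(MulAction.stabilizer G a ⊓ MulAction.stabilizer G b) ≃* ↥(alternatingGroup (Fin 5))) :
    (Fintype.card Ω = 7 ∧ Nonempty (G ≃* ↥(alternatingGroup (Fin 7)))) ∨ (Fintype.card Ω = 12 ∧ Cfsg.Spor.IsoM11 G) := by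
  classical
  obtain ⟨τ, v, h⟩ := exists_AH5 h2 hab e
  have hn : NoReg G Ω := fun N hN => hnr N hN.normal ⟨fun x y => by
    obtain ⟨n, h1, h3⟩ := hN.trans x y
    exact ⟨⟨n, h1⟩, h3⟩⟩ fun x => (Subgroup.eq_bot_iff_forall _).2 fun n h1 => Subtype.ext (hN.free x n n.2 h1)
  have τ1 : τ ≠ 1 := fun h1 => by
    have := h.oτ
    rw [h1, orderOf_one] at this
    omega
  rw [← Nat.card_eq_fintype_card]
  rcases Nat.even_or_odd (Nat.card Ω) with he | ho
  · rcases h.even he with ⟨h3, -⟩ | ⟨h3, -⟩ | ⟨-, h12⟩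
    · omega
    · omega
    refine Or.inr ⟨h12, ?_⟩
    have hG := (tt_top h2).card_grp trivial trivial hab
    rw [top_inf_eq, Subgroup.card_top, Set.ncard_univ, h.cardK, h12] at hG
    have hS := (tt_top h2).card_stab trivial trivial hab
    rw [top_inf_eq, top_inf_eq, Set.ncard_univ, h.cardK, h12] at hS
    have : Nontrivial G := ⟨τ, 1, τ1⟩
    obtain ⟨L, hL, hL1, -, hs, -⟩ := exists_simple h2 hn (M := ⊤) inferInstance top_ne_bot
    obtain ⟨k, hk, k1, ka, kb⟩ := exists_stab2 h2 hn hL hL1 hab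
    have : IsSimpleGroup (stab2 G a b) := e.isSimpleGroup
    have hKL : stab2 G a b ≤ L := Subgroup.subgroupOf_eq_top.1
      ((hL.subgroupOf (stab2 G a b)).eq_bot_or_eq_top.resolve_left fun h1 => k1 (congrArg Subtype.val
        ((Subgroup.eq_bot_iff_forall _).1 h1 ⟨k, ka, kb⟩ hk)))
    have d1 := Subgroup.card_dvd_of_le (le_inf hKL inf_le_left : stab2 G a b ≤ L ⊓ MulAction.stabilizer G a)
    have d2 := Subgroup.card_dvd_of_le (inf_le_right : L ⊓ MulAction.stabilizer G a ≤ _)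
    rw [h.cardK] at d1
    obtain ⟨m, hm⟩ := d1
    rw [hm, show Nat.card (MulAction.stabilizer G a) = 4 * 15 * 11 by omega,
      Nat.mul_dvd_mul_iff_left (by norm_num)] at d2
    have hst : MulAction.stabilizer G a ≤ L := by
      rcases (Nat.dvd_prime (by norm_num)).1 d2 with rfl | rfl
      · have h1 : stab2 G a b = L ⊓ MulAction.stabilizer G a :=
          Subgroup.eq_of_le_of_card_ge (le_inf hKL inf_le_left) (by rw [hm, h.cardK])
        refine absurd (eq_of_smul_eq_smul (α := Ω) fun c => ?_) τ1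
        rw [one_smul]
        by_cases hc : c = a
        · rw [hc]; exact h.τK.1
        · obtain ⟨g, h3, rfl⟩ := exists_smul_pair h2 hab (Ne.symm hc)
          have h6 : g⁻¹ ∈ MulAction.stabilizer G a := inv_mem (show g ∈ MulAction.stabilizer G a from h3)
          have h7 : g⁻¹ * τ * g⁻¹⁻¹ ∈ MulAction.stabilizer G a :=
            mul_mem (mul_mem h6 (show τ ∈ MulAction.stabilizer G a from h.τK.1)) (inv_mem h6)
          have h4 : g⁻¹ * τ * g⁻¹⁻¹ ∈ stab2 G a b := h1 ▸ ⟨hL.conj_mem _ (hKL h.τK) _, h7⟩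
          have h5 : (g⁻¹ * τ * g⁻¹⁻¹) • b = b := h4.2
          rwa [inv_inv, mul_smul, mul_smul, inv_smul_eq_iff] at h5
      · exact inf_eq_right.1 (Subgroup.eq_of_le_of_card_ge inf_le_right (by omega))
    have hT : L = ⊤ := (Subgroup.eq_top_iff' L).2 fun g => by
      obtain ⟨n, h1, h3⟩ := normal_transitive_of_two_transitive h2 L hL1 (g • a) a
      exact (mul_mem_cancel_left h1).1 (hst (show (n * g) • a = a by rw [mul_smul, h3]))
    subst hT
    have : IsSimpleGroup G := Subgroup.topEquiv.symm.isSimpleGroup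
    exact CfsgLib.MathRec.uniq_M11 (by omega)
  · rcases h.odd ho with ⟨⟨h3, -⟩ | ⟨-, h7⟩, h8⟩ | ⟨J, -, ⟨c, hc⟩, hC⟩
    · omega
    · exact Or.inl ⟨h7, h8⟩
    · rw [Cfsg.oddCore, oddCore_eq_bot h2 hn, sup_bot_eq] at hC
      obtain ⟨d, hd⟩ : ∃ d, c ≠ d := by
        by_cases h1 : c = a
        exacts [⟨b, h1 ▸ hab⟩, ⟨a, h1⟩]
      obtain ⟨g, h1, -⟩ := exists_smul_pair h2 hd hd.symm
      exact absurd ((show g • c = c from hc (hC ▸ Subgroup.mem_top g)).symm.trans h1) hd

end Cfsg.Agent.S3262
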