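import Cfsg.Statements.S3263
import Cfsg.Agent.S3217
import Cfsg.Agent.S1074
import Cfsg.Agent.Lib.LieModel.TwMap

set_option autoImplicit false
open Cfsg

namespace Cfsg.Agent.S3263

theorem words_map {F K : Type*} [Field F] [Field K] (e : F ≃+* K) (q : ℕ) :
    ∀ w ∈ Lie.f4Words F q, (w.map fun p => (p.1, e p.2)) ∈ Lie.f4Words K q := by
  rintro _ (⟨t, rfl | rfl⟩ | ⟨t, u, rfl | rfl⟩)
  · exact Or.inl ⟨e t, Or.inl (by simp [Lie.f4PairWord])⟩
  · exact Or.inl ⟨e t, Or.inr (by simp [Lie.f4PairWord])⟩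
  · exact Or.inr ⟨e t, e u, Or.inl (by simp [Lie.b2ClassWord])⟩
  · exact Or.inr ⟨e t, e u, Or.inr (by simp [Lie.b2ClassWord])⟩

theorem aux {G F K : Type*} [Group G] [IsSimpleGroup G] [Field F] [Field K] (e : F ≃+* K) (q : ℕ)
    (f : G ≃* Lie.twistedF4 F q) (hna : ¬ IsMulCommutative G) (h : (commutator (Lie.twistedF4 K q)).index = 2) :
    False := by
  replace f : G ≃* Lie.twistedF4 K q :=
    f.trans (CfsgLib.LieModel.genEquiv Lie.chevF4 e (words_map e q) (words_map e.symm q))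
  have := f.symm.isSimpleGroup
  rcases (inferInstance : (commutator (Lie.twistedF4 K q)).Normal).eq_bot_or_eq_top with h3 | h3
  · exact hna ⟨⟨fun a b => f.injective (by
      rw [map_mul, map_mul]
      exact commutatorElement_eq_one_iff_mul_comm.1 (Subgroup.mem_bot.1 (h3 ▸
        Subgroup.commutator_mem_commutator (Subgroup.mem_top _) (Subgroup.mem_top _))))⟩⟩
  · simp [h3] at h

/-- Let q = 2^(2m+1) and let C_q denote the centralizer, in the Ree group ²F₄(q), of an involution lying in the centre of a Sylow 2-subgroup. Let G be a finite group of even order with an involution τ central in some Sylow 2-subgroup of G, such that C_G(τ) has no nontrivial normal subgroup of odd order and has a normal subgroup C ≅ C_q of odd index ρ. If G is a non-abelian simple group, then q > 2 and G ≅ ²F₄(q). -/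
theorem result {G : Type*} [Group G] [Finite G] (hev : Even (Nat.card G))
    (τ : G) (hτ : orderOf τ = 2) (S : Sylow 2 G) (hτS : τ ∈ (S : Subgroup G)) (hτc : ∀ s ∈ (S : Subgroup G), s * τ = τ * s)
    {K : Type*} [Field K] [Fintype K] (m : ℕ) (hK : Fintype.card K = 2 ^ (2 * m + 1))
    (U : Sylow 2 ↥(Cfsg.Lie.twistedF4 K (2 ^ m))) (z : ↥(Cfsg.Lie.twistedF4 K (2 ^ m))) (hz : orderOf z = 2) (hzU : z ∈ (U : Subgroup ↥(Cfsg.Lie.twistedF4 K (2 ^ m))))
    (hzc : ∀ u ∈ (U : Subgroup ↥(Cfsg.Lie.twistedF4 K (2 ^ m))), u * z = z * u)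
    (C : Subgroup G) (hCle : C ≤ Subgroup.centralizer ({τ} : Set G))
    (hCn : (C.subgroupOf (Subgroup.centralizer ({τ} : Set G))).Normal) (ρ : ℕ) (hρ : Odd ρ)
    (hCi : C.relIndex (Subgroup.centralizer ({τ} : Set G)) = ρ)
    (e : ↥C ≃* ↥(Subgroup.centralizer ({z} : Set ↥(Cfsg.Lie.twistedF4 K (2 ^ m)))))
    (hO : Cfsg.oddCore ↥(Subgroup.centralizer ({τ} : Set G)) = ⊥) (hsimp : IsSimpleGroup G) (hna : ¬ IsMulCommutative G) :
    1 ≤ m ∧ Nonempty (G ≃* ↥(Cfsg.Lie.twistedF4 K (2 ^ m))) := by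
  have h := S3217.result hev τ hτ S hτS hτc m hK U z hz hzU hzc C hCle hCn ρ hρ hCi e hO
  have := CfsgLib.Core.pPrimeCore_characteristic 2 G
  have h0 : Cfsg.oddCore G = ⊥ := (inferInstance : (pPrimeCore 2 G).Normal).eq_bot_or_eq_top.resolve_right
    fun h => Nat.not_odd_iff_even.2 hev (Nat.coprime_two_right.1 (CfsgLib.Core.pPrimeCore_eq_top_iff.1 h))
  have h1 : ∀ x : G, (∀ y, y * x = x * y) → x = 1 := fun x hx => Subgroup.mem_bot.1
    (((inferInstance : (Subgroup.center G).Normal).eq_bot_or_eq_top.resolve_right fun h => hna ⟨⟨fun a b =>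
      Subgroup.mem_center_iff.1 (h ▸ Subgroup.mem_top b) a⟩⟩) ▸ Subgroup.mem_center_iff.2 hx)
  have h2 : C ≠ ⊤ := fun h => by
    rw [h1 τ fun y => Subgroup.mem_centralizer_singleton_iff.1 (hCle (h ▸ Subgroup.mem_top y))] at hτ
    simp at hτ
  rcases Nat.eq_zero_or_pos m with rfl | hm
  · refine ((h.2 rfl).elim (fun h => h2 (by simpa [h0] using h)) fun ⟨f⟩ => ?_).elim
    exact aux (ZMod.ringEquivOfPrime K Nat.prime_two hK).symm 1 f hna S1074.result.1
  · rcases h.1 hm with h | ⟨-, E, h3, h4, h5⟩ | ⟨N, h3, h4, ⟨f⟩⟩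
    · exact absurd h0 h
    · exact absurd (top_unique ((h4.eq_bot_or_eq_top.resolve_left h3).ge.trans (h5.trans inf_le_left))) h2
    · refine ⟨hm, ⟨(Subgroup.topEquiv.symm.trans (MulEquiv.subgroupCongr (h3.eq_bot_or_eq_top.resolve_left
        fun h => ?_).symm)).trans f⟩⟩
      rw [h, Subgroup.index_bot] at h4
      exact Nat.not_odd_iff_even.2 hev (h4 ▸ hρ)

end Cfsg.Agent.S3263
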