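import Cfsg.Statements.S3949

set_option autoImplicit false
open Cfsg

namespace Cfsg.Agent.S3949

/-- Let G be a finite group and α an automorphism of G of order 2 such that the elements g·α(g)⁻¹ generate G. Let j be a positive integer such that 2^j divides the order of no element inverted by α. Then the set of values of the j-th iterate of the map c ↦ c·α(c)⁻¹ is exactly the set of elements of odd order inverted by α. -/
theorem result {G : Type*} [Group G] [Finite G] (α : MulAut G) (hα : orderOf α = 2) (hG : Subgroup.closure (Set.range (fun c : G => c * (α c)⁻¹)) = ⊤)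
    (j : ℕ) (hj : ∀ g : G, α g = g⁻¹ → ¬ 2 ^ j ∣ orderOf g) :
    Set.range ((fun c : G => c * (α c)⁻¹)^[j]) = {g : G | Odd (orderOf g) ∧ α g = g⁻¹} := by
  have h1 : ∀ (k : ℕ) (x : G), α x = x⁻¹ → (fun c : G => c * (α c)⁻¹)^[k] x = x ^ 2 ^ k := fun k => by
    induction k with
    | zero => simp
    | succ k ih =>
      intro x hx
      rw [Function.iterate_succ_apply', ih x hx, map_pow, hx, inv_pow, inv_inv, ← pow_add, pow_succ, mul_two]
  have h2 : ∀ x, α (α x) = x := fun x => by
    rw [← MulAut.mul_apply, ← pow_two, ← hα, pow_orderOf_eq_one, MulAut.one_apply]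
  rcases j with - | j
  · exact absurd (one_dvd _) (hj 1 (by simp))
  ext y
  constructor
  · rintro ⟨x, rfl⟩
    have h3 : α (x * (α x)⁻¹) = (x * (α x)⁻¹)⁻¹ := by simp [h2]
    rw [Function.iterate_succ_apply, h1 j _ h3]
    refine ⟨?_, by rw [map_pow, h3, inv_pow]⟩
    have h4 := hj _ h3
    generalize x * (α x)⁻¹ = z at h4
    obtain ⟨a, b, h5, h6⟩ := Nat.exists_eq_two_pow_mul_odd (orderOf_pos z).ne'
    have h7 : a ≤ j := by
      by_contra! e
      exact h4 (h6 ▸ (pow_dvd_pow 2 e).mul_right b)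
    refine h5.of_dvd_nat (orderOf_dvd_of_pow_eq_one ?_)
    rw [← pow_mul, ← orderOf_dvd_iff_pow_eq_one, h6]
    exact Nat.mul_dvd_mul_right (pow_dvd_pow 2 h7) b
  · rintro ⟨h3, h4⟩
    obtain ⟨k, hk⟩ := exists_pow_eq_self_of_coprime (x := y) (n := 2 ^ (j + 1))
      ((Nat.coprime_two_left.2 h3).pow_left _)
    exact ⟨y ^ k, by rw [h1 _ _ (by rw [map_pow, h4, inv_pow]), ← pow_mul, mul_comm, pow_mul, hk]⟩

end Cfsg.Agent.S3949
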