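import Cfsg.Statements.S3264
import Cfsg.Agent.S3927
import Cfsg.Agent.S3949

set_option autoImplicit false
open Cfsg

namespace Cfsg.Agent.S3264

open Subgroup

theorem gen_odd {G : Type*} [Group G] [Finite G] [IsSimpleGroup G]
    (hG : ¬ IsMulCommutative G) (t : G) (ht : orderOf t = 2) :
    closure {g : G | Odd (orderOf g) ∧ t * g * t⁻¹ = g⁻¹} = ⊤ := by
  have ht2 : t * t = 1 := by rw [← pow_two, ← ht, pow_orderOf_eq_one]
  have ht1 : t ≠ 1 := fun h => by simp [h] at ht
  have hc : ¬ ∀ g : G, t * g * t⁻¹ = g := fun h => by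
    rcases IsSimpleGroup.eq_bot_or_eq_top_of_normal (center G) inferInstance with e | e
    · refine ht1 (mem_bot.1 (e ▸ mem_center_iff.2 fun g => ?_))
      have := h g
      rw [mul_inv_eq_iff_eq_mul] at this
      exact this.symm
    · exact hG ⟨⟨fun a b => (mem_center_iff.1 (e ▸ mem_top b) a)⟩⟩
  have hα : orderOf (MulAut.conj t) = 2 := by
    haveI : Fact (Nat.Prime 2) := ⟨Nat.prime_two⟩
    refine orderOf_eq_prime ?_ fun h => hc fun g => ?_
    · rw [← map_pow, pow_two, ht2, map_one]
    · simpa using congrArg (fun φ : MulAut G => φ g) h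
  have hcl : closure (Set.range (fun c : G => c * ((MulAut.conj t) c)⁻¹)) = ⊤ := by
    have hn : (closure (Set.range (fun c : G => c * ((MulAut.conj t) c)⁻¹))).Normal := by
      refine ⟨fun x hx g => ?_⟩
      induction hx using closure_induction with
      | mem x hx =>
        obtain ⟨c, rfl⟩ := hx
        have e : g * (c * ((MulAut.conj t) c)⁻¹) * g⁻¹ =
            ((g * c) * ((MulAut.conj t) (g * c))⁻¹) * (g * ((MulAut.conj t) g)⁻¹)⁻¹ := by
          simp only [MulAut.conj_apply]; group
        rw [e]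
        exact mul_mem (subset_closure ⟨g * c, rfl⟩) (inv_mem (subset_closure ⟨g, rfl⟩))
      | one => simp
      | mul x y _ _ hx hy =>
        have e : g * (x * y) * g⁻¹ = (g * x * g⁻¹) * (g * y * g⁻¹) := by group
        rw [e]; exact mul_mem hx hy
      | inv x _ hx =>
        have e : g * x⁻¹ * g⁻¹ = (g * x * g⁻¹)⁻¹ := by group
        rw [e]; exact inv_mem hx
    rcases IsSimpleGroup.eq_bot_or_eq_top_of_normal _ hn with e | e
    · refine absurd (fun g => ?_) hc
      have h1 : g * ((MulAut.conj t) g)⁻¹ ∈ (⊥ : Subgroup G) := e ▸ subset_closure ⟨g, rfl⟩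
      rw [mem_bot, mul_inv_eq_one] at h1
      exact h1.symm
    · exact e
  have hj : ∀ g : G, (MulAut.conj t) g = g⁻¹ → ¬ 2 ^ (Nat.card G) ∣ orderOf g := fun g _ h =>
    absurd (Nat.le_of_dvd Nat.card_pos (h.trans (orderOf_dvd_natCard g)))
      (not_le.2 (Nat.lt_two_pow_self))
  have h1 := S3927.result (MulAut.conj t) hcl (Nat.card G) Nat.card_pos
  rw [S3949.result (MulAut.conj t) hα hcl (Nat.card G) hj] at h1
  exact h1

theorem result {G : Type*} [Group G] [Finite G] [IsSimpleGroup G]
    (hG : ¬ IsMulCommutative G) (t : G) (ht : orderOf t = 2) :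
    (SimpleGraph.fromRel fun x y : {x : G // IsConj t x} => Odd (orderOf (x.1 * y.1))).Connected := by
  set Γ := SimpleGraph.fromRel fun x y : {x : G // IsConj t x} => Odd (orderOf (x.1 * y.1)) with hΓ
  have ht2 : t * t = 1 := by rw [← pow_two, ← ht, pow_orderOf_eq_one]
  have hti : t⁻¹ = t := inv_eq_of_mul_eq_one_right ht2
  let cj : G → {x : G // IsConj t x} → {x : G // IsConj t x} := fun g x =>
    ⟨g * x.1 * g⁻¹, x.2.trans (isConj_iff.2 ⟨g, rfl⟩)⟩
  have hadj : ∀ g x y, Γ.Adj x y → Γ.Adj (cj g x) (cj g y) := fun g x y h => by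
    rw [hΓ, SimpleGraph.fromRel_adj] at h ⊢
    have e : ∀ a b : G, orderOf ((g * a * g⁻¹) * (g * b * g⁻¹)) = orderOf (a * b) := fun a b => by
      have : (g * a * g⁻¹) * (g * b * g⁻¹) = (MulAut.conj g) (a * b) := by
        simp only [MulAut.conj_apply]; group
      rw [this, MulEquiv.orderOf_eq]
    refine ⟨fun h' => h.1 (Subtype.ext ?_), ?_⟩
    · have := congrArg Subtype.val h'
      simpa [cj] using this
    · simpa only [cj, e] using h.2
  have hre : ∀ g x y, Γ.Reachable x y → Γ.Reachable (cj g x) (cj g y) := fun g x y h =>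
    h.map (⟨cj g, fun {a b} hab => hadj g a b hab⟩ : Γ →g Γ)
  let t0 : {x : G // IsConj t x} := ⟨t, IsConj.refl t⟩
  have hmul : ∀ g h x, cj (g * h) x = cj g (cj h x) := fun g h x => Subtype.ext (by
    simp only [cj]; group)
  have hone : ∀ x, cj 1 x = x := fun x => Subtype.ext (by simp [cj])
  have key : ∀ g : G, Γ.Reachable t0 (cj g t0) := fun g => by
    induction (gen_odd hG t ht).ge (mem_top g) using closure_induction with
    | mem x hx =>
      obtain ⟨h1, h2⟩ := hx
      by_cases e : t0 = cj x t0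
      · rw [← e]
      · refine SimpleGraph.Adj.reachable ?_
        rw [hΓ, SimpleGraph.fromRel_adj]
        refine ⟨e, Or.inl ?_⟩
        have e2 : t * (x * t * x⁻¹) = (x ^ 2)⁻¹ := by
          have : t * (x * t * x⁻¹) = (t * x * t⁻¹) * x⁻¹ := by rw [hti]; group
          rw [this, h2]; group
        change Odd (orderOf (t * (x * t * x⁻¹)))
        rw [e2, orderOf_inv]
        exact h1.of_dvd_nat (orderOf_pow_dvd 2)
    | one => rw [hone]
    | mul x y _ _ hx hy => rw [hmul]; exact hx.trans (hre x _ _ hy)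
    | inv x _ hx =>
      have := hre x⁻¹ _ _ hx
      rw [← hmul, inv_mul_cancel, hone] at this
      exact this.symm
  haveI : Nonempty {x : G // IsConj t x} := ⟨t0⟩
  refine ⟨fun x y => ?_⟩
  obtain ⟨a, ha⟩ := isConj_iff.1 x.2
  obtain ⟨b, hb⟩ := isConj_iff.1 y.2
  have ex : x = cj a t0 := Subtype.ext ha.symm
  have ey : y = cj b t0 := Subtype.ext hb.symm
  rw [ex, ey]
  exact (key a).symm.trans (key b)

end Cfsg.Agent.S3264
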