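import Cfsg.Statements.S3266
import Cfsg.Agent.Lib.TL2.PSL

set_option autoImplicit false
open Cfsg

namespace Cfsg.Agent.S3266

open Matrix Subgroup
open scoped MatrixGroups

variable {F : Type*} [Field F]

/-- the image in `PSL` -/
abbrev pr (A : SL(2, F)) : PSL(2, F) := QuotientGroup.mk' (center SL(2, F)) A

/-- a matrix of determinant one from its entries -/
def mkS (a b c d : F) (h : a * d - b * c = 1) : SL(2, F) :=
  ⟨!![a, b; c, d], by rw [det_fin_two_of, h]⟩

theorem mkS_val (a b c d : F) (h : a * d - b * c = 1) : (mkS a b c d h).1 = !![a, b; c, d] := rfl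

theorem cmul (A B : SL(2, F)) : (A * B).1 = A.1 * B.1 := rfl

theorem cpow (A : SL(2, F)) (n : ℕ) : (A ^ n).1 = A.1 ^ n := Matrix.SpecialLinearGroup.coe_pow A n

theorem pr_mul (A B : SL(2, F)) : pr (A * B) = pr A * pr B := map_mul _ A B

theorem pr_eq_one {A : SL(2, F)} : pr A = 1 ↔ ∃ r : F, A.1 = r • (1 : Matrix (Fin 2) (Fin 2) F) := by
  rw [pr, QuotientGroup.mk'_apply, QuotientGroup.eq_one_iff]
  constructor
  · intro h
    obtain ⟨r, -, hr⟩ := Matrix.SpecialLinearGroup.mem_center_iff.1 h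
    exact ⟨r, by rw [← hr, scalar_apply, smul_one_eq_diagonal]⟩
  · rintro ⟨r, hr⟩
    exact mem_center_iff.2 fun B => Subtype.ext (by simp [hr])

theorem ch (A : SL(2, F)) : A.1 * A.1 = A.1.trace • A.1 - 1 := by
  have := A.2
  rw [det_fin_two] at this
  ext i j
  fin_cases i <;> fin_cases j <;> simp [mul_apply, Fin.sum_univ_two, trace_fin_two] <;>
    first | ring1 | linear_combination -this

theorem trace_zero {A : SL(2, F)} (h : orderOf (pr A) = 2) : A.1.trace = 0 ∧ pr A ≠ 1 := by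
  have h1 : pr A ≠ 1 := by intro e; rw [e, orderOf_one] at h; omega
  refine ⟨?_, h1⟩
  have h2 : pr (A * A) = 1 := by
    have := pow_orderOf_eq_one (pr A)
    rwa [h, pow_two, ← pr_mul] at this
  obtain ⟨r, hr⟩ := pr_eq_one.1 h2
  by_contra ht
  refine h1 (pr_eq_one.2 ⟨(A.1.trace)⁻¹ * (r + 1), ?_⟩)
  rw [cmul, ch, sub_eq_iff_eq_add] at hr
  rw [mul_smul, add_smul, one_smul, ← hr, smul_smul, inv_mul_cancel₀ ht, one_smul]

theorem order_two {A : SL(2, F)} (h : A.1.trace = 0) (h1 : pr A ≠ 1) : orderOf (pr A) = 2 := by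
  refine orderOf_eq_prime ?_ h1
  rw [pr, ← map_pow]
  exact pr_eq_one.2 ⟨-1, by rw [pow_two, cmul, ch, h]; simp⟩

theorem order_two' (h2 : (2 : F) ≠ 0) {A : SL(2, F)} (h : A.1.trace = 0) : orderOf (pr A) = 2 := by
  refine order_two h fun e => ?_
  obtain ⟨r, hr⟩ := pr_eq_one.1 e
  have h3 := A.2
  rw [hr] at h h3
  simp [h2] at h
  simp [h] at h3

theorem odd_of_pow {A : SL(2, F)} {n : ℕ} (hn : Odd n) {r : F} (h : A.1 ^ n = r • 1) :
    Odd (orderOf (pr A)) :=
  hn.of_dvd_nat (orderOf_dvd_of_pow_eq_one (by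
    rw [pr, ← map_pow]; exact pr_eq_one.2 ⟨r, by rw [cpow, h]⟩))

theorem odd_unip [Finite F] (h2 : (2 : F) ≠ 0) {A : SL(2, F)} (h : A.1.trace ^ 2 = 4) :
    Odd (orderOf (pr A)) := by
  obtain ⟨p, hp⟩ := CharP.exists F
  have hpp := CharP.char_is_prime F p
  have : Fact p.Prime := ⟨hpp⟩
  have hp2 : p ≠ 2 := by rintro rfl; exact h2 (by exact_mod_cast CharP.cast_eq_zero F 2)
  obtain ⟨ε, hε, ht⟩ : ∃ ε : F, ε * ε = 1 ∧ A.1.trace = 2 * ε := by
    have : (A.1.trace - 2) * (A.1.trace + 2) = 0 := by linear_combination h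
    rcases mul_eq_zero.1 this with e | e
    · exact ⟨1, one_mul 1, by linear_combination e⟩
    · exact ⟨-1, by ring, by linear_combination e⟩
  have h3 : (A.1 - ε • 1) ^ 2 = 0 := by
    rw [pow_two, sub_mul, mul_sub, mul_sub, ch, ht]
    simp only [mul_smul_comm, smul_mul_assoc, mul_one, one_mul, smul_smul, hε, one_smul]
    rw [two_mul, add_smul]; abel
  have h4 : (A.1 - ε • 1) ^ p = 0 := pow_eq_zero_of_le hpp.two_le h3
  rw [sub_pow_char_of_commute _ ((Commute.one_right _).smul_right ε), sub_eq_zero, smul_pow,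
    one_pow] at h4
  exact odd_of_pow (hpp.odd_of_ne_two hp2) h4

theorem odd_split [Fintype F] (h3 : Fintype.card F % 4 = 3) {A : SL(2, F)} {l : F} (hl : l ≠ 0)
    (hl1 : l ≠ l⁻¹) (h : A.1.trace = l + l⁻¹) : Odd (orderOf (pr A)) := by
  have key : ∀ a b : F, a * b = 1 → A.1.trace = a + b → ∀ n : ℕ,
      (A.1 - b • 1) * A.1 ^ n = a ^ n • (A.1 - b • 1) := by
    intro a b hab ht n
    induction n with
    | zero => simp
    | succ n ih =>
      have : (A.1 - b • 1) * A.1 = a • (A.1 - b • 1) := by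
        rw [sub_mul, ch, ht, smul_sub, smul_smul, hab, add_smul]; simp; abel
      rw [pow_succ, ← mul_assoc, ih, smul_mul_assoc, this, smul_smul, pow_succ]
  set n := Fintype.card F / 2 with hn
  have e1 := key l l⁻¹ (mul_inv_cancel₀ hl) h n
  have e2 := key l⁻¹ l (inv_mul_cancel₀ hl) (h.trans (add_comm _ _)) n
  have e3 : l⁻¹ ^ n = l ^ n := by
    have : l ^ (Fintype.card F - 1) = 1 := FiniteField.pow_card_sub_one_eq_one l hl
    rw [show Fintype.card F - 1 = n + n by omega, pow_add] at this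
    rw [inv_pow]; exact inv_eq_of_mul_eq_one_right this
  refine odd_of_pow (n := n) (Nat.odd_iff.2 (by omega)) (r := l ^ n) ?_
  have e4 : (l - l⁻¹) • A.1 ^ n = (l - l⁻¹) • (l ^ n • (1 : Matrix (Fin 2) (Fin 2) F)) := by
    have := congrArg₂ (· - ·) e1 e2
    simp only [e3, ← sub_mul, ← smul_sub, sub_sub_sub_cancel_left, ← sub_smul,
      smul_mul_assoc, one_mul] at this
    rw [this, smul_comm]
  exact smul_right_injective _ (sub_ne_zero.2 hl1) e4

theorem odd_even [Finite F] (h2 : (2 : F) = 0) {A : SL(2, F)} (h : A.1.trace ≠ 0) :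
    Odd (orderOf (pr A)) := by
  have hs : ∀ n : ℕ, ∃ a b : F, A.1 ^ n = a • A.1 + b • 1 := by
    intro n
    induction n with
    | zero => exact ⟨0, 1, by simp⟩
    | succ n ih =>
      obtain ⟨a, b, e⟩ := ih
      refine ⟨a * A.1.trace + b, -a, ?_⟩
      rw [pow_succ, e, add_mul, smul_mul_assoc, ch, smul_sub, smul_smul, add_smul]; simp; abel
  refine Odd.of_dvd_nat ?_ (orderOf_map_dvd _ A)
  rw [← Nat.not_even_iff_odd]
  rintro ⟨k, hk⟩
  have hpos : 0 < orderOf A := orderOf_pos A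
  obtain ⟨a, b, e⟩ := hs k
  have e1 : A.1 ^ k * A.1 ^ k = 1 := by
    rw [← pow_add, ← hk]
    exact (cpow A _).symm.trans (by rw [pow_orderOf_eq_one]; rfl)
  rw [e] at e1
  have e3 : a = 0 := by
    have h1 := congrFun (congrFun e1 0) 0
    have h3 := congrFun (congrFun e1 1) 1
    simp [mul_apply, Fin.sum_univ_two] at h1 h3
    have : (a * A.1.trace) ^ 2 = 0 := by
      rw [trace_fin_two]
      linear_combination h1 - h3 + (a ^ 2 * A.1 0 0 * A.1 1 1 + a ^ 2 * A.1 1 1 ^ 2
        - a * b * A.1 0 0 + a * b * A.1 1 1) * h2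
    exact (mul_eq_zero.1 (pow_eq_zero_iff two_ne_zero |>.1 this)).resolve_right h
  rw [e3, zero_smul, zero_add] at e
  have hb : b = 1 := by
    have := (A ^ k).2
    rw [cpow, e] at this
    simp only [det_smul, Fintype.card_fin, det_one, mul_one] at this
    have h5 : (b - 1) ^ 2 = 0 := by linear_combination this + (1 - b) * h2
    exact sub_eq_zero.1 (pow_eq_zero_iff two_ne_zero |>.1 h5)
  have : A ^ k = 1 := Subtype.ext (by rw [cpow, e, hb, one_smul]; rfl)
  have := Nat.le_of_dvd (by omega) (orderOf_dvd_of_pow_eq_one this)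
  omega

theorem exists_mid {A B : SL(2, F)} (hA : A.1.trace = 0) (hB : B.1.trace = 0) {r s t w : F}
    (hr : (A * B).1.trace = -2 * r) (hD : 1 - r ^ 2 ≠ 0)
    (hw : w ^ 2 = (1 - r ^ 2) * (1 - s ^ 2) - (t - r * s) ^ 2) :
    ∃ C : SL(2, F), C.1.trace = 0 ∧ (A * C).1.trace = -2 * s ∧ (C * B).1.trace = -2 * t := by
  have dA := A.2
  have dB := B.2
  rw [det_fin_two] at dA dB
  rw [trace_fin_two] at hA hB
  simp only [cmul, trace_fin_two, mul_apply, Fin.sum_univ_two] at hr ⊢
  set a := A.1 0 0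
  set b := A.1 0 1
  set c := A.1 1 0
  set d := B.1 0 0
  set e := B.1 0 1
  set f := B.1 1 0
  have hA' : A.1 1 1 = -a := by linear_combination hA
  have hB' : B.1 1 1 = -d := by linear_combination hB
  rw [hA'] at dA
  rw [hB'] at dB
  rw [hA', hB'] at hr ⊢
  obtain ⟨D, hD'⟩ : ∃ D, D * (1 - r ^ 2) = 1 := ⟨_, inv_mul_cancel₀ hD⟩
  obtain ⟨x, y, z, h1, h2, h3⟩ : ∃ x y z : F, -x ^ 2 - y * z = 1 ∧
      2 * a * x + b * z + c * y = -2 * s ∧ 2 * d * x + e * z + f * y = -2 * t := by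
    have q1 : -(a * d + b * f + r) ^ 2 - (a * e - b * d) * (c * d - a * f) = 1 - r ^ 2 := by
      linear_combination (d * -d - e * f) * dA + dB + (r - (a * d + b * f + r)) * hr
    generalize hn1 : a * d + b * f + r = n1 at q1
    generalize hn2 : a * e - b * d = n2 at q1
    generalize hn3 : c * d - a * f = n3 at q1
    have q2 : 2 * a * n1 + b * n3 + c * n2 = 0 := by
      rw [← hn1, ← hn2, ← hn3]; linear_combination a * hr
    have q3 : 2 * d * n1 + e * n3 + f * n2 = 0 := by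
      rw [← hn1, ← hn2, ← hn3]; linear_combination d * hr
    obtain ⟨α, γ, δ, k1, k2, k3⟩ : ∃ α γ δ : F, α + r * γ = s ∧ r * α + γ = t ∧
        α ^ 2 + γ ^ 2 + 2 * r * α * γ + δ ^ 2 * (1 - r ^ 2) = 1 :=
      ⟨(s - r * t) * D, (t - r * s) * D, w * D, by linear_combination s * hD',
        by linear_combination t * hD',
        by linear_combination (D * (1 - r ^ 2) + 1) * hD' + D ^ 2 * (1 - r ^ 2) * hw⟩
    refine ⟨α * a + γ * d + δ * n1, α * b + γ * e + δ * n2, α * c + γ * f + δ * n3, ?_, ?_, ?_⟩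
    · linear_combination k3 + α ^ 2 * dA + γ ^ 2 * dB + δ ^ 2 * q1 - α * γ * hr - α * δ * q2
        - γ * δ * q3
    · linear_combination -2 * k1 - 2 * α * dA + γ * hr + δ * q2
    · linear_combination -2 * k2 - 2 * γ * dB + α * hr + δ * q3
  refine ⟨⟨!![x, y; z, -x], by rw [det_fin_two_of]; linear_combination h1⟩, ?_, ?_, ?_⟩ <;> simp
  · linear_combination h2
  · linear_combination h3

theorem sum_quad [Fintype F] [DecidableEq F] (hF : ringChar F ≠ 2) {c : F} (hc : c ≠ 0) :
    ∑ u : F, quadraticChar F (u ^ 2 + c) = -1 := by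
  have h2 : (2 : F) ≠ 0 := Ring.two_ne_zero hF
  have h1 : ∑ u : F, (quadraticChar F (u ^ 2 + c) + 1) =
      ((Finset.univ.filter fun p : F × F => p.2 ^ 2 = p.1 ^ 2 + c).card : ℤ) := by
    rw [Finset.card_eq_sum_card_fiberwise (f := Prod.fst) (t := Finset.univ) (by simp)]
    push_cast
    refine Finset.sum_congr rfl fun u _ => ?_
    rw [← quadraticChar_card_sqrts hF]
    congr 1
    refine Finset.card_bij (fun x _ => (u, x)) (fun x hx => by simpa using hx)
      (fun x _ y _ h => (Prod.mk.inj h).2) fun p hp => ⟨p.2, ?_, ?_⟩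
    · simp only [Finset.mem_filter, Finset.mem_univ, true_and] at hp
      simpa [← hp.2] using hp.1
    · simp only [Finset.mem_filter, Finset.mem_univ, true_and] at hp
      rw [← hp.2]
  have h3 : (Finset.univ.filter fun p : F × F => p.2 ^ 2 = p.1 ^ 2 + c).card =
      (Finset.univ.erase (0 : F)).card := by
    refine Finset.card_bij (fun p _ => p.2 - p.1) (fun p hp => ?_) (fun p hp q hq h => ?_)
      fun v hv => ⟨((c / v - v) / 2, (c / v + v) / 2), ?_, ?_⟩
    · simp only [Finset.mem_filter, Finset.mem_univ, true_and] at hp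
      simp only [Finset.mem_erase, Finset.mem_univ, and_true]
      intro h; exact hc (by rw [sub_eq_zero.1 h] at hp; simpa using hp)
    · simp only [Finset.mem_filter, Finset.mem_univ, true_and] at hp hq
      have h0 : p.2 - p.1 ≠ 0 := fun h => hc (by rw [sub_eq_zero.1 h] at hp; simpa using hp)
      have h4 : p.2 + p.1 = q.2 + q.1 := mul_left_cancel₀ h0 (by
        linear_combination hp - hq - (q.2 + q.1) * h)
      have h5 : p.1 = q.1 := mul_left_cancel₀ h2 (by linear_combination h4 - h)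
      exact Prod.ext h5 (by linear_combination h + h5)
    · have := (Finset.mem_erase.1 hv).1
      simp only [Finset.mem_filter, Finset.mem_univ, true_and]
      field_simp; ring
    · have := (Finset.mem_erase.1 hv).1
      field_simp; ring
  rw [h3, Finset.card_erase_of_mem (Finset.mem_univ _), Finset.sum_add_distrib, Finset.card_univ,
    Nat.cast_sub Fintype.card_pos] at h1
  simp only [Finset.sum_const, Finset.card_univ, nsmul_eq_mul, mul_one, Nat.cast_one] at h1
  linarith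

theorem split_of_sq [Fintype F] (h3 : Fintype.card F % 4 = 3) (h2 : (2 : F) ≠ 0) {A : SL(2, F)}
    {s v : F} (hv : v ≠ 0) (h : s ^ 2 - 1 = v * v) (ht : A.1.trace = -2 * s) :
    Odd (orderOf (pr A)) := by
  have e : (v - s) * (-v - s) = 1 := by linear_combination h
  have e' := inv_eq_of_mul_eq_one_right e
  refine odd_split h3 (left_ne_zero_of_mul_eq_one e) ?_ (by rw [e', ht]; ring)
  rw [e']
  intro h4
  exact mul_ne_zero h2 hv (by linear_combination h4)

theorem mid_odd [Fintype F] (hq : 4 ≤ Fintype.card F) (h2 : (2 : F) ≠ 0) {A B : SL(2, F)}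
    (hA : A.1.trace = 0) (hB : B.1.trace = 0) : Odd (orderOf (pr (A * B))) ∨
      ∃ C : SL(2, F), C.1.trace = 0 ∧ Odd (orderOf (pr (A * C))) ∧ Odd (orderOf (pr (C * B))) := by
  classical
  obtain ⟨r, hr⟩ : ∃ r, (A * B).1.trace = -2 * r := ⟨-(A * B).1.trace / 2, by field_simp⟩
  by_cases hD : 1 - r ^ 2 = 0
  · exact Or.inl (odd_unip h2 (by rw [hr]; linear_combination -4 * hD))
  by_cases h3 : IsSquare (-1 : F)
  · obtain ⟨i, hi⟩ := h3
    obtain ⟨C, h1, h4, h5⟩ := exists_mid hA hB hr hD (s := 1) (t := 1) (w := i * (1 - r))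
      (by linear_combination -(1 - r) ^ 2 * hi)
    exact Or.inr ⟨C, h1, odd_unip h2 (by rw [h4]; ring), odd_unip h2 (by rw [h5]; ring)⟩
  have hF : ringChar F ≠ 2 := fun e => h2 (by exact_mod_cast e ▸ ringChar.Nat.cast_ringChar)
  have h3' : Fintype.card F % 4 = 3 := by
    simpa using FiniteField.isSquare_neg_one_iff.not.1 h3
  have hm : quadraticChar F (-1) = -1 := quadraticChar_neg_one_iff_not_isSquare.2 h3
  have hD' : r ^ 2 - 1 ≠ 0 := fun e => hD (by linear_combination -e)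
  by_cases hs : IsSquare (r ^ 2 - 1)
  · obtain ⟨v, hv⟩ := hs
    exact Or.inl (split_of_sq h3' h2 (fun e => hD' (by rw [hv, e, mul_zero])) hv hr)
  right
  obtain ⟨l, hl0, hl1, hl2⟩ : ∃ l : F, l ≠ 0 ∧ l ≠ 1 ∧ l ≠ -1 := by
    by_contra hn
    push Not at hn
    have : (Finset.univ : Finset F) ⊆ {0, 1, -1} := fun x _ => by
      by_cases h0 : x = 0
      · simp [h0]
      by_cases h1 : x = 1
      · simp [h1]
      simp [hn x h0 h1]
    have := (Finset.card_le_card this).trans Finset.card_le_three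
    rw [Finset.card_univ] at this
    omega
  obtain ⟨s, v, hv0, hv⟩ : ∃ s v : F, v ≠ 0 ∧ s ^ 2 - 1 = v * v := by
    refine ⟨(l + l⁻¹) / 2, (l - l⁻¹) / 2, div_ne_zero (fun e => ?_) h2, by field_simp; ring⟩
    have : (l - 1) * (l + 1) = 0 := by
      have := mul_inv_cancel₀ hl0
      linear_combination l * e + this
    rcases mul_eq_zero.1 this with e | e
    · exact hl1 (by linear_combination e)
    · exact hl2 (by linear_combination e)
  have hc : (r ^ 2 - 1) * -(v * v) ≠ 0 := mul_ne_zero hD' (neg_ne_zero.2 (mul_ne_zero hv0 hv0))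
  have hcs : quadraticChar F ((r ^ 2 - 1) * -(v * v)) = 1 := by
    rw [map_mul, neg_eq_neg_one_mul, map_mul, hm, quadraticChar_neg_one_iff_not_isSquare.2 hs,
      ← pow_two, quadraticChar_sq_one' hv0]; ring
  set c := (r ^ 2 - 1) * -(v * v) with hcdef
  have hne : ∀ u : F, u ^ 2 + c ≠ 0 := fun u e => by
    have h0 : u ≠ 0 := by rintro rfl; exact hc (by simpa using e)
    rw [show c = -1 * u ^ 2 by linear_combination e, map_mul, hm, quadraticChar_sq_one' h0] at hcs
    omega
  have e1 := sum_quad hF (c := -1) (neg_ne_zero.2 one_ne_zero)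
  have e2 : ∑ t : F, quadraticChar F ((t - r * s) ^ 2 + c) = -1 := by
    rw [← sum_quad hF hc]
    exact Fintype.sum_equiv (Equiv.subRight (r * s)) _ _ fun t => rfl
  obtain ⟨t, ht1, ht2⟩ : ∃ t : F, quadraticChar F (t ^ 2 + -1) = 1 ∧
      quadraticChar F ((t - r * s) ^ 2 + c) = -1 := by
    by_contra hn
    push Not at hn
    have h6 : ∀ t : F, t ^ 2 + -1 = 0 → quadraticChar F ((t - r * s) ^ 2 + c) = 1 := fun t e => by
      have : (t - r * s) ^ 2 + c = (r - s * t) ^ 2 := by
        rw [hcdef, ← hv]; linear_combination (1 - s ^ 2) * e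
      rw [this]
      exact quadraticChar_sq_one' fun e' => hne (t - r * s) (by rw [this, e']; ring)
    have : ∑ t : F, quadraticChar F (t ^ 2 + -1) < ∑ t : F, quadraticChar F ((t - r * s) ^ 2 + c) := by
      refine Finset.sum_lt_sum (fun t _ => ?_) ⟨1, Finset.mem_univ _, ?_⟩
      · by_cases e : t ^ 2 + -1 = 0
        · rw [h6 t e, e, quadraticChar_zero]; omega
        have := hn t
        rcases quadraticChar_dichotomy e with a | a <;>
          rcases quadraticChar_dichotomy (hne (t - r * s)) with b | b <;> omega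
      · rw [h6 1 (by ring)]; simp
    omega
  have ht0 : t ^ 2 + -1 ≠ 0 := fun e => by rw [e, quadraticChar_zero] at ht1; omega
  obtain ⟨v', hv'⟩ := (quadraticChar_one_iff_isSquare ht0).1 ht1
  obtain ⟨w, hw⟩ : IsSquare (-((t - r * s) ^ 2 + c)) :=
    (quadraticChar_one_iff_isSquare (neg_ne_zero.2 (hne _))).1 (by
      rw [neg_eq_neg_one_mul, map_mul, hm, ht2]; ring)
  obtain ⟨C, h1, h4, h5⟩ := exists_mid hA hB hr hD (s := s) (t := t) (w := w) (by
    rw [hcdef, ← hv] at hw; linear_combination -hw)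
  exact ⟨C, h1, split_of_sq h3' h2 hv0 hv h4, split_of_sq h3' h2 (v := v')
    (fun e => ht0 (by rw [hv', e, mul_zero])) (by linear_combination hv') h5⟩

theorem ne_one_of {A : SL(2, F)} (h : A.1 0 1 ≠ 0 ∨ A.1 1 0 ≠ 0) : pr A ≠ 1 := fun e => by
  obtain ⟨r, hr⟩ := pr_eq_one.1 e
  simp [hr] at h

theorem mid_even [Finite F] (h2 : (2 : F) = 0) {A B : SL(2, F)} (hA : A.1.trace = 0)
    (hB : B.1.trace = 0) (hA1 : pr A ≠ 1) (hB1 : pr B ≠ 1) : ∃ C : SL(2, F), orderOf (pr C) = 2 ∧
      Odd (orderOf (pr (A * C))) ∧ Odd (orderOf (pr (C * B))) := by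
  have key : ∀ {A : SL(2, F)}, A.1.trace = 0 → pr A ≠ 1 → ¬ (A.1 0 1 = 0 ∧ A.1 1 0 = 0) := by
    intro A hA hA1 ⟨e1, e2⟩
    refine hA1 (pr_eq_one.2 ⟨A.1 0 0, ?_⟩)
    rw [trace_fin_two] at hA
    ext i j
    fin_cases i <;> fin_cases j <;> simp [e1, e2]
    linear_combination hA - A.1 0 0 * h2
  have kA := key hA hA1
  have kB := key hB hB1
  rw [trace_fin_two] at hA hB
  have mk : ∀ (x y z : F) (hd : x * x - y * z = 1), (y ≠ 0 ∨ z ≠ 0) →
      A.1 0 1 * z + A.1 1 0 * y ≠ 0 → B.1 0 1 * z + B.1 1 0 * y ≠ 0 →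
      ∃ C : SL(2, F), orderOf (pr C) = 2 ∧ Odd (orderOf (pr (A * C))) ∧
        Odd (orderOf (pr (C * B))) := by
    intro x y z hd h0 h1 h3
    refine ⟨mkS x y z x hd, order_two ?_ (ne_one_of h0),
      odd_even h2 fun e => h1 ?_, odd_even h2 fun e => h3 ?_⟩
    · simp [mkS_val, trace_fin_two, ← two_mul, h2]
    · simp [mkS_val, trace_fin_two, mul_apply, Fin.sum_univ_two] at e
      linear_combination e - x * hA
    · simp [mkS_val, trace_fin_two, vecMul, dotProduct, Fin.sum_univ_two] at e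
      linear_combination e - x * hB
  by_cases a1 : A.1 1 0 ≠ 0 ∧ B.1 1 0 ≠ 0
  · exact mk 1 1 0 (by ring) (by simp) (by simpa using a1.1) (by simpa using a1.2)
  by_cases a2 : A.1 0 1 ≠ 0 ∧ B.1 0 1 ≠ 0
  · exact mk 1 0 1 (by ring) (by simp) (by simpa using a2.1) (by simpa using a2.2)
  refine mk 0 1 1 (by linear_combination -h2) (by simp) ?_ ?_
  · by_cases h : A.1 1 0 = 0 <;> by_cases h' : A.1 0 1 = 0 <;> simp_all
  · by_cases h : B.1 1 0 = 0 <;> by_cases h' : B.1 0 1 = 0 <;> simp_all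

theorem exists_mid_psl [Fintype F] (hq : 4 ≤ Fintype.card F) {x y : PSL(2, F)}
    (hx : orderOf x = 2) (hy : orderOf y = 2) : Odd (orderOf (x * y)) ∨
      ∃ z : PSL(2, F), orderOf z = 2 ∧ Odd (orderOf (x * z)) ∧ Odd (orderOf (z * y)) := by
  obtain ⟨A, rfl⟩ := QuotientGroup.mk'_surjective _ x
  obtain ⟨B, rfl⟩ := QuotientGroup.mk'_surjective _ y
  by_cases h2 : (2 : F) = 0
  · obtain ⟨C, h⟩ := mid_even h2 (trace_zero hx).1 (trace_zero hy).1 (trace_zero hx).2
      (trace_zero hy).2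
    exact Or.inr ⟨pr C, h⟩
  · rcases mid_odd hq h2 (trace_zero hx).1 (trace_zero hy).1 with h | ⟨C, h, h'⟩
    · exact Or.inl h
    · exact Or.inr ⟨pr C, order_two' h2 h, h'⟩

theorem exists_pair [Fintype F] (hq : 4 ≤ Fintype.card F) : ∃ x y : PSL(2, F),
    orderOf x = 2 ∧ orderOf y = 2 ∧ orderOf (x * y) = 2 ∧ orderOf (y * x) = 2 := by
  suffices ∃ A B : SL(2, F), orderOf (pr A) = 2 ∧ orderOf (pr B) = 2 ∧ orderOf (pr (A * B)) = 2 ∧
      orderOf (pr (B * A)) = 2 by
    obtain ⟨A, B, h⟩ := this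
    exact ⟨pr A, pr B, h⟩
  by_cases h2 : (2 : F) = 0
  · classical
    obtain ⟨c, hc0, hc1⟩ : ∃ c : F, c ≠ 0 ∧ c ≠ -1 := by
      by_contra hn
      push Not at hn
      have : (Finset.univ : Finset F) ⊆ {0, -1} := fun x _ => by
        by_cases h0 : x = 0
        · simp [h0]
        simp [hn x h0]
      have := (Finset.card_le_card this).trans Finset.card_le_two
      rw [Finset.card_univ] at this
      omega
    have h1 : (1 : F) + 1 = 0 := by linear_combination h2
    have h3 : c + 1 ≠ 0 := fun e => hc1 (by linear_combination e)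
    have h4 : 1 + c ≠ 0 := fun e => hc1 (by linear_combination e)
    refine ⟨mkS 1 1 0 1 (by simp), mkS 1 c 0 1 (by simp), ?_, ?_, ?_, ?_⟩ <;>
      refine order_two ?_ (ne_one_of (Or.inl ?_)) <;>
      simp [mkS_val, trace_fin_two, h1, hc0, h3, h4]
  · obtain ⟨p, hp⟩ := CharP.exists F
    have : NeZero p := ⟨(CharP.char_is_prime F p).ne_zero⟩
    obtain ⟨a, b, hab⟩ := CharP.sq_add_sq F p (-1)
    refine ⟨mkS 0 1 (-1) 0 (by simp), mkS (a : F) b b (-a) (by
      push_cast at hab; linear_combination -hab), ?_, ?_, ?_, ?_⟩ <;>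
      refine order_two' h2 ?_ <;> simp [mkS_val, trace_fin_two]

/-- Let F be a finite field with at least 4 elements and let X be a conjugacy class of involutions of PSL(2, F). The graph on X joining two distinct involutions whose product has odd order is connected and has diameter exactly 2. -/
theorem result {F : Type*} [Field F] [Fintype F] (hF : 4 ≤ Fintype.card F)
    (t : Matrix.ProjectiveSpecialLinearGroup (Fin 2) F) (ht : orderOf t = 2) :
    (SimpleGraph.fromRel fun x y : {x : Matrix.ProjectiveSpecialLinearGroup (Fin 2) F // IsConj t x} =>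
        Odd (orderOf (x.1 * y.1))).Connected ∧
      (SimpleGraph.fromRel fun x y : {x : Matrix.ProjectiveSpecialLinearGroup (Fin 2) F // IsConj t x} =>
        Odd (orderOf (x.1 * y.1))).diam = 2 := by
  have hc := (CfsgLib.TL2.psl_facts hF).1
  set Γ := SimpleGraph.fromRel fun x y : {x : PSL(2, F) // IsConj t x} =>
    Odd (orderOf (x.1 * y.1)) with hΓ
  have ho : ∀ x : {x : PSL(2, F) // IsConj t x}, orderOf x.1 = 2 := fun x => by
    obtain ⟨c, hc⟩ := isConj_iff.1 x.2
    rw [← hc]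
    exact ((MulAut.conj c).orderOf_eq t).trans ht
  have h1 : ∀ x y, Odd (orderOf (x.1 * y.1)) → Γ.edist x y ≤ 1 := fun x y h =>
    SimpleGraph.edist_le_one_iff_adj_or_eq.2 ((eq_or_ne x y).symm.imp_left fun e =>
      (SimpleGraph.fromRel_adj _ _ _).2 ⟨e, Or.inl h⟩)
  have h2 : Γ.ediam ≤ 2 := SimpleGraph.ediam_le_of_edist_le fun x y => by
    rcases exists_mid_psl hF (ho x) (ho y) with h | ⟨z, hz, h, h'⟩
    · exact (h1 x y h).trans one_le_two
    · exact (SimpleGraph.edist_triangle (v := ⟨z, hc t z ht hz⟩)).trans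
        ((add_le_add (h1 _ _ h) (h1 _ _ h')).trans one_add_one_eq_two.le)
  have : Nonempty {x : PSL(2, F) // IsConj t x} := ⟨⟨t, IsConj.refl t⟩⟩
  refine ⟨SimpleGraph.connected_of_ediam_ne_top (ne_top_of_le_ne_top (by simp) h2), ?_⟩
  obtain ⟨x, y, hx, hy, hxy, hyx⟩ := exists_pair hF
  have h3 : ¬ Γ.ediam ≤ 1 := fun h => by
    rcases SimpleGraph.edist_le_one_iff_adj_or_eq.1 ((SimpleGraph.edist_le_ediam
      (u := ⟨x, hc t x ht hx⟩) (v := ⟨y, hc t y ht hy⟩)).trans h) with e | e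
    · rcases ((SimpleGraph.fromRel_adj _ _ _).1 e).2 with e | e
      · rw [hxy] at e; exact absurd e (by decide)
      · rw [hyx] at e; exact absurd e (by decide)
    · obtain rfl : x = y := congrArg Subtype.val e
      have := pow_orderOf_eq_one x
      rw [hx, pow_two] at this
      rw [this, orderOf_one] at hxy
      omega
  have h4 : Γ.ediam = 2 := le_antisymm h2 (by
    have := Order.add_one_le_of_lt (not_le.1 h3)
    rwa [one_add_one_eq_two] at this)
  rw [SimpleGraph.diam, h4]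
  rfl

end Cfsg.Agent.S3266
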