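import Cfsg.Statements.S3323
import Cfsg.Agent.Lib.RF4.Main
import Cfsg.Agent.Lib.F42.Top
import Cfsg.Agent.Lib.StdW.Pair
import Cfsg.Agent.Lib.ZStar.Main
import Cfsg.Agent.Lib.MultC.Pkg
import Cfsg.Agent.Lib.Schur.Hopf
import Cfsg.Agent.S1072
import Cfsg.Agent.S2114
import Cfsg.Agent.S2128

set_option autoImplicit false
open Cfsg

namespace Cfsg.Agent.S3323

open Subgroup CfsgLib CfsgLib.RF4 CfsgLib.F42

section aux
variable {G : Type*} [Group G] [Finite G] {L : Subgroup G}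

omit [Finite G] in
theorem split (h : Odd (Nat.card (Out L))) (g : G) (hg : g ∈ normalizer (L : Set G)) (h2 : T2 g) :
    ∃ l ∈ L, ∃ k ∈ centralizer (L : Set G), g = l * k := by
  obtain ⟨k, hk⟩ := h2
  have h1 : L.normalizerMonoidHom ⟨g, hg⟩ ∈ Inn L := by
    rw [← QuotientGroup.eq_one_iff, ← orderOf_eq_one_iff]
    refine Nat.eq_one_of_dvd_coprimes ((Nat.coprime_two_left.2 h).pow_left k) ?_ (orderOf_dvd_natCard _)
    rw [orderOf_dvd_iff_pow_eq_one, ← QuotientGroup.mk_pow, ← map_pow,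
      show (⟨g, hg⟩ : normalizer (L : Set G)) ^ 2 ^ k = 1 from Subtype.ext hk, map_one, QuotientGroup.mk_one]
  obtain ⟨l, hl⟩ := h1
  refine ⟨l, l.2, (l : G)⁻¹ * g, mem_centralizer_iff.2 fun x hx => ?_, by group⟩
  have e : (l : G) * x * (l : G)⁻¹ = g * x * g⁻¹ := by
    exact congrArg Subtype.val (DFunLike.congr_fun hl (⟨x, hx⟩ : L))
  calc x * ((l : G)⁻¹ * g) = (l : G)⁻¹ * (l * x * (l : G)⁻¹) * g := by group
    _ = (l : G)⁻¹ * g * x := by rw [e]; group

omit [Finite G] in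
theorem cn (hL : IsStandardSubgroup L) {t : G} (ht : orderOf t = 2) (tC : t ∈ centralizer (L : Set G)) (g : G)
    (hg : Commute g t) : g ∈ normalizer (L : Set G) := by
  rw [hL.2.2.2]
  by_contra h
  refine Nat.not_even_iff_odd.2 (hL.2.1.2 g h) (even_iff_two_dvd.2 ?_)
  rw [← ht]
  exact Subgroup.orderOf_dvd_natCard _ ⟨tC, t, tC, by simp [hg.eq]⟩

omit [Finite G] in
theorem cyc {C : Subgroup G} (h : ∀ R : Sylow 2 C, IsCyclic R) (P : Subgroup G) (hP : P ≤ C) (h2 : IsPGroup 2 P) :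
    IsCyclic P := by
  obtain ⟨R, hR⟩ := (h2.of_equiv (subgroupOfEquivOfLe hP).symm).exists_le_sylow
  have := h R
  have := isCyclic_of_injective _ (inclusion_injective hR)
  exact isCyclic_of_surjective _ (subgroupOfEquivOfLe hP).surjective

omit [Finite G] in
theorem mult {Q : Type*} [Group Q] (e : L ≃* Q) (h : HasCyclicSchurMultiplier Q 1) : Mult L := by
  rintro Γ ψ rfl hc hp
  have hk : (e.toMonoidHom.comp ψ.rangeRestrict).ker = ψ.ker := by
    rw [← MonoidHom.comap_ker, e.toMonoidHom.ker_eq_bot_iff.2 e.injective, ← MonoidHom.ker_rangeRestrict]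
    rfl
  have ht : commutator Γ = ⊤ := by
    refine map_injective Γ.subtype_injective (le_antisymm (map_mono le_top) ?_)
    rwa [commutator_def, map_commutator, ← MonoidHom.range_eq_map, range_subtype]
  obtain ⟨f, hf⟩ := Schur.exists_surj_ker h (σ := e.toMonoidHom.comp ψ.rangeRestrict)
    ⟨e.surjective.comp ψ.rangeRestrict_surjective, hk ▸ hc, ht ▸ le_top⟩
  have : Subsingleton (Multiplicative (ZMod 1)) := inferInstanceAs (Subsingleton (ZMod 1))
  have := hf.subsingleton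
  exact ψ.ker_eq_bot_iff.1 (hk ▸ eq_bot_of_subsingleton _)

theorem move (hF : IsSimpleGroup (generalizedFittingSubgroup G)) (hF' : ¬ IsMulCommutative (generalizedFittingSubgroup G))
    {t : G} (ht : orderOf t = 2) : ∃ g, g * t * g⁻¹ ≠ t ∧ Commute (g * t * g⁻¹) t := by
  by_contra h
  have hz := ZStar.zstar_center (StdW.core_eq_bot hF hF') ⟨ht, fun g c => by_contra fun n => h ⟨g, n, c.symm⟩⟩
  have h1 : zpowers t ≤ center G := zpowers_le.2 hz
  have h2 := StdW.fstar_le hF (N := center G) inferInstance fun e => by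
    rw [e, mem_bot] at hz
    simp [hz] at ht
  exact hF' ⟨⟨fun a b => Subtype.ext (mem_center_iff.1 (h2 b.2) a)⟩⟩

end aux

/-- Let G be a finite group whose generalized Fitting subgroup F*(G) is a non-abelian simple group, and let L be a standard subgroup of G isomorphic to the Ree group ²F₄(q), q = 2^(2m+1) ≥ 8, such that the centralizer C_G(L) has cyclic Sylow 2-subgroups and L ≠ G. Then O²(G) has a subgroup of odd index isomorphic to the Chevalley group F₄(q) or to ²F₄(q) × ²F₄(q). -/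
theorem result
    {G : Type*} [Group G] [Finite G]
    (hFs : IsSimpleGroup ↥(Cfsg.generalizedFittingSubgroup G)) (hFna : ¬ IsMulCommutative ↥(Cfsg.generalizedFittingSubgroup G))
    (L : Subgroup G) (hL : Cfsg.IsStandardSubgroup L)
    {K : Type*} [Field K] [Fintype K] (m : ℕ) (hm : 1 ≤ m) (hK : Fintype.card K = 2 ^ (2 * m + 1))
    (e : ↥L ≃* ↥(Cfsg.Lie.twistedF4 K (2 ^ m)))
    (hcyc : ∀ R : Sylow 2 ↥(Subgroup.centralizer (L : Set G)), IsCyclic ↥R)
    (hLG : L ≠ ⊤) :
    ∃ G₀ : Subgroup G, G₀ ≤ Cfsg.oddGenerated (⊤ : Subgroup G) ∧ Odd (G₀.relIndex (Cfsg.oddGenerated (⊤ : Subgroup G))) ∧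
      (Nonempty (↥G₀ ≃* ↥(Cfsg.Lie.chevF4.group K)) ∨
        Nonempty (↥G₀ ≃* (↥(Cfsg.Lie.twistedF4 K (2 ^ m)) × ↥(Cfsg.Lie.twistedF4 K (2 ^ m))))) := by
  obtain ⟨σ, sz, O₀, hb, h0, -⟩ := model hK
  have hφ : Function.Injective (L.subtype.comp e.symm.toMonoidHom) := L.subtype_injective.comp e.symm.injective
  have hG : (push O₀ _ hφ).G0 = L := by
    rw [push_G0, h0, ← map_map, map_top_of_surjective _ e.symm.surjective, ← MonoidHom.range_eq_map, range_subtype]
  obtain ⟨⟨t, tC⟩, ht⟩ := exists_prime_orderOf_dvd_card' 2 (even_iff_two_dvd.1 hL.2.1.1)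
  rw [← orderOf_coe] at ht
  have hs := (S1072.result hm hK).1
  have ho : Odd (Nat.card (Out L)) := by
    rw [MultC.card_out_congr e, S2128.result hm hK]
    exact odd_two_mul_add_one m
  have h : Sit0 (push O₀ _ hφ) t :=
    { big := (big_of hK hm).1
      braid := push_braid _ _ _ hb
      simple := hG.symm ▸ e.isSimpleGroup
      t2 := by rw [← sq, ← ht, pow_orderOf_eq_one]
      t1 := fun k => by simp [k] at ht
      tC := fun x hx => (mem_centralizer_iff.1 tC x (hG ▸ hx)).symm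
      CN := hG.symm ▸ cn hL ht tC
      split := hG.symm ▸ split ho
      cyc := hG.symm ▸ cyc hcyc }
  obtain ⟨G1, h1, h2, h3⟩ := h.main (hG.symm ▸ mult e (S2114.result hm hK)) (move hFs hFna ht)
  rw [hG] at h3
  exact ⟨G1, h1, h2, h3.imp id fun ⟨f⟩ => ⟨f.trans (e.prodCongr e)⟩⟩

end Cfsg.Agent.S3323
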