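import Cfsg.Statements.S3336
import Cfsg.Agent.Lib.Rec3B.CoA2
import Cfsg.Agent.Lib.Rec3B.CoB
import Cfsg.Agent.Lib.Rec3B.GM
import Cfsg.Agent.S1675

set_option autoImplicit false
open Cfsg

namespace Cfsg.Agent.S3336

open Subgroup CfsgLib CfsgLib.Tech CfsgLib.W2 CfsgLib.Rec3B

theorem eq_of {G : Type*} [Group G] [Finite G] {Q : Subgroup G} {z : G} (hQ : IsExtraspecial 3 Q)
    (hc : Nat.card Q = 3 ^ 5) (zQ : z ∈ Q) (z1 : z ≠ 1) (zc : Q ≤ Cx z) : EQ Q z := by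
  have : Fact (Nat.Prime 3) := ⟨Nat.prime_three⟩
  have hz : (⟨z, zQ⟩ : Q) ∈ center Q := mem_center_iff.2 fun q => Subtype.ext (mem_Cx.1 (zc q.2))
  have z3 : z ^ 3 = 1 := congrArg Subtype.val (PGroup.IsExtraspecial.pow_eq_one_of_mem_center hQ hz)
  have e : zpowers z = (center Q).map Q.subtype := eq_of_le_of_card_ge (zpowers_le.2 ⟨_, hz, rfl⟩)
    (by rw [card_map_of_injective Q.subtype_injective, hQ.2, Es.cardZ z1 z3])
  exact ⟨hc, zQ, z1, z3, zc, fun q hq k => e ▸ ⟨⟨q, hq⟩, mem_center_iff.2 fun y => Subtype.ext (k y y.2), rfl⟩,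
    fun p hp q hq => e ▸ ⟨_, PGroup.IsExtraspecial.commutatorElement_mem_center hQ ⟨p, hp⟩ ⟨q, hq⟩, rfl⟩⟩

/-- A 3-local characterization of the second Conway group. Let G be a finite group, S a Sylow 3-subgroup, Z = Z(S) and C = C_G(Z). Suppose that O₃(C) is extraspecial of order 3^5, that O₂(C/O₃(C)) is extraspecial of order 2^5 with quotient (C/O₃(C))/O₂(C/O₃(C)) isomorphic to the alternating group of degree 5, and that Z is not weakly closed in S with respect to G. Then G is isomorphic to the second Conway group. -/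
theorem result {G : Type*} [Group G] [Finite G]
    (S : Sylow 3 G) (Z : Subgroup G) (hZ : Z = (S : Subgroup G) ⊓ Subgroup.centralizer ((S : Subgroup G) : Set G))
    (C : Subgroup G) (hCZ : C = Subgroup.centralizer (Z : Set G))
    (hQ : Cfsg.IsExtraspecial 3 (Cfsg.pCore 3 C)) (hQcard : Nat.card (Cfsg.pCore 3 C) = 3 ^ 5)
    (hR : Cfsg.IsExtraspecial 2 (Cfsg.pCore 2 (C ⧸ Cfsg.pCore 3 C)))
    (hRcard : Nat.card (Cfsg.pCore 2 (C ⧸ Cfsg.pCore 3 C)) = 2 ^ 5)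
    (e : (C ⧸ Cfsg.pCore 3 C) ⧸ Cfsg.pCore 2 (C ⧸ Cfsg.pCore 3 C) ≃* alternatingGroup (Fin 5))
    (hnwc : ¬ Cfsg.IsWeaklyClosed Z S) :
    Cfsg.Spor.IsoCo2 G := by
  have : Fact (Nat.Prime 3) := ⟨Nat.prime_three⟩
  have hZS : Z ≤ S := hZ ▸ inf_le_left
  have mC : ∀ g, g ∈ C ↔ ∀ y ∈ Z, y * g = g * y := fun g => by rw [hCZ]; exact mem_centralizer_iff
  have hSC : (S : Subgroup G) ≤ C := fun s hs => (mC s).2 fun y hy => ((hZ ▸ hy).2 s hs).symm
  have hZQ : ∀ y, ∀ hy : y ∈ Z, (⟨y, hSC (hZS hy)⟩ : C) ∈ pCore 3 C := fun y hy =>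
    LAE.le_pCore (N := Z.subgroupOf C) ⟨fun n hn g => by
      have : g * n * g⁻¹ = n := by
        rw [mul_inv_eq_iff_eq_mul]
        exact Subtype.ext ((mC g).1 g.2 n hn).symm
      rwa [this]⟩ (S.isPGroup'.to_le hZS).comap_subtype hy
  obtain ⟨z, zZ, z1⟩ : ∃ z ∈ Z, z ≠ 1 := by
    by_contra! k
    refine hnwc ⟨hZS, fun g _ => ?_⟩
    rw [(eq_bot_iff_forall Z).2 k, Subgroup.map_bot]
  have E := eq_of hQ hQcard (hZQ z zZ) (fun e => z1 (congrArg Subtype.val e)) fun q _ =>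
    mem_Cx.2 (Subtype.ext ((mC q).1 q.2 z zZ).symm)
  have eZ : Z = zpowers z := le_antisymm (fun y hy => by
    obtain ⟨n, e⟩ := E.cen _ (hZQ y hy) fun q _ => Subtype.ext ((mC q).1 q.2 y hy).symm
    exact ⟨n, congrArg Subtype.val e⟩) (zpowers_le.2 zZ)
  obtain rfl : C = Cx z := by
    ext g
    rw [mC, eZ, mem_Cx]
    exact ⟨fun k => (k z (mem_zpowers z)).symm, fun k y ⟨n, e⟩ => e ▸ (Commute.zpow_left k.symm n).eq⟩
  have sy := IsSylowIn.of_sylow S hSC
  obtain ⟨j, hj⟩ := ExtraTwo.exists_ES hR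
  let g := e.toMonoidHom.comp (QuotientGroup.mk' (pCore 2 (Cx z ⧸ pCore 3 (Cx z))))
  have gk : g.ker = pCore 2 _ := by
    rw [← MonoidHom.comap_ker, (MonoidHom.ker_eq_bot_iff _).2 e.injective, MonoidHom.comap_bot, QuotientGroup.ker_mk']
  have c1 : Nat.card (Cx z) = 466560 := by
    rw [card_eq_card_quotient_mul_card_subgroup (pCore 3 (Cx z)), card_eq_card_quotient_mul_card_subgroup (pCore 2 _),
      Nat.card_congr e.toEquiv, hQcard, hRcard, Nat.card_eq_fintype_card, card_alternatingGroup]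
    rfl
  have c2 : Nat.card (S.1.subgroupOf (Cx z)) = 3 * Nat.card (pCore 3 (Cx z)) := by
    rw [Nat.card_congr (subgroupOfEquivOfLe hSC).toEquiv, sy.card_eq_pow, c1, hQcard,
      show 466560 = 3 ^ 6 * 640 from rfl, Nat.factorization_mul (by norm_num) (by norm_num),
      Nat.Prime.factorization_pow Nat.prime_three]
    simp [Nat.factorization_eq_zero_of_not_dvd (show ¬ 3 ∣ 640 by norm_num)]
  have QS : pCore 3 (Cx z) ≤ S.1.subgroupOf (Cx z) :=
    (IsSylowIn.of_sylow_top sy.toSylow).le_of_le_normalizer hQ.1.1 le_top le_normalizer_of_normal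
  have h : CH (pCore 3 (Cx z)) ⟨z, mem_Cx.2 rfl⟩ (QuotientGroup.mk' _) j g := by
    refine ⟨E, fun k => Subtype.ext (mem_Cx.1 k.2), QuotientGroup.mk'_surjective _, QuotientGroup.ker_mk' _,
      e.surjective.comp (QuotientGroup.mk'_surjective _), by rw [gk, hRcard]; rfl, gk ▸ hj.mem, hj.ne_one, hj.mul_self,
      gk ▸ fun y hy => (and_iff_right hy).symm.trans hj.center_iff, gk ▸ fun y hy => hj.sq hy,
      gk ▸ fun y hy w hw => hj.comm y hy w hw, fun x x9 hx => ?_⟩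
    obtain ⟨k, -, hk⟩ := (IsSylowIn.of_sylow_top sy.toSylow).exists_conj_mem (mem_top x)
      (isPGroup_zpowers_of_pow (k := 2) x9)
    by_contra hn
    have hn' : k * x * k⁻¹ ∉ pCore 3 (Cx z) := fun l => hn (by simpa [mul_assoc] using Normal.conj_mem inferInstance _ l k⁻¹)
    have hc : pCore 3 (Cx z) ≤ Cx (k * x * k⁻¹) := fun q hq => by
      have := conj_mem_Cx (g := k).2 (mem_Cx.2 (hx _ (Normal.conj_mem inferInstance _ hq k⁻¹)).symm)
      simpa [mul_assoc] using this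
    have := Es.max3 hc QS c2 (mem_Cx.2 rfl) hk hn'
    refine hn' (hZQ _ (hZ ▸ ⟨hk, fun s hs => congrArg Subtype.val (mem_Cx.1 (this (x := ⟨s, hSC hs⟩) hs))⟩))
  obtain ⟨i, r, ω, x, ha⟩ := h.exists_CA
  obtain ⟨φ, R, π, π', hG, ez, hω⟩ := ha.exists_GC fun P hP => by
    obtain ⟨k, hk, rfl⟩ := sy.exists_cj_eq hP
    by_contra! l
    refine hnwc ⟨hZS, fun g hg => ?_⟩
    change cj g Z ≤ _ at hg
    change cj g Z = _
    rw [eZ, cj_zpowers] at hg ⊢
    have := l (k * g) (by simpa [mul_assoc] using conj_mem_cj (g := k).2 (hg (mem_zpowers _)))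
    refine eq_of_le_of_card_ge (zpowers_le.2 ?_) (by rw [← cj_zpowers, card_cj])
    simpa [mul_assoc] using conj_mem_of_mem_normalizer' (G2x.Cx_le_norm z hk) this
  obtain ⟨k1, k2, k3, ⟨k4⟩⟩ := hG.co2 hω fun K hK => by
    have := normal_of_index_eq_two hK
    rw [ez, ← relIndex_eq_one]
    exact ((Nat.dvd_prime Nat.prime_two).1 (hK ▸ relIndex_dvd_index_of_normal K _)).resolve_right (ha.two _)
  exact S1675.result hG.oddCore_eq hG.center_eq (φ W4.gr) (ord_two hG.rr hG.r1) k1 k2 k3 k4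

end Cfsg.Agent.S3336
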