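import Cfsg.Statements.S3339
import Cfsg.Agent.Lib.Rec3.JSetP
import Cfsg.Agent.Lib.Rec3.A9
import Cfsg.Agent.Lib.Rec3.A9c
import Cfsg.Agent.Lib.Rec3.Phantom

set_option autoImplicit false
open Cfsg

namespace Cfsg.Agent.S3339

set_option maxRecDepth 100000
open CfsgLib.Rec3 CfsgLib.Rec3.N9 CfsgLib.W2 CfsgLib.PComp

/-- A 3-local characterization of the alternating group of degree 9. Let G be a finite group and J ≤ G an elementary abelian subgroup of order 27 whose normalizer H = N_G(J) is isomorphic to the normalizer, in the alternating group of degree 9, of the subgroup generated by three disjoint 3-cycles. If O_{3'}(C_G(x)) = 1 for every element x of order 3 in H, then either G = H or G is isomorphic to the alternating group of degree 9. -/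
theorem result {G : Type*} [Group G] [Finite G]
    (J : Subgroup G) (hJcomm : IsMulCommutative J) (hJexp : ∀ a ∈ J, a ^ 3 = 1) (hJcard : Nat.card J = 27)
    (H : Subgroup G) (hH : H = Subgroup.normalizer (J : Set G))
    (J₀ : Subgroup (Equiv.Perm (Fin 9)))
    (hJ₀ : J₀ = Subgroup.closure {Equiv.swap (0 : Fin 9) 1 * Equiv.swap 1 2, Equiv.swap (3 : Fin 9) 4 * Equiv.swap 4 5, Equiv.swap (6 : Fin 9) 7 * Equiv.swap 7 8})
    (eH : H ≃* ↥(alternatingGroup (Fin 9) ⊓ Subgroup.normalizer (J₀ : Set (Equiv.Perm (Fin 9)))))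
    (hcores : ∀ x ∈ H, orderOf x = 3 → Cfsg.pPrimeCore 3 (Subgroup.centralizer ({x} : Set G)) = ⊥) :
    H = ⊤ ∨ Nonempty (G ≃* alternatingGroup (Fin 9)) := by
  obtain ⟨ι, h0, rfl⟩ := exists_JS0_rot J hJcomm hJexp hJcard H hH J₀ hJ₀ eH
  subst hH
  have hO : ∀ x ∈ Rot, x ^ 3 = 1 → x ≠ 1 → opOf 3 (Cx (ι x)) = ⊥ := fun x hx h3 h1 => by
    rw [opOf_def, hcores _ (h0.mem_norm hx) (h0.ord_three hx h3 h1), Subgroup.map_bot]
  have hz := cent_z h0 (hO _ (by decide +kernel) (by decide +kernel) (by decide +kernel))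
  have hz' := hz.trans ((im_mono h0.le).trans h0.norm.ge)
  have h := js_of h0 hz'
    (cent_y h0 hz' (hO _ (by decide +kernel) (by decide +kernel) (by decide +kernel)))
  rcases h.rot_cases with he | ⟨κ, hκ⟩
  · exact Or.inl (CfsgLib.Rec3.N9.alpha h hz' he (fun hc => phantom h hz hc he)
      (hO _ (by decide +kernel) (by decide +kernel) (by decide +kernel)))
  · exact Or.inr (CfsgLib.Rec3.beta h hz' hκ)

end Cfsg.Agent.S3339
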