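import Cfsg.Statements.S3340
import Cfsg.Agent.Lib.HN3.A7
import Cfsg.Agent.Lib.HN3.B3
import Cfsg.Agent.Lib.HN3.Top

set_option autoImplicit false
open Cfsg

namespace Cfsg.Agent.S3340

/-- A 3-local characterization of the Harada–Norton group. Let G be a finite group, S a Sylow 3-subgroup, Z = Z(S), C = C_G(Z) and Q = O₃(C). Suppose that Q is extraspecial of order 3^5 and exponent 3, that C_G(Q) ≤ Q, that some conjugate of Z other than Z lies in Q, and that C/Q is isomorphic to SL(2,5). Then G is isomorphic to the Harada–Norton group. -/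
theorem result {G : Type*} [Group G] [Finite G]
    (S : Sylow 3 G) (Z : Subgroup G) (hZ : Z = (S : Subgroup G) ⊓ Subgroup.centralizer ((S : Subgroup G) : Set G))
    (C : Subgroup G) (hCZ : C = Subgroup.centralizer (Z : Set G))
    (Q : Subgroup G) (hQ : Q = (Cfsg.pCore 3 C).map C.subtype)
    (hQex : Cfsg.IsExtraspecial 3 Q) (hQcard : Nat.card Q = 3 ^ 5) (hQexp : ∀ a ∈ Q, a ^ 3 = 1)
    (hCQ : Subgroup.centralizer (Q : Set G) ≤ Q)
    (hZQ : ∃ x : G, Z.map (MulAut.conj x).toMonoidHom ≤ Q ∧ Z.map (MulAut.conj x).toMonoidHom ≠ Z)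
    (e : C ⧸ Cfsg.pCore 3 C ≃* Matrix.SpecialLinearGroup (Fin 2) (ZMod 5)) :
    Cfsg.Spor.IsoHN G := by
  obtain ⟨_, a, m, k, Φ, h⟩ := CfsgLib.HN3.setup S hZ hCZ hQ hQex hQcard hQexp hCQ hZQ e
  obtain ⟨t, c, x, Ψ, h'⟩ := h.exists_eight
  exact h'.isoHN

end Cfsg.Agent.S3340
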