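import Mathlib
-- Template for statement S3343 (row 3343; see /opt/grader/pristine/manifest.json for weights).
-- Copy to Cfsg/Agent/S3343.lean and replace the sorry. The statement below is byte-identical to the frozen
-- statement Cfsg.CfsgFrozen.S3343 (Cfsg/Statements/S3343.lean; the theorem Cfsg.recog_sym9_of_three_centralizer);
-- the grader kernel-checks Cfsg.Agent.S3343.result against that frozen type. Keep the theorem IN THIS FILE
-- (a `result` declared elsewhere and merely imported here is not credited); helpers may live anywhere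
-- under Cfsg/Agent/.
import Cfsg.Statements.S3343
import Cfsg.Agent.Lib.Rec3.JSetP
import Cfsg.Agent.Lib.Rec3.S9End
-- import your own Cfsg.Agent.* helpers here

set_option autoImplicit false
open Cfsg

namespace Cfsg.Agent.S3343

open CfsgLib.Rec3 CfsgLib.W2

/-- Let G be a finite group with an element x of order 3 whose centralizer is isomorphic to the centralizer in the symmetric group of degree 9 of a product of three disjoint 3-cycles, and let J ≤ C_G(x) be elementary abelian of order 27 normalizing no non-trivial subgroup of G of order prime to 3. Then either J is normal in G or G is isomorphic to the symmetric group of degree 9. -/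
theorem result {G : Type*} [Group G] [Finite G]
    (x : G) (hx : orderOf x = 3)
    (eC : Subgroup.centralizer ({x} : Set G) ≃*
      Subgroup.centralizer ({Equiv.swap (0 : Fin 9) 1 * Equiv.swap 1 2 * Equiv.swap 3 4 * Equiv.swap 4 5 * Equiv.swap 6 7 * Equiv.swap 7 8} : Set (Equiv.Perm (Fin 9))))
    (J : Subgroup G) (hJC : J ≤ Subgroup.centralizer ({x} : Set G)) (hJcomm : IsMulCommutative J)
    (hJexp : ∀ j ∈ J, j ^ 3 = 1) (hJcard : Nat.card J = 27)
    (hJsig : ∀ K : Subgroup G, (Nat.card K).Coprime 3 → (∀ j ∈ J, K.map (MulAut.conj j).toMonoidHom = K) → K = ⊥) :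
    J.Normal ∨ Nonempty (G ≃* Equiv.Perm (Fin 9)) := by
  obtain ⟨A, ι, h, rfl, rfl, hc, hA⟩ := exists_JS_cent9 x hx eC J hJC hJcomm hJexp hJcard hJsig
  have hz : ∀ hS : S3 ≤ A, Cx (ι z0) ≤ Subgroup.normalizer (img ι J0 : Set G) := fun hS =>
    hc.le.trans (h.norm ▸ im_mono hS)
  rcases hA with rfl | rfl | rfl | rfl
  · exact Or.inl (S9c.case_S3 h (hz le_rfl))
  · exact Or.inl (S9c.case_S3x2 h (hz (show ∀ a ∈ S3, a ∈ S3x2 by decide +kernel)))
  · exact Or.inl (S9c.case_D3 h (hz (show ∀ a ∈ S3, a ∈ D3 by decide +kernel)))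
  · rcases h.b3_cases with he | ⟨κ, hκ⟩
    · exact Or.inl (S9c.case_B3 h hc.le he)
    · exact Or.inr (S9c.SC.iso ⟨h, hκ, hz fun a _ => mem_B3 a⟩)

end Cfsg.Agent.S3343
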