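import Cfsg.Statements.S3348
import Cfsg.Agent.Lib.Rec3.M12b

set_option autoImplicit false
open Cfsg

namespace Cfsg.Agent.S3348

open Subgroup CfsgLib.Tech CfsgLib.Rec3.P1

theorem aff {G : Type*} [Group G] [Finite G] {A : Subgroup G}
    (e : A ⧸ Cfsg.pCore 3 A ≃* GL (Fin 2) (ZMod 3))
    (h : IsMulCommutative (Cfsg.pCore 3 A) ∧ (∀ x ∈ Cfsg.pCore 3 A, x ^ 3 = 1) ∧
      Nat.card (Cfsg.pCore 3 A) = 9 ∧
      Subgroup.centralizer ((Cfsg.pCore 3 A : Subgroup A) : Set A) = Cfsg.pCore 3 A) :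
    Aff A ((Cfsg.pCore 3 A).map A.subtype) := by
  have e1 : ((Cfsg.pCore 3 A).map A.subtype).subgroupOf A = Cfsg.pCore 3 A :=
    comap_map_eq_self_of_injective A.subtype_injective _
  refine ⟨map_subtype_le _, (normal_subgroupOf_iff_le_normalizer (map_subtype_le _)).1
    (e1.symm ▸ inferInstance), ?_, ?_, (card_map_of_injective A.subtype_injective).trans h.2.2.1,
    fun g hg hc => ⟨⟨g, hg⟩, h.2.2.2.le fun x hx => Subtype.ext (hc x ⟨x, hx, rfl⟩).symm, rfl⟩, ?_⟩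
  · rintro _ ⟨x, hx, rfl⟩ _ ⟨y, hy, rfl⟩
    exact congrArg (fun p : Cfsg.pCore 3 A => ((p : A) : G)) (h.1.1.1 ⟨x, hx⟩ ⟨y, hy⟩)
  · rintro _ ⟨x, hx, rfl⟩
    exact congrArg Subtype.val (h.2.1 x hx)
  · rw [relIndex, e1, index, Nat.card_congr e.toEquiv, CfsgLib.Classical.gl2_card, ZMod.card]
    norm_num

/-- Let G be a finite group generated by isomorphic subgroups A and B such that C = A ∩ B contains a Sylow 3-subgroup of each of A and B and no non-trivial subgroup of C is normalized by both A and B. Suppose A/O₃(A) and B/O₃(B) are isomorphic to GL(2,3), that O₃(A) and O₃(B) are elementary abelian of order 9 and self-centralizing in A and B respectively (natural modules), and that for a Sylow 3-subgroup S of C the normalizer N_G(Z(S)) lies in A ∩ B. Then G is isomorphic to the Mathieu group M₁₂ or to PSL(3,3). -/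
theorem result {G : Type*} [Group G] [Finite G]
    (A B : Subgroup G) (eAB : Nonempty (A ≃* B)) (hgen : A ⊔ B = ⊤)
    (hSylA : ¬ 3 ∣ ((A ⊓ B).subgroupOf A).index) (hSylB : ¬ 3 ∣ ((A ⊓ B).subgroupOf B).index)
    (hcore : ∀ N : Subgroup G, N ≤ A ⊓ B → (∀ a ∈ A, N.map (MulAut.conj a).toMonoidHom = N) →
      (∀ b ∈ B, N.map (MulAut.conj b).toMonoidHom = N) → N = ⊥)
    (eA : A ⧸ Cfsg.pCore 3 A ≃* GL (Fin 2) (ZMod 3)) (eB : B ⧸ Cfsg.pCore 3 B ≃* GL (Fin 2) (ZMod 3))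
    (hOA : IsMulCommutative (Cfsg.pCore 3 A) ∧ (∀ x ∈ Cfsg.pCore 3 A, x ^ 3 = 1) ∧ Nat.card (Cfsg.pCore 3 A) = 9 ∧
      Subgroup.centralizer ((Cfsg.pCore 3 A : Subgroup A) : Set A) = Cfsg.pCore 3 A)
    (hOB : IsMulCommutative (Cfsg.pCore 3 B) ∧ (∀ x ∈ Cfsg.pCore 3 B, x ^ 3 = 1) ∧ Nat.card (Cfsg.pCore 3 B) = 9 ∧
      Subgroup.centralizer ((Cfsg.pCore 3 B : Subgroup B) : Set B) = Cfsg.pCore 3 B)
    (S : Sylow 3 ↥(A ⊓ B)) (Z : Subgroup G)
    (hZ : Z = ((S : Subgroup ↥(A ⊓ B)) ⊓ Subgroup.centralizer ((S : Subgroup ↥(A ⊓ B)) : Set ↥(A ⊓ B))).map (A ⊓ B).subtype)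
    (hNZ : Subgroup.normalizer (Z : Set G) ≤ A ⊓ B) :
    Cfsg.Spor.IsoM12 G ∨ Nonempty (G ≃* Matrix.ProjectiveSpecialLinearGroup (Fin 3) (ZMod 3)) := by
  have h := aff eA hOA
  have h' := aff eB hOB
  set V := (Cfsg.pCore 3 A).map A.subtype
  set U := (Cfsg.pCore 3 B).map B.subtype
  have hS := IsSylowIn.of_sylow_subgroup S
  have pV : IsPGroup 3 V := IsPGroup.of_card (n := 2) h.card
  have h1 := (hS.trans inf_le_left hSylA).le_of_le_normalizer pV h.le h.norm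
  have h2 := (hS.trans inf_le_right hSylB).le_of_le_normalizer (IsPGroup.of_card (n := 2) h'.card)
    h'.le h'.norm
  have h3 : Z ≤ V ⊓ U := by
    rw [hZ]
    rintro _ ⟨x, hx, rfl⟩
    have c : ∀ y ∈ (S : Subgroup ↥(A ⊓ B)).map (A ⊓ B).subtype, (x : G) * y = y * x := by
      rintro _ ⟨y, hy, rfl⟩
      exact congrArg Subtype.val (hx.2 y hy).symm
    exact ⟨h.cent _ x.2.1 fun y hy => c y (h1 hy), h'.cent _ x.2.2 fun y hy => c y (h2 hy)⟩
  have : Nontrivial V := Finite.one_lt_card_iff_nontrivial.1 (by rw [h.card]; norm_num)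
  have h4 : V ≠ ⊥ := (nontrivial_iff_ne_bot V).1 this
  have : Nontrivial (S : Subgroup ↥(A ⊓ B)) := (nontrivial_iff_ne_bot _).2 fun e =>
    h4 (by rwa [e, Subgroup.map_bot, le_bot_iff] at h1)
  obtain ⟨⟨⟨z, hz⟩, h5⟩, h6⟩ := @exists_ne _ S.isPGroup'.center_nontrivial 1
  have z1 : (z : G) ≠ 1 := fun e => h6 (Subtype.ext (Subtype.ext (Subtype.ext e)))
  have h7 : zpowers (z : G) ≤ Z := zpowers_le.2 (hZ ▸ ⟨z, ⟨hz, fun y hy =>
    congrArg Subtype.val (mem_center_iff.1 h5 ⟨y, hy⟩)⟩, rfl⟩)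
  have h8 : Nat.card ↥(V ⊓ U) ≤ Nat.card (zpowers (z : G)) := by
    rw [Nat.card_zpowers, orderOf_eq_prime (h.cube _ (h3 (h7 (mem_zpowers _))).1) z1]
    have h9 : Nat.card ↥(V ⊓ U) ∣ 3 ^ 2 := (card_dvd_of_le inf_le_left).trans h.card.dvd
    obtain ⟨i, hi, e⟩ := (Nat.dvd_prime_pow Nat.prime_three).1 h9
    have : i ≠ 2 := by
      rintro rfl
      have e1 := eq_of_le_of_card_ge (inf_le_left : V ⊓ U ≤ V) (by rw [e, h.card]; rfl)
      have e2 := eq_of_le_of_card_ge (inf_le_right : V ⊓ U ≤ U) (by rw [e, h'.card]; rfl)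
      exact h4 (hcore V (h1.trans hS.le) (fun a ha => mem_normalizer_iff_cj.1 (h.norm ha))
        fun b hb => mem_normalizer_iff_cj.1 ((e1.symm.trans e2) ▸ h'.norm hb))
    rw [e]
    interval_cases i <;> simp_all
  have h9 := eq_of_le_of_card_ge (h7.trans h3) h8
  exact core h h' ((h1.trans hS.le).trans inf_le_right) ((h2.trans hS.le).trans inf_le_left) h9.symm z1
    ((le_antisymm h7 (h3.trans h9.ge)).symm ▸ hNZ) hgen

end Cfsg.Agent.S3348
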