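import Mathlib
import Cfsg.Statements.S3372
import Cfsg.Agent.Lib.Rec3C.O8Loc
import Cfsg.Agent.Lib.Rec3C.Tt

set_option autoImplicit false
open Cfsg

namespace Cfsg.Agent.S3372

/-- A 3-local recognition of the extensions Ω⁺₈(2).3 and Ω⁺₈(2).Sym(3). Let G be a finite group, S a Sylow 3-subgroup, Z = Z(S), C = C_G(Z) and Q = O₃(C). Suppose Q is extraspecial of order 3^5 and exponent 3, C_G(Q) ≤ Q, some conjugate of Z other than Z lies in Q, and C/Q is isomorphic to SL(2,3) or to SL(2,3) × C₂. Let K be the preimage in C of the subgroup of C/Q generated by its elements of odd order, and suppose that some maximal chain of K-invariant subgroups from Z to Q (a K-chief chain of Q/Z) has exactly one factor on which K acts non-trivially. Then G has a normal subgroup N isomorphic to Ω⁺₈(2) with C_G(N) = 1 and |G : N| = 3 or 6. -/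
theorem result {G : Type*} [Group G] [Finite G]
    (S : Sylow 3 G) (Z : Subgroup G) (hZ : Z = (S : Subgroup G) ⊓ Subgroup.centralizer ((S : Subgroup G) : Set G))
    (C : Subgroup G) (hCZ : C = Subgroup.centralizer (Z : Set G))
    (Q : Subgroup G) (hQ : Q = (Cfsg.pCore 3 C).map C.subtype)
    (hQex : Cfsg.IsExtraspecial 3 Q) (hQcard : Nat.card Q = 3 ^ 5) (hQexp : ∀ a ∈ Q, a ^ 3 = 1)
    (hCQ : Subgroup.centralizer (Q : Set G) ≤ Q)
    (hZQ : ∃ x : G, Z.map (MulAut.conj x).toMonoidHom ≤ Q ∧ Z.map (MulAut.conj x).toMonoidHom ≠ Z)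
    (K : Subgroup G) (hK : K = ((Cfsg.pResidual 2 (C ⧸ Cfsg.pCore 3 C)).comap (QuotientGroup.mk' (Cfsg.pCore 3 C))).map C.subtype)
    (r : ℕ) (A : Fin (r + 1) → Subgroup G) (hA0 : A 0 = Z) (hAr : A (Fin.last r) = Q)
    (hmono : ∀ i : Fin r, A i.castSucc < A i.succ)
    (hinv : ∀ i : Fin (r + 1), ∀ k ∈ K, ∀ a ∈ A i, k * a * k⁻¹ ∈ A i)
    (hmax : ∀ i : Fin r, ∀ B : Subgroup G, A i.castSucc < B → B < A i.succ → ∃ k ∈ K, ∃ b ∈ B, k * b * k⁻¹ ∉ B)
    (e : Nonempty (C ⧸ Cfsg.pCore 3 C ≃* Matrix.SpecialLinearGroup (Fin 2) (ZMod 3)) ∨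
      Nonempty (C ⧸ Cfsg.pCore 3 C ≃* Matrix.SpecialLinearGroup (Fin 2) (ZMod 3) × Multiplicative (ZMod 2)))
    (hone : ∃! i : Fin r, (∃ k ∈ K, ∃ a ∈ A i.succ, k * a * k⁻¹ * a⁻¹ ∉ A i.castSucc)) :
    ∃ N : Subgroup G, N.Normal ∧ Nonempty (N ≃* Cfsg.Omega (ZMod 2) (Cfsg.quadFormPlus 4 (ZMod 2))) ∧
      Subgroup.centralizer (N : Set G) = ⊥ ∧ (N.index = 3 ∨ N.index = 6) := by
  open Subgroup CfsgLib CfsgLib.Tech CfsgLib.W2 CfsgLib.Rec3 CfsgLib.Rec3B CfsgLib.Rec3C CfsgLib.U43 in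
  obtain ⟨g, hg1, hg2⟩ := hZQ
  have hQC : Q ≤ C := hQ ▸ map_subtype_le _
  have ZQ : Z ≤ centralizer (Q : Set G) := fun y hy q hq => ((hCZ ▸ hQC hq : q ∈ centralizer (Z : Set G)) y hy).symm
  obtain ⟨z, hz, z1⟩ : ∃ z ∈ Z, z ≠ 1 := by
    by_contra! k
    rw [(eq_bot_iff_forall _).2 k] at hg2
    exact hg2 (map_bot _)
  have zQ := hCQ (ZQ hz)
  obtain ⟨f1, f2⟩ := es_facts hQex (z := ⟨z, zQ⟩) (mem_center_iff.2 fun y => Subtype.ext (ZQ hz y y.2))
    fun e => z1 (congrArg Subtype.val e)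
  have zp : ∀ {x : Q}, x ∈ zpowers (⟨z, zQ⟩ : Q) → (x : G) ∈ zpowers z := by
    rintro _ ⟨i, rfl⟩
    exact ⟨i, rfl⟩
  have cen : ∀ q ∈ Q, (∀ y ∈ Q, y * q = q * y) → q ∈ zpowers z := fun q hq k =>
    zp (f1 ⟨q, hq⟩ fun y => Subtype.ext (k y y.2))
  have eZ : Z = zpowers z := le_antisymm (fun y hy => cen y (hCQ (ZQ hy)) (ZQ hy)) (zpowers_le.2 hz)
  have eC : C = Cx z := by
    rw [hCZ, eZ]
    exact le_antisymm (centralizer_le (by simp)) fun c hc y hy => (Es.zc hy hc).symm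
  have nC : normalizer (zpowers z : Set G) ≤ normalizer (C : Set G) := fun c hc => by
    rw [mem_normalizer_iff_cj, hCZ, cj_centralizer, eZ, mem_normalizer_iff_cj.1 hc]
  have x : XQ z Q := ⟨⟨hQcard, zQ, z1, hQexp z zQ, eC ▸ hQC, cen, fun p hp q hq => zp (f2 ⟨p, hp⟩ ⟨q, hq⟩)⟩,
    hQexp, hCQ, hQ ▸ nC.trans (Core.normalizer_le_normalizer_map_pCore C)⟩
  clear hCZ nC
  subst eC
  obtain ⟨φ, hφ, hφ'⟩ : ∃ φ : Cx z ⧸ pCore 3 (Cx z) →* SL × Multiplicative (ZMod 2),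
      Function.Injective φ ∧ ∀ s, ∃ c, φ c = (s, 1) := by
    let ρ := (MulEquiv.ofBijective _ SL.rho_bijective).symm
    rcases e with ⟨⟨e⟩⟩ | ⟨⟨e⟩⟩
    · exact ⟨(MonoidHom.inl _ _).comp (e.trans ρ).toMonoidHom,
        fun a b k => (e.trans ρ).injective (congrArg Prod.fst k), fun s => ⟨(e.trans ρ).symm s, by simp⟩⟩
    · exact ⟨(e.trans (ρ.prodCongr (MulEquiv.refl _))).toMonoidHom, MulEquiv.injective _,
        fun s => MulEquiv.surjective _ _⟩
  have hk : ∀ c, φ.comp (QuotientGroup.mk' _) c = 1 ↔ (c : G) ∈ Q := fun c => hQ ▸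
    ((map_eq_one_iff _ hφ).trans (QuotientGroup.eq_one_iff c)).trans (mem_map_iff_mem (subtype_injective _)).symm
  have hs : ∀ s, ∃ c, φ.comp (QuotientGroup.mk' _) c = (s, 1) := fun s => by
    obtain ⟨c, k⟩ := hφ' s
    obtain ⟨c, rfl⟩ := QuotientGroup.mk'_surjective _ c
    exact ⟨c, k⟩
  obtain ⟨Γ, ι, h⟩ := x.exists_O8 (g := g) (hg1 ⟨z, hz, rfl⟩) (fun k => hg2 (by
    rw [eZ]
    exact eq_of_le_of_card_ge (cj_zpowers g z ▸ zpowers_le.2 k : cj g (zpowers z) ≤ zpowers z) (card_cj _ _).ge))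
    _ hk hs fun t ht hn => by
      obtain ⟨B, b1, b2, b3⟩ := not_neg x _ hk hs ht hn
      have mono := (Fin.strictMono_iff_lt_succ.2 hmono).monotone
      have o3 : ∀ s : SL, s ^ 3 = 1 → ∀ c, φ c = (s, 1) → c ∈ pResidual 2 (Cx z ⧸ pCore 3 (Cx z)) := fun s k c e =>
        subset_closure (Nat.Coprime.coprime_dvd_left (orderOf_dvd_of_pow_eq_one (n := 3) (hφ (by
          rw [map_pow, e, map_one, Prod.pow_mk, k, one_pow]; rfl))) (by norm_num))
      have tK : (t : G) ∈ K := by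
        obtain ⟨c, hc⟩ := hφ' (SL.o 8)
        obtain ⟨d, hd⟩ := hφ' (SL.o 2 * SL.o 8 * (SL.o 2)⁻¹)
        refine hK ▸ mem_map_of_mem _ (mem_comap.2 ?_)
        rw [show QuotientGroup.mk' _ t = (d * c⁻¹) ^ 2 from hφ (ht.trans (by
          rw [map_pow, map_mul, map_inv, hc, hd]; decide +kernel))]
        exact pow_mem (mul_mem (o3 _ (by decide +kernel) d hd) (inv_mem (o3 _ (by decide +kernel) c hc))) 2
      obtain ⟨i, -, hi⟩ := hone
      have all : ∀ j, j = i := fun j => hi j (by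
        obtain ⟨a, ha, ha'⟩ := SetLike.exists_of_lt (hmono j)
        have aQ : a ∈ Q := hAr ▸ mono (Fin.le_last _) ha
        have zA : zpowers z ≤ A j.castSucc := eZ ▸ hA0 ▸ mono (Fin.zero_le _)
        refine ⟨t, tK, a, ha, fun k => ha' ?_⟩
        have m := mul_mem (inv_mem k) (zA (x.ez.mem_neg.1 (hn.ge aQ)).2)
        convert mul_mem m m using 1
        calc a = a ^ 3 * a := by rw [hQexp a aQ, one_mul]
          _ = _ := by rw [pow_three]; group)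
      have i0 := congrArg Fin.val (all ⟨0, i.pos⟩)
      have i1 := congrArg Fin.val (all ⟨r - 1, Nat.sub_one_lt i.pos.ne'⟩)
      have := i.pos
      obtain ⟨k, hk', b, hb, hb'⟩ := hmax i B
        (by rwa [show i.castSucc = 0 from Fin.ext i0.symm, hA0, eZ])
        (by rwa [show i.succ = Fin.last r from Fin.ext (by simp at i1 ⊢; omega), hAr])
      obtain ⟨c, hc, rfl⟩ := hK ▸ hk'
      refine hb' (b3 c ?_ b hb)
      refine (closure_le ((MonoidHom.snd _ _).comp φ).ker).2 (fun y hy => ?_) (mem_comap.1 hc)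
      exact orderOf_eq_one_iff.1 (Nat.eq_one_of_dvd_coprimes hy (orderOf_map_dvd _ y)
        (orderOf_dvd_of_pow_eq_one ((by decide : ∀ b : Multiplicative (ZMod 2), b ^ 2 = 1) _)))
  exact h.main

end Cfsg.Agent.S3372
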