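import Cfsg.Statements.S3400
import Cfsg.Agent.S3262
import Cfsg.Agent.Lib.TPS.XMain
import Cfsg.Agent.Lib.TPS.YMain
-- import your own Cfsg.Agent.* helpers here

set_option autoImplicit false
open Cfsg

namespace Cfsg.Agent.S3400

open CfsgLib.Kim CfsgLib.Perm CfsgLib.TPS

/-- Let G be a finite doubly transitive permutation group in which the stabilizer of two points is a non-abelian simple group with abelian Sylow 2-subgroups. Then G is isomorphic to the alternating group of degree 7, or to the Mathieu group M₁₁, or G has a regular normal subgroup. -/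
theorem result {G : Type*} [Group G] [Finite G] {Ω : Type*} [Fintype Ω] [MulAction G Ω] [FaithfulSMul G Ω]
    (h2 : MulAction.IsMultiplyPretransitive G Ω 2) (a b : Ω) (hab : a ≠ b)
    (hs : IsSimpleGroup ↥(MulAction.stabilizer G a ⊓ MulAction.stabilizer G b))
    (hna : ¬ IsMulCommutative ↥(MulAction.stabilizer G a ⊓ MulAction.stabilizer G b))
    (hab2 : ∀ S : Sylow 2 ↥(MulAction.stabilizer G a ⊓ MulAction.stabilizer G b), IsMulCommutative ↥(S : Subgroup ↥(MulAction.stabilizer G a ⊓ MulAction.stabilizer G b))) :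
    Nonempty (G ≃* ↥(alternatingGroup (Fin 7))) ∨ Cfsg.Spor.IsoM11 G ∨
      (∃ N : Subgroup G, N.Normal ∧ MulAction.IsPretransitive ↥N Ω ∧ ∀ x : Ω, MulAction.stabilizer ↥N x = ⊥) := by
  classical
  by_contra hc
  rw [not_or, not_or] at hc
  obtain ⟨h7, h11, hr⟩ := hc
  have hnr : ∀ N : Subgroup G, N.Normal → MulAction.IsPretransitive ↥N Ω →
      (∀ x : Ω, MulAction.stabilizer ↥N x = ⊥) → False := fun N h1 h3 h4 => hr ⟨N, h1, h3, h4⟩
  have hn : NoReg G Ω := fun N hN => hnr N hN.normal ⟨fun x y => by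
    obtain ⟨n, h1, h3⟩ := hN.trans x y
    exact ⟨⟨n, h1⟩, h3⟩⟩ fun x => (Subgroup.eq_bot_iff_forall _).2 fun n h1 => Subtype.ext (hN.free x n n.2 h1)
  obtain ⟨P⟩ : Nonempty (Sylow 2 (stab2 G a b)) := inferInstance
  have hle : (P : Subgroup (stab2 G a b)).map (stab2 G a b).subtype ≤ stab2 G a b :=
    Subgroup.map_subtype_le _
  obtain ⟨hS, hT⟩ := ty_of (D := stab2 G a b) hs hna hle (P.isPGroup'.map _) (by
      rw [Subgroup.relIndex, ← Subgroup.comap_subtype,
        Subgroup.comap_map_eq_self_of_injective (stab2 G a b).subtype_injective]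
      exact Nat.not_even_iff_odd.1 fun e => P.not_dvd_index e.two_dvd) (by
      rintro _ ⟨x, hx, rfl⟩ _ ⟨y, hy, rfl⟩
      exact congrArg (fun z : (P : Subgroup (stab2 G a b)) => ((z : stab2 G a b) : G))
        ((hab2 P).is_comm.comm ⟨x, hx⟩ ⟨y, hy⟩))
  have key : Ty (stab2 G a b) ((P : Subgroup (stab2 G a b)).map (stab2 G a b).subtype) → False :=
    fun hT => by
      have h : Cx a b _ := ⟨h2, hn, hab, hS, hT⟩
      exact h.typeY h.typeX
  rcases hT with hT | ⟨r, q, h4, hO⟩ | hT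
  · exact key (Or.inl hT)
  · by_cases h3 : 3 ≤ r
    · exact key (Or.inr (Or.inl ⟨r, q, h3, h4, hO⟩))
    · obtain ⟨-, ⟨e⟩⟩ := hO.alt5 h3
      rcases Cfsg.Agent.S3262.result h2 a b hab hnr e with h | h
      exacts [h7 h.2, h11 h.2]
  · exact key (Or.inr (Or.inr hT))

end Cfsg.Agent.S3400
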