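import Cfsg.Statements.S3413
import Cfsg.Agent.Lib.MathRec.Nse
import Cfsg.Agent.Lib.MathRec.U11

set_option autoImplicit false
open Cfsg

namespace Cfsg.Agent.S3413

open CfsgLib.MathRec CfsgLib.Mathieu Subgroup
open scoped ComplexConjugate

section

attribute [local instance] Classical.propDecidable

theorem card_ne_one (G : Type*) [Group G] [Finite G] (p : G → Prop) (h : p 1) :
    Nat.card {g // p g} = Nat.card {g : {g : G // g ≠ 1} // p g} + 1 := by
  rw [← Finite.card_option]
  classical
  refine (Nat.card_eq_of_bijective (fun o => o.elim ⟨1, h⟩ fun g => ⟨g.1.1, g.2⟩) ⟨?_, fun ⟨g, hg⟩ => ?_⟩).symm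
  · rintro (_ | a) (_ | b) e
    · rfl
    · exact absurd (congrArg Subtype.val e).symm b.1.2
    · exact absurd (congrArg Subtype.val e) a.1.2
    · exact congrArg some (Subtype.ext (Subtype.ext (congrArg (fun z : {g // p g} => z.1) e)))
  · by_cases h1 : g = 1
    · exact ⟨none, Subtype.ext h1.symm⟩
    · exact ⟨some ⟨⟨g, h1⟩, hg⟩, rfl⟩

end

/-- Let H be a finite group whose commuting graph (vertices the non-identity elements, two joined when they commute) is isomorphic to that of the Mathieu group M_11: there is a bijection between the non-identity elements of H and of M_11 under which two elements commute exactly when their images do. Then H ≅ M_11. -/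
theorem result {H : Type*} [Group H] [Finite H]
    (f : {h : H // h ≠ 1} ≃ {g : ↥Cfsg.Spor.M11 // g ≠ 1})
    (hf : ∀ x y : {h : H // h ≠ 1}, (x : H) * y = y * x ↔ ((f x) : ↥Cfsg.Spor.M11) * (f y) = (f y) * (f x)) :
    Nonempty (H ≃* ↥Cfsg.Spor.M11) := by
  have h0 : ∀ (p : H → Prop) (q : Cfsg.Spor.M11 → Prop), p 1 → q 1 → (∀ x : {h : H // h ≠ 1}, p x ↔ q (f x)) →
      Nat.card {g // p g} = Nat.card {g // q g} := fun p q h1 h2 h3 => by
    rw [card_ne_one _ p h1, card_ne_one _ q h2, Nat.card_congr (f.subtypeEquiv (q := fun z => q z.1) h3)]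
  have hH : Nat.card H = 7920 := by
    have := h0 (fun _ => True) (fun _ => True) trivial trivial fun _ => Iff.rfl
    rwa [Nat.card_congr (Equiv.subtypeUnivEquiv fun _ => trivial),
      Nat.card_congr (Equiv.subtypeUnivEquiv fun _ => trivial), card_M11] at this
  obtain ⟨y, hy⟩ := exists_prime_orderOf_dvd_card' (G := Cfsg.Spor.M11) 11 (by rw [card_M11]; decide)
  have h1 := isoP11.card_centralizer (m := 720) card_M11 (by decide) hy
  obtain ⟨x, hx⟩ := f.surjective ⟨y, fun e => by simp [e] at hy⟩
  have h2 : Nat.card (centralizer ({x.1} : Set H)) = 11 := by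
    refine (h0 (· ∈ centralizer ({x.1} : Set H)) (· ∈ centralizer ({y} : Set _)) (one_mem _) (one_mem _)
      fun z => ?_).trans h1
    rw [mem_centralizer_singleton_iff, mem_centralizer_singleton_iff, hf, hx]
  have := simple_of_centralizer ar11.1 hH hH h2 fun _ => rfl
  exact uniq_M11 hH

end Cfsg.Agent.S3413
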