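import Cfsg.Statements.S3415
import Cfsg.Agent.Lib.FS.Final

set_option autoImplicit false
open Cfsg

namespace Cfsg.Agent.S3415

/-- Let G be a finite group with an irreducible (B,N)-pair of rank at least 2 such that B contains no non-trivial normal subgroup of G, and write H = B ∩ N. If U and U' are nilpotent normal subgroups of B with UH = B = U'H, then U = U': the splitting of a split (B,N)-pair is unique. -/
theorem result {G : Type*} [Group G] [Finite G]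
    (P : Cfsg.BNPair G) (h2 : 2 ≤ P.rank) (hirr : P.Irreducible) (hcore : P.B.normalCore = ⊥)
    (U U' : Subgroup G) (hU : U ≤ P.B) (hU' : U' ≤ P.B)
    (hUn : ∀ b ∈ P.B, ∀ u ∈ U, b * u * b⁻¹ ∈ U) (hU'n : ∀ b ∈ P.B, ∀ u ∈ U', b * u * b⁻¹ ∈ U')
    (hUnil : Group.IsNilpotent U) (hU'nil : Group.IsNilpotent U')
    (hUH : U ⊔ (P.B ⊓ P.N) = P.B) (hU'H : U' ⊔ (P.B ⊓ P.N) = P.B) : U = U' := by
  have hn : ∀ b ∈ P.B, ∀ u ∈ U ⊔ U', b * u * b⁻¹ ∈ U ⊔ U' := fun b hb u hu => by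
    have : (U ⊔ U').map (MulAut.conj b).toMonoidHom ≤ U ⊔ U' := by
      rw [Subgroup.map_sup]
      refine sup_le_sup ?_ ?_ <;> rintro _ ⟨x, hx, rfl⟩
      exacts [hUn b hb x hx, hU'n b hb x hx]
    exact this ⟨u, hu, rfl⟩
  have nm : ∀ {A : Subgroup G}, (∀ b ∈ P.B, ∀ u ∈ A, b * u * b⁻¹ ∈ A) → P.B ≤ Subgroup.normalizer (A : Set G) :=
    fun h b hb => Subgroup.mem_normalizer_fintype (h b hb)
  have hnil := CfsgLib.Core.isNilpotent_sup_of_le_normalizer (hU.trans (nm hU'n)) (hU'.trans (nm hUn))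
  have key : ∀ A : Subgroup G, A ≤ U ⊔ U' → (∀ b ∈ P.B, ∀ u ∈ A, b * u * b⁻¹ ∈ A) → A ⊔ (P.B ⊓ P.N) = P.B →
      U ⊔ U' ≤ A := fun A h1 h2' h3 f hf => by
    obtain ⟨u, hu, ht⟩ := CfsgLib.FS.exists_mul_of_sup h2' h3 (sup_le hU hU' hf)
    have := CfsgLib.FS.inf_eq_one h2 hirr hcore (sup_le hU hU') hn hnil
      (le_antisymm (sup_le (sup_le hU hU') inf_le_left) (hUH.ge.trans (sup_le_sup_right le_sup_left _)))
      (mul_mem (inv_mem (h1 hu)) hf) ht.2
    rwa [← inv_mul_eq_one.1 this]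
  exact le_antisymm (le_sup_left.trans (key U' le_sup_right hU'n hU'H)) (le_sup_right.trans (key U le_sup_left hUn hUH))

end Cfsg.Agent.S3415
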