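import Cfsg.Statements.S3427
import Mathlib
import Cfsg.Agent.Lib.SmallRec.Soc
import Cfsg.Agent.Lib.SmallRec.U33
import Cfsg.Agent.Lib.SmallSimple.Check
import Cfsg.Agent.Lib.SmallSimple.NC
import Cfsg.Agent.Lib.LieModel.G22.Der
import Cfsg.Agent.Lib.Comput.ConjEnum
import Cfsg.Agent.S0815

set_option autoImplicit false
open Cfsg

namespace Cfsg.Agent.S3427

open Subgroup CfsgLib CfsgLib.DefectOne CfsgLib.DefectOne.B43 CfsgLib.SmallRec CfsgLib.SmallSimple
  CfsgLib.Tuan CfsgLib.Comput CfsgLib.LieModel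

theorem struct {G : Type*} [Group G] [Finite G] (hG : Nat.card G = 12096)
    (h2 : ¬ ∃ g : G, orderOf g = 7 * 2) (h3 : ¬ ∃ g : G, orderOf g = 7 * 3) :
    Nonempty (G ≃* MulAut LieModel.U33.PG) := by
  have p7 : Nat.Prime 7 := by norm_num
  obtain ⟨x, hx⟩ := exists_syl (G := G) (p := 7) (by rw [hG]; norm_num) (by rw [hG]; norm_num)
  have hs := sc_of_no hx fun r hr h1 h4 => by
    obtain rfl | rfl : r = 2 ∨ r = 3 := by
      have := (Nat.mem_primeFactorsList (by norm_num)).2 ⟨hr, hG ▸ h1⟩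
      simp only [Nat.primeFactorsList_ofNat, List.mem_cons] at this
      tauto
    assumption'
  have hO : pPrimeCore 7 G = ⊥ := by
    set K := pPrimeCore 7 G
    have k0 : ¬ 7 ∣ Nat.card K := Core.not_dvd_card_pPrimeCore p7 G
    have k1 := K.index_mul_card
    have k2 : 7 ^ 1 ∣ K.index := (p7.dvd_mul.1 (by rw [k1, hG]; norm_num)).resolve_right k0
    have k3 := fun k => frat_mod K (k := k) Nat.prime_two p7 (by norm_num) h2 k2
    have k4 := fun k => frat_mod K (k := k) Nat.prime_three p7 (by norm_num) h3 k2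
    have k5 : ∀ d ∈ Nat.divisors 12096, ¬ 7 ∣ d → (∀ k < 7, 2 ^ k ∣ d → ¬ 2 ^ (k + 1) ∣ d → 2 ^ k ≡ 1 [MOD 7 ^ 1]) →
      (∀ k < 4, 3 ^ k ∣ d → ¬ 3 ^ (k + 1) ∣ d → 3 ^ k ≡ 1 [MOD 7 ^ 1]) → d = 1 ∨ d = 8 ∨ d = 64 := by
      decide +kernel
    rcases k5 _ (Nat.mem_divisors.2 ⟨hG ▸ card_subgroup_dvd_card K, by norm_num⟩) k0 (fun k _ => k3 k)
      fun k _ => k4 k with h | h | h
    · exact card_eq_one.1 h
    · have c1 := (index_dvd_aut K).trans (card_mulAut_dvd_factorial K)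
      have c2 := (centralizer (K : Set G)).index_mul_card
      have c3 : ¬ 7 ∣ Nat.card (centralizer (K : Set G)) := fun e => absurd (h ▸ card_eq_one.2
        (eq_bot_iff.2 fun y hy => hs.fpf k0 y hy (mem_of_normal hx _ e y hy).symm)) (by norm_num)
      have c4 := card_dvd_of_le (Core.le_pPrimeCore (p7.coprime_iff_not_dvd.2 c3).symm)
      exact absurd (c2 ▸ mul_dvd_mul c1 c4) (by rw [hG, h]; norm_num [Nat.factorial])
    · have c1 := (hs.quotient K k0).card_eq
      have c2 := Nat.le_of_dvd (by norm_num) (ee_dvd (hs.quotient K k0).syl)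
      have c3 : _ % 7 = 1 := card_sylow_modEq_one 7 (G ⧸ K)
      rw [← index_eq_card, show K.index = 189 by rw [h, hG] at k1; omega] at c1
      generalize ee (x : G ⧸ K) = e at *
      interval_cases e <;> omega
  obtain h | ⟨N, _, hN, _, n1, n2⟩ := soc hx hO
  · exact absurd (hG ▸ h) (by norm_num)
  have k0 : 7 ^ 1 ∣ Nat.card N := hx.ord.symm.dvd.trans (N.orderOf_dvd_natCard hN)
  have k1 : ¬ 7 ^ 2 ∣ Nat.card N := (hx.subgroup hN).nsq
  have k2 := N.index_mul_card
  have k3 := fun e => frat_mod N (j := 2) p7 Nat.prime_two (by norm_num) h2 e k0 k1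
  have k4 := fun e => frat_mod N (j := 2) p7 Nat.prime_three (by norm_num) h3 e k0 k1
  have k5 : ∀ d ∈ Nat.divisors 12096, 7 ^ 1 ∣ d → ¬ 2 ^ 2 ∣ 12096 / d → ¬ 3 ^ 2 ∣ 12096 / d →
    d = 6048 ∨ tst d 110 (7, 0) = true := by decide +kernel
  have k6 : N.index = 12096 / Nat.card N := Nat.eq_div_of_mul_eq_left Nat.card_pos.ne' (k2.trans hG)
  have k7 := (k5 _ (Nat.mem_divisors.2 ⟨hG ▸ card_subgroup_dvd_card N, by norm_num⟩) k0
    (fun e => absurd (k3 (k6 ▸ e)) (by decide)) fun e => absurd (k4 (k6 ▸ e)) (by decide)).resolve_right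
    (not_tst n1)
  obtain ⟨F, _, _, hF, ⟨e⟩⟩ := SmallRec.U33.uniq k7
  obtain ⟨f⟩ := LieModel.U33.iso hF
  obtain ⟨g⟩ := equiv_aut N n2 (by
    rw [Nat.card_congr (MulAut.congr e).toEquiv, S0815.result 3 1 le_rfl (q := 3) rfl hF 3 le_rfl (by decide),
      ← Nat.card_congr e.toEquiv, k7, hG]
    decide)
  exact ⟨g.trans (MulAut.congr (e.trans f))⟩

theorem exists_sc : ∃ x : G22.PG, SC 7 x := by
  have V := WM.perm (k := 6) G22.P.W_ok (n := 63) (by norm_num)
  have m := ev_mem_of_all (permG_mem (G22.P.inA_top G22.P.E) (by decide +kernel))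
  let x : G22.PG := ⟨_, m 0x307⟩
  let g : G22.PG := ⟨_, m 0x40306030705⟩
  have c := G22.card_PG
  have hx : Syl 7 x := ⟨by norm_num, (orderOf_mk _ _).trans
    (orderOf_of_ordOK G22.P.M V (pb := [(7, 0)]) (by decide +kernel)).2, by rw [c]; norm_num⟩
  have e : g * x = x * x * x * g := Subtype.ext (by
    simpa [Eqn.Holds, evL, mul_assoc] using
      V.holds (e := ([0x40306030705, 0x307], [0x307, 0x307, 0x307, 0x40306030705])) (by decide +kernel))
  obtain ⟨φ⟩ := G22.iso_QG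
  let ψ := φ.trans (subgroupOfEquivOfLe G22.QG_le).symm
  rw [← G22.commutator_PG] at ψ
  have := simple_of_equiv ψ.symm LieModel.U33.P.simple_perm
  have c1 := (Nat.card_congr ψ.symm.toEquiv).trans LieModel.U33.card_PG
  have c2 : (commutator G22.PG).index = 2 := Nat.eq_of_mul_eq_mul_right Nat.card_pos
    ((index_mul_card _).trans (by rw [c1, c]))
  have m1 := mem_of_normal hx (commutator _) (by rw [c1]; norm_num)
  have h1 := hx.subgroup m1
  obtain ⟨ζ, hζ, ⟨D⟩⟩ := exists_data h1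
  obtain ⟨h2, h3, -⟩ := SmallRec.U33.data c1 h1 hζ D
  refine ⟨x, sc_of_forall hx fun y c hy => ?_⟩
  by_cases m2 : y ∈ commutator G22.PG
  · exact eq_one_of_mem_zpowers hx (S := zpowers y) (by rwa [Nat.card_zpowers]) (by
      obtain ⟨i, hi⟩ := h2.cent.le (mem_CC.2 (Subtype.ext c.eq) : (⟨y, m2⟩ : commutator _) ∈ CC _)
      exact ⟨i, congrArg Subtype.val hi⟩) (mem_zpowers y)
  obtain ⟨h, m3, e⟩ : ∃ h ∈ commutator G22.PG, h * x = x * x * x * h := by
    by_cases m3 : g ∈ commutator G22.PG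
    · exact ⟨g, m3, e⟩
    · exact ⟨g * y, (mul_mem_iff_of_index_two c2).2 (iff_of_false m3 m2), by
        rw [mul_assoc, ← c.eq, ← mul_assoc, e, mul_assoc _ g]⟩
  have h4 := Subgroup.orderOf_dvd_natCard _ ((ChTab.isConj_pow_iff D h1 1 (ZMod.unitOfCoprime 3 (by decide))).1
    (isConj_iff.2 ⟨⟨h, m3⟩, Subtype.ext (by
      change h * x ^ 1 * h⁻¹ = x ^ 3
      rw [pow_one, e, pow_three', mul_inv_cancel_right])⟩))
  rw [card_U D h1, h3, orderOf_dvd_iff_pow_eq_one] at h4
  exact absurd h4 (by decide)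

/-- Let F be the field with 2 elements and let M be the Chevalley group of type G₂ over F (a non-simple group of order 12096 whose derived subgroup, of index 2, is isomorphic to PSU(3, 3)). A finite group G is isomorphic to M if and only if G has the same set of element orders and the same order as M. -/
theorem result {G : Type*} [Group G] [Finite G] {F : Type*} [Field F] [Fintype F] (hF : Fintype.card F = 2) :
    Nonempty (G ≃* ↥(Cfsg.Lie.chevG2.group F)) ↔
      (Set.range (orderOf : G → ℕ) = Set.range (orderOf : ↥(Cfsg.Lie.chevG2.group F) → ℕ) ∧ Nat.card G = Nat.card ↥(Cfsg.Lie.chevG2.group F)) := by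
  refine ⟨fun ⟨e⟩ => ⟨range_orderOf_congr e, Nat.card_congr e.toEquiv⟩, fun ⟨h1, h2⟩ => ?_⟩
  obtain ⟨e⟩ := G22.iso hF
  obtain ⟨x, hx⟩ := exists_sc
  have h3 : ∀ r, r ≠ 1 → ¬ ∃ g : G22.PG, orderOf g = 7 * r := fun r hr ⟨g, hg⟩ => by
    have := hx.orderOf_eq (Dvd.intro _ hg.symm)
    omega
  rw [range_orderOf_congr e] at h1
  obtain ⟨f⟩ := struct (h2.trans ((Nat.card_congr e.toEquiv).trans G22.card_PG))
    (fun h => h3 2 (by decide) (h1.le h)) fun h => h3 3 (by decide) (h1.le h)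
  obtain ⟨g⟩ := struct G22.card_PG (h3 2 (by decide)) (h3 3 (by decide))
  exact ⟨f.trans (g.symm.trans e.symm)⟩

end Cfsg.Agent.S3427
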