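import Cfsg.Statements.S3501
import Cfsg.Agent.Lib.DerCls.Base

set_option autoImplicit false
open Cfsg

namespace Cfsg.Agent.S3501

open CfsgLib.DerCls MulAction

/-- Let a finite group G act faithfully and primitively on a finite set Ω with at least two points, and suppose G is not almost simple (it has no non-abelian simple normal subgroup with trivial centralizer). Then the derangements of G form a single conjugacy class if and only if G is sharply 2-transitive (2-transitive, and no non-identity element fixes two points). -/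
theorem result {G : Type*} [Group G] [Finite G] {Ω : Type*} [Fintype Ω] [MulAction G Ω] [FaithfulSMul G Ω] (hΩ : 2 ≤ Fintype.card Ω) (hprim : MulAction.IsPreprimitive G Ω) (hnas : ¬ ∃ T : Subgroup G, T.Normal ∧ IsSimpleGroup T ∧ ¬ IsMulCommutative T ∧ Subgroup.centralizer (T : Set G) = ⊥) :
    Nat.card {c : ConjClasses G // ∃ g : G, ConjClasses.mk g = c ∧ ∀ ω : Ω, g • ω ≠ ω} = 1 ↔ (MulAction.IsMultiplyPretransitive G Ω 2 ∧ ∀ g : G, g ≠ 1 → ∀ a b : Ω, a ≠ b → g • a = a → g • b ≠ b) := by
  have : Nontrivial Ω := Fintype.one_lt_card_iff_nontrivial.1 hΩ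
  refine ⟨fun h => ?_, fun h => card_one_of_sharp h.1 h.2⟩
  rcases trichotomy (Ω := Ω) hnas with ⟨N, hN⟩ | ⟨T, hT, hTc, hT'⟩
  · refine ⟨hN.two_trans fun x hx y hy h1 h2 => conj_of_card_one h (hN.der hx h1) (hN.der hy h2),
      fun g hg a b hab ha hb => ?_⟩
    obtain ⟨d, hd, hd'⟩ := hN.exists_der hg hab ha hb
    obtain ⟨⟨n, hn⟩, hn1⟩ := (Subgroup.ne_bot_iff_exists_ne_one).1 hN.ne
    obtain ⟨c, rfl⟩ := isConj_iff.1 (conj_of_card_one h
      (hN.der hn fun e => hn1 (Subtype.ext e)) hd')
    exact hd (hN.normal.conj_mem n hn c)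
  · obtain ⟨a, b, c, ha, hb, -, hab, -⟩ := three_classes hTc hT'
    exact absurd (conj_of_card_one h ha hb) hab

end Cfsg.Agent.S3501
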