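import Cfsg.Statements.S3520
import Cfsg.Agent.Lib.DerCls.Base

set_option autoImplicit false
open Cfsg

namespace Cfsg.Agent.S3520

open CfsgLib.DerCls MulAction

theorem two_of {G : Type*} [Group G] {Ω : Type*} [Finite Ω] [MulAction G Ω] {g : G} :
    2 ≤ Nat.card (fixedBy Ω g) ↔ ∃ a b : Ω, a ≠ b ∧ g • a = a ∧ g • b = b := by
  rw [show (2 ≤ Nat.card (fixedBy Ω g)) ↔ 1 < Nat.card (fixedBy Ω g) from Iff.rfl,
    Finite.one_lt_card_iff_nontrivial]
  refine ⟨fun ⟨a, b, h⟩ => ⟨a, b, fun e => h (Subtype.ext e), a.2, b.2⟩, fun ⟨a, b, h, ha, hb⟩ =>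
    ⟨⟨a, ha⟩, ⟨b, hb⟩, fun e => h (congrArg Subtype.val e)⟩⟩


/-- Let a finite group G act faithfully and primitively on a finite set Ω with at least two points, suppose G is not almost simple (no non-abelian simple normal subgroup with trivial centralizer), and suppose the derangements of G form exactly two conjugacy classes. Then either Ω has 3 points and G has order 3; or G has a non-trivial abelian normal subgroup N acting regularly, every non-identity element of G fixes at most one point (so, when n > 3, G is a Frobenius group with kernel N), the number n of points is odd and a point stabilizer has order (n − 1)/2; or G is 2-transitive with a non-trivial abelian regular normal subgroup and some non-identity element fixes at least two points (a non-Frobenius 2-transitive affine group). -/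
theorem result {G : Type*} [Group G] [Finite G] {Ω : Type*} [Fintype Ω] [MulAction G Ω] [FaithfulSMul G Ω] (hΩ : 2 ≤ Fintype.card Ω) (hprim : MulAction.IsPreprimitive G Ω) (hnas : ¬ ∃ T : Subgroup G, T.Normal ∧ IsSimpleGroup T ∧ ¬ IsMulCommutative T ∧ Subgroup.centralizer (T : Set G) = ⊥)
    (hκ : Nat.card {c : ConjClasses G // ∃ g : G, ConjClasses.mk g = c ∧ ∀ ω : Ω, g • ω ≠ ω} = 2) (α : Ω) :
    (Fintype.card Ω = 3 ∧ Nat.card G = 3) ∨
    ((∃ N : Subgroup G, N.Normal ∧ N ≠ ⊥ ∧ IsMulCommutative N ∧ ∀ ω : Ω, MulAction.stabilizer N ω = ⊥) ∧ (∀ g : G, g ≠ 1 → Nat.card (MulAction.fixedBy Ω g) ≤ 1) ∧ ¬ 2 ∣ Fintype.card Ω ∧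
        2 * Nat.card (MulAction.stabilizer G α) = Fintype.card Ω - 1) ∨
    ((∃ N : Subgroup G, N.Normal ∧ N ≠ ⊥ ∧ IsMulCommutative N ∧ ∀ ω : Ω, MulAction.stabilizer N ω = ⊥) ∧ MulAction.IsMultiplyPretransitive G Ω 2 ∧ ∃ g : G, g ≠ 1 ∧ 2 ≤ Nat.card (MulAction.fixedBy Ω g)) := by
  classical
  have : Nontrivial Ω := Fintype.one_lt_card_iff_nontrivial.1 hΩ
  rcases trichotomy (Ω := Ω) hnas with ⟨N, hN⟩ | ⟨T, hT, hTc, hT'⟩
  swap
  · obtain ⟨a, b, c, ha, hb, hc, hab, hac, hbc⟩ := three_classes hTc hT'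
    exact ((conj_of_card_two hκ ha hb hc hab).elim hac hbc).elim
  have hex : ∃ N : Subgroup G, N.Normal ∧ N ≠ ⊥ ∧ IsMulCommutative N ∧
      ∀ ω : Ω, MulAction.stabilizer N ω = ⊥ := ⟨N, hN.normal, hN.ne, hN.comm, hN.stab⟩
  right
  by_cases hc : ∀ x ∈ N, ∀ y ∈ N, x ≠ 1 → y ≠ 1 → IsConj x y
  · refine Or.inr ⟨hex, hN.two_trans hc, ?_⟩
    by_contra hall
    have := card_one_of_sharp (hN.two_trans hc) fun g hg a b hab ha hb =>
      hall ⟨g, hg, two_of.2 ⟨a, b, hab, ha, hb⟩⟩
    exact absurd (this.symm.trans hκ) (by norm_num)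
  left
  push Not at hc
  obtain ⟨x, hx, y, hy, hx1, hy1, hxy⟩ := hc
  have hcl : ∀ d : G, Der Ω d → IsConj x d ∨ IsConj y d := fun d hd =>
    conj_of_card_two hκ (hN.der hx hx1) (hN.der hy hy1) hd hxy
  have hs : ∀ g : G, ∀ a b : Ω, a ≠ b → g • a = a → g • b = b → g = 1 := by
    intro g a b hab ha hb
    by_contra hg
    obtain ⟨d, hd, hd'⟩ := hN.exists_der hg hab ha hb
    rcases hcl d hd' with e | e <;> obtain ⟨c, rfl⟩ := isConj_iff.1 e
    exacts [hd (hN.normal.conj_mem x hx c), hd (hN.normal.conj_mem y hy c)]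
  have hne : ∀ (g : stabilizer G α) (z : G), z ∈ N → z ≠ 1 → (g : G) • z • α ≠ α := by
    intro g z hz hz1 e
    refine hN.der hz hz1 α (smul_left_cancel (g : G) ?_)
    rw [e]; exact g.2.symm
  let f : stabilizer G α ⊕ stabilizer G α → {ω : Ω // ω ≠ α} :=
    Sum.elim (fun g => ⟨_, hne g x hx hx1⟩) fun g => ⟨_, hne g y hy hy1⟩
  have k1 : ∀ (g g' : stabilizer G α) (z w : G), z ∈ N → w ∈ N → (g : G) • z • α = (g' : G) • w • α →
      IsConj z w := by
    intro g g' z w hz hw e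
    have h1 := hN.reg (w⁻¹ * (((g'⁻¹ * g : stabilizer G α) : G) * z * ((g'⁻¹ * g : stabilizer G α) : G)⁻¹))
      (N.mul_mem (N.inv_mem hw) (hN.normal.conj_mem z hz _)) α (by
        rw [mul_smul, mul_smul, mul_smul, inv_smul_eq_iff,
          show ((g'⁻¹ * g : stabilizer G α) : G)⁻¹ • α = α from (g'⁻¹ * g)⁻¹.2, Subgroup.coe_mul,
          mul_smul, e, Subgroup.coe_inv, inv_smul_smul])
    exact isConj_iff.2 ⟨_, (inv_mul_eq_one.1 h1).symm⟩
  have k2 : ∀ (g g' : stabilizer G α) (z : G), z ∈ N → z ≠ 1 → (g : G) • z • α = (g' : G) • z • α →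
      g = g' := by
    intro g g' z hz hz1 e
    have := hs ((g'⁻¹ * g : stabilizer G α) : G) α (z • α) (hN.der hz hz1 α).symm (g'⁻¹ * g).2 (by
      rw [Subgroup.coe_mul, mul_smul, e, Subgroup.coe_inv, inv_smul_smul])
    exact (inv_mul_eq_one.1 (Subtype.ext this)).symm
  have hf : Function.Bijective f := by
    constructor
    · rintro (g | g) (g' | g') e <;> have e' := congrArg Subtype.val e
      · rw [k2 g g' x hx hx1 e']
      · exact absurd (k1 g g' x y hx hy e') hxy
      · exact absurd (k1 g g' y x hy hx e').symm hxy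
      · rw [k2 g g' y hy hy1 e']
    · rintro ⟨ω, hω⟩
      obtain ⟨n, hn, rfl⟩ := hN.trans α ω
      have hn1 : n ≠ 1 := by rintro rfl; exact hω (one_smul _ _)
      rcases hcl n (hN.der hn hn1) with e | e
      · obtain ⟨g, hg, rfl⟩ := hN.conj_stab α hx e
        exact ⟨Sum.inl ⟨g, hg⟩, Subtype.ext (show g • x • α = (g * x * g⁻¹) • α by
          rw [mul_smul, mul_smul, inv_smul_eq_iff.2 hg.symm])⟩
      · obtain ⟨g, hg, rfl⟩ := hN.conj_stab α hy e
        exact ⟨Sum.inr ⟨g, hg⟩, Subtype.ext (show g • y • α = (g * y * g⁻¹) • α by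
          rw [mul_smul, mul_smul, inv_smul_eq_iff.2 hg.symm])⟩
  have hcard := Nat.card_eq_of_bijective f hf
  rw [Nat.card_sum, Nat.card_eq_fintype_card (α := {ω : Ω // ω ≠ α}), Fintype.card_subtype_compl,
    Fintype.card_subtype_eq] at hcard
  refine ⟨hex, fun g hg => ?_, by omega, by omega⟩
  by_contra h
  obtain ⟨a, b, hab, ha, hb⟩ := two_of.1 (not_le.1 h)
  exact hg (hs g a b hab ha hb)

end Cfsg.Agent.S3520
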