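import Cfsg.Statements.S3532
import Cfsg.Agent.S2475

set_option autoImplicit false
open Cfsg

namespace Cfsg.Agent.S3532

open Polynomial

theorem frob_ring {R : Type} [CommRing R] [Finite R] {a b : ℕ} [CharP R b] (u : Rˣ) (hu : orderOf u = a)
    (hi : ∀ g ∈ Subgroup.zpowers u, g ≠ 1 → IsUnit ((g : R) - 1)) :
    ∃ (H : Type) (_ : Group H) (_ : Finite H), Group.IsSolvable H ∧
      Set.range (orderOf : H → ℕ) = {n | n ∣ a ∨ n ∣ b} := by
  let φ : Subgroup.zpowers u →* MulAut (Multiplicative R) :=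
    { toFun := fun g => AddEquiv.toMultiplicative (DistribMulAction.toAddEquiv R (g : Rˣ))
      map_one' := by ext; simp
      map_mul' := fun g h => by ext; simp [mul_smul] }
  have hφ : ∀ (g : Subgroup.zpowers u) (r : Multiplicative R),
      φ g r = Multiplicative.ofAdd (((g : Rˣ) : R) * r.toAdd) := fun _ _ => rfl
  have hb : b ≠ 0 := CharP.char_ne_zero_of_finite R b
  refine ⟨Multiplicative R ⋊[φ] Subgroup.zpowers u, inferInstance,
    Finite.of_equiv _ SemidirectProduct.equivProd.symm,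
    Group.isSolvable_of_ker_le_range SemidirectProduct.inl SemidirectProduct.rightHom
      SemidirectProduct.range_inl_eq_ker_rightHom.ge, Set.ext fun n => ⟨?_, ?_⟩⟩
  · rintro ⟨x, rfl⟩
    by_cases h : x.right = 1
    · right
      rw [← SemidirectProduct.inl_left_mul_inr_right x, h, map_one, mul_one,
        orderOf_injective _ SemidirectProduct.inl_injective]
      refine orderOf_dvd_of_pow_eq_one (Multiplicative.toAdd.injective ?_)
      rw [toAdd_pow, nsmul_eq_mul, CharP.cast_eq_zero, zero_mul, toAdd_one]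
    · left
      obtain ⟨v, hv⟩ := hi _ x.right.2 fun e => h (Subtype.ext e)
      let y : Multiplicative R ⋊[φ] Subgroup.zpowers u :=
        SemidirectProduct.inl (Multiplicative.ofAdd ((v⁻¹ : Rˣ) * x.left.toAdd))
      have : y * x * y⁻¹ = SemidirectProduct.inr x.right := by
        rw [mul_inv_eq_iff_eq_mul]
        ext : 1
        · refine Multiplicative.toAdd.injective ?_
          simp only [y, SemidirectProduct.mul_left, SemidirectProduct.left_inl, SemidirectProduct.right_inl,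
            SemidirectProduct.left_inr, SemidirectProduct.right_inr, hφ, toAdd_mul, toAdd_ofAdd,
            OneMemClass.coe_one, Units.val_one, one_mul]
          rw [eq_add_of_sub_eq hv.symm, add_mul, ← mul_assoc, Units.mul_inv, one_mul, one_mul, add_comm]
        · simp [y]
      rw [← (show orderOf (y * x * y⁻¹) = orderOf x from (MulAut.conj y).orderOf_eq x), this,
        orderOf_injective _ SemidirectProduct.inr_injective, ← hu, ← Nat.card_zpowers u]
      exact orderOf_dvd_natCard _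
  · rintro (h | h)
    · have ha : a ≠ 0 := hu ▸ (orderOf_pos u).ne'
      refine ⟨SemidirectProduct.inr ⟨u ^ (a / n), pow_mem (Subgroup.mem_zpowers u) _⟩, ?_⟩
      rw [orderOf_injective _ SemidirectProduct.inr_injective, Subgroup.orderOf_mk, ← hu,
        orderOf_pow_orderOf_div (hu ▸ ha) (hu ▸ h)]
    · refine ⟨SemidirectProduct.inl (Multiplicative.ofAdd (1 : R) ^ (b / n)), ?_⟩
      have h1 : orderOf (Multiplicative.ofAdd (1 : R)) = b := by
        rw [orderOf_ofAdd_eq_addOrderOf, CharP.eq R (CharP.addOrderOf_one R) ‹_›]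
      rw [orderOf_injective _ SemidirectProduct.inl_injective, ← h1,
        orderOf_pow_orderOf_div (h1 ▸ hb) (h1 ▸ h)]

theorem frob {a b : ℕ} (ha : a ≠ 0) (hb : 1 < b) (hab : a.Coprime b) :
    ∃ (H : Type) (_ : Group H) (_ : Finite H), Group.IsSolvable H ∧
      Set.range (orderOf : H → ℕ) = {n | n ∣ a ∨ n ∣ b} := by
  have : Fact (1 < b) := ⟨hb⟩
  have hm := cyclotomic.monic a (ZMod b)
  let R := AdjoinRoot (cyclotomic a (ZMod b))
  have : Module.Finite (ZMod b) R := (AdjoinRoot.powerBasis' hm).finite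
  have : Finite R := Module.finite_of_finite (ZMod b)
  have : Module.Free (ZMod b) R := Module.Free.of_basis (AdjoinRoot.powerBasis' hm).basis
  have : Nontrivial R := Module.nontrivial_of_finrank_pos (R := ZMod b) (by
    rw [(AdjoinRoot.powerBasis' hm).finrank, AdjoinRoot.powerBasis'_dim, natDegree_cyclotomic]
    exact Nat.totient_pos.2 (Nat.pos_of_ne_zero ha))
  have : CharP R b := charP_of_injective_algebraMap (FaithfulSMul.algebraMap_injective (ZMod b) R) b
  let x : R := AdjoinRoot.root _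
  have h0 : (cyclotomic a R).IsRoot x := by
    rw [← map_cyclotomic a (algebraMap (ZMod b) R)]
    exact AdjoinRoot.isRoot_root _
  have h1 : x ^ a = 1 := by
    have := h0.dvd (cyclotomic.dvd_X_pow_sub_one a R)
    simpa [sub_eq_zero] using this
  have h2 : ∀ i, ¬ a ∣ i → IsUnit (x ^ i - 1) := fun i hi => by
    by_contra h
    obtain ⟨m, hm, h3⟩ := exists_max_ideal_of_mem_nonunits h
    let _ := Ideal.Quotient.field m
    have : NeZero (a : R ⧸ m) := ⟨fun e => by
      have e2 : (b : R ⧸ m) = 0 := by rw [← map_natCast (Ideal.Quotient.mk m), CharP.cast_eq_zero, map_zero]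
      obtain ⟨s, t, e3⟩ := Nat.isCoprime_iff_coprime.2 hab
      have := congrArg (Int.cast : ℤ → R ⧸ m) e3
      simp [e, e2] at this⟩
    have h4 : (cyclotomic a (R ⧸ m)).IsRoot (Ideal.Quotient.mk m x) := by
      rw [← map_cyclotomic a (Ideal.Quotient.mk m)]
      exact h0.map
    refine hi ((isRoot_cyclotomic_iff.1 h4).dvd_of_pow_eq_one i ?_)
    rw [← map_pow, ← map_one (Ideal.Quotient.mk m), Ideal.Quotient.eq]
    exact h3
  let u : Rˣ := Units.ofPowEqOne x a h1 ha
  have h3 : orderOf u = a := Nat.dvd_antisymm (orderOf_dvd_of_pow_eq_one (Units.pow_ofPowEqOne _ _)) (by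
    by_contra h
    have := h2 _ h
    rw [show x ^ orderOf u = 1 from congrArg Units.val (pow_orderOf_eq_one u), sub_self] at this
    exact not_isUnit_zero this)
  refine frob_ring u h3 fun g hg h => ?_
  obtain ⟨i, rfl⟩ := (mem_powers_iff_mem_zpowers.2 hg : g ∈ Submonoid.powers u)
  exact h2 i fun e => h (orderOf_dvd_iff_pow_eq_one.1 (h3.symm ▸ e))

theorem range_prod {A B : Type*} [Group A] [Group B] {S T : Set ℕ} (hA : Set.range (orderOf : A → ℕ) = S)
    (hB : Set.range (orderOf : B → ℕ) = T) : Set.range (orderOf : A × B → ℕ) = Set.image2 Nat.lcm S T := by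
  subst hA hB
  ext n
  exact ⟨fun ⟨x, h⟩ => ⟨_, ⟨x.1, rfl⟩, _, ⟨x.2, rfl⟩, h ▸ (Prod.orderOf x).symm⟩,
    fun ⟨_, ⟨x, rfl⟩, _, ⟨y, rfl⟩, h⟩ => ⟨(x, y), h ▸ Prod.orderOf (x, y)⟩⟩

theorem image_eq (p a b : ℕ) : Set.image2 Nat.lcm {n | n ∣ a ∨ n ∣ p} {n | n ∣ a ∨ n ∣ b} =
    Set.image2 Nat.lcm {n | n ∣ p ∨ n ∣ a ∨ n ∣ b} {n | n ∣ p ∨ n ∣ a ∨ n ∣ b} := by
  refine Set.Subset.antisymm (Set.image2_subset (fun n h => h.elim (Or.inr ∘ Or.inl) Or.inl) fun n h => Or.inr h) ?_
  rintro _ ⟨x, hx, y, hy, rfl⟩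
  rcases hx with hx | hx | hx <;> rcases hy with hy | hy | hy
  · exact ⟨_, Or.inr (Nat.lcm_dvd hx hy), 1, Or.inl (one_dvd _), Nat.lcm_one_right _⟩
  · exact ⟨x, Or.inr hx, y, Or.inl hy, rfl⟩
  · exact ⟨x, Or.inr hx, y, Or.inr hy, rfl⟩
  · exact ⟨y, Or.inr hy, x, Or.inl hx, Nat.lcm_comm _ _⟩
  · exact ⟨x, Or.inl hx, y, Or.inl hy, rfl⟩
  · exact ⟨x, Or.inl hx, y, Or.inr hy, rfl⟩
  · exact ⟨y, Or.inr hy, x, Or.inr hx, Nat.lcm_comm _ _⟩
  · exact ⟨y, Or.inl hy, x, Or.inr hx, Nat.lcm_comm _ _⟩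
  · exact ⟨1, Or.inl (one_dvd _), _, Or.inr (Nat.lcm_dvd hx hy), Nat.lcm_one_left _⟩


/-- Let q ≥ 4 be a prime power and L = PSL(2,q). There is a finite solvable group with the same set of element orders as L × L (so L × L is not determined by its spectrum). -/
theorem result {F : Type*} [Field F] [Fintype F] (hF : 4 ≤ Fintype.card F) :
    ∃ (H : Type) (_ : Group H) (_ : Finite H), Group.IsSolvable H ∧
      Set.range (orderOf : H → ℕ) = Set.range (orderOf : Matrix.ProjectiveSpecialLinearGroup (Fin 2) F × Matrix.ProjectiveSpecialLinearGroup (Fin 2) F → ℕ) := by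
  obtain ⟨p, hp⟩ := CharP.exists F
  have : Fact p.Prime := ⟨CharP.char_is_prime F p⟩
  have hL := S2475.result (F := F) p hF
  obtain ⟨k, -, hk⟩ := FiniteField.card F p
  set q := Fintype.card F
  have h1 : Nat.gcd 2 (q - 1) = 1 ∧ q % 2 = 0 ∨ Nat.gcd 2 (q - 1) = 2 ∧ q % 2 = 1 := by
    rw [Nat.gcd_rec]
    rcases Nat.mod_two_eq_zero_or_one q with h | h
    · rw [show (q - 1) % 2 = 1 by omega]; exact Or.inl ⟨rfl, h⟩
    · rw [show (q - 1) % 2 = 0 by omega]; exact Or.inr ⟨rfl, h⟩
  set a := (q - 1) / Nat.gcd 2 (q - 1) with ha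
  set b := (q + 1) / Nat.gcd 2 (q - 1) with hb
  have h2 : a ≠ 0 ∧ 1 < b ∧ a ∣ q - 1 ∧ a.Coprime b := by
    rcases h1 with ⟨h1, h2⟩ | ⟨h1, h2⟩ <;> rw [h1] at ha hb
    · refine ⟨by omega, by omega, ⟨1, by omega⟩, ?_⟩
      rw [show b = 2 + a by omega, Nat.coprime_add_self_right, Nat.coprime_two_right, Nat.odd_iff]
      omega
    · refine ⟨by omega, by omega, ⟨2, by omega⟩, ?_⟩
      rw [show b = 1 + a by omega, Nat.coprime_add_self_right]
      exact Nat.coprime_one_right _
  have h3 : a.Coprime p := by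
    refine Nat.Coprime.coprime_dvd_left h2.2.2.1 (Nat.Coprime.coprime_dvd_right (m := q) ?_ ?_)
    · exact hk ▸ dvd_pow_self p k.ne_zero
    · exact (Nat.coprime_self_sub_left (by omega)).2 (Nat.coprime_one_left _)
  obtain ⟨A, _, _, sA, hA⟩ := frob h2.1 this.out.one_lt h3
  obtain ⟨B, _, _, sB, hB⟩ := frob h2.1 h2.2.1 h2.2.2.2
  exact ⟨A × B, inferInstance, inferInstance, inferInstance, by
    rw [range_prod hA hB, range_prod hL hL, image_eq]⟩

end Cfsg.Agent.S3532
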