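import Cfsg.Statements.S3554
-- import your own Cfsg.Agent.* helpers here

set_option autoImplicit false
open Cfsg

namespace Cfsg.Agent.S3554

/-- Let G act faithfully and transitively on a finite set and suppose G has a non-trivial cyclic normal subgroup. Then some element of G of prime order fixes no point. -/
theorem result {G Ω : Type*} [Group G] [Finite G] [MulAction G Ω] [FaithfulSMul G Ω] [Finite Ω]
    (htrans : MulAction.IsPretransitive G Ω) (C : Subgroup G) (hC : C.Normal) (hC1 : C ≠ ⊥) (hcyc : IsCyclic ↥C) :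
    ∃ g : G, (orderOf g).Prime ∧ ∀ ω : Ω, g • ω ≠ ω := by
  classical
  haveI : Nontrivial C := (Subgroup.nontrivial_iff_ne_bot C).2 hC1
  have h1 : Nat.card C ≠ 1 := (Finite.one_lt_card (α := C)).ne'
  obtain ⟨p, hp, hpd⟩ := Nat.exists_prime_and_dvd h1
  haveI := Fact.mk hp
  obtain ⟨c, hc⟩ := exists_prime_orderOf_dvd_card' p hpd
  refine ⟨c, by rw [Subgroup.orderOf_coe, hc]; exact hp, ?_⟩
  intro ω hω
  have hc1 : (c : G) ≠ 1 := by
    intro h
    have : c = 1 := Subtype.ext h
    rw [this, orderOf_one] at hc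
    exact hp.one_lt.ne hc
  apply hc1
  apply FaithfulSMul.eq_of_smul_eq_smul (α := Ω)
  intro x
  obtain ⟨g, rfl⟩ := htrans.exists_smul_eq ω x
  have hmem : g⁻¹ * c * g ∈ C := by
    simpa using hC.conj_mem c c.2 g⁻¹
  let d : C := ⟨g⁻¹ * c * g, hmem⟩
  have hd : orderOf d = p := by
    rw [← hc, ← Subgroup.orderOf_coe, ← Subgroup.orderOf_coe]
    have : (d : G) = MulAut.conj g⁻¹ (c : G) := by simp [d]
    rw [this, MulEquiv.orderOf_eq]
  have hz : d ∈ Subgroup.zpowers c := by
    haveI := Fintype.ofFinite C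
    have hle := IsCyclic.card_pow_eq_one_le (α := C) hp.pos
    have hsub : (Finset.univ.filter fun x : C => x ∈ Subgroup.zpowers c) ⊆
        Finset.univ.filter fun x : C => x ^ p = 1 := by
      intro x hx
      simp only [Finset.mem_filter, Finset.mem_univ, true_and] at hx ⊢
      obtain ⟨k, rfl⟩ := Subgroup.mem_zpowers_iff.1 hx
      rw [← zpow_natCast, ← zpow_mul, mul_comm, zpow_mul, zpow_natCast, ← hc, pow_orderOf_eq_one,
        one_zpow]
    have hcard : (Finset.univ.filter fun x : C => x ∈ Subgroup.zpowers c).card = p := by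
      rw [← hc, ← Nat.card_zpowers, Nat.card_eq_fintype_card, Fintype.card_subtype]
    have heq := Finset.eq_of_subset_of_card_le hsub (by rw [hcard]; exact hle)
    have : d ∈ Finset.univ.filter fun x : C => x ^ p = 1 := by
      simp only [Finset.mem_filter, Finset.mem_univ, true_and]
      rw [← hd, pow_orderOf_eq_one]
    rw [← heq] at this
    simpa using this
  have hfix : (d : G) • ω = ω := by
    obtain ⟨k, hk⟩ := Subgroup.mem_zpowers_iff.1 hz
    rw [← hk, Subgroup.coe_zpow]
    exact (MulAction.stabilizer G ω).zpow_mem hω k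
  have : (c : G) • g • ω = g • ((g⁻¹ * c * g) • ω) := by
    simp [mul_smul]
  rw [this, one_smul]
  exact congrArg _ hfix

end Cfsg.Agent.S3554
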