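import Cfsg.Statements.S3555
import Cfsg.Agent.Lib.Recog.Derang

set_option autoImplicit false
open Cfsg

namespace Cfsg.Agent.S3555

open MulAction CfsgLib.Recog
open scoped Pointwise

/-- In the situation of the statement every non-identity element fixes at most one point. -/
theorem fix_le_one {G Ω : Type*} [Group G] [Finite G] [MulAction G Ω] [FaithfulSMul G Ω] [Finite Ω]
    [IsPretransitive G Ω] (hinv : ∀ g : G, (∀ ω : Ω, g • ω ≠ ω) → orderOf g = 2)
    (g : G) (a b : Ω) (hab : a ≠ b) (ha : g • a = a) (hb : g • b = b) : g = 1 := by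
  classical
  haveI := Fintype.ofFinite G
  haveI := Fintype.ofFinite Ω
  haveI : Nonempty Ω := ⟨a⟩
  let π : G → ℕ := fun x => (Finset.univ.filter fun ω : Ω => x • ω = ω).card
  have hπ : ∀ x, Nat.card (fixedBy Ω x) = π x := by
    intro x
    rw [Nat.card_eq_fintype_card]
    exact Fintype.card_subtype _
  let n := Fintype.card Ω
  let Δ := Finset.univ.filter fun x : G => ∀ ω : Ω, x • ω ≠ ω
  have h1 : ∑ x : G, π x = Fintype.card G := by
    have := burnside_nat G Ω
    rw [card_orbits_eq_one, one_mul, Nat.card_eq_fintype_card] at this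
    rw [← this]
    exact Finset.sum_congr rfl fun x _ => (hπ x).symm
  -- the number of derangements mapping `c` to `d` is at most the order of the two-point stabilizer
  have h2 : ∀ c d : Ω, c ≠ d → (Δ.filter fun x => x • c = d).card ≤
      (Finset.univ.filter fun x : G => x • c = c ∧ x • d = d).card := by
    intro c d hcd
    rcases (Δ.filter fun x => x • c = d).eq_empty_or_nonempty with h | ⟨y, hy⟩
    · rw [h]; simp
    have hsw : ∀ x ∈ Δ.filter fun x => x • c = d, x • c = d ∧ x • d = c := by
      intro x hx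
      simp only [Δ, Finset.mem_filter, Finset.mem_univ, true_and] at hx
      refine ⟨hx.2, ?_⟩
      rw [← hx.2, ← mul_smul, ← sq, ← hinv x hx.1, pow_orderOf_eq_one, one_smul]
    apply Finset.card_le_card_of_injOn (fun x => y * x)
    · intro x hx
      have e1 := hsw x hx
      have e2 := hsw y hy
      simp only [Finset.coe_filter, Finset.mem_univ, true_and, Set.mem_ofPred_eq, mul_smul]
      rw [e1.1, e1.2, e2.1, e2.2]
      exact ⟨rfl, rfl⟩
    · intro x _ x' _ h
      exact mul_left_cancel h
  -- sum over all ordered pairs of distinct points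
  have h3 : n * Δ.card ≤ ∑ x : G, π x * (π x - 1) := by
    have e1 : n * Δ.card = ∑ c : Ω, ∑ d ∈ Finset.univ.erase c,
        (Δ.filter fun x => x • c = d).card := by
      rw [show n * Δ.card = ∑ c : Ω, Δ.card by simp [n]]
      refine Finset.sum_congr rfl fun c _ => ?_
      apply Finset.card_eq_sum_card_fiberwise
      intro x hx
      simp only [Δ, Finset.coe_filter, Finset.mem_univ, true_and, Set.mem_ofPred_eq] at hx
      simpa using hx c
    have e2 : ∑ x : G, π x * (π x - 1) = ∑ c : Ω, ∑ d ∈ Finset.univ.erase c,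
        (Finset.univ.filter fun x : G => x • c = c ∧ x • d = d).card := by
      simp only [Finset.card_filter]
      rw [Finset.sum_congr rfl fun c _ => Finset.sum_comm, Finset.sum_comm]
      refine Finset.sum_congr rfl fun x _ => ?_
      rw [show π x * (π x - 1) = ∑ c ∈ Finset.univ.filter fun ω : Ω => x • ω = ω, (π x - 1) by
        simp [π], Finset.sum_filter]
      refine Finset.sum_congr rfl fun c _ => ?_
      split_ifs with hc
      · simp only [hc, true_and]
        rw [← Finset.card_filter, Finset.filter_erase, Finset.card_erase_of_mem (by simpa using hc)]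
      · simp [hc]
    rw [e1, e2]
    refine Finset.sum_le_sum fun c _ => Finset.sum_le_sum fun d hd => h2 c d ?_
    exact fun h => (Finset.mem_erase.1 hd).1 h.symm
  have hπn : ∀ x, π x ≤ n := fun x => Finset.card_le_univ _
  -- termwise comparison
  let F : G → ℤ := fun x => ((π x : ℤ) - 1) * (n - π x) + if x ∈ Δ then (n : ℤ) else 0
  have hF0 : ∀ x, 0 ≤ F x := by
    intro x
    by_cases hx : x ∈ Δ
    · have : π x = 0 := by
        simp only [π, Finset.card_eq_zero, Finset.filter_eq_empty_iff]
        simp only [Δ, Finset.mem_filter, Finset.mem_univ, true_and] at hx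
        exact fun ω _ => hx ω
      simp [F, hx, this]
    · have : 1 ≤ π x := by
        simp only [Δ, Finset.mem_filter, Finset.mem_univ, true_and, not_forall, not_not] at hx
        obtain ⟨ω, hω⟩ := hx
        exact Finset.card_pos.2 ⟨ω, by simpa using hω⟩
      have h' := hπn x
      simp only [F, hx, if_false, add_zero]
      apply mul_nonneg <;> omega
  have hFsum : ∑ x, F x ≤ 0 := by
    have e1 : ∑ x, F x = n * (∑ x, (π x : ℤ)) - n * Fintype.card G
        - ∑ x, (π x : ℤ) * (π x - 1) + n * Δ.card := by
      simp only [F]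
      rw [Finset.sum_add_distrib, ← Finset.sum_filter, Finset.filter_mem_eq_inter,
        Finset.univ_inter, Finset.sum_const, nsmul_eq_mul, mul_comm (Δ.card : ℤ)]
      congr 1
      rw [Finset.mul_sum, ← Finset.card_univ, Finset.card_eq_sum_ones, Nat.cast_sum,
        Finset.mul_sum, ← Finset.sum_sub_distrib, ← Finset.sum_sub_distrib]
      refine Finset.sum_congr rfl fun x _ => ?_
      push_cast
      ring
    have e2 : (∑ x, (π x : ℤ)) = Fintype.card G := by exact_mod_cast h1
    have e3 : ∑ x, (π x : ℤ) * (π x - 1) = ((∑ x : G, π x * (π x - 1) : ℕ) : ℤ) := by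
      rw [Nat.cast_sum]
      refine Finset.sum_congr rfl fun x _ => ?_
      rcases h : π x with _ | k
      · simp
      · simp
    have e4 : (n : ℤ) * Δ.card ≤ ((∑ x : G, π x * (π x - 1) : ℕ) : ℤ) := by exact_mod_cast h3
    rw [e1, e2, e3]
    linarith
  have hFz : F g = 0 :=
    (Finset.sum_eq_zero_iff_of_nonneg fun x _ => hF0 x).1
      (le_antisymm hFsum (Finset.sum_nonneg fun x _ => hF0 x)) g (Finset.mem_univ _)
  have hgΔ : g ∉ Δ := by
    simp only [Δ, Finset.mem_filter, Finset.mem_univ, true_and, not_forall, not_not]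
    exact ⟨a, ha⟩
  have h2g : 2 ≤ π g := by
    have : ({a, b} : Finset Ω) ⊆ Finset.univ.filter fun ω : Ω => g • ω = ω := by
      intro ω hω
      simp only [Finset.mem_insert, Finset.mem_singleton] at hω
      rcases hω with rfl | rfl <;> simpa
    have := Finset.card_le_card this
    rwa [Finset.card_pair hab] at this
  simp only [F, hgΔ, if_false, add_zero, mul_eq_zero] at hFz
  have hgn : π g = n := by omega
  have := Finset.eq_univ_of_card _ hgn
  apply FaithfulSMul.eq_of_smul_eq_smul (α := Ω)
  intro ω
  have hω : ω ∈ Finset.univ.filter fun ω : Ω => g • ω = ω := by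
    rw [this]; exact Finset.mem_univ ω
  rw [one_smul]
  simpa using hω

theorem comm_of_sq {G : Type*} [Group G] {x y : G} (hx : x ^ 2 = 1) (hy : y ^ 2 = 1)
    (hxy : (x * y) ^ 2 = 1) : x * y = y * x := by
  rw [sq] at hx hy hxy
  have h1 : x⁻¹ = x := inv_eq_of_mul_eq_one_right hx
  have h2 : y⁻¹ = y := inv_eq_of_mul_eq_one_right hy
  have h3 : (x * y)⁻¹ = x * y := inv_eq_of_mul_eq_one_right hxy
  rw [← h3, mul_inv_rev, h1, h2]


/-- Let G act faithfully and transitively on a finite set and suppose every element of G fixing no point is an involution. Then either G is an elementary abelian 2-group, or G is a Frobenius group whose Frobenius kernel is an elementary abelian 2-group: G has a Frobenius complement H, and the elements lying in no conjugate of H, together with the identity, pairwise commute and square to the identity. -/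
theorem result {G Ω : Type*} [Group G] [Finite G] [MulAction G Ω] [FaithfulSMul G Ω] [Finite Ω]
    (htrans : MulAction.IsPretransitive G Ω) (hinv : ∀ g : G, (∀ ω : Ω, g • ω ≠ ω) → orderOf g = 2) :
    (IsMulCommutative G ∧ ∀ g : G, g ^ 2 = 1) ∨
    (∃ H : Subgroup G, Cfsg.IsFrobeniusComplement H ∧
      (∀ x ∈ Cfsg.frobeniusKernel H, x ^ 2 = 1) ∧
      ∀ x ∈ Cfsg.frobeniusKernel H, ∀ y ∈ Cfsg.frobeniusKernel H, x * y = y * x) := by
  classical
  have hone : ∀ g : G, (∀ ω : Ω, g • ω = ω) → g = 1 := fun g hg =>
    FaithfulSMul.eq_of_smul_eq_smul (α := Ω) fun ω => by rw [hg, one_smul]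
  have hsq : ∀ g : G, (∀ ω : Ω, g • ω ≠ ω) → g ^ 2 = 1 := fun g hg => by
    rw [← hinv g hg, pow_orderOf_eq_one]
  by_cases hreg : ∀ (g : G) (ω : Ω), g • ω = ω → g = 1
  · left
    have h2 : ∀ g : G, g ^ 2 = 1 := by
      intro g
      by_cases hg : g = 1
      · simp [hg]
      · exact hsq g fun ω h => hg (hreg g ω h)
    exact ⟨⟨⟨fun x y => comm_of_sq (h2 x) (h2 y) (h2 _)⟩⟩, h2⟩
  right
  push Not at hreg
  obtain ⟨g₀, a, hg₀, hg₀1⟩ := hreg
  have hconj : ∀ g : G, MulAut.conj g • stabilizer G a = stabilizer G (g • a) := by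
    intro g
    rw [stabilizer_smul_eq_stabilizer_map_conj]
    rfl
  have hker : ∀ x ∈ Cfsg.frobeniusKernel (stabilizer G a), x = 1 ∨ ∀ ω : Ω, x • ω ≠ ω := by
    intro x hx
    rcases hx with hx | hx
    · exact Or.inl hx
    · right
      intro ω hω
      obtain ⟨g, rfl⟩ := exists_smul_eq G a ω
      exact hx g (by rw [hconj]; exact hω)
  have hker2 : ∀ x ∈ Cfsg.frobeniusKernel (stabilizer G a), x ^ 2 = 1 := by
    intro x hx
    rcases hker x hx with rfl | h
    · simp
    · exact hsq x h
  refine ⟨stabilizer G a, ⟨?_, ?_, ?_⟩, hker2, ?_⟩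
  · intro h
    have : g₀ ∈ stabilizer G a := hg₀
    rw [h] at this
    exact hg₀1 this
  · intro h
    apply hg₀1
    apply hone
    intro ω
    obtain ⟨g, rfl⟩ := exists_smul_eq G a ω
    have h1 : ∀ x : G, x • a = a := fun x => (h ▸ Subgroup.mem_top x : x ∈ stabilizer G a)
    rw [← mul_smul, h1, h1]
  · intro g hg
    rw [hconj, eq_bot_iff]
    rintro x ⟨hx1, hx2⟩
    exact fix_le_one hinv x a (g • a) (fun h => hg h.symm) hx1 hx2
  · intro x hx y hy
    apply comm_of_sq (hker2 x hx) (hker2 y hy)
    rcases hker x hx with rfl | hx'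
    · simpa using hker2 y hy
    rcases hker y hy with rfl | hy'
    · simpa using hker2 x hx
    by_cases hxy : ∀ ω : Ω, (x * y) • ω ≠ ω
    · exact hsq _ hxy
    push Not at hxy
    obtain ⟨c, hc⟩ := hxy
    have hx2 : x * x = 1 := by rw [← sq]; exact hsq x hx'
    have hy2 : y * y = 1 := by rw [← sq]; exact hsq y hy'
    have h1 : x • c = y • c := by
      conv_lhs => rw [← hc, ← mul_smul, ← mul_assoc, hx2, one_mul]
    have : x * y = 1 := by
      apply fix_le_one hinv (x * y) c (y • c) (hy' c).symm hc
      rw [mul_smul, ← mul_smul y, hy2, one_smul, h1]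
    rw [this, one_pow]

end Cfsg.Agent.S3555
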