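import Cfsg.Statements.S3556
import Cfsg.Agent.Lib.DerCls.Base

set_option autoImplicit false
open Cfsg

namespace Cfsg.Agent.S3556

open CfsgLib.DerCls MulAction

theorem aux {p q k : ℕ} (hp : p.Prime) (hq : q.Prime) (h : q ∣ p ^ k) : q = p :=
  (Nat.prime_dvd_prime_iff_eq hq hp).1 (hq.dvd_of_dvd_pow h)


/-- Let G act faithfully and primitively on a finite set with at least two points, and suppose that for some fixed prime p every element of G fixing no point has order a power of p. Then G is of affine type (it has a regular normal subgroup that is an elementary abelian r-group for some prime r) or almost simple (it has a non-abelian simple normal subgroup with trivial centralizer). -/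
theorem result {G Ω : Type*} [Group G] [Finite G] [MulAction G Ω] [FaithfulSMul G Ω] [Finite Ω]
    (hprim : MulAction.IsPreprimitive G Ω) (hΩ : 2 ≤ Nat.card Ω) (p : ℕ) (hp : p.Prime)
    (hder : ∀ g : G, (∀ ω : Ω, g • ω ≠ ω) → ∃ k : ℕ, orderOf g = p ^ k) :
    (∃ (N : Subgroup G) (r : ℕ), r.Prime ∧ N.Normal ∧ Cfsg.IsElementaryAbelian r N ∧
      MulAction.IsPretransitive N Ω ∧ ∀ a : Ω, MulAction.stabilizer N a = ⊥) ∨
    (∃ T : Subgroup G, T.Normal ∧ IsSimpleGroup ↥T ∧ ¬ IsMulCommutative ↥T ∧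
      Subgroup.centralizer (T : Set G) = ⊥) := by
  have : Nontrivial Ω := Finite.one_lt_card_iff_nontrivial.1 hΩ
  by_contra hall
  rw [not_or] at hall
  rcases trichotomy (Ω := Ω) hall.2 with ⟨N, hN⟩ | ⟨T, hT, hTc, hT'⟩
  · obtain ⟨r, hr, he⟩ := hN.elem
    refine hall.1 ⟨N, r, hr, hN.normal, he, ⟨fun x y => ?_⟩, hN.stab⟩
    obtain ⟨n, hn, e⟩ := hN.trans x y
    exact ⟨⟨n, hn⟩, e⟩
  obtain ⟨q, y, hq, hqp, hy, hyq⟩ : ∃ (q : ℕ) (y : G), q.Prime ∧ q ≠ p ∧ y ∈ T ∧ orderOf y = q := by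
    obtain ⟨q, r, -, hq, hr, -, hqr, -, -, ⟨y, hy, hyq⟩, ⟨z, hz, hzr⟩, -⟩ := exists_three hTc
    by_cases h : q = p
    · exact ⟨r, z, hr, fun e => hqr (h.trans e.symm), hz, hzr⟩
    · exact ⟨q, y, hq, h, hy, hyq⟩
  rcases hT' with h | ⟨x, g₀, h⟩
  · obtain ⟨k, hk⟩ := hder y (h y hy (ne_one_of_orderOf hq hyq))
    exact hqp (aux hp hq (by rw [← hk, hyq]))
  · obtain ⟨k, hk⟩ := hder _ (h.der _ (h.cent y hy))
    have h1 := pow_orderOf_eq_one (x * (g₀ * y * g₀⁻¹))
    rw [hk, Commute.mul_pow (Subgroup.mem_centralizer_iff.1 (h.cent y hy) x h.mem), conj_pow] at h1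
    have h2 : g₀ * y ^ p ^ k * g₀⁻¹ ∈ T := by
      rw [eq_inv_of_mul_eq_one_right h1]
      exact T.inv_mem (T.pow_mem h.mem _)
    have h3 := eq_one_of_mem_centralizer hTc h2 (h.cent _ (T.pow_mem hy _))
    exact hqp (aux hp hq (hyq ▸ orderOf_dvd_of_pow_eq_one (conj_eq_one_iff.1 h3)))

end Cfsg.Agent.S3556
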