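import Cfsg.Statements.S3557


set_option autoImplicit false
open Cfsg

namespace Cfsg.Agent.S3557

theorem cent_elt {H : Type*} [Group H] [Finite H] {p : ℕ} [hp : Fact p.Prime] (hH : IsPGroup p H)
    (N : Subgroup H) [hN : N.Normal] (hne : N ≠ ⊥) :
    ∃ x ∈ N, x ≠ 1 ∧ x ^ p = 1 ∧ ∀ g : H, g * x = x * g := by
  have hC : IsPGroup p (ConjAct H) := hH.of_equiv ConjAct.toConjAct
  have hd : p ∣ Nat.card N := by
    rcases (hH.to_subgroup N).card_eq_or_dvd with h | h
    · exact absurd (Subgroup.eq_bot_of_card_eq N h) hne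
    · exact h
  obtain ⟨y, hy, hy1⟩ := hC.exists_fixed_point_of_prime_dvd_card_of_fixed_point N hd
    (a := (1 : N)) (fun g => smul_one g)
  have hyc : ∀ g : H, g * y = y * g := by
    intro g
    have h1 := congrArg Subtype.val (hy (ConjAct.toConjAct g))
    have h2 : g * y * g⁻¹ = y := h1
    rw [mul_inv_eq_iff_eq_mul] at h2
    exact h2
  have hy0 : (y : H) ≠ 1 := fun h => hy1 (Subtype.ext h).symm
  have hdv := hH.dvd_orderOf hy0
  have ho : orderOf ((y : H) ^ (orderOf (y : H) / p)) = p :=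
    orderOf_pow_orderOf_div (orderOf_pos _).ne' hdv
  refine ⟨(y : H) ^ (orderOf (y : H) / p), N.pow_mem y.2 _, ?_, ?_, ?_⟩
  · intro h
    rw [h, orderOf_one] at ho
    exact hp.out.one_lt.ne ho
  · have := pow_orderOf_eq_one ((y : H) ^ (orderOf (y : H) / p))
    rwa [ho] at this
  · intro g
    exact Commute.pow_right (hyc g) _

theorem orb_dvd {G Ω : Type*} [Group G] [Finite G] [MulAction G Ω]
    (htrans : MulAction.IsPretransitive G Ω) {p : ℕ} [hp : Fact p.Prime] (P : Sylow p G)
    (hd : p ^ 2 ∣ Nat.card Ω) (w : Ω) :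
    p ^ 2 ∣ (MulAction.stabilizer (P : Subgroup G) w).index := by
  have h1 : (MulAction.stabilizer G w).index = Nat.card Ω := MulAction.index_stabilizer_of_transitive G w
  have h2 : MulAction.stabilizer (P : Subgroup G) w =
      (MulAction.stabilizer G w).subgroupOf (P : Subgroup G) := by
    ext g; rfl
  have h3 : (MulAction.stabilizer G w).index ∣
      (MulAction.stabilizer G w ⊓ (P : Subgroup G)).index := Subgroup.index_dvd_of_le inf_le_left
  have h4 := Subgroup.relIndex_mul_index (inf_le_right : MulAction.stabilizer G w ⊓ (P : Subgroup G) ≤ P)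
  rw [Subgroup.inf_relIndex_right] at h4
  rw [h2]
  have h5 : p ^ 2 ∣ (MulAction.stabilizer G w).relIndex (P : Subgroup G) * (P : Subgroup G).index := by
    rw [h4]; exact (h1 ▸ hd).trans h3
  exact Nat.Coprime.dvd_of_dvd_mul_right
    (Nat.Coprime.pow_left 2 ((Nat.Prime.coprime_iff_not_dvd hp.out).mpr P.not_dvd_index)) h5

/-- Let G act faithfully and transitively on a finite set with 2p² points, p a prime, and suppose G is 2-closed: every permutation of the set which, on each ordered pair of points, agrees with some element of G, is itself induced by an element of G. Then some element of G of prime order fixes no point. -/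
theorem result {G Ω : Type*} [Group G] [Finite G] [MulAction G Ω] [FaithfulSMul G Ω] [Finite Ω]
    (htrans : MulAction.IsPretransitive G Ω) (p : ℕ) (hp : p.Prime) (hcard : Nat.card Ω = 2 * p ^ 2)
    (hcl : ∀ σ : Equiv.Perm Ω, (∀ a b : Ω, ∃ g : G, σ a = g • a ∧ σ b = g • b) → ∃ g : G, ∀ a : Ω, σ a = g • a) :
    ∃ g : G, (orderOf g).Prime ∧ ∀ ω : Ω, g • ω ≠ ω := by
  classical
  have : Fact p.Prime := ⟨hp⟩
  by_contra hno
  push Not at hno
  obtain ⟨P⟩ : Nonempty (Sylow p G) := inferInstance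
  have hpos : 0 < Nat.card Ω := by rw [hcard]; have := hp.pos; positivity
  obtain ⟨w0⟩ : Nonempty Ω := (Nat.card_pos_iff.mp hpos).1
  have hdv : ∀ w : Ω, p ^ 2 ∣ (MulAction.stabilizer (P : Subgroup G) w).index :=
    fun w => orb_dvd htrans P (by rw [hcard]; exact Dvd.intro_left 2 rfl) w
  have hP : IsPGroup p (P : Subgroup G) := P.isPGroup'
  have hp2 : ¬ p ^ 2 ∣ p := by
    intro h
    have h1 := Nat.le_of_dvd hp.pos h
    have h2 := hp.one_lt
    nlinarith
  have hnt : (⊤ : Subgroup (P : Subgroup G)) ≠ ⊥ := by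
    intro h
    have h1 : MulAction.stabilizer (P : Subgroup G) w0 = ⊤ := by
      rw [eq_top_iff, h]; exact bot_le
    have h2 := hdv w0
    rw [h1, Subgroup.index_top] at h2
    exact hp2 (h2.trans (one_dvd p))
  obtain ⟨z, -, hz1, hzp, hzc⟩ := cent_elt hP ⊤ hnt
  have hzo : orderOf (z : G) = p := by
    rw [Subgroup.orderOf_coe]; exact orderOf_eq_prime hzp hz1
  obtain ⟨b0, hb0⟩ := hno z (by rw [hzo]; exact hp)
  have hfix : ∀ (w : Ω) (g : (P : Subgroup G)), z • w = w → z • (g • w) = g • w := by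
    intro w g h
    rw [← mul_smul, ← hzc g, mul_smul, h]
  obtain ⟨a0, ha0⟩ : ∃ a : Ω, z • a ≠ a := by
    by_contra h
    push Not at h
    apply hz1
    apply Subtype.ext
    exact FaithfulSMul.eq_of_smul_eq_smul (α := Ω) (fun a => by
      rw [OneMemClass.coe_one, one_smul]; exact h a)
  have hb0' : z • b0 = b0 := hb0
  -- the two orbits
  have hdis : Disjoint (MulAction.orbit (P : Subgroup G) a0) (MulAction.orbit (P : Subgroup G) b0) := by
    rw [Set.disjoint_left]
    rintro x ⟨g, rfl⟩ ⟨h, hh⟩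
    apply ha0
    have h1 : a0 = (g⁻¹ * h) • b0 := by
      rw [mul_smul]; simp only at hh; rw [hh, inv_smul_smul]
    rw [h1]; exact hfix _ _ hb0'
  have hc : ∀ w : Ω, (MulAction.orbit (P : Subgroup G) w).ncard =
      (MulAction.stabilizer (P : Subgroup G) w).index := fun w =>
    (MulAction.index_stabilizer _ _).symm
  have hge : ∀ w : Ω, p ^ 2 ≤ (MulAction.stabilizer (P : Subgroup G) w).index := fun w =>
    Nat.le_of_dvd (Nat.pos_of_ne_zero Subgroup.index_ne_zero_of_finite) (hdv w)
  have hun := Set.ncard_union_eq hdis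
  have hle := Set.ncard_le_card
    (MulAction.orbit (P : Subgroup G) a0 ∪ MulAction.orbit (P : Subgroup G) b0)
  rw [hc, hc] at hun
  have ha2 : (MulAction.stabilizer (P : Subgroup G) a0).index = p ^ 2 := by
    have := hge a0; have := hge b0; omega
  have hall : MulAction.orbit (P : Subgroup G) a0 ∪ MulAction.orbit (P : Subgroup G) b0 = Set.univ := by
    apply (Set.eq_univ_iff_ncard _).mpr
    have := hge a0; have := hge b0; omega
  have hB : ∀ x : Ω, x ∉ MulAction.orbit (P : Subgroup G) a0 →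
      x ∈ MulAction.orbit (P : Subgroup G) b0 := by
    intro x hx
    have : x ∈ MulAction.orbit (P : Subgroup G) a0 ∪ MulAction.orbit (P : Subgroup G) b0 := by
      rw [hall]; trivial
    exact this.resolve_left hx
  -- the subgroup M
  let M : Subgroup (P : Subgroup G) :=
    { carrier := {g | ∃ i : ℤ, g • a0 = z ^ i • a0}
      one_mem' := ⟨0, by simp⟩
      mul_mem' := by
        rintro g h ⟨i, hi⟩ ⟨j, hj⟩
        refine ⟨j + i, ?_⟩
        have hc : g * z ^ j = z ^ j * g := ((Commute.zpow_right (hzc g) j))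
        rw [mul_smul, hj, ← mul_smul, hc, mul_smul, hi, ← mul_smul, ← zpow_add]
      inv_mem' := by
        rintro g ⟨i, hi⟩
        refine ⟨-i, ?_⟩
        have hc : g⁻¹ * z ^ i = z ^ i * g⁻¹ := ((Commute.zpow_right (hzc g⁻¹) i))
        have h1 : a0 = z ^ i • (g⁻¹ • a0) := by
          rw [← mul_smul, ← hc, mul_smul, ← hi, inv_smul_smul]
        rw [zpow_neg, eq_inv_smul_iff]; exact h1.symm }
  have hSM : MulAction.stabilizer (P : Subgroup G) a0 ≤ M := fun g hg => ⟨0, by simpa using hg⟩
  have hzM : z ∈ M := ⟨1, by simp⟩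
  have hMi : M.index ∣ p := by
    have h1 : M.index ∣ p ^ 2 := ha2 ▸ Subgroup.index_dvd_of_le hSM
    obtain ⟨i, hi, h2⟩ := (Nat.dvd_prime_pow hp).mp h1
    have h3 : i ≠ 2 := by
      rintro rfl
      have h4 := Subgroup.relIndex_mul_index hSM
      rw [ha2, h2] at h4
      have h5 : (MulAction.stabilizer (P : Subgroup G) a0).relIndex M = 1 :=
        Nat.eq_of_mul_eq_mul_right (pow_pos hp.pos 2) (by rw [h4, one_mul])
      exact ha0 (Subgroup.relIndex_eq_one.mp h5 hzM)
    rw [h2]
    have : i = 0 ∨ i = 1 := by omega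
    rcases this with rfl | rfl <;> simp
  have hMn : M.Normal := by
    rcases (Nat.dvd_prime hp).mp hMi with h | h
    · exact Subgroup.normal_of_index_eq_one h
    · apply Subgroup.normal_of_index_eq_minFac_card
      obtain ⟨n, hn⟩ := hP.exists_card_eq
      have hn0 : n ≠ 0 := by
        rintro rfl
        have := Subgroup.index_dvd_card M
        rw [h, hn, pow_zero] at this
        exact hp.one_lt.ne' (Nat.dvd_one.mp this)
      rw [h, hn, Nat.pow_minFac hn0, hp.minFac_eq]
  have hMa : ∀ m ∈ M, ∀ a ∈ MulAction.orbit (P : Subgroup G) a0, ∃ i : ℤ, m • a = z ^ i • a := by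
    rintro m hm a ⟨g, rfl⟩
    obtain ⟨i, hi⟩ := hMn.conj_mem' m hm g
    refine ⟨i, ?_⟩
    have hc : g * z ^ i = z ^ i * g := ((Commute.zpow_right (hzc g) i))
    simp only
    rw [← mul_smul, ← mul_smul, ← hc, mul_smul g (z ^ i), ← hi, ← mul_smul]
    congr 1; group
  -- the kernel on the second orbit
  let K : Subgroup (P : Subgroup G) := (MulAction.stabilizer (P : Subgroup G) b0).normalCore
  have hK : ∀ g : (P : Subgroup G), g ∈ K ↔ ∀ b ∈ MulAction.orbit (P : Subgroup G) b0, g • b = b := by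
    intro g
    constructor
    · rintro hg b ⟨h, rfl⟩
      have h1 : (h⁻¹ * g * h⁻¹⁻¹) • b0 = b0 := hg h⁻¹
      simp only
      rw [inv_inv, mul_smul, mul_smul, inv_smul_eq_iff] at h1
      exact h1
    · intro hg h
      have h1 := hg (h⁻¹ • b0) ⟨h⁻¹, rfl⟩
      show (h * g * h⁻¹) • b0 = b0
      rw [mul_smul, mul_smul, h1, smul_inv_smul]
  have hMK : M.map (QuotientGroup.mk' K) ≠ ⊥ := by
    intro h
    rw [Subgroup.map_eq_bot_iff, QuotientGroup.ker_mk'] at h
    have h1 : M ≤ MulAction.stabilizer (P : Subgroup G) b0 := h.trans (Subgroup.normalCore_le _)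
    exact hp2 (((hdv b0).trans (Subgroup.index_dvd_of_le h1)).trans hMi)
  have : (M.map (QuotientGroup.mk' K)).Normal :=
    Subgroup.Normal.map hMn _ (QuotientGroup.mk'_surjective K)
  obtain ⟨mm, ⟨m, hm, rfl⟩, hm1, hmp, hmc⟩ := cent_elt (hP.to_quotient K) _ hMK
  have hmK : m ∉ K := fun h => hm1 ((QuotientGroup.eq_one_iff m).mpr h)
  have hmpK : m ^ p ∈ K := by
    rw [← QuotientGroup.eq_one_iff]; exact hmp
  have hmf : ∀ b ∈ MulAction.orbit (P : Subgroup G) b0, m • b ≠ b := by
    intro b hb hmb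
    apply hmK
    rw [hK]
    intro c hc
    obtain ⟨g, rfl⟩ : c ∈ MulAction.orbit (P : Subgroup G) b := by
      rw [MulAction.orbit_eq_iff.mpr hb]; exact hc
    have h1 : (g * m)⁻¹ * (m * g) ∈ K := by
      rw [← QuotientGroup.eq]
      exact hmc (QuotientGroup.mk g)
    have h2 := (hK _).mp h1 b hb
    simp only
    rw [mul_smul, inv_smul_eq_iff, mul_smul, mul_smul, hmb] at h2
    exact h2
  have hA : ∀ (g : (P : Subgroup G)) (x : Ω), g • x ∈ MulAction.orbit (P : Subgroup G) a0 ↔
      x ∈ MulAction.orbit (P : Subgroup G) a0 := by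
    intro g x
    constructor
    · rintro ⟨h, hh⟩
      exact ⟨g⁻¹ * h, by simp only at hh ⊢; rw [mul_smul, hh, inv_smul_smul]⟩
    · rintro ⟨h, rfl⟩
      exact ⟨g * h, by simp only; rw [mul_smul]⟩
  let σ : Equiv.Perm Ω :=
    { toFun := fun x => if x ∈ MulAction.orbit (P : Subgroup G) a0 then z • x else m • x
      invFun := fun x => if x ∈ MulAction.orbit (P : Subgroup G) a0 then z⁻¹ • x else m⁻¹ • x
      left_inv := by
        intro x
        by_cases hx : x ∈ MulAction.orbit (P : Subgroup G) a0 <;> simp [hx, hA]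
      right_inv := by
        intro x
        by_cases hx : x ∈ MulAction.orbit (P : Subgroup G) a0 <;> simp [hx, hA] }
  have hσ1 : ∀ x ∈ MulAction.orbit (P : Subgroup G) a0, σ x = z • x := fun x hx => if_pos hx
  have hσ2 : ∀ x, x ∉ MulAction.orbit (P : Subgroup G) a0 → σ x = m • x := fun x hx => if_neg hx
  have hmix : ∀ a ∈ MulAction.orbit (P : Subgroup G) a0, ∀ b, b ∉ MulAction.orbit (P : Subgroup G) a0 →
      ∃ g : G, σ a = g • a ∧ σ b = g • b := by
    intro a ha b hb
    obtain ⟨i, hi⟩ := hMa m hm a ha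
    refine ⟨((z ^ (1 - i) * m : (P : Subgroup G)) : G), ?_, ?_⟩
    · rw [hσ1 a ha]
      show z • a = (z ^ (1 - i) * m) • a
      rw [mul_smul, hi, ← mul_smul, ← zpow_add]; simp
    · rw [hσ2 b hb]
      show m • b = (z ^ (1 - i) * m) • b
      have h1 : m • b ∈ MulAction.orbit (P : Subgroup G) b0 := hB _ (by rw [hA]; exact hb)
      obtain ⟨g, hg⟩ := h1
      have h2 : z ∈ MulAction.stabilizer (P : Subgroup G) (m • b) := by
        simp only at hg
        rw [← hg]; exact hfix _ _ hb0'
      have h3 := Subgroup.zpow_mem _ h2 (1 - i)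
      rw [mul_smul]; exact h3.symm
  obtain ⟨g, hg⟩ := hcl σ (by
    intro a b
    by_cases ha : a ∈ MulAction.orbit (P : Subgroup G) a0 <;>
      by_cases hb : b ∈ MulAction.orbit (P : Subgroup G) a0
    · exact ⟨(z : G), hσ1 a ha, hσ1 b hb⟩
    · exact hmix a ha b hb
    · obtain ⟨g, h1, h2⟩ := hmix b hb a ha
      exact ⟨g, h2, h1⟩
    · exact ⟨(m : G), hσ2 a ha, hσ2 b hb⟩)
  have hfp : ∀ w : Ω, g • w ≠ w := by
    intro w
    rw [← hg]
    by_cases hw : w ∈ MulAction.orbit (P : Subgroup G) a0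
    · rw [hσ1 w hw]
      intro h
      apply ha0
      obtain ⟨k, hk⟩ : a0 ∈ MulAction.orbit (P : Subgroup G) w := MulAction.mem_orbit_symm.mp hw
      simp only at hk
      rw [← hk]; exact hfix _ _ h
    · rw [hσ2 w hw]; exact hmf w (hB w hw)
  have hpow : ∀ (n : ℕ) (x : Ω), g ^ n • x =
      if x ∈ MulAction.orbit (P : Subgroup G) a0 then z ^ n • x else m ^ n • x := by
    intro n
    induction n with
    | zero => intro x; simp
    | succ n ih =>
      intro x
      rw [pow_succ', mul_smul, ih, ← hg]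
      by_cases hx : x ∈ MulAction.orbit (P : Subgroup G) a0
      · rw [if_pos hx, if_pos hx, hσ1 _ ((hA _ _).mpr hx), pow_succ', mul_smul]
      · rw [if_neg hx, if_neg hx, hσ2 _ (by rw [hA]; exact hx), pow_succ', mul_smul]
  have hgp : g ^ p = 1 := by
    apply FaithfulSMul.eq_of_smul_eq_smul (α := Ω)
    intro x
    rw [hpow, one_smul]
    by_cases hx : x ∈ MulAction.orbit (P : Subgroup G) a0
    · rw [if_pos hx, hzp, one_smul]
    · rw [if_neg hx]; exact (hK _).mp hmpK x (hB x hx)
  have hg1 : g ≠ 1 := by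
    intro h
    apply hfp w0
    rw [h, one_smul]
  obtain ⟨w, hw⟩ := hno g (by rw [orderOf_eq_prime hgp hg1]; exact hp)
  exact hfp w hw

end Cfsg.Agent.S3557
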