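import Cfsg.Statements.S3600
import Cfsg.Agent.S3433
import Cfsg.Agent.Lib.Dickson.Cayley
import Cfsg.Agent.Lib.BG.AmbRank
import Cfsg.Agent.Lib.SL2.Basic
import Cfsg.Agent.Lib.Transfer.Frobenius
import Cfsg.Agent.Lib.Asch.TabF

set_option autoImplicit false
open Cfsg

namespace Cfsg.Agent.S3600

open Subgroup CfsgLib CfsgLib.BG CfsgLib.Dickson

/-- relations of `2 ^ 4 : SL(2, 4)` -/
structure Rel {X : Type*} [Group X] (t h a b c d : X) : Prop where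
  t2 : t ^ 2 = 1
  h3 : h ^ 3 = 1
  th5 : (t * h) ^ 5 = 1
  a2 : a * a = 1
  ab : a * b = b * a
  ac : a * c = c * a
  ad : a * d = d * a
  bc : b * c = c * b
  bd : b * d = d * b
  cd : c * d = d * c
  ha : h * a * h⁻¹ = b
  hb : h * b * h⁻¹ = a * b
  hc : h * c * h⁻¹ = d
  hd : h * d * h⁻¹ = c * d
  ta : t * a * t⁻¹ = a
  tb : t * b * t⁻¹ = c
  td : t * d * t⁻¹ = a * d

namespace Rel

variable {X Y : Type*} [Group X] [Group Y] {t h a b c d : X} (r : Rel t h a b c d)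
include r

theorem map (f : X →* Y) : Rel (f t) (f h) (f a) (f b) (f c) (f d) := by
  obtain ⟨h1, h2, h3, h4, h5, h6, h7, h8, h9, h10, h11, h12, h13, h14, h15, h16, h17⟩ := r
  constructor <;> simp only [← map_mul, ← map_inv, ← map_pow, *, map_one]

theorem prod {t' h' a' b' c' d' : Y} (r' : Rel t' h' a' b' c' d') :
    Rel (t, t') (h, h') (a, a') (b, b') (c, c') (d, d') := by
  obtain ⟨h1, h2, h3, h4, h5, h6, h7, h8, h9, h10, h11, h12, h13, h14, h15, h16, h17⟩ := r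
  obtain ⟨k1, k2, k3, k4, k5, k6, k7, k8, k9, k10, k11, k12, k13, k14, k15, k16, k17⟩ := r'
  constructor <;> simp only [Prod.mk_mul_mk, Prod.inv_mk, Prod.pow_mk, *, Prod.mk_one_one]

omit r in
theorem of_inj (f : X →* Y) (hf : Function.Injective f) (r : Rel (f t) (f h) (f a) (f b) (f c) (f d)) :
    Rel t h a b c d := by
  obtain ⟨h1, h2, h3, h4, h5, h6, h7, h8, h9, h10, h11, h12, h13, h14, h15, h16, h17⟩ := r
  constructor <;> apply hf <;> simp only [map_mul, map_inv, map_pow, map_one, *]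

theorem b2 : b * b = 1 := by rw [← r.ha, conj_mul, r.a2]; group

theorem c2 : c * c = 1 := by rw [← r.tb, conj_mul, r.b2]; group

theorem d2 : d * d = 1 := by rw [← r.hc, conj_mul, r.c2]; group

theorem tc : t * c * t⁻¹ = b := by
  rw [← r.tb, show t * (t * b * t⁻¹) * t⁻¹ = t ^ 2 * b * (t ^ 2)⁻¹ by rw [sq]; group, r.t2]; group

theorem card_le [Finite X] : Nat.card (closure ({t, h, a} : Set X)) ≤ 960 := by
  obtain ⟨φ, h1, h2⟩ := exists_hom_A5 r.t2 r.h3 r.th5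
  have c2 : ∀ x : X, x * x = 1 → Nat.card (zpowers x) ≤ 2 := fun x hx => by
    rw [Nat.card_zpowers]
    exact orderOf_le_of_pow_eq_one two_pos (by rw [sq, hx])
  have sup : ∀ H K : Subgroup X, K ≤ 𝒩(H) → Nat.card ↥(H ⊔ K) ≤ Nat.card H * Nat.card K := fun H K e =>
    Nat.le_of_dvd (Nat.mul_pos Nat.card_pos Nat.card_pos) (card_sup_dvd (Or.inr e))
  have cn : ∀ (H : Subgroup X) (x : X), H ≤ 𝒞[x] → zpowers x ≤ 𝒩(H) := fun H x e =>
    cents_norm (centsC.mp (by rwa [cent_zpowers]))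
  have z : ∀ x y : X, x * y = y * x → zpowers x ≤ 𝒞[y] := fun x y e => zpowers_le.mpr (mem_cent1.mpr e)
  have k1 := sup _ _ (cn _ b (z _ _ r.ab))
  have k2 := sup _ _ (cn (zpowers a ⊔ zpowers b) c (sup_le (z _ _ r.ac) (z _ _ r.bc)))
  have k3 := sup _ _ (cn (zpowers a ⊔ zpowers b ⊔ zpowers c) d (sup_le (sup_le (z _ _ r.ad) (z _ _ r.bd)) (z _ _ r.cd)))
  set K := zpowers a ⊔ zpowers b ⊔ zpowers c ⊔ zpowers d with hK
  have ma : a ∈ K := mem_sup_left (mem_sup_left (mem_sup_left (mem_zpowers a)))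
  have mb : b ∈ K := mem_sup_left (mem_sup_left (mem_sup_right (mem_zpowers b)))
  have mc : c ∈ K := mem_sup_left (mem_sup_right (mem_zpowers c))
  have md : d ∈ K := mem_sup_right (mem_zpowers d)
  have nm : ∀ g : X, g * a * g⁻¹ ∈ K → g * b * g⁻¹ ∈ K → g * c * g⁻¹ ∈ K → g * d * g⁻¹ ∈ K → g ∈ 𝒩(K) :=
    fun g e1 e2 e3 e4 => mem_norm_of_cj_le (by
      rw [hK, cj_sup, cj_sup, cj_sup, cj_zpowers, cj_zpowers, cj_zpowers, cj_zpowers]
      exact sup_le (sup_le (sup_le (zpowers_le.mpr e1) (zpowers_le.mpr e2)) (zpowers_le.mpr e3))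
        (zpowers_le.mpr e4))
  · have hn : φ.range ≤ 𝒩(K) := by
      rw [MonoidHom.range_eq_map, map_le_iff_le_comap, top_le_iff]
      refine a5_gen ?_ ?_
      · rw [mem_comap, h1]
        exact nm t (r.ta.symm ▸ ma) (r.tb ▸ mc) (r.tc ▸ mb) (r.td ▸ mul_mem ma md)
      · rw [mem_comap, h2]
        exact nm h (r.ha ▸ mb) (r.hb ▸ mul_mem ma mb) (r.hc ▸ md) (r.hd ▸ mul_mem mc md)
    have k4 := sup _ _ hn
    have k5 : Nat.card φ.range ≤ 60 := card_A5 ▸ Nat.card_le_card_of_surjective _ φ.rangeRestrict_surjective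
    have k6 : closure ({t, h, a} : Set X) ≤ K ⊔ φ.range := by
      rw [closure_le]
      rintro x (rfl | rfl | rfl)
      exacts [mem_sup_right ⟨_, h1⟩, mem_sup_right ⟨_, h2⟩, mem_sup_left ma]
    have k7 := Subgroup.card_le_of_le k6
    have k8 : Nat.card K ≤ 16 := by
      exact k3.trans (Nat.mul_le_mul (k2.trans (Nat.mul_le_mul (k1.trans (Nat.mul_le_mul (c2 a r.a2)
        (c2 b r.b2))) (c2 c r.c2))) (c2 d r.d2))
    exact k7.trans (k4.trans (Nat.mul_le_mul k8 k5))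

theorem spec (h1 : a ≠ 1) (hX : ∀ x : X, orderOf x ∈ ({1, 2, 3, 4, 5} : Set ℕ)) :
    Set.range (orderOf : X → ℕ) = ({1, 2, 3, 4, 5} : Set ℕ) := by
  have hcb : c ≠ b := fun e => h1 (by
    have e1 : d = a * b := by rw [← r.hc, e, r.hb]
    have e2 := r.td
    rw [e1, ← conj_mul, r.ta, r.tb, e, ← mul_assoc, r.a2, one_mul] at e2
    exact mul_eq_right.mp e2)
  have ht : t ≠ 1 := fun e => hcb (by rw [← r.tb, e]; group)
  have hh : h ≠ 1 := fun e => h1 (by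
    have e2 := r.hb
    rw [e, one_mul, inv_one, mul_one] at e2
    exact mul_eq_right.mp e2.symm)
  have hth : t * h ≠ 1 := fun e => ht (by
    have e1 : h = t := by
      rw [← mul_one h, ← r.t2, sq, ← mul_assoc, mul_eq_one_comm.mp e, one_mul]
    have e2 := r.h3
    rwa [e1, pow_succ, r.t2, one_mul] at e2)
  have e4 : (t * b) ^ 2 = c * b := by
    rw [← r.tb, sq, inv_eq_of_mul_eq_one_right (sq t ▸ r.t2)]; group
  have : Fact (Nat.Prime 3) := ⟨Nat.prime_three⟩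
  have : Fact (Nat.Prime 5) := ⟨Nat.prime_five⟩
  refine Set.Subset.antisymm (by rintro _ ⟨x, rfl⟩; exact hX x) ?_
  rintro _ (rfl | rfl | rfl | rfl | rfl)
  · exact ⟨1, orderOf_one⟩
  · exact ⟨t, orderOf_eq_prime r.t2 ht⟩
  · exact ⟨h, orderOf_eq_prime r.h3 hh⟩
  · refine ⟨t * b, orderOf_eq_prime_pow (p := 2) (n := 1) ?_ ?_⟩
    · rw [pow_one, e4]
      exact fun e => hcb (by rw [← mul_one c, ← r.b2, ← mul_assoc, e, one_mul])
    · rw [show 2 ^ (1 + 1) = 2 * 2 by rfl, pow_mul, e4, sq, mul_assoc, ← mul_assoc b, r.bc, mul_assoc, r.b2,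
        mul_one, r.c2]
  · exact ⟨t * h, orderOf_eq_prime r.th5 hth⟩

end Rel

section model

open CfsgLib.Asch

/-- the matrices of the model -/
def mm : Fin 6 → Matrix (Fin 3) (Fin 3) TF4 :=
  ![!![1, .c 3, 0; 0, 1, 0; 0, 0, 1], !![0, 1, 0; 1, 1, 0; 0, 0, 1], !![1, 0, 1; 0, 1, 0; 0, 0, 1],
    !![1, 0, 0; 0, 1, 1; 0, 0, 1], !![1, 0, .c 3; 0, 1, 1; 0, 0, 1], !![1, 0, 1; 0, 1, .c 2; 0, 0, 1]]

theorem mm_det : ∀ i, (mm i).det = 1 := by
  intro i
  rw [Matrix.det_fin_three]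
  revert i
  decide +kernel

theorem mm_rel : mm 0 * mm 0 = 1 ∧ mm 1 * mm 1 * mm 1 = 1 ∧
    mm 0 * mm 1 * (mm 0 * mm 1) * (mm 0 * mm 1) * (mm 0 * mm 1) * (mm 0 * mm 1) = 1 ∧ mm 2 * mm 2 = 1 ∧
    mm 2 * mm 3 = mm 3 * mm 2 ∧ mm 2 * mm 4 = mm 4 * mm 2 ∧ mm 2 * mm 5 = mm 5 * mm 2 ∧
    mm 3 * mm 4 = mm 4 * mm 3 ∧ mm 3 * mm 5 = mm 5 * mm 3 ∧ mm 4 * mm 5 = mm 5 * mm 4 ∧
    mm 1 * mm 2 = mm 3 * mm 1 ∧ mm 1 * mm 3 = mm 2 * mm 3 * mm 1 ∧ mm 1 * mm 4 = mm 5 * mm 1 ∧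
    mm 1 * mm 5 = mm 4 * mm 5 * mm 1 ∧ mm 0 * mm 2 = mm 2 * mm 0 ∧ mm 0 * mm 3 = mm 4 * mm 0 ∧
    mm 0 * mm 5 = mm 2 * mm 5 * mm 0 ∧ mm 2 ≠ 1 ∧ ∀ i, mm i 2 0 = 0 ∧ mm i 2 1 = 0 ∧ mm i 2 2 = 1 := by
  decide +kernel

theorem exists_model : ∃ t h a b c d : Matrix.SpecialLinearGroup (Fin 3) TF4, Rel t h a b c d ∧ a ≠ 1 ∧
    ∀ M ∈ ({t, h, a} : Set (Matrix.SpecialLinearGroup (Fin 3) TF4)),
      (M : Matrix (Fin 3) (Fin 3) TF4) 2 0 = 0 ∧ (M : Matrix (Fin 3) (Fin 3) TF4) 2 1 = 0 ∧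
        (M : Matrix (Fin 3) (Fin 3) TF4) 2 2 = 1 := by
  obtain ⟨g, hg⟩ : ∃ g : Fin 6 → Matrix.SpecialLinearGroup (Fin 3) TF4, ∀ i, (g i).1 = mm i :=
    ⟨fun i => ⟨mm i, mm_det i⟩, fun _ => rfl⟩
  have h := mm_rel
  have inj : ∀ x y : Matrix.SpecialLinearGroup (Fin 3) TF4, x.1 = y.1 ↔ x = y := fun x y =>
    ⟨Subtype.ext, fun e => e ▸ rfl⟩
  simp only [← hg, ← Matrix.SpecialLinearGroup.coe_mul, ← Matrix.SpecialLinearGroup.coe_one, Ne, inj] at h
  obtain ⟨h1, h2, h3, h4, h5, h6, h7, h8, h9, h10, h11, h12, h13, h14, h15, h16, h17, h18, h19⟩ := h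
  refine ⟨g 0, g 1, g 2, g 3, g 4, g 5, ⟨by rw [← h1, pow_two], by rw [← h2, pow_three'],
    by rw [← h3]; simp only [pow_succ, pow_zero, one_mul], h4, h5, h6, h7, h8, h9, h10,
    mul_inv_eq_iff_eq_mul.mpr h11, mul_inv_eq_iff_eq_mul.mpr h12, mul_inv_eq_iff_eq_mul.mpr h13,
    mul_inv_eq_iff_eq_mul.mpr h14, mul_inv_eq_iff_eq_mul.mpr h15, mul_inv_eq_iff_eq_mul.mpr h16,
    mul_inv_eq_iff_eq_mul.mpr h17⟩, h18, fun M hM => ?_⟩
  rcases hM with e | e | e <;> rw [e] <;> exact h19 _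

end model

theorem card_aff {F : Type} [Field F] [Fintype F] (hF : Fintype.card F = 4) :
    Nat.card (closure {M : Matrix.SpecialLinearGroup (Fin 3) F |
      (M : Matrix (Fin 3) (Fin 3) F) 2 0 = 0 ∧ (M : Matrix (Fin 3) (Fin 3) F) 2 1 = 0 ∧
        (M : Matrix (Fin 3) (Fin 3) F) 2 2 = 1}) ≤ 960 := by
  have key : ∀ M ∈ closure {M : Matrix.SpecialLinearGroup (Fin 3) F |
      (M : Matrix (Fin 3) (Fin 3) F) 2 0 = 0 ∧ (M : Matrix (Fin 3) (Fin 3) F) 2 1 = 0 ∧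
        (M : Matrix (Fin 3) (Fin 3) F) 2 2 = 1},
      (M : Matrix (Fin 3) (Fin 3) F) 2 0 = 0 ∧ (M : Matrix (Fin 3) (Fin 3) F) 2 1 = 0 ∧
        (M : Matrix (Fin 3) (Fin 3) F) 2 2 = 1 := by
    intro M hM
    rw [← mem_toSubmonoid, closure_toSubmonoid_of_finite] at hM
    induction hM using Submonoid.closure_induction with
    | mem x hx => exact hx
    | one => simp
    | mul x y _ _ hx hy => simp [Matrix.mul_apply, Fin.sum_univ_three, hx.1, hx.2.1, hx.2.2, hy.1, hy.2.1, hy.2.2]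
  have h1 : Nat.card (Matrix.SpecialLinearGroup (Fin 2) F × F × F) = 960 := by
    rw [Nat.card_prod, Nat.card_prod, SL2.card_SL2, Nat.card_eq_fintype_card, hF]; rfl
  rw [← h1]
  refine Nat.card_le_card_of_injective (fun M => (⟨!![M.1.1 0 0, M.1.1 0 1; M.1.1 1 0, M.1.1 1 1], ?_⟩,
    M.1.1 0 2, M.1.1 1 2)) fun M N e => ?_
  · obtain ⟨h2, h3, h4⟩ := key M.1 M.2
    have := M.1.2
    rw [Matrix.det_fin_three, h2, h3, h4] at this
    rw [Matrix.det_fin_two_of]; linear_combination this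
  · obtain ⟨h2, h3, h4⟩ := key M.1 M.2
    obtain ⟨k2, k3, k4⟩ := key N.1 N.2
    have e1 := congrArg (fun x => x.1.1) e
    have e2 : M.1.1 0 2 = N.1.1 0 2 := congrArg (fun x => x.2.1) e
    have e3 : M.1.1 1 2 = N.1.1 1 2 := congrArg (fun x => x.2.2) e
    have f := fun i j => congrFun (congrFun e1 i) j
    have f1 := f 0 0
    have f2 := f 0 1
    have f3 := f 1 0
    have f4 := f 1 1
    simp at f1 f2 f3 f4
    refine Subtype.ext (Subtype.ext ?_)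
    ext i j
    fin_cases i <;> fin_cases j <;> simp [*]

theorem a5_inv : ∃ y : alternatingGroup (Fin 5), y ^ 3 = 1 ∧ y ≠ 1 ∧ a5a * y * a5a⁻¹ * y = 1 := by
  decide +kernel

theorem a5_pow' : ∀ g : alternatingGroup (Fin 5), g ^ 2 = 1 ∨ g ^ 3 = 1 ∨ g ^ 5 = 1 := by decide +kernel

theorem a5_ne : a5b ≠ 1 ∧ a5a * a5b ≠ 1 := by decide +kernel

theorem exists_rel {G : Type*} [Group G] [Finite G] (hs : Set.range (orderOf : G → ℕ) = ({1, 2, 3, 4, 5} : Set ℕ))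
    (π : G →* alternatingGroup (Fin 5)) (hπ : Function.Surjective π) (hN : IsElementaryAbelian 2 π.ker) :
    960 ≤ Nat.card G ∧ ∃ t h a b c d : G, Rel t h a b c d ∧ a ≠ 1 := by
  have hp : ∀ (p : ℕ) [Fact p.Prime], 3 ≤ p → ∀ g : G, π g ^ p = 1 → π g ≠ 1 → g ^ p = 1 := fun p hp h3 g h1 h2 => by
    have h4 : p ∣ orderOf g := orderOf_eq_prime h1 h2 ▸ orderOf_map_dvd π g
    have h5 : orderOf g ∈ ({1, 2, 3, 4, 5} : Set ℕ) := hs ▸ ⟨g, rfl⟩
    have h6 : orderOf g = p := by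
      have h7 := Nat.le_of_dvd (orderOf_pos g) h4
      obtain ⟨k, hk⟩ := h4
      rcases k with _ | _ | k
      · exact absurd hk (orderOf_pos g).ne'
      · simpa using hk
      · have : 6 ≤ orderOf g := by rw [hk]; nlinarith
        simp only [Set.mem_insert_iff, Set.mem_singleton_iff] at h5
        omega
    exact h6 ▸ pow_orderOf_eq_one g
  have : Fact (Nat.Prime 3) := ⟨Nat.prime_three⟩
  have : Fact (Nat.Prime 5) := ⟨Nat.prime_five⟩
  have sq : ∀ n ∈ π.ker, n * n = 1 := fun n hn => by rw [← sq]; exact hN.2 n hn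
  have cm : ∀ n ∈ π.ker, ∀ m ∈ π.ker, n * m = m * n := fun n hn m hm =>
    congrArg Subtype.val (hN.1.is_comm.comm (⟨n, hn⟩ : π.ker) ⟨m, hm⟩)
  have iv : ∀ n ∈ π.ker, n⁻¹ = n := fun n hn => inv_eq_of_mul_eq_one_right (sq n hn)
  have cj : ∀ g : G, ∀ n ∈ π.ker, g * n * g⁻¹ ∈ π.ker := fun g n hn => π.normal_ker.conj_mem n hn g
  have fp : ∀ (p : ℕ) [Fact p.Prime], 3 ≤ p → ∀ g : G, π g ^ p = 1 → π g ≠ 1 → ∀ n ∈ π.ker, (n * g) ^ p = 1 :=
    fun p _ h3 g h1 h2 n hn => hp p h3 _ (by rwa [map_mul, hn, one_mul]) (by rwa [map_mul, hn, one_mul])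
  have f3 : ∀ g : G, π g ^ 3 = 1 → π g ≠ 1 → ∀ n ∈ π.ker,
      g * (g * n * g⁻¹) * g⁻¹ = n * (g * n * g⁻¹) := fun g h1 h2 n hn => by
    have h3 := fp 3 le_rfl g h1 h2 n hn
    rw [show (n * g) ^ 3 = n * (g * n * g⁻¹) * (g * (g * n * g⁻¹) * g⁻¹) * g ^ 3 by
      simp only [pow_succ]; group, hp 3 le_rfl g h1 h2, mul_one] at h3
    rw [← inv_eq_of_mul_eq_one_right h3, iv _ (mul_mem hn (cj g n hn))]
  -- an involution over `a5a`
  obtain ⟨t, ht, ht2⟩ : ∃ t : G, π t = a5a ∧ t ^ 2 = 1 := by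
    obtain ⟨y0, h1, h2, h3⟩ := a5_inv
    obtain ⟨x, hx⟩ := hπ a5a
    obtain ⟨y, rfl⟩ := hπ y0
    have hn : x * y * x⁻¹ * y ∈ π.ker := by
      rw [MonoidHom.mem_ker, map_mul, map_mul, map_mul, map_inv, hx, h3]
    set n := x * y * x⁻¹ * y with hdef
    have h4 := f3 y⁻¹ (by rw [map_inv, inv_pow, h1, inv_one]) (by rwa [map_inv, Ne, inv_eq_one]) n hn
    have hm := cj y⁻¹ n hn
    set m := y⁻¹ * n * y⁻¹⁻¹ with hmdef
    have h5 : m * y⁻¹ * m⁻¹ = n * y⁻¹ := by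
      rw [iv m hm, show m * y⁻¹ * m = m * (y⁻¹ * m * y⁻¹⁻¹) * y⁻¹ by group, h4, cm n hn m hm, ← mul_assoc,
        sq m hm, one_mul]
    have h6 : m⁻¹ * x * y * (m⁻¹ * x)⁻¹ = y⁻¹ := by
      rw [show m⁻¹ * x * y * (m⁻¹ * x)⁻¹ = m⁻¹ * (x * y * x⁻¹ * y * y⁻¹) * m by group, ← hdef, ← h5]; group
    have h7 : π (m⁻¹ * x) = a5a := by rw [map_mul, map_inv, hm, inv_one, one_mul, hx]
    refine ⟨_, h7, ?_⟩
    generalize m⁻¹ * x = s at h6 h7
    have h8 : s ^ 2 ∈ π.ker := by rw [MonoidHom.mem_ker, map_pow, h7, a5_rels.1]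
    have h9 : Commute (s ^ 2) y := by
      refine mul_inv_eq_iff_eq_mul.mp ?_
      rw [show s ^ 2 * y * (s ^ 2)⁻¹ = s * (s * y * s⁻¹) * s⁻¹ by rw [pow_two]; group, h6, ← conj_inv, h6, inv_inv]
    have h10 := fp 3 le_rfl y h1 h2 _ h8
    rwa [h9.mul_pow, hp 3 le_rfl y h1 h2, mul_one, pow_succ, pow_two (s ^ 2), sq _ h8, one_mul] at h10
  obtain ⟨h, hh⟩ := hπ a5b
  have h3 : π h ^ 3 = 1 := hh ▸ a5_rels.2.1
  have h1 : π h ≠ 1 := hh ▸ a5_ne.1
  have k5 : π (t * h) ^ 5 = 1 := by rw [map_mul, ht, hh, a5_rels.2.2]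
  have k1 : π (t * h) ≠ 1 := by rw [map_mul, ht, hh]; exact a5_ne.2
  have tt : ∀ n : G, t * (t * n * t⁻¹) * t⁻¹ = n := fun n => by
    rw [show t * (t * n * t⁻¹) * t⁻¹ = t ^ 2 * n * (t ^ 2)⁻¹ by rw [pow_two]; group, ht2]; group
  have hN1 : π.ker ≠ ⊥ := fun e => by
    obtain ⟨g, hg⟩ : (4 : ℕ) ∈ Set.range (orderOf : G → ℕ) := by rw [hs]; simp
    rw [← orderOf_injective π ((MonoidHom.ker_eq_bot_iff π).mp e) g] at hg
    rcases a5_pow' (π g) with e | e | e <;> exact absurd (hg ▸ orderOf_dvd_of_pow_eq_one e) (by norm_num)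
  constructor
  · have e1 := π.ker.card_mul_index
    rw [index_ker, MonoidHom.range_eq_top.mpr hπ, card_top, card_A5] at e1
    have e2 := Transfer.card_modEq_card_inf_centralizer (q := 5) (Q := π.ker) (g := t * h)
      (le_normalizer_of_normal (mem_top _)) ⟨1, by rw [pow_one]; exact hp 5 (by norm_num) _ k5 k1⟩
    have e3 : π.ker ⊓ centralizer ({t * h} : Set G) = ⊥ := eq_bot_iff.mpr fun n hn => by
      have e4 := fp 5 (by norm_num) _ k5 k1 n hn.1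
      rw [Commute.mul_pow (mem_cent1.mp hn.2), hp 5 (by norm_num) _ k5 k1, mul_one,
        show n ^ 5 = n * n * (n * n) * n by simp only [pow_succ, pow_zero, one_mul, mul_assoc], sq n hn.1, one_mul, one_mul] at e4
      exact e4
    rw [e3, card_bot] at e2
    obtain ⟨k, hk⟩ := abelem_card Nat.prime_two hN
    have e5 : k ≠ 0 := fun e => hN1 (card_eq_one.mp (by rw [hk, e]; rfl))
    have e6 : 4 ≤ k := by
      by_contra e6
      have e7 : k < 4 := not_le.mp e6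
      rw [hk] at e2
      interval_cases k <;> simp_all [Nat.ModEq]
    have := Nat.pow_le_pow_right two_pos e6
    omega
  obtain ⟨a, ha, ha1, hta⟩ : ∃ a ∈ π.ker, a ≠ 1 ∧ t * a * t⁻¹ = a := by
    obtain ⟨n, hn, hn1⟩ := exists_ne_one_of_ne_bot hN1
    by_cases e : t * n * t⁻¹ = n
    · exact ⟨n, hn, hn1, e⟩
    · refine ⟨n * (t * n * t⁻¹), mul_mem hn (cj t n hn), fun e1 => e ?_, ?_⟩
      · rw [← inv_eq_of_mul_eq_one_right e1, iv n hn]
      · rw [← conj_mul, tt, cm n hn _ (cj t n hn)]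
  have hb := cj h a ha
  have hc := cj t _ hb
  have hd := cj h _ hc
  have e1 := f3 h h3 h1 a ha
  have e2 := f3 h h3 h1 _ hc
  have hh3 := hp 3 le_rfl h h3 h1
  have th5 := hp 5 (by norm_num) _ k5 k1
  refine ⟨t, h, a, _, _, _, ⟨ht2, hh3, th5, sq a ha, cm _ ha _ hb, cm _ ha _ hc, cm _ ha _ hd, cm _ hb _ hc,
    cm _ hb _ hd, cm _ hc _ hd, rfl, e1, rfl, e2, hta, rfl, ?_⟩, ha1⟩
  have e3 := fp 5 (by norm_num) _ k5 k1 a ha
  have he := cj t _ hd
  have hi : ∀ n : G, h⁻¹ * n * h = h * (h * n * h⁻¹) * h⁻¹ := fun n => by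
    have : h⁻¹ = h * h := inv_eq_of_mul_eq_one_right (by rw [← hh3, pow_three])
    rw [show h * (h * n * h⁻¹) * h⁻¹ = h * h * n * (h * h)⁻¹ by group, ← this, inv_inv]
  have ti : t⁻¹ = t := inv_eq_of_mul_eq_one_right (by rw [← pow_two, ht2])
  have e4 : (t * h)⁻¹ * a * (t * h) = a * (h * a * h⁻¹) := by
    rw [← e1, ← hi]
    conv_rhs => rw [← hta, ti]
    rw [mul_inv_rev, ti]; group
  have e5 : (t * h)⁻¹ * (a * (h * a * h⁻¹)) * (t * h) =
      a * (h * a * h⁻¹) * (t * (h * a * h⁻¹) * t⁻¹ * (h * (t * (h * a * h⁻¹) * t⁻¹) * h⁻¹)) := by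
    have ti' : t⁻¹ * (h * a * h⁻¹) * t = t * (h * a * h⁻¹) * t⁻¹ := by rw [ti]
    rw [← e2, ← hi, ← ti', show (t * h)⁻¹ * (a * (h * a * h⁻¹)) * (t * h) =
      (t * h)⁻¹ * a * (t * h) * (h⁻¹ * (t⁻¹ * (h * a * h⁻¹) * t) * h) by group, e4]
  rw [show (a * (t * h)) ^ 5 = a * (t * (h * a * h⁻¹) * t⁻¹) * (t * (h * (t * (h * a * h⁻¹) * t⁻¹) * h⁻¹) * t⁻¹) *
      ((t * h) ^ 5 * ((t * h)⁻¹ * ((t * h)⁻¹ * a * (t * h)) * (t * h)) * ((t * h) ^ 5)⁻¹) *
      ((t * h) ^ 5 * ((t * h)⁻¹ * a * (t * h)) * ((t * h) ^ 5)⁻¹) * (t * h) ^ 5 by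
    simp only [pow_succ]; group, th5, e4, e5] at e3
  simp only [one_mul, inv_one, mul_one] at e3
  generalize t * (h * (t * (h * a * h⁻¹) * t⁻¹) * h⁻¹) * t⁻¹ = e at he e3 ⊢
  generalize h * (t * (h * a * h⁻¹) * t⁻¹) * h⁻¹ = d at hd e3 ⊢
  generalize t * (h * a * h⁻¹) * t⁻¹ = c at hc e3 ⊢
  generalize h * a * h⁻¹ = b at hb e3 ⊢
  lift a to π.ker using ha
  lift b to π.ker using hb
  lift c to π.ker using hc
  lift d to π.ker using hd
  lift e to π.ker using he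
  have sq' : ∀ n : π.ker, n * n = 1 := fun n => Subtype.ext (sq n n.2)
  have := hN.1.is_comm
  have e6 : a * c * e * (a * b * (c * d)) * (a * b) = 1 := Subtype.ext e3
  have e7 : a * c * e * (a * b * (c * d)) * (a * b) = a * a * (b * b) * (c * c) * (a * d * e) := by
    ac_rfl
  rw [e7, sq' a, sq' b, sq' c, one_mul, one_mul, one_mul] at e6
  have e8 : e = a * d := by rw [← inv_eq_of_mul_eq_one_right e6, inv_eq_of_mul_eq_one_right (sq' _)]
  exact congrArg Subtype.val e8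

/-- A finite group is critical with respect to a set Ω of natural numbers when its set of element orders is Ω while no proper section has Ω as its set of element orders. A finite group critical with respect to {1, 2, 3, 4, 5} (the set of element orders of the alternating group of degree 6) is isomorphic either to the alternating group of degree 6 or to the affine group F² ⋊ SL(2,F) over the field F with four elements (realised as the matrices of SL(3,F) with last row (0, 0, 1)). -/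
theorem result {G : Type*} [Group G] [Finite G]
    (hcrit : Set.range (orderOf : G → ℕ) = ({1, 2, 3, 4, 5} : Set ℕ) ∧
      ∀ (H : Subgroup G) (N : Subgroup ↥H) [N.Normal], (H ≠ ⊤ ∨ N ≠ ⊥) → Set.range (orderOf : (↥H ⧸ N) → ℕ) ≠ ({1, 2, 3, 4, 5} : Set ℕ)) :
    Nonempty (G ≃* alternatingGroup (Fin 6)) ∨
      ∃ (F : Type) (_ : Field F) (_ : Fintype F), Fintype.card F = 4 ∧
        Nonempty (G ≃* ↥(Subgroup.closure {M : Matrix.SpecialLinearGroup (Fin 3) F |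
          (M : Matrix (Fin 3) (Fin 3) F) 2 0 = 0 ∧ (M : Matrix (Fin 3) (Fin 3) F) 2 1 = 0 ∧ (M : Matrix (Fin 3) (Fin 3) F) 2 2 = 1})) := by
  obtain ⟨hs, hc⟩ := hcrit
  refine (Cfsg.Agent.S3433.result (G := G) (hs.trans ?_)).imp_right ?_
  · ext k
    simp only [Set.mem_insert_iff, Set.mem_singleton_iff, Set.mem_ofPred_eq]
    omega
  rintro ⟨N, _, hN, ⟨e⟩⟩
  have hk : (e.toMonoidHom.comp (QuotientGroup.mk' N)).ker = N := by
    rw [← MonoidHom.comap_ker, (MonoidHom.ker_eq_bot_iff _).mpr e.injective, MonoidHom.comap_bot,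
      QuotientGroup.ker_mk']
  obtain ⟨hcard, t, h, a, b, c, d, r, ha⟩ := exists_rel hs (e.toMonoidHom.comp (QuotientGroup.mk' N))
    (e.surjective.comp (QuotientGroup.mk'_surjective N)) (hk.symm ▸ hN)
  have hsec : ∀ (H : Subgroup G) (M : Subgroup H) [M.Normal] (t h a b c d : H), Rel t h a b c d → a ∉ M →
      H = ⊤ ∧ M = ⊥ := fun H M _ t h a b c d r ha => by
    by_contra hn
    refine hc H M (not_and_or.mp hn) ((r.map (QuotientGroup.mk' M)).spec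
      (fun e => ha ((QuotientGroup.eq_one_iff a).mp e)) fun x => ?_)
    obtain ⟨x, rfl⟩ := QuotientGroup.mk'_surjective M x
    have h1 := orderOf_map_dvd (QuotientGroup.mk' M) x
    have h2 : orderOf (x : G) ∈ ({1, 2, 3, 4, 5} : Set ℕ) := hs ▸ ⟨_, rfl⟩
    rw [orderOf_coe] at h2
    have h3 := Nat.le_of_dvd (orderOf_pos x) h1
    have h4 := orderOf_pos (QuotientGroup.mk' M x)
    simp only [Set.mem_insert_iff, Set.mem_singleton_iff] at h2 ⊢
    omega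
  have mem : ∀ {X : Type _} [Group X] {t h a b c d : X}, Rel t h a b c d →
      ∃ t' h' a' b' c' d' : closure ({t, h, a} : Set X), Rel t' h' a' b' c' d' ∧ t'.1 = t ∧ h'.1 = h ∧ a'.1 = a := by
    intro X _ t h a b c d r
    have m1 : t ∈ closure ({t, h, a} : Set X) := subset_closure (by simp)
    have m2 : h ∈ closure ({t, h, a} : Set X) := subset_closure (by simp)
    have m3 : a ∈ closure ({t, h, a} : Set X) := subset_closure (by simp)
    have m4 : b ∈ closure ({t, h, a} : Set X) := r.ha ▸ mul_mem (mul_mem m2 m3) (inv_mem m2)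
    have m5 : c ∈ closure ({t, h, a} : Set X) := r.tb ▸ mul_mem (mul_mem m1 m4) (inv_mem m1)
    have m6 : d ∈ closure ({t, h, a} : Set X) := r.hc ▸ mul_mem (mul_mem m2 m5) (inv_mem m2)
    exact ⟨⟨t, m1⟩, ⟨h, m2⟩, ⟨a, m3⟩, ⟨b, m4⟩, ⟨c, m5⟩, ⟨d, m6⟩, Rel.of_inj _ (subtype_injective _) r, rfl, rfl, rfl⟩
  have hgen : closure ({t, h, a} : Set G) = ⊤ := by
    obtain ⟨t', h', a', b', c', d', r', -, -, e3⟩ := mem r
    exact (hsec _ ⊥ _ _ _ _ _ _ r' fun e => ha (by rw [← e3, mem_bot.mp e]; rfl)).1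
  obtain ⟨t2, h2, a2, b2, c2, d2, r2, ha2, hm2⟩ := exists_model
  have rp := r.prod r2
  set D := closure ({(t, t2), (h, h2), (a, a2)} : Set (G × Matrix.SpecialLinearGroup (Fin 3) Asch.TF4)) with hD
  have hsurj : Function.Surjective ((MonoidHom.fst _ _).comp D.subtype) := by
    rw [← MonoidHom.range_eq_top, MonoidHom.range_comp, range_subtype, hD, MonoidHom.map_closure, ← hgen]
    simp [Set.image_insert_eq]
  have hbij := hsurj.bijective_of_nat_card_le (rp.card_le.trans hcard)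
  let f := MulEquiv.ofBijective _ hbij
  let ψ : G →* Matrix.SpecialLinearGroup (Fin 3) Asch.TF4 :=
    ((MonoidHom.snd _ _).comp D.subtype).comp f.symm.toMonoidHom
  have hψ : ∀ x y, (x, y) ∈ D → ψ x = y := fun x y hxy => by
    have : f.symm x = ⟨(x, y), hxy⟩ := f.symm_apply_eq.mpr rfl
    simp [ψ, this]
  have hinj : Function.Injective ψ := by
    have r' : Rel (⟨t, mem_top t⟩ : (⊤ : Subgroup G)) ⟨h, mem_top h⟩ ⟨a, mem_top a⟩ ⟨b, mem_top b⟩
        ⟨c, mem_top c⟩ ⟨d, mem_top d⟩ := Rel.of_inj _ (subtype_injective _) r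
    have := (hsec ⊤ (ψ.ker.subgroupOf ⊤) _ _ _ _ _ _ r' fun e =>
      ha2 ((hψ a a2 (subset_closure (by simp))).symm.trans e)).2
    rwa [subgroupOf_eq_bot, disjoint_top, MonoidHom.ker_eq_bot_iff] at this
  refine ⟨Asch.TF4, inferInstance, inferInstance, Asch.card_TF4, ⟨MulEquiv.ofBijective (ψ.codRestrict _ ?_) ?_⟩⟩
  · intro x
    refine mem_comap.mp (hgen.ge.trans ((closure_le (comap ψ _)).mpr ?_) (mem_top x))
    rintro _ (rfl | rfl | rfl) <;> refine subset_closure ?_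
    · rw [hψ _ t2 (subset_closure (by simp))]; exact hm2 _ (by simp)
    · rw [hψ _ h2 (subset_closure (by simp))]; exact hm2 _ (by simp)
    · rw [hψ _ a2 (subset_closure (by simp))]; exact hm2 _ (by simp)
  · exact Function.Injective.bijective_of_nat_card_le (fun x y e => hinj (congrArg Subtype.val e))
      ((card_aff Asch.card_TF4).trans hcard)

end Cfsg.Agent.S3600
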