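import Cfsg.Statements.S3617
import Cfsg.Agent.Lib.Dts.OnsC
import Cfsg.Agent.Lib.Core.MinNormal

set_option autoImplicit false
open Cfsg

namespace Cfsg.Agent.S3617

/-- Let G act faithfully and primitively on a finite set, and suppose that for some point α the stabilizer of α acts doubly transitively on one of its orbits of size at least 2 among the remaining points. Then either G is almost simple (it has a non-abelian simple normal subgroup with trivial centralizer), or G has a unique minimal normal subgroup and that subgroup acts regularly (transitively with trivial point stabilizers). -/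
theorem result {G Ω : Type*} [Group G] [Finite G] [MulAction G Ω] [FaithfulSMul G Ω] [Finite Ω]
    (hprim : MulAction.IsPreprimitive G Ω) (α β : Ω) (hβ : β ≠ α)
    (h2 : 2 ≤ Nat.card ↥(MulAction.orbit ↥(MulAction.stabilizer G α) β))
    (h2t : MulAction.IsMultiplyPretransitive ↥(MulAction.stabilizer G α) ↥(MulAction.orbit ↥(MulAction.stabilizer G α) β) 2) :
    (∃ T : Subgroup G, T.Normal ∧ IsSimpleGroup ↥T ∧ ¬ IsMulCommutative ↥T ∧ Subgroup.centralizer (T : Set G) = ⊥) ∨
    (∃ N : Subgroup G, N.Normal ∧ N ≠ ⊥ ∧ (∀ M : Subgroup G, M.Normal → M ≠ ⊥ → N ≤ M) ∧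
      MulAction.IsPretransitive ↥N Ω ∧ ∀ ω : Ω, MulAction.stabilizer ↥N ω = ⊥) := by
  have P : CfsgLib.Dts.Pr G α β (MulAction.orbit (MulAction.stabilizer G α) β) := by
    refine ⟨fun g hg => eq_of_smul_eq_smul (α := Ω) fun a => by rw [hg, one_smul], hprim, hβ,
      MulAction.mem_orbit_self β, ?_, ?_, ?_⟩
    · by_contra! e
      have : Subsingleton (MulAction.orbit (MulAction.stabilizer G α) β) := ⟨by
        rintro ⟨_, g, rfl⟩ ⟨_, k, rfl⟩
        exact Subtype.ext ((e g g.2).trans (e k k.2).symm)⟩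
      have := Finite.card_le_one_iff_subsingleton.2 this
      omega
    · rintro g hg _ ⟨k, rfl⟩
      exact ⟨⟨g, hg⟩ * k, mul_smul _ _ _⟩
    · intro a ha b hb c hc d hd hab hcd
      rw [MulAction.is_two_pretransitive_iff] at h2t
      obtain ⟨g, g1, g2⟩ := @h2t ⟨a, ha⟩ ⟨b, hb⟩ ⟨c, hc⟩ ⟨d, hd⟩ (fun e => hab (congrArg Subtype.val e))
        (fun e => hcd (congrArg Subtype.val e))
      exact ⟨g, g.2, congrArg Subtype.val g1, congrArg Subtype.val g2⟩
  obtain ⟨N, hN, h1, -, mn⟩ := CfsgLib.Core.exists_minimal_normal_le (K := (⊤ : Subgroup G)) (by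
    intro e
    obtain ⟨g, -, hg⟩ := P.mv
    exact hg (by rw [Subgroup.mem_bot.1 (e.le (Subgroup.mem_top g)), one_smul]))
  have hM : CfsgLib.Dts.Mn N ⊤ := ⟨le_top, (Subgroup.normalizer_eq_top N).ge, h1, fun M hM hn =>
    mn M (Subgroup.normalizer_eq_top_iff.1 (top_le_iff.1 hn)) hM⟩
  have tr : MulAction.IsPretransitive N Ω := ⟨fun a b => by
    obtain ⟨n, hn, e⟩ := P.tr hN h1 a b
    exact ⟨⟨n, hn⟩, e⟩⟩
  by_cases ab : IsMulCommutative N
  · obtain ⟨k1, k2⟩ := P.caseA hM ab
    exact .inr ⟨N, hN, h1, k1, tr, fun ω => eq_bot_iff.2 fun n hn => Subtype.ext (k2 n n.2 ω hn)⟩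
  have hc := P.caseB hM ab
  rcases P.caseC hM ab with hs | hs
  · exact .inl ⟨N, hN, hs, ab, hc⟩
  refine .inr ⟨N, hN, h1, fun M hMn hM1 => ?_, tr, fun ω => eq_bot_iff.2 fun n hn => ?_⟩
  · rcases mn (M ⊓ N) inferInstance inf_le_right with e | e
    · refine absurd (eq_bot_iff.2 (hc ▸ fun m hm => CfsgLib.Dts.mem_CC.2 fun t ht => ?_)) hM1
      exact (Subgroup.commute_of_normal_of_disjoint M N hMn hN (disjoint_iff.2 e) m t hm ht).symm
    · exact e.ge.trans inf_le_left
  · obtain ⟨k, -, rfl⟩ := P.tr hN h1 α ω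
    have e : k⁻¹ * n * k ∈ N ⊓ MulAction.stabilizer G α := ⟨hN.conj_mem' n n.2 k, by
      have : (n : G) • k • α = k • α := hn
      change (k⁻¹ * n * k) • α = α
      rw [mul_smul, mul_smul, this, inv_smul_smul]⟩
    rw [hs, Subgroup.mem_bot] at e
    exact Subtype.ext (by simpa [mul_assoc, inv_mul_eq_one] using e)

end Cfsg.Agent.S3617
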