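import Mathlib
import Cfsg.Statements.S3634
import Cfsg.Agent.Lib.Frob.Complement
import Cfsg.Agent.Lib.Coprime.SchurZassenhaus

set_option autoImplicit false
open Cfsg

namespace Cfsg.Agent.S3634

section Aux

open Subgroup

theorem frat {G : Type*} [Group G] [Finite G] (K : Subgroup G) [K.Normal] {p : ℕ} (hp : p.Prime)
    (h : p ∣ Nat.card K) : ∃ P : Subgroup G, P ≤ K ∧ IsPGroup p P ∧ P ≠ ⊥ ∧
      normalizer (P : Set G) ⊔ K = ⊤ := by
  have := Fact.mk hp
  obtain ⟨P⟩ : Nonempty (Sylow p K) := inferInstance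
  refine ⟨(P : Subgroup K).map K.subtype, map_subtype_le _, P.isPGroup'.map _, fun H => ?_,
    P.normalizer_sup_eq_top⟩
  exact P.ne_bot_of_dvd_card h ((map_eq_bot_iff_of_injective _ K.subtype_injective).mp H)

theorem ord_mul {G : Type*} [Group G] [Finite G] {a b : G} (h : a * b = b * a) {p q : ℕ} (hp : p.Prime)
    (hq : q.Prime) (hpq : p ≠ q) (ha : p ∣ orderOf a) (hb : q ∣ orderOf b) :
    ∃ x : G, orderOf x = p * q := by
  have e1 := orderOf_pow_orderOf_div (orderOf_pos a).ne' ha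
  have e2 := orderOf_pow_orderOf_div (orderOf_pos b).ne' hb
  refine ⟨a ^ (orderOf a / p) * b ^ (orderOf b / q), ?_⟩
  rw [Commute.orderOf_mul_eq_mul_orderOf_of_coprime (Commute.pow_pow h _ _), e1, e2]
  rw [e1, e2]
  exact (Nat.coprime_primes hp hq).mpr hpq

theorem dvd_ord {G : Type*} [Group G] [Finite G] {P : Subgroup G} {p : ℕ} (hp : p.Prime)
    (hP : IsPGroup p P) {a : G} (ha : a ∈ P) (h1 : a ≠ 1) : p ∣ orderOf a := by
  have := Fact.mk hp
  obtain ⟨k, hk⟩ := IsPGroup.iff_orderOf.mp hP ⟨a, ha⟩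
  rw [← orderOf_coe] at hk
  rcases k with _ | k
  · exact absurd (orderOf_eq_one_iff.mp hk) h1
  · exact hk ▸ dvd_pow_self p k.succ_ne_zero

end Aux

/-- Let G be a finite group with normal subgroups K ≤ M, and let p, q, r be distinct primes with p dividing the order of K, q dividing the order of M/K and r dividing the order of G/M. Then p, q, r are not pairwise non-adjacent in the prime graph of G: G has an element of order pq, pr or qr. -/
theorem result {G : Type*} [Group G] [Finite G] (K M : Subgroup G) [K.Normal] [M.Normal] (hKM : K ≤ M)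
    (p q r : ℕ) (hp : p.Prime) (hq : q.Prime) (hr : r.Prime) (hpq : p ≠ q) (hpr : p ≠ r) (hqr : q ≠ r)
    (hpK : p ∣ Nat.card ↥K) (hqM : q ∣ Nat.card ↥M / Nat.card ↥K) (hrG : r ∣ Nat.card G / Nat.card ↥M) :
    (∃ x : G, orderOf x = p * q) ∨ (∃ x : G, orderOf x = p * r) ∨ (∃ x : G, orderOf x = q * r) := by
  by_contra hcon
  push Not at hcon
  obtain ⟨h1, h2, h3⟩ := hcon
  obtain ⟨P, hPK, hP, hP1, hPN⟩ := frat K hp hpK
  set N := Subgroup.normalizer (P : Set G) with hN
  have hdiv : ∀ A B : Subgroup G, A ≤ B → Nat.card B / Nat.card A = A.relIndex B := fun A B h => by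
    rw [← (A.subgroupOf B).card_mul_index, Nat.card_congr (Subgroup.subgroupOfEquivOfLe h).toEquiv,
      Nat.mul_div_cancel_left _ Nat.card_pos]
    rfl
  have hq1 : q ∣ Nat.card (M.subgroupOf N) := by
    rw [hdiv K M hKM] at hqM
    have e : M ⊓ N ⊔ K = M := by
      refine le_antisymm (sup_le inf_le_left hKM) fun m hm => ?_
      have : m ∈ ((N ⊔ K : Subgroup G) : Set G) := hPN.ge (Subgroup.mem_top m)
      rw [Subgroup.mul_normal] at this
      obtain ⟨a, ha, b, hb, rfl⟩ := this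
      exact mul_mem (Subgroup.mem_sup_left ⟨(M.mul_mem_cancel_right (hKM hb)).mp hm, ha⟩)
        (Subgroup.mem_sup_right hb)
    rw [← e, Subgroup.relIndex_sup_right] at hqM
    rw [← Subgroup.inf_subgroupOf_right, Nat.card_congr (Subgroup.subgroupOfEquivOfLe inf_le_right).toEquiv]
    exact hqM.trans (Subgroup.index_dvd_card _)
  obtain ⟨Q, hQM, hQ, hQ1, hQN⟩ := frat (M.subgroupOf N) hq hq1
  have hr1 : r ∣ Nat.card (Subgroup.normalizer (Q : Set N)) := by
    have e1 : Nat.card G / Nat.card M = M.index := by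
      rw [← M.card_mul_index, Nat.mul_div_cancel_left _ Nat.card_pos]
    have e2 : N ⊔ M = ⊤ := eq_top_iff.mpr (hPN.ge.trans (sup_le_sup_left hKM _))
    rw [e1, ← Subgroup.relIndex_top_right, ← e2, Subgroup.relIndex_sup_right, Subgroup.relIndex,
      ← Subgroup.relIndex_top_right, ← hQN, Subgroup.relIndex_sup_right] at hrG
    exact hrG.trans (Subgroup.index_dvd_card _)
  have := Fact.mk hr
  have := Fact.mk hq
  obtain ⟨x, hx⟩ := exists_prime_orderOf_dvd_card' r hr1
  set Q' := Q.map N.subtype with hQ'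
  have hQ'p : IsPGroup q Q' := hQ.map _
  have hfpf : ∀ h : G, q ∣ orderOf h ∨ r ∣ orderOf h → P ⊓ Subgroup.centralizer {h} = ⊥ := by
    intro h hh
    rw [CfsgLib.Frob.fpf_iff]
    intro k hk hkh
    by_contra hk1
    rcases hh with hh | hh
    · obtain ⟨y, hy⟩ := ord_mul hkh hp hq hpq (dvd_ord hp hP hk hk1) hh
      exact h1 y hy
    · obtain ⟨y, hy⟩ := ord_mul hkh hp hr hpr (dvd_ord hp hP hk hk1) hh
      exact h2 y hy
  have hc1 := CfsgLib.Frob.pqCond_subgroup_iff.mp (CfsgLib.Frob.pqCond_of_fpf hP1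
    (Subgroup.map_subtype_le Q) fun h hh hh1 => hfpf h (Or.inl (dvd_ord hq hQ'p hh hh1)))
  have : Nontrivial Q := (Subgroup.nontrivial_iff_ne_bot Q).mpr hQ1
  have := hQ.center_nontrivial
  obtain ⟨z₀, hz₀⟩ := exists_ne (1 : Subgroup.center Q)
  obtain ⟨z, hz⟩ := exists_prime_orderOf_dvd_card' (G := Subgroup.center Q) q
    ((dvd_ord hq ((hQ.to_subgroup _).of_equiv Subgroup.topEquiv.symm) (Subgroup.mem_top z₀) hz₀).trans
      (orderOf_dvd_natCard z₀))
  set z' : G := z.1.1.1 with hz'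
  set x' : G := x.1.1 with hx'
  have hzo : orderOf z' = q := by rw [hz', Subgroup.orderOf_coe, Subgroup.orderOf_coe, Subgroup.orderOf_coe, hz]
  have hxo : orderOf x' = r := by rw [hx', Subgroup.orderOf_coe, Subgroup.orderOf_coe, hx]
  have hw : x.1 * z.1.1 * x.1⁻¹ ∈ Q := (Subgroup.mem_normalizer_iff.mp x.2 _).mp z.1.2
  have hcw : (x' * z' * x'⁻¹) * z' = z' * (x' * z' * x'⁻¹) :=
    congrArg (fun t : Q => (t.1.1 : G)) (Subgroup.mem_center_iff.mp z.2 ⟨_, hw⟩)
  have hwo : orderOf (x' * z' * x'⁻¹) = q := by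
    rw [← hzo]; exact orderOf_injective (MulAut.conj x').toMonoidHom (MulAut.conj x').injective z'
  have hmem := (hc1 z' ⟨_, z.1.2, rfl⟩ (x' * z' * x'⁻¹) ⟨_, hw, rfl⟩ (hzo ▸ hq) (hwo ▸ hq)
    (by rw [hcw, mul_inv_cancel_right]; exact Subgroup.mem_zpowers _)).2 (by rw [hzo]; exact hwo.symm)
  have hxn : Subgroup.zpowers x' ≤ Subgroup.normalizer ((Subgroup.zpowers z' : Subgroup G) : Set G) := by
    rw [Subgroup.zpowers_le]
    refine Subgroup.mem_normalizer_fintype fun n hn => ?_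
    obtain ⟨k, rfl⟩ := Subgroup.mem_zpowers_iff.mp hn
    rw [← conj_zpow]
    exact zpow_mem hmem k
  have hcard := CfsgLib.Coprime.card_sup_dvd_of_le_normalizer hxn
  rw [Nat.card_zpowers, Nat.card_zpowers, hzo, hxo] at hcard
  have hc2 := CfsgLib.Frob.pqCond_subgroup_iff.mp (CfsgLib.Frob.pqCond_of_fpf hP1
    (H := Subgroup.zpowers z' ⊔ Subgroup.zpowers x')
    (sup_le (Subgroup.zpowers_le.mpr z.1.1.2) (Subgroup.zpowers_le.mpr x.1.2)) fun h hh hh1 => hfpf h (by
      have e1 : orderOf h ∣ q * r := (Subgroup.orderOf_dvd_natCard _ hh).trans hcard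
      by_contra hc
      push Not at hc
      have := Nat.Coprime.mul_right ((Nat.Prime.coprime_iff_not_dvd hq).mpr hc.1).symm
        ((Nat.Prime.coprime_iff_not_dvd hr).mpr hc.2).symm
      exact hh1 (orderOf_eq_one_iff.mp (Nat.Coprime.eq_one_of_dvd this e1))))
  have hcm := (hc2 z' (Subgroup.mem_sup_left (Subgroup.mem_zpowers _)) x'
    (Subgroup.mem_sup_right (Subgroup.mem_zpowers _)) (hzo ▸ hq) (hxo ▸ hr) hmem).1
  obtain ⟨y, hy⟩ := ord_mul hcm.symm hq hr hqr (hzo ▸ dvd_rfl) (hxo ▸ dvd_rfl)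
  exact h3 y hy

end Cfsg.Agent.S3634
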