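import Cfsg.Statements.S3641
import Cfsg.Agent.Lib.PSL2Rec.Prime
import Cfsg.Agent.Lib.SylNum.Basic
import Cfsg.Agent.Lib.Fgs.SylowNumber
import Cfsg.Agent.Lib.Count.Basic
import Cfsg.Agent.Lib.DerCls.Base

set_option autoImplicit false
open Cfsg

namespace Cfsg.Agent.S3641

open CfsgLib CfsgLib.PSL2Rec MulAction Subgroup
open scoped OnePoint

section
variable {G : Type*} [Group G] [Finite G]

theorem cyc {p : ℕ} [hp : Fact p.Prime] (hn : Nat.card (Sylow p G) = p + 1) {P R : Sylow p G} {w : G}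
    (hw : w ∈ (P : Subgroup G)) (hR : R ≠ P) (hwR : w ∉ (R : Subgroup G)) (R' : Sylow p G)
    (hR' : R' ≠ P) : ∃ i : ℤ, w ^ i • R = R' := by
  have hz : IsPGroup p (zpowers w) := P.isPGroup'.to_le (zpowers_le.2 hw)
  have h1 := SylNum.card_orbit_sylow_of_isPGroup hz R
  obtain ⟨n, hn'⟩ := hz.exists_card_eq
  obtain ⟨k, -, hk⟩ := (Nat.dvd_prime_pow hp.out).1 (hn' ▸ relIndex_dvd_card (R : Subgroup G) (zpowers w))
  have hk0 : k ≠ 0 := by
    rintro rfl
    exact hwR (relIndex_eq_one.1 hk (mem_zpowers w))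
  have h2 : orbit (zpowers w) R ⊆ {P}ᶜ := by
    rintro _ ⟨u, rfl⟩ h
    refine hR (smul_left_cancel (u : G) (Eq.trans h ?_))
    exact ((smul_sylow_eq_iff _ P).2 (le_normalizer (zpowers_le.2 hw u.2))).symm
  have h3 := Set.eq_of_subset_of_ncard_le h2 (by
    rw [Set.ncard_compl, Set.ncard_singleton, hn, ← Nat.card_coe_set_eq, h1, hk]
    exact Nat.le_self_pow hk0 p)
  obtain ⟨⟨_, i, rfl⟩, h⟩ : R' ∈ orbit (zpowers w) R := by rw [h3]; exact hR'
  exact ⟨i, h⟩

theorem card_range {p : ℕ} [hp : Fact p.Prime] (hn : Nat.card (Sylow p G) = p + 1) :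
    ∃ d < p, Nat.card (toPermHom G (Sylow p G)).range = (p + 1) * p * d := by
  have hp2 := hp.out.two_le
  have : Nontrivial (Sylow p G) := Finite.one_lt_card_iff_nontrivial.mp (by omega)
  obtain ⟨Q, P, hQ⟩ := exists_pair_ne (Sylow p G)
  obtain ⟨y, hy, hyQ⟩ : ∃ y ∈ (P : Subgroup G), y ∉ (Q : Subgroup G) := by
    by_contra h
    push Not at h
    exact hQ (Sylow.ext (P.is_maximal' Q.isPGroup' h))
  have hfix : ∀ w ∈ (P : Subgroup G), ∀ R : Sylow p G, w • R = R ↔ w ∈ (R : Subgroup G) :=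
    fun w hw R => by
      obtain ⟨k, hk⟩ := P.isPGroup' ⟨w, hw⟩
      exact smul_sylow_eq_iff_mem (congrArg Subtype.val hk) R
  have hker : ∀ w ∈ (P : Subgroup G), w • Q = Q → ∀ R : Sylow p G, w • R = R := fun w hw hwQ R => by
    by_cases hR : R = P
    · rw [hR]; exact (hfix w hw P).2 hw
    by_contra h
    obtain ⟨i, hi⟩ := cyc hn hw hR (fun h' => h ((hfix w hw R).2 h')) Q hQ
    have : R = Q := smul_left_cancel (w ^ i) (hi.trans ((stabilizer G Q).zpow_mem hwQ i).symm)
    exact h (this ▸ hwQ)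
  set X := (toPermHom G (Sylow p G)).range
  have : IsPretransitive X (Sylow p G) := ⟨fun a b => by
    obtain ⟨g, hg⟩ := exists_smul_eq G a b
    exact ⟨⟨_, g, rfl⟩, hg⟩⟩
  have h1 := card_orbit_mul_card_stabilizer (H := X) P
  have h2 := card_orbit_mul_card_stabilizer (H := stabilizer X P) Q
  have h3 : orbit (stabilizer X P) Q = {P}ᶜ := Set.ext fun R => ⟨by
      rintro ⟨u, rfl⟩ h
      exact hQ (smul_left_cancel (u : X) (Eq.trans h (Eq.symm u.2))), fun h => by
      obtain ⟨i, hi⟩ := cyc hn hy hQ hyQ R h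
      exact ⟨⟨⟨_, y ^ i, rfl⟩, (hfix _ (zpow_mem hy i) P).2 (zpow_mem hy i)⟩, hi⟩⟩
  rw [h3, Nat.card_coe_set_eq, Set.ncard_compl, Set.ncard_singleton, hn, Nat.add_sub_cancel] at h2
  rw [orbit_eq_univ, Nat.card_univ, hn, ← h2, ← mul_assoc] at h1
  refine ⟨_, ?_, h1.symm⟩
  have h4 : y • Q ≠ P := fun h => hQ (smul_left_cancel y (h.trans ((hfix y hy P).2 hy).symm))
  have h5 : y • Q ≠ Q := fun h => hyQ ((hfix y hy Q).1 h)
  have h6 := Nat.card_le_card_of_injective (fun u : stabilizer (stabilizer X P) Q =>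
    (⟨(u : X) • y • Q, by
      rintro (h | h)
      · exact h4 (smul_left_cancel (u : X) (Eq.trans h (Eq.symm u.1.2)))
      · exact h5 (smul_left_cancel (u : X) (Eq.trans h (Eq.symm u.2)))⟩ : ({P, Q}ᶜ : Set (Sylow p G))))
    fun u v h => by
      obtain ⟨g, hg⟩ := ((v⁻¹ * u : stabilizer (stabilizer X P) Q) : X).2
      have e : ∀ R : Sylow p G, g • R = ((v⁻¹ * u : stabilizer (stabilizer X P) Q) : X) • R :=
        fun R => DFunLike.congr_fun hg R
      have g1 : g • P = P := (e P).trans (v⁻¹ * u).1.2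
      have g2 : g • Q = Q := (e Q).trans (v⁻¹ * u).2
      have g3 : g • y • Q = y • Q := by
        rw [e, coe_mul, coe_mul, mul_smul, coe_inv, coe_inv, inv_smul_eq_iff]
        exact congrArg Subtype.val h
      have g4 := hker (y⁻¹ * (g * y * g⁻¹)) (mul_mem (inv_mem hy)
        ((mem_normalizer_iff.1 ((smul_sylow_eq_iff g P).1 g1) y).1 hy)) (by
          rw [mul_smul, mul_smul, mul_smul, inv_smul_eq_iff.2 g2.symm, g3, inv_smul_smul])
      have g5 : ∀ R : Sylow p G, g • y • R = y • g • R := fun R => by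
        have := g4 (g • R)
        rwa [mul_smul, mul_smul, mul_smul, inv_smul_smul, inv_smul_eq_iff] at this
      have g6 : Commute (toPermHom G (Sylow p G) g) (toPermHom G (Sylow p G) y) := Equiv.ext g5
      refine (inv_mul_eq_one.1 (Subtype.ext (Subtype.ext (Subtype.ext ?_)))).symm
      rw [← hg]
      refine Equiv.ext fun R => ?_
      by_cases hR : R = P
      · rw [hR]; exact g1
      obtain ⟨i, rfl⟩ := cyc hn hy hQ hyQ R hR
      have := DFunLike.congr_fun (g6.zpow_right i).eq Q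
      rw [← map_zpow] at this
      exact this.trans (congrArg (y ^ i • ·) g2)
  rw [Nat.card_coe_set_eq, Set.ncard_compl, Set.ncard_pair hQ.symm, hn] at h6
  omega

theorem ker_le {X : Type*} [Group X] [Finite X] {π : G →* X} (hπ : Function.Surjective π) {p : ℕ}
    [Fact p.Prime] (h : Nat.card (Sylow p G) ≤ Nat.card (Sylow p X)) (S : Sylow p G) :
    π.ker ≤ normalizer ((S : Subgroup G) : Set G) := fun k hk => by
  refine (smul_sylow_eq_iff k S).1 (((Sylow.mapSurjective_surjective hπ p).bijective_of_nat_card_le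
    h).1 (Sylow.ext ?_))
  rw [Sylow.coe_mapSurjective, Sylow.coe_mapSurjective]
  ext x
  constructor
  · rintro ⟨y, hy, rfl⟩
    exact ⟨_, (mem_smul_sylow_iff k y S).1 hy, by simp [MonoidHom.mem_ker.1 hk]⟩
  · rintro ⟨y, hy, rfl⟩
    exact ⟨k * y * k⁻¹, (mem_smul_sylow_iff k _ S).2 (by
        rw [show k⁻¹ * (k * y * k⁻¹) * k = y by group]; exact hy),
      by simp [MonoidHom.mem_ker.1 hk]⟩

theorem pow_modEq {r s a m : ℕ} [hr : Fact r.Prime] [hs : Fact s.Prime] (hrs : r ≠ s) (R : Sylow r G)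
    (h : ∀ S : Sylow s G, (R : Subgroup G) ≤ normalizer ((S : Subgroup G) : Set G))
    (hn : Nat.card (Sylow r G) = s ^ a * m) (hm : ¬ s ∣ m) : s ^ a ≡ 1 [MOD r] := by
  set N := normalizer ((R : Subgroup G) : Set G) with hN
  obtain ⟨Q⟩ : Nonempty (Sylow s N) := inferInstance
  obtain ⟨S, hS⟩ := (Q.isPGroup'.map N.subtype).exists_le_sylow
  obtain ⟨b, hb⟩ := S.isPGroup'.exists_card_eq
  have h1 := Fgs.relIndex_centralizer_modEq_one R.isPGroup' (h S) (fun e =>
    hrs ((Nat.prime_dvd_prime_iff_eq hr.out hs.out).1 (hr.out.dvd_of_dvd_pow (hb ▸ e))))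
  have h2 : centralizer ((R : Subgroup G) : Set G) ⊓ S = (Q : Subgroup N).map N.subtype := by
    refine le_antisymm (fun x hx => ?_) ?_
    · have := Q.is_maximal' (S.isPGroup'.comap_subtype (K := N)) (map_le_iff_le_comap.1 hS)
      refine ⟨⟨x, centralizer_le_normalizer _ hx.1⟩, ?_, rfl⟩
      rw [← this]
      exact hx.2
    · rintro _ ⟨x, hx, rfl⟩
      have hxS : (x : G) ∈ (S : Subgroup G) := hS ⟨x, hx, rfl⟩
      refine ⟨fun y hy => ?_, hxS⟩
      have : y * x * y⁻¹ * (x : G)⁻¹ ∈ (R : Subgroup G) ⊓ S := ⟨by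
          rw [mul_assoc, mul_assoc, ← mul_assoc (x : G)]
          exact mul_mem hy ((mem_normalizer_iff.1 x.2 _).1 (inv_mem hy)),
        (S : Subgroup G).mul_mem ((mem_normalizer_iff.1 (h S hy) _).1 hxS) ((S : Subgroup G).inv_mem hxS)⟩
      rw [(IsPGroup.disjoint_of_ne r s hrs _ _ R.isPGroup' S.isPGroup').eq_bot, mem_bot] at this
      exact mul_inv_eq_iff_eq_mul.1 (mul_inv_eq_one.1 this)
  obtain ⟨c, hc⟩ := Q.isPGroup'.exists_card_eq
  have h3 := Core.card_inf_mul_relIndex (centralizer ((R : Subgroup G) : Set G)) (S : Subgroup G)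
  have h4 : Nat.card G = s ^ (a + c) * (m * (Q : Subgroup N).index) := by
    rw [← card_sylow_mul_card_normalizer R, hn, ← (Q : Subgroup N).card_mul_index, hc]; ring
  rw [h2, card_map_of_injective (subtype_injective _), hc, card_sylow_of_eq h4 (fun e =>
    ((Nat.Prime.dvd_mul hs.out).1 e).elim hm Q.not_dvd_index) S, pow_add, mul_comm (s ^ a)] at h3
  rwa [Nat.eq_of_mul_eq_mul_left (pow_pos hs.out.pos c) h3] at h1

theorem eq_bot (hZ : center G = ⊥) (K : Subgroup G) [hK : K.Normal]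
    (h : ∀ r : ℕ, r.Prime → ∀ S : Sylow r G, K ≤ normalizer ((S : Subgroup G) : Set G)) : K = ⊥ := by
  by_contra hne
  obtain ⟨r, hr, hrK⟩ := Nat.exists_prime_and_dvd (fun e => hne (card_eq_one.1 e))
  have := Fact.mk hr
  obtain ⟨x, hx, hxr⟩ := Core.exists_mem_orderOf_eq_of_dvd_card hr hrK
  obtain ⟨S, hS⟩ := exists_sylow_mem (x := x) (p := r) (k := 1) (by rw [pow_one, ← hxr, pow_orderOf_eq_one])
  have h1 : K ⊓ S ⊓ centralizer ((S : Subgroup G) : Set G) ≠ ⊥ :=
    Core.inf_centralizer_ne_bot_of_isPGroup (p := r) (S.isPGroup'.to_le inf_le_right) S.isPGroup'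
      (le_normalizer_iff.2 fun g hg y hy => ⟨hK.conj_mem y hy.1 g,
        (S : Subgroup G).mul_mem ((S : Subgroup G).mul_mem hg hy.2) ((S : Subgroup G).inv_mem hg)⟩)
      fun e => DerCls.ne_one_of_orderOf hr hxr (mem_bot.1 (e ▸ ⟨hx, hS⟩))
  obtain ⟨⟨z, ⟨hzK, hzS⟩, hzC⟩, hz1⟩ := ne_bot_iff_exists_ne_one.1 h1
  have h2 : centralizer ({z} : Set G) = ⊤ := Count.eq_top_of_sylow_le _ fun s hs => by
    have := Fact.mk hs
    by_cases hsr : s = r
    · subst hsr
      exact ⟨S, fun y hy => mem_centralizer_singleton_iff.2 (hzC y hy)⟩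
    obtain ⟨Q⟩ : Nonempty (Sylow s G) := inferInstance
    refine ⟨Q, fun y hy => mem_centralizer_singleton_iff.2 ?_⟩
    obtain ⟨k, hk⟩ := S.isPGroup' ⟨z, hzS⟩
    have hk' : (y * z * y⁻¹) ^ r ^ k = 1 := by
      rw [conj_pow, show z ^ r ^ k = 1 from congrArg Subtype.val hk]; simp
    have : y * z * y⁻¹ * z⁻¹ ∈ (Q : Subgroup G) ⊓ S := ⟨by
        rw [mul_assoc, mul_assoc, ← mul_assoc z]
        exact mul_mem hy ((mem_normalizer_iff.1 (h s hs Q hzK) _).1 (inv_mem hy)),
      (S : Subgroup G).mul_mem (mem_sylow_of_mem_normalizer hk' S (h r hr S (hK.conj_mem z hzK y)))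
        ((S : Subgroup G).inv_mem hzS)⟩
    rw [(IsPGroup.disjoint_of_ne s r hsr _ _ Q.isPGroup' S.isPGroup').eq_bot, mem_bot] at this
    exact mul_inv_eq_iff_eq_mul.1 (mul_inv_eq_one.1 this)
  refine hz1 (Subtype.ext (mem_bot.1 (hZ ▸ mem_center_iff.2 fun g => ?_)))
  exact mem_centralizer_singleton_iff.1 (h2 ▸ mem_top g)

end

instance : Fact (Nat.Prime 17) := ⟨by norm_num⟩

section
variable {X : Type*} [Group X] [Finite X] [MulAction X (OnePoint (ZMod 17))] (h : AffLine X (ZMod 17))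
include h

omit [Finite X] h in
theorem d_dvd : Nat.card (mults X (ZMod 17)) ∣ 16 := by
  have := card_subgroup_dvd_card (mults X (ZMod 17))
  rwa [Nat.card_units, Nat.card_zmod] at this

omit [Finite X] in
theorem nofix {x : X} {r : ℕ} (hr : r.Prime) (hx : orderOf x = r) (h17 : r ≠ 17)
    (hd : ¬ r ∣ Nat.card (mults X (ZMod 17))) (u : OnePoint (ZMod 17)) : x • u ≠ u := fun e => by
  have := h.isPretransitive
  have h1 := (stabilizer X u).orderOf_dvd_natCard e
  rw [Recog.card_stabilizer_eq u ∞, h.card_stabilizer, hx, Nat.card_zmod] at h1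
  exact ((Nat.Prime.dvd_mul hr).1 h1).elim
    (fun e => h17 ((Nat.prime_dvd_prime_iff_eq hr (by norm_num)).1 e)) hd

theorem neg_one_mem : -1 ∈ mults X (ZMod 17) := by
  by_contra hm
  have h1 : Nat.card (mults X (ZMod 17)) = 1 :=
    Nat.eq_one_of_dvd_coprimes (b := 2 ^ 4) ((odd_card_of_neg_one_notMem hm).coprime_two_right.pow_right 4)
      dvd_rfl d_dvd
  have h2 := h.card_eq
  rw [h1, Nat.card_zmod] at h2
  have := Fact.mk Nat.prime_two
  have := Fact.mk Nat.prime_three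
  obtain ⟨a, ha⟩ := exists_prime_orderOf_dvd_card' (G := X) 2 (by rw [h2]; norm_num)
  obtain ⟨b, hb⟩ := exists_prime_orderOf_dvd_card' (G := X) 3 (by rw [h2]; norm_num)
  have : Nontrivial (OnePoint (ZMod 17)) := ⟨∞, (0 : ZMod 17), OnePoint.infty_ne_coe _⟩
  have h3 := DerCls.card_one_of_sharp (G := X) (Ω := OnePoint (ZMod 17))
    (is_two_pretransitive_iff.2 fun {a b c d} hab hcd => by
      obtain ⟨g, rfl, rfl⟩ := h.two_trans hab
      obtain ⟨k, rfl, rfl⟩ := h.two_trans hcd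
      exact ⟨k * g⁻¹, by simp [mul_smul], by simp [mul_smul]⟩) fun g hg a b hab ha hb => by
      obtain ⟨k, rfl, rfl⟩ := h.two_trans hab
      have e1 : (k⁻¹ * g * k) • (∞ : OnePoint (ZMod 17)) = ∞ := by
        rw [mul_smul, mul_smul, ha, inv_smul_smul]
      obtain ⟨c, hc, hc'⟩ := h.mult e1 (by rw [mul_smul, mul_smul, hb, inv_smul_smul])
      rw [card_eq_one.1 h1, mem_bot] at hc
      have := (h.pow_eq_one_iff_of_mult e1 hc' 1).2 (by rw [hc, one_pow])
      exact hg (by simpa [mul_assoc, inv_mul_eq_one] using this)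
  exact DerCls.not_conj_of_orderOf (by rw [ha, hb]; norm_num) (DerCls.conj_of_card_one h3
    (nofix h Nat.prime_two ha (by norm_num) (by rw [h1]; norm_num))
    (nofix h Nat.prime_three hb (by norm_num) (by rw [h1]; norm_num)))

theorem d_cases : Nat.card (mults X (ZMod 17)) = 8 ∨ Nat.card (mults X (ZMod 17)) = 16 := by
  obtain ⟨s, -, -, -, hsq⟩ := h.swap_of_neg_one (by decide) (neg_one_mem h)
  have h1 := (mults X (ZMod 17)).orderOf_dvd_natCard (hsq (Units.mkOfMulEqOne 6 3 (by decide)))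
  have := Fact.mk Nat.prime_two
  rw [orderOf_eq_prime_pow (p := 2) (n := 2) (by decide) (by decide)] at h1
  have h2 := Nat.le_of_dvd (by norm_num) (d_dvd (X := X))
  have h3 := Nat.card_pos (α := mults X (ZMod 17))
  omega

theorem n_two : 153 ≤ Nat.card (Sylow 2 X) := by
  have := Fact.mk Nat.prime_two
  obtain ⟨s, hs, hs0, hsx, hsq⟩ := h.swap_of_neg_one (by decide) (neg_one_mem h)
  obtain ⟨m, hm, hm'⟩ := hsq (Units.mkOfMulEqOne 6 3 (by decide))
  have hm0 : m • ((0 : ZMod 17) : OnePoint (ZMod 17)) = (0 : ZMod 17) := by rw [hm', mul_zero]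
  have hm1 : m ≠ 1 := fun e => absurd ((h.pow_eq_one_iff_of_mult hm hm' 1).1 (by rw [e, one_pow])) (by decide)
  obtain ⟨S, hS⟩ := exists_sylow_mem (x := m) (p := 2) (k := 3)
    ((h.pow_eq_one_iff_of_mult hm hm' _).2 (by decide))
  have hZ : ∀ z ∈ (S : Subgroup X) ⊓ centralizer ((S : Subgroup X) : Set X),
      z • (∞ : OnePoint (ZMod 17)) = ∞ ∧ z • ((0 : ZMod 17) : OnePoint (ZMod 17)) = (0 : ZMod 17) := by
    intro z hz
    have e : z⁻¹ * m * z = m := by rw [mul_assoc, hz.2 m hS, inv_mul_cancel_left]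
    refine (h.fix_or_swap hm1 hm hm0 (e.symm ▸ hm) (e.symm ▸ hm0)).resolve_right fun ⟨h1, h2⟩ => ?_
    obtain ⟨c, -, hc⟩ := h.mult (g := s * z) (by rw [mul_smul, h1, hs0])
      (by rw [mul_smul, h2, hs])
    have hz' : ∀ x : ZMod 17, x ≠ 0 → z • (x : OnePoint (ZMod 17)) = ((1 / (c * x) : ZMod 17) :) :=
      fun x hx => smul_left_cancel s (by
        rw [← mul_smul, hc, hsx _ (one_div_ne_zero (mul_ne_zero c.ne_zero hx)), one_div_one_div])
    have h3 := congrArg (· • ((1 : ZMod 17) : OnePoint (ZMod 17))) (hz.2 m hS)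
    simp only [mul_smul] at h3
    rw [hz' 1 one_ne_zero, hm', hm', hz' _ (by decide), OnePoint.coe_eq_coe] at h3
    have h4 : ((Units.mkOfMulEqOne 6 3 (by decide) * Units.mkOfMulEqOne 6 3 (by decide) :
      (ZMod 17)ˣ) : ZMod 17) = 2 := by decide
    have h5 : (2 : ZMod 17) ≠ 0 := by decide
    rw [h4] at h3
    field_simp at h3
    exact absurd h3 (by decide)
  obtain ⟨⟨z, hz⟩, hz1⟩ := ne_bot_iff_exists_ne_one.1 (Core.inf_centralizer_ne_bot_of_isPGroup (p := 2)
    S.isPGroup' S.isPGroup' le_normalizer fun e => hm1 (mem_bot.1 (e ▸ hS)))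
  have hN : IsPGroup 2 (normalizer ((S : Subgroup X) : Set X)) := fun g => ⟨5, Subtype.ext (by
    have h1 := hZ ((g : X)⁻¹ * z * g) ⟨(mem_normalizer_iff''.1 g.2 z).1 hz.1,
      (mem_normalizer_iff''.1 (Core.normalizer_le_normalizer_centralizer _ g.2) z).1 hz.2⟩
    have h2 : ((g : X) * g) • (∞ : OnePoint (ZMod 17)) = ∞ ∧
        ((g : X) * g) • ((0 : ZMod 17) : OnePoint (ZMod 17)) = (0 : ZMod 17) := by
      rcases h.fix_or_swap (fun e => hz1 (Subtype.ext e)) (hZ z hz).1 (hZ z hz).2 h1.1 h1.2 with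
        ⟨e1, e2⟩ | ⟨e1, e2⟩ <;> simp only [mul_smul, e1, e2, and_self]
    obtain ⟨c, -, hc⟩ := h.mult h2.1 h2.2
    have := (h.pow_eq_one_iff_of_mult h2.1 hc 16).2 (ZMod.units_pow_card_sub_one_eq_one 17 c)
    rwa [← pow_two, ← pow_mul] at this)⟩
  obtain ⟨k, hk⟩ := hN.exists_card_eq
  have h1 := card_sylow_mul_card_normalizer S
  rw [hk, h.card_eq, Nat.card_zmod] at h1
  refine Nat.le_of_dvd Nat.card_pos ((Nat.Coprime.pow_right k (by norm_num : Nat.Coprime 153 2)).dvd_of_dvd_mul_right ?_)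
  rw [h1]
  exact ⟨2 * Nat.card (mults X (ZMod 17)), by ring⟩

theorem n_three : 136 ≤ Nat.card (Sylow 3 X) := by
  have := Fact.mk Nat.prime_three
  obtain ⟨s, hs, hs0, hsx, -⟩ := h.swap_of_neg_one (by decide) (neg_one_mem h)
  obtain ⟨j, hj, hj'⟩ := neg_one_mem h
  obtain ⟨t, ht, ht'⟩ := h.trans 7
  obtain ⟨x, hx, hx0, hx'⟩ : ∃ x : X, x • (∞ : OnePoint (ZMod 17)) = (7 : ZMod 17) ∧
      x • ((0 : ZMod 17) : OnePoint (ZMod 17)) = ∞ ∧
      ∀ a b : ZMod 17, a * (7 - b) = 1 → x • (a : OnePoint (ZMod 17)) = b := by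
    refine ⟨t * j * s, by simp [mul_smul, hs, hj', ht'], by simp [mul_smul, hs0, hj, ht], fun a b e => ?_⟩
    rw [mul_smul, mul_smul, hsx a (left_ne_zero_of_mul_eq_one e), hj', ht', one_div,
      ← eq_inv_of_mul_eq_one_right e]
    simp
  have h9 : x ^ 9 • (∞ : OnePoint (ZMod 17)) = ∞ := by
    simp only [pow_succ, pow_zero, one_mul, mul_smul]
    rw [hx, hx' 7 2 (by decide), hx' 2 15 (by decide), hx' 15 16 (by decide), hx' 16 8 (by decide),
      hx' 8 9 (by decide), hx' 9 5 (by decide), hx' 5 0 (by decide), hx0]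
  have hc : ∀ u : OnePoint (ZMod 17), x ^ 9 • u = u → x ^ 9 • x • u = x • u := fun u e => by
    rw [← mul_smul, ← pow_succ, pow_succ', mul_smul, e]
  have h7 := hc _ h9
  rw [hx] at h7
  have h2 := hc _ h7
  rw [hx' 7 2 (by decide)] at h2
  have ho : orderOf x = 3 ^ 2 := orderOf_eq_prime_pow (fun e => by
      have := congrArg (· • (∞ : OnePoint (ZMod 17))) e
      simp only [pow_succ, pow_zero, one_mul, mul_smul, one_smul] at this
      rw [hx, hx' 7 2 (by decide), hx' 2 15 (by decide)] at this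
      exact OnePoint.coe_ne_infty _ this)
    (h.eq_one_of_fix_three (OnePoint.infty_ne_coe _) (OnePoint.infty_ne_coe _)
      (by rw [Ne, OnePoint.coe_eq_coe]; decide) h9 h7 h2)
  have hd := d_cases h
  have hX := h.card_eq
  rw [Nat.card_zmod] at hX
  obtain ⟨T, hT⟩ := exists_sylow_mem (x := x) (p := 3) (k := 2) (by rw [← ho, pow_orderOf_eq_one])
  have hT9 : Nat.card (T : Subgroup X) = 3 ^ 2 := card_sylow_of_eq
    (m := 34 * Nat.card (mults X (ZMod 17))) (by rw [hX]; ring) (by omega) T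
  have hTx : zpowers x = T := Core.eq_of_le_of_card_le (zpowers_le.2 hT)
    (by rw [hT9, Nat.card_zpowers, ho])
  have h3 : orderOf (x ^ 3) = 3 := by rw [orderOf_pow' _ (by norm_num), ho]; norm_num
  have h4 := nofix h Nat.prime_three h3 (by norm_num) (by omega)
  have hC : ∀ u : OnePoint (ZMod 17), stabilizer (centralizer ((T : Subgroup X) : Set X)) u = ⊥ :=
    fun u => eq_bot_iff.2 fun c hc => mem_bot.2 (Subtype.ext (by
      have hc' : (c : X) • u = u := hc
      have e : ∀ v : OnePoint (ZMod 17), (c : X) • v = v → (c : X) • x ^ 3 • v = x ^ 3 • v := fun v hv => by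
        rw [← mul_smul, ← c.2 _ (pow_mem hT 3), mul_smul, hv]
      refine h.eq_one_of_fix_three (h4 u).symm (fun e' => h4 u ?_) (h4 _).symm hc' (e _ hc') (e _ (e _ hc'))
      have := congrArg (x ^ 3 • ·) e'
      simp only [← mul_smul, ← pow_add] at this
      rw [this, show 3 + (3 + 3) = orderOf x by rw [ho]; norm_num, pow_orderOf_eq_one, one_smul]))
  have h5 := Nat.card_congr (selfEquivOrbitsQuotientProd hC)
  rw [Nat.card_prod, show Nat.card (OnePoint (ZMod 17)) = 18 from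
    Finite.card_option.trans (by rw [Nat.card_zmod])] at h5
  have h6 := relIndex_centralizer_dvd_card_mulAut (T : Subgroup X)
  have : IsCyclic (T : Subgroup X) := hTx ▸ inferInstance
  rw [IsCyclic.card_mulAut, hT9] at h6
  have h8 : Nat.card (normalizer ((T : Subgroup X) : Set X)) ∈ Nat.divisors 108 := by
    rw [← card_centralizer_mul_relIndex, Nat.mem_divisors]
    exact ⟨Nat.mul_dvd_mul (Dvd.intro_left _ h5.symm) h6, by norm_num⟩
  have h10 := card_sylow_mul_card_normalizer T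
  have h11 := card_sylow_mod (G := X) (p := 3)
  rw [hX] at h10
  rw [show Nat.divisors 108 = {1, 2, 3, 4, 6, 9, 12, 18, 27, 36, 54, 108} by decide] at h8
  simp only [Finset.mem_insert, Finset.mem_singleton] at h8
  rcases h8 with e | e | e | e | e | e | e | e | e | e | e | e <;> rw [e] at h10 <;> omega

end


/-- Let G be a finite group with trivial centre whose set of Sylow numbers (numbers of Sylow r-subgroups, r over the prime divisors of its order) is exactly {18, 136, 153}. Then G is isomorphic to PSL(2, 17) or to PGL(2, 17). -/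
theorem result {G : Type*} [Group G] [Finite G] (hZ : Subgroup.center G = ⊥) (hNS : {c : ℕ | ∃ r : ℕ, r.Prime ∧ r ∣ Nat.card G ∧ c = Nat.card (Sylow r G)} = ({18, 136, 153} : Set ℕ))
    {F : Type*} [Field F] [Fintype F] (hF : Fintype.card F = 17) :
    Nonempty (G ≃* Matrix.ProjectiveSpecialLinearGroup (Fin 2) F) ∨ Nonempty (G ≃* (GL (Fin 2) F ⧸ Subgroup.center (GL (Fin 2) F))) := by
  have hmem : ∀ (r : ℕ) [Fact r.Prime], r ∣ Nat.card G → Nat.card (Sylow r G) = 18 ∨
      Nat.card (Sylow r G) = 136 ∨ Nat.card (Sylow r G) = 153 := fun r hr hd => by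
    simpa using (hNS ▸ ⟨r, hr.out, hd, rfl⟩ : Nat.card (Sylow r G) ∈ ({18, 136, 153} : Set ℕ))
  have hdvd : ∀ (r n : ℕ) [Fact r.Prime], Nat.card (Sylow r G) = n + 1 → r ∣ n := fun r n _ e => by
    have := (Nat.modEq_iff_dvd' (by omega)).1 (e ▸ card_sylow_modEq_one r G).symm
    simpa using this
  have h17 : Nat.card (Sylow 17 G) = 17 + 1 := by
    obtain ⟨r, hr, -, e⟩ : 18 ∈ {c : ℕ | ∃ r : ℕ, r.Prime ∧ r ∣ Nat.card G ∧ c = Nat.card (Sylow r G)} := by
      rw [hNS]; simp
    have := Fact.mk hr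
    obtain rfl := (Nat.prime_dvd_prime_iff_eq hr (by norm_num)).1 (hdvd r 17 e.symm)
    exact e.symm
  have := Fact.mk Nat.prime_two
  have := Fact.mk Nat.prime_three
  have hG : 18 ∣ Nat.card G := by
    obtain ⟨P⟩ : Nonempty (Sylow 17 G) := inferInstance
    exact Dvd.intro _ (h17 ▸ card_sylow_mul_card_normalizer P)
  have h2 : Nat.card (Sylow 2 G) = 153 := by
    have := hmem 2 (by omega)
    have := card_sylow_mod (G := G) (p := 2)
    omega
  have h3 : Nat.card (Sylow 3 G) = 136 := by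
    have := hmem 3 (by omega)
    have := card_sylow_mod (G := G) (p := 3)
    omega
  obtain ⟨d, hd, hX⟩ := card_range h17
  set X := (toPermHom G (Sylow 17 G)).range
  have : IsPretransitive X (Sylow 17 G) := ⟨fun a b => by
    obtain ⟨g, hg⟩ := exists_smul_eq G a b
    exact ⟨⟨_, g, rfl⟩, hg⟩⟩
  obtain ⟨_, -, h, -⟩ := exists_affLine_prime (G := X) (Ω := Sylow 17 G)
    (fun g hg => Subtype.ext (Equiv.ext hg)) h17 hX hd
  have hπ := (toPermHom G (Sylow 17 G)).rangeRestrict_surjective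
  set π := (toPermHom G (Sylow 17 G)).rangeRestrict
  have k2 := ker_le hπ (h2.le.trans (n_two h))
  have k3 := ker_le hπ (h3.le.trans (n_three h))
  have hc := d_cases h
  have hXc := h.card_eq
  rw [Nat.card_zmod] at hXc
  have hk : ∀ (r : ℕ) [Fact r.Prime], ¬ r ∣ Nat.card X → ∀ R : Sylow r G, (R : Subgroup G) ≤ π.ker :=
    fun r hr hd R => by
      rw [← Subgroup.map_eq_bot_iff]
      obtain ⟨n, hn⟩ := (R.isPGroup'.map π).exists_card_eq
      cases n with
      | zero => exact card_eq_one.1 hn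
      | succ n => exact absurd ((dvd_pow_self r n.succ_ne_zero).trans (hn ▸ card_subgroup_dvd_card _)) hd
  have hK : π.ker = ⊥ := eq_bot hZ _ fun r hr S => by
    have := Fact.mk hr
    by_cases hd : r ∣ Nat.card G
    swap
    · obtain ⟨n, hn⟩ := S.isPGroup'.exists_card_eq
      cases n with
      | zero => rw [card_eq_one.1 hn]; exact le_normalizer_of_normal
      | succ n => exact absurd ((dvd_pow_self r n.succ_ne_zero).trans (hn ▸ card_subgroup_dvd_card _)) hd
    rcases hmem r hd with e | e | e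
    · obtain rfl := (Nat.prime_dvd_prime_iff_eq hr (by norm_num)).1 (hdvd r 17 e)
      exact fun k hk => (smul_sylow_eq_iff k S).1 (DFunLike.congr_fun (congrArg Subtype.val hk) S)
    · rcases (Nat.Prime.dvd_mul hr).1 (show r ∣ 3 ^ 3 * 5 from hdvd r 135 e) with e' | e'
      · obtain rfl := (Nat.prime_dvd_prime_iff_eq hr Nat.prime_three).1 (hr.dvd_of_dvd_pow e')
        exact k3 S
      · obtain rfl := (Nat.prime_dvd_prime_iff_eq hr Nat.prime_five).1 e'
        exact absurd (pow_modEq (s := 2) (a := 3) (m := 17) (by norm_num) S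
          (fun T => (hk 5 (by omega) S).trans (k2 T)) e (by norm_num)) (by decide)
    · rcases (Nat.Prime.dvd_mul hr).1 (show r ∣ 2 ^ 3 * 19 from hdvd r 152 e) with e' | e'
      · obtain rfl := (Nat.prime_dvd_prime_iff_eq hr Nat.prime_two).1 (hr.dvd_of_dvd_pow e')
        exact k2 S
      · obtain rfl := (Nat.prime_dvd_prime_iff_eq hr (by norm_num)).1 e'
        exact absurd (pow_modEq (s := 3) (a := 2) (m := 17) (by norm_num) S
          (fun T => (hk 19 (by omega) S).trans (k3 T)) e (by norm_num)) (by decide)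
  have e := MulEquiv.ofBijective π ⟨(MonoidHom.ker_eq_bot_iff π).1 hK, hπ⟩
  have ε := ZMod.ringEquivOfPrime F (by norm_num) hF
  rcases hc with hc | hc
  · obtain ⟨f⟩ := h.iso_psl (by decide) (by rw [hc, ZMod.card]) fun hm => absurd (neg_one_mem h) hm
    exact Or.inl ⟨(e.trans f).trans (Classical.pslMapEquiv ε)⟩
  · obtain ⟨f⟩ := h.iso_pgl (eq_top_of_card_eq _ (by rw [hc, Nat.card_units, Nat.card_zmod]))
      fun h2 => absurd h2 (by decide)
    exact Or.inr ⟨(e.trans f).trans (Classical.pglMapEquiv ε)⟩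

end Cfsg.Agent.S3641
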