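import Cfsg.Statements.S3642
import Cfsg.Agent.Lib.MathRec.DegM
import Cfsg.Agent.Lib.MathRec.U22
import Cfsg.Agent.Lib.MathRec.U24
import Cfsg.Agent.Lib.MathRec.D24

set_option autoImplicit false
open Cfsg

namespace Cfsg.Agent.S3642

open CfsgLib.MathRec CfsgLib.MathRec.DegG CfsgLib.Mathieu CfsgLib.SmallRec

/-- Let M be one of the Mathieu groups M₁₁, M₂₂, M₂₃, M₂₄ and let G be a finite group of the same order as M whose character degree graph equals that of M (same set of primes dividing some irreducible complex character degree, and the same pairs of distinct primes whose product divides some degree). Then G is isomorphic to M. -/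
theorem result {M : Type*} [Group M] [Finite M] (hM : Cfsg.Spor.IsoM11 M ∨ Cfsg.Spor.IsoM22 M ∨ Cfsg.Spor.IsoM23 M ∨ Cfsg.Spor.IsoM24 M)
    {G : Type*} [Group G] [Finite G] (hcard : Nat.card G = Nat.card M) (hΔ : Cfsg.degreePrimes G = Cfsg.degreePrimes M ∧ Cfsg.degreeGraph G = Cfsg.degreeGraph M) :
    Nonempty (G ≃* M) := by
  have E := fun p q hp hq hpq => edge (p := p) (q := q) hΔ.2 hp hq hpq
  rcases hM with ⟨⟨e⟩⟩ | ⟨⟨e⟩⟩ | ⟨⟨e⟩⟩ | ⟨⟨e⟩⟩
  · have h := (Nat.card_congr e.toEquiv).trans card_M11
    haveI := simple_M11
    haveI := e.isSimpleGroup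
    haveI := simple11 (by simp [hcard, h]) (E 5 11 (by norm_num) (by norm_num) (by decide)
      (deg11 h).1) fun f => absurd (f.symm.trans (hcard.trans h)) (by decide)
    exact (uniq_M11 (hcard.trans h)).map (·.trans e.symm)
  · have h := (Nat.card_congr e.toEquiv).trans card_M22
    haveI := simple_M22
    haveI := e.isSimpleGroup
    obtain ⟨_, _, _, _, c⟩ := T22.exists_cfg h
    haveI := simple11 (by simp [hcard, h]) (E 5 11 (by norm_num) (by norm_num) (by decide)
      ((c.ex_dg h (d := 55) (by decide)).imp fun _ f => f.symm.dvd)) fun _ =>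
        E 3 11 (by norm_num) (by norm_num) (by decide)
          ((c.ex_dg h (d := 99) (by decide)).imp fun _ f => by rw [f]; decide)
    exact (uniq_M22 (hcard.trans h)).map (·.trans e.symm)
  · have h := (Nat.card_congr e.toEquiv).trans card_M23
    haveI := simple_M23
    haveI := e.isSimpleGroup
    haveI := simple23 (by simp [hcard, h]) (E 11 23 (by norm_num) (by norm_num) (by decide)
      (deg23 h).1) fun f => absurd (f.symm.trans (hcard.trans h)) (by decide)
    exact (uniq_M23 (hcard.trans h)).map (·.trans e.symm)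
  · have h := (Nat.card_congr e.toEquiv).trans card_M24
    haveI := simple_M24
    haveI := e.isSimpleGroup
    haveI := simple23 (by simp [hcard, h]) (E 11 23 (by norm_num) (by norm_num) (by decide)
      ((deg24 h).imp fun _ f => by rw [f]; decide)) fun _ =>
        E 7 23 (by norm_num) (by norm_num) (by decide) ((deg24 h).imp fun _ f => by rw [f]; decide)
    exact (uniq_M24 (hcard.trans h)).map (·.trans e.symm)

end Cfsg.Agent.S3642
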