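import Cfsg.Statements.S4429
import Cfsg.Agent.Lib.MathRec.T11

set_option autoImplicit false
open Cfsg

namespace Cfsg.Agent.S4429

/-- Let G be a simple group of order 7920. Then G has exactly ten irreducible complex characters, and their degrees, listed with multiplicity, are 1, 10, 10, 10, 11, 16, 16, 44, 45, 55: for every natural number n, the number of irreducible characters of degree n is 1 if n ∈ {1, 11, 44, 45, 55}, 3 if n = 10, 2 if n = 16, and 0 otherwise. -/
theorem result {G : Type*} [Group G] [Finite G] [IsSimpleGroup G] (hG : Nat.card G = 7920) : Nat.card (Cfsg.IrrCharacter G) = 10 ∧ ∀ n : ℕ, Nat.card {χ : Cfsg.IrrCharacter G // Cfsg.charDegree (χ : G → ℂ) = n} = (if n = 1 ∨ n = 11 ∨ n = 44 ∨ n = 45 ∨ n = 55 then 1 else if n = 10 then 3 else if n = 16 then 2 else 0) := by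
  open CfsgLib CfsgLib.Char CfsgLib.ChTab CfsgLib.Tuan CfsgLib.MathRec.T11 in
  classical
  haveI := Fintype.ofFinite G
  obtain ⟨x, hx⟩ := exists_syl (G := G) (p := 11) (by rw [hG]; norm_num) (by rw [hG]; norm_num)
  obtain ⟨y, hy⟩ := exists_syl (G := G) (p := 5) (by rw [hG]; norm_num) (by rw [hG]; norm_num)
  obtain ⟨-, -, l, hn, hm, h⟩ := table hG hx hy
  have e : l.map dg = [1, 10, 10, 10, 11, 16, 16, 44, 45, 55] := by
    have : l.map dg = (l.map (row x y)).map (·.1) := by simp [row]
    rcases h with h | h <;> rw [this, h] <;> rfl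
  refine ⟨?_, fun n => ?_⟩
  · have := count_row hn hm (fun _ => ()) ()
    have h2 := congrArg List.length e
    simp only [List.length_map] at h2
    simp only [List.map_const', List.count_replicate_self, Finset.filter_true, h2] at this
    rw [Nat.card_eq_fintype_card, ← Finset.card_univ, ← this]; rfl
  · have := count_row hn hm dg n
    rw [Nat.card_eq_fintype_card, Fintype.card_subtype]
    refine this.symm.trans ?_
    rw [e]
    simp only [List.count_cons, List.count_nil, beq_iff_eq]
    split_ifs <;> omega

end Cfsg.Agent.S4429
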