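import Cfsg.Statements.S3643
import Cfsg.Agent.Lib.SmallRec.QSoc
import Cfsg.Agent.Lib.MathRec.DegS
import Cfsg.Agent.Lib.MathRec.U11
import Cfsg.Agent.Lib.MathRec.U12
import Cfsg.Agent.Lib.SmallSimple.Check
import Cfsg.Agent.Lib.Mathieu.Simple
import Cfsg.Agent.Lib.Schur.Hopf
import Cfsg.Agent.Lib.SL2.PSL
import Cfsg.Agent.S0228
import Cfsg.Agent.S2034
import Cfsg.Agent.S2060
import Cfsg.Agent.S4429

set_option autoImplicit false
open Cfsg

namespace Cfsg.Agent.S3643

open CfsgLib CfsgLib.Char CfsgLib.ChTab CfsgLib.MathRec CfsgLib.Tuan CfsgLib.SmallRec CfsgLib.DefectOne Subgroup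

theorem chk0 : (allDivs 8640 92).all (fun m => m % 4 != 0 ||
    [660, 7920, 95040, 15840, 47520].contains (11 * m) || SmallSimple.tst (11 * m) 308 (11, 0)) = true := by
  decide +kernel

theorem chk1 : ∀ n ∈ [15840, 47520], frcN (divs n 217) (fun Ds =>
    ropts Ds n 11 (fun _ _ => true) (fun _ _ _ => true) fun A =>
      !btOK 11 (DegS.qs n) A || DegS.kill Ds n 11 5 A) = true := by decide +kernel

theorem chk2 : (allDivs 95040 308).all (fun d => d % 11 != 1 || d == 1 || !decide (IsPrimePow d)) = true := by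
  decide +kernel

theorem card11 {G : Type*} [Group G] [Finite G] [IsSimpleGroup G] (hG : ¬ IsMulCommutative G)
    (h1 : Nat.card G ∣ 95040) (h : 11 ∣ Nat.card G) : Nat.card G ∈ [660, 7920, 95040] := by
  have hna : ∃ a b : G, a * b ≠ b * a := by
    by_contra! h
    exact hG ⟨⟨h⟩⟩
  have := Fact.mk (show Nat.Prime 11 by norm_num)
  have := Fact.mk Nat.prime_five
  obtain ⟨x, hx⟩ := exists_syl (G := G) (p := 11) h fun e => absurd (e.trans h1) (by decide)
  obtain ⟨ζ, hζ, ⟨D⟩⟩ := exists_data hx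
  obtain ⟨m, hm⟩ := h
  have h2 := List.all_eq_true.mp chk0 m (mem_allDivs (by decide) (by decide)
    ((Nat.mul_dvd_mul_iff_left (by decide : 0 < 11)).mp (hm ▸ h1)))
  have h4 := SmallSimple.four_dvd hG
  rw [← hm, Bool.or_eq_true, Bool.or_eq_true, List.contains_iff_mem, bne_iff_ne] at h2
  have h3 := (h2.resolve_right (SmallSimple.not_tst hG)).resolve_left (by omega)
  by_contra h5
  have h6 : Nat.card G ∈ [15840, 47520] := by
    simp only [List.mem_cons, List.not_mem_nil] at h3 h5 ⊢; tauto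
  have hD := good_divs (N := Nat.card G) (S := 217) Nat.card_pos (by simp at h6; omega)
  obtain ⟨A, a1, a2⟩ := ropts_sound' hna hx hζ D rfl hD (frcN_eq _ _ ▸ chk1 _ h6) rfl fun _ _ _ => rfl
  rw [a1.btOK hx hζ (DegS.qs_spec _), DegS.kill_eq hna hx (by decide) a1 hD] at a2
  exact Bool.false_ne_true a2

theorem degs : (∃ χ : IrrCharacter Spor.M12, 5 * 11 ∣ dg χ) ∧ ∃ χ : IrrCharacter Spor.M12, 3 * 11 ∣ dg χ := by
  classical
  have := Mathieu.simple_M12
  have hG := Mathieu.card_M12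
  have := Fact.mk (show Nat.Prime 11 by norm_num)
  have := Fact.mk Nat.prime_five
  obtain ⟨x, hx⟩ := exists_syl (G := Spor.M12) (p := 11) (by rw [hG]; norm_num) (by rw [hG]; norm_num)
  obtain ⟨w, hw⟩ := exists_syl (G := Spor.M12) (p := 5) (by rw [hG]; norm_num) (by rw [hG]; norm_num)
  obtain ⟨ζ, hζ, ⟨D⟩⟩ := exists_data hx
  obtain ⟨j, h1, h2, -⟩ := exists_invol hw (T12.data hG hx hζ D hw).2.2.2.2.2
  obtain ⟨-, l, -, -, a, b, -, h⟩ := T12.Cfg.table hG ⟨hx, hw, h1, h2⟩
  have k : ∀ r ∈ T12.tab a b, ∃ χ : IrrCharacter Spor.M12, dg χ = r.1 := fun r hr => by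
    obtain ⟨χ, -, rfl⟩ := List.mem_map.1 (h ▸ hr)
    exact ⟨χ, rfl⟩
  exact ⟨(k (55, 0, 0, 0, -5) (by cases b <;> simp [T12.tab])).imp fun _ e => e.symm.dvd,
    (k (66, 0, 1, 1, 6) (by simp [T12.tab])).imp fun _ e => ⟨2, e⟩⟩

/-- Let G be a finite group of the same order as the Mathieu group M₁₂ whose character degree graph equals that of M₁₂ (same primes dividing some irreducible complex character degree, same pairs of distinct primes whose product divides some degree). Then G is isomorphic to M₁₂ or to the direct product of the alternating group of degree 4 with M₁₁. -/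
theorem result {G : Type*} [Group G] [Finite G] (hcard : Nat.card G = Nat.card ↥Cfsg.Spor.M12) (hΔ : Cfsg.degreePrimes G = Cfsg.degreePrimes ↥Cfsg.Spor.M12 ∧ Cfsg.degreeGraph G = Cfsg.degreeGraph ↥Cfsg.Spor.M12) :
    Nonempty (G ≃* ↥Cfsg.Spor.M12) ∨ Nonempty (G ≃* alternatingGroup (Fin 4) × ↥Cfsg.Spor.M11) := by
  rw [Mathieu.card_M12] at hcard
  have p11 : Nat.Prime 11 := by norm_num
  have := Fact.mk p11
  obtain ⟨χ, hχ⟩ := edge hΔ.2 Nat.prime_five p11 (by decide) degs.1
  obtain ⟨ψ, hψ⟩ := edge hΔ.2 Nat.prime_three p11 (by decide) degs.2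
  obtain ⟨x, hx⟩ := exists_syl (G := G) (p := 11) (by rw [hcard]; norm_num) (by rw [hcard]; norm_num)
  obtain ⟨L, _, h⟩ := qsoc hx (cent_core (Q := 1) hx (by simp) (fun d h1 h2 h3 => by
    simpa [h2, h3] using List.all_eq_true.1 chk2 d (mem_allDivs (by decide) (by decide) (hcard ▸ h1)))
    (Or.inl rfl) _ (Core.not_dvd_card_pPrimeCore p11 G)) ⟨χ, dvd_of_mul_left_dvd hχ⟩
  have := h.simple
  have h1 := card11 h.nc (hcard ▸ dvd_of_mul_left_dvd (QS.card_dvd L)) h.dvd
  simp only [List.mem_cons, List.not_mem_nil, or_false] at h1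
  rcases h1 with h1 | h1 | h1
  · obtain ⟨e, f, a1, a2, a3⟩ := h.sq_le χ
    obtain ⟨c, hc⟩ := (center L).index_dvd_card
    have a4 := L.card_mul_index
    rw [hc, h.index_center, h1, hcard] at a4
    have a5 : e ∣ 144 := a1.trans ⟨c, by linarith⟩
    have a6 := Nat.le_of_dvd (Nat.pos_of_ne_zero fun e0 => (Nat.pos_of_dvd_of_pos (Tuan.dg_dvd χ) Nat.card_pos).ne'
      (by rw [a2, e0, mul_zero])) ((Nat.Coprime.coprime_dvd_right a5 (by decide)).dvd_of_dvd_mul_left
        (a2 ▸ hχ))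
    nlinarith
  · obtain ⟨e⟩ := uniq_M11 h1
    have k1 : (e.toMonoidHom.comp ((QuotientGroup.mk' (pPrimeCore 11 G)).subgroupMap L)).ker = center L := by
      rw [MonoidHom.ker_comp_of_injective _ _ e.injective, h.ker]
    obtain ⟨f, hf⟩ := Schur.exists_surj_ker S2034.result ⟨e.surjective.comp
      (MonoidHom.subgroupMap_surjective _ L), k1.le, h.perf ▸ le_top⟩
    have h2 := card_dvd_of_surjective f hf
    rw [k1, Nat.card_congr Multiplicative.toAdd, Nat.card_zmod, Nat.dvd_one] at h2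
    have := (inferInstance : L.Normal).map _ (QuotientGroup.mk'_surjective (pPrimeCore 11 G))
    have h3 := index_dvd_aut (L.map (QuotientGroup.mk' (pPrimeCore 11 G)))
    rw [h.cbot, index_bot, Nat.card_congr (MulAut.congr e).toEquiv,
      card_eq_card_quotient_mul_card_subgroup (Inn Spor.M11), S2060.result, one_mul] at h3
    obtain ⟨φ⟩ := h.prod (QS.sup_eq_top (by
      rw [← (pPrimeCore 11 G).card_mul_index, h1, ← Mathieu.card_M11]
      exact Nat.mul_le_mul_left _ (Nat.le_of_dvd Nat.card_pos (h3.trans (card_range_dvd _)))))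
      (card_eq_one.1 h2)
    have h4 := Nat.card_congr φ.toEquiv
    rw [Nat.card_prod, h1, hcard] at h4
    obtain ⟨α, β, h5⟩ := mem_deg_prod.1 ((SL2.charDegrees_congr φ).le (⟨ψ, rfl⟩ : dg ψ ∈ charDegrees G))
    have h6 : 3 ∣ dg α → ¬ 11 ∣ dg α := by
      have h7 := ((S4429.result h1).2 (dg α)).symm.trans_ne
        (Nat.card_ne_zero.2 ⟨⟨⟨α, rfl⟩⟩, Subtype.finite⟩)
      split_ifs at h7 <;> omega
    have h7 := Tuan.dg_dvd β
    have h8 := ChDeg.deg_sq_le_index_of_le_center β.2 _ le_rfl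
    have h9 := (center (pPrimeCore 11 G)).card_mul_index
    rw [show Nat.card (pPrimeCore 11 G) = 12 by omega] at h7 h9
    replace hψ : 3 * 11 ∣ dg α * dg β := h5 ▸ hψ
    have b1 : 11 ∣ dg α := (p11.dvd_mul.1 (dvd_of_mul_left_dvd hψ)).resolve_right fun e =>
      absurd (e.trans h7) (by decide)
    have b2 : 3 ≤ dg β := Nat.le_of_dvd (Nat.pos_of_dvd_of_pos h7 (by decide))
      ((Nat.prime_three.dvd_mul.1 (dvd_of_mul_right_dvd hψ)).resolve_left fun e => h6 e b1)
    obtain ⟨g⟩ := S0228.result (G := pPrimeCore 11 G) (by omega) fun z hz hc => by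
      have := Nat.le_of_dvd Nat.card_pos (hz ▸ orderOf_dvd_natCard _ hc)
      nlinarith
    exact Or.inr ⟨φ.trans ((e.prodCongr g).trans MulEquiv.prodComm)⟩
  · have := h.isSimpleGroup (h1.trans hcard.symm)
    exact Or.inl (uniq_M12 hcard)

end Cfsg.Agent.S3643
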