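import Cfsg.Statements.S4775
import Cfsg.Agent.Lib.Sz.CharTable
import Cfsg.Agent.Lib.Sz.Models

set_option autoImplicit false
open Cfsg

namespace Cfsg.Agent.S4775

open CfsgLib.Sz CfsgLib.Char

/-- Let F be a finite field with q = 2^(2m+1) ≥ 8 elements and let S be isomorphic to the Suzuki group over F. Then the vertices of the character degree graph of S are 2 and the primes dividing (q − 1)(q² + 1); the primes dividing (q − 1)(q² + 1) are pairwise adjacent, and 2 is adjacent exactly to the primes dividing q − 1. -/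
theorem result (F : Type*) [Field F] [Fintype F] (m : ℕ) (hm : 1 ≤ m) (q : ℕ) (hq : Fintype.card F = q) (hqm : q = 2 ^ (2 * m + 1)) {S : Type*} [Group S] [Finite S] (hS : Nonempty (S ≃* ↥(Cfsg.Lie.Sz F (2 ^ (m + 1))))) : Cfsg.degreePrimes S = {r : ℕ | r.Prime ∧ (r = 2 ∨ r ∣ (q - 1) * (q ^ 2 + 1))} ∧ ∀ r s : ℕ, (Cfsg.degreeGraph S).Adj r s ↔ (r ≠ s ∧ r.Prime ∧ s.Prime ∧ ((r ∣ (q - 1) * (q ^ 2 + 1) ∧ s ∣ (q - 1) * (q ^ 2 + 1)) ∨ (r = 2 ∧ s ∣ q - 1) ∨ (s = 2 ∧ r ∣ q - 1))) := by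
  subst hq
  obtain ⟨e⟩ := hS
  replace e := e.trans (lieSzEquiv hqm).symm
  generalize tits hqm = τ at e
  have hF' : Nat.card F = 2 ^ (2 * m + 1) := Nat.card_eq_fintype_card.trans hqm
  have hdeg : ∀ d, d ∈ Cfsg.charDegrees S ↔ ∃ χ, Cfsg.IsIrrCharacter τ.grp χ ∧ χ 1 = d := by
    intro d
    constructor
    · rintro ⟨χ, rfl⟩
      obtain ⟨n, -, hn⟩ := exists_irr_one_eq_nat χ.2
      refine ⟨_, isIrr_comp_mulEquiv e.symm χ.2, ?_⟩
      simp [Cfsg.charDegree, hn]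
    · rintro ⟨χ, hχ, hd⟩
      refine ⟨⟨_, isIrr_comp_mulEquiv e hχ⟩, ?_⟩
      simp [Cfsg.charDegree, hd]
  simp only [Tits.exists_irr_degree_iff hm hF', Nat.card_eq_fintype_card] at hdeg
  obtain ⟨D, rfl⟩ := τ.exists_toriData hm hF'
  have h12 := D.c₁₂
  rw [D.c₁, D.c₂, ← hqm, Nat.card_eq_fintype_card] at h12
  generalize Fintype.card F + 2 ^ (D.m + 1) + 1 = a at h12 hdeg
  generalize Fintype.card F - 2 ^ (D.m + 1) + 1 = b at h12 hdeg
  generalize Fintype.card F - 1 = c at hdeg ⊢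
  have h2 : ∀ {r n : ℕ}, r.Prime → r ∣ 2 ^ n → r = 2 := fun hr h =>
    (Nat.prime_dvd_prime_iff_eq hr Nat.prime_two).1 (hr.dvd_of_dvd_pow h)
  have hq2 : ∀ {r : ℕ}, r.Prime → r ∣ Fintype.card F ^ 2 → r = 2 := fun hr h => h2 hr (hqm ▸ hr.dvd_of_dvd_pow h)
  have h2m : 2 ∣ 2 ^ D.m := dvd_pow_self 2 (by have := D.hm; omega)
  rw [← h12] at hdeg ⊢
  constructor
  · ext r
    simp only [Cfsg.degreePrimes, hdeg, Set.mem_ofPred_eq]
    refine and_congr_right fun hr => ⟨?_, ?_⟩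
    · rintro ⟨d, rfl | rfl | rfl | rfl | rfl | rfl, h⟩
      · exact absurd (Nat.dvd_one.1 h) hr.ne_one
      · exact Or.inl (hq2 hr h)
      · exact ((Nat.Prime.dvd_mul hr).1 h).imp (h2 hr) fun h => h.mul_right _
      · exact Or.inr (h.mul_left _)
      · exact Or.inr (h.trans ⟨a, by ring⟩)
      · exact Or.inr (h.trans ⟨b, by ring⟩)
    · rintro (rfl | h)
      · exact ⟨_, Or.inr (Or.inr (Or.inl rfl)), h2m.mul_right _⟩
      · rcases (Nat.Prime.dvd_mul hr).1 h with h | h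
        · exact ⟨_, Or.inr (Or.inr (Or.inl rfl)), h.mul_left _⟩
        · exact ⟨_, Or.inr (Or.inr (Or.inr (Or.inl rfl))), h⟩
  · intro r s
    simp only [Cfsg.degreeGraph, hdeg]
    refine and_congr_right fun hrs => and_congr_right fun hr => and_congr_right fun hs => ?_
    have hcop : ∀ {d : ℕ}, r ∣ d → s ∣ d → r * s ∣ d := fun h h' =>
      Nat.Coprime.mul_dvd_of_dvd_of_dvd ((Nat.coprime_primes hr hs).2 hrs) h h'
    constructor
    · rintro ⟨d, hd, h⟩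
      have h1 : r ∣ d := (dvd_mul_right r s).trans h
      have h1' : s ∣ d := (dvd_mul_left s r).trans h
      rcases hd with rfl | rfl | rfl | rfl | rfl | rfl
      · exact absurd (Nat.dvd_one.1 h1) hr.ne_one
      · exact absurd ((hq2 hr h1).trans (hq2 hs h1').symm) hrs
      · rcases (Nat.Prime.dvd_mul hr).1 h1 with h1 | h1 <;> rcases (Nat.Prime.dvd_mul hs).1 h1' with h1' | h1'
        · exact absurd ((h2 hr h1).trans (h2 hs h1').symm) hrs
        · exact Or.inr (Or.inl ⟨h2 hr h1, h1'⟩)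
        · exact Or.inr (Or.inr ⟨h2 hs h1', h1⟩)
        · exact Or.inl ⟨h1.mul_right _, h1'.mul_right _⟩
      · exact Or.inl ⟨h1.mul_left _, h1'.mul_left _⟩
      · exact Or.inl ⟨h1.trans ⟨a, by ring⟩, h1'.trans ⟨a, by ring⟩⟩
      · exact Or.inl ⟨h1.trans ⟨b, by ring⟩, h1'.trans ⟨b, by ring⟩⟩
    · have k1 : r ∣ a * b → s ∣ a * b → _ := fun h h' =>
        (⟨_, Or.inr (Or.inr (Or.inr (Or.inl rfl))), hcop h h'⟩ : ∃ d, (d = 1 ∨ d = Fintype.card F ^ 2 ∨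
          d = 2 ^ D.m * c ∨ d = a * b ∨ d = c * b ∨ d = c * a) ∧ r * s ∣ d)
      have k2 : r ∣ c * b → s ∣ c * b → _ := fun h h' =>
        (⟨_, Or.inr (Or.inr (Or.inr (Or.inr (Or.inl rfl)))), hcop h h'⟩ : ∃ d, (d = 1 ∨ d = Fintype.card F ^ 2 ∨
          d = 2 ^ D.m * c ∨ d = a * b ∨ d = c * b ∨ d = c * a) ∧ r * s ∣ d)
      have k3 : r ∣ c * a → s ∣ c * a → _ := fun h h' =>
        (⟨_, Or.inr (Or.inr (Or.inr (Or.inr (Or.inr rfl)))), hcop h h'⟩ : ∃ d, (d = 1 ∨ d = Fintype.card F ^ 2 ∨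
          d = 2 ^ D.m * c ∨ d = a * b ∨ d = c * b ∨ d = c * a) ∧ r * s ∣ d)
      rintro (⟨h, h'⟩ | ⟨rfl, h⟩ | ⟨rfl, h⟩)
      · rcases (Nat.Prime.dvd_mul hr).1 h with h | h <;> rcases (Nat.Prime.dvd_mul hs).1 h' with h' | h'
        · exact k2 (h.mul_right _) (h'.mul_right _)
        · rcases (Nat.Prime.dvd_mul hs).1 h' with h' | h'
          · exact k3 (h.mul_right _) (h'.mul_left _)
          · exact k2 (h.mul_right _) (h'.mul_left _)
        · rcases (Nat.Prime.dvd_mul hr).1 h with h | h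
          · exact k3 (h.mul_left _) (h'.mul_right _)
          · exact k2 (h.mul_left _) (h'.mul_right _)
        · exact k1 h h'
      · exact ⟨_, Or.inr (Or.inr (Or.inl rfl)), hcop (h2m.mul_right _) (h.mul_left _)⟩
      · exact ⟨_, Or.inr (Or.inr (Or.inl rfl)), hcop (h.mul_left _) (h2m.mul_right _)⟩

end Cfsg.Agent.S4775
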