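import Cfsg.Statements.S3670
import Mathlib
import Cfsg.Agent.Lib.SmallRec.Deg
import Cfsg.Agent.Lib.SmallRec.U33
import Cfsg.Agent.Lib.Char.Clifford
import Cfsg.Agent.S0280
import Cfsg.Agent.S0283

set_option autoImplicit false
open Cfsg

namespace Cfsg.Agent.S3670

open CfsgLib.Char CfsgLib.Tuan CfsgLib.SmallRec

/-- The affine group of a ring. -/
abbrev Aff (R : Type) [CommRing R] : Type := Multiplicative R ⋊[(MulAutMultiplicative R).symm.toMonoidHom.comp
  (DistribMulAction.toAddAut Rˣ R)] Rˣ

theorem exists_deg {R : Type} [CommRing R] [Finite R] {ψ : AddChar R ℂ} (h : ψ.IsPrimitive) :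
    ∃ χ : IrrCharacter (Aff R), dg χ = Nat.card Rˣ := by
  classical
  haveI : Finite (Aff R) := Finite.of_equiv _ SemidirectProduct.equivProd.symm
  haveI := Fintype.ofFinite (Aff R)
  let N : Subgroup (Aff R) := SemidirectProduct.rightHom.ker
  let θ : N →* ℂ := ψ.toMonoidHom.comp (MonoidHom.mk' (fun n => n.1.left) fun a b => by
    simp [show a.1.right = 1 from a.2])
  refine ⟨⟨_, isIrr_indFun_of_inertia_le N (isIrr_monoidHom θ) fun g hg => ?_⟩, ?_⟩
  · by_contra hne
    refine h (a := g.right - 1) (fun e => hne (Units.ext (sub_eq_zero.mp e))) (AddChar.ext _ _ fun r => ?_)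
    have := (mem_inertia' N).mp hg ⟨SemidirectProduct.inl (Multiplicative.ofAdd r), SemidirectProduct.rightHom_inl _⟩
    have e : ψ (g.left.toAdd + g.right * r + (g.right * 1 : Rˣ) * ((g.right⁻¹ : Rˣ) * -g.left.toAdd)) =
      ψ r := this
    rw [mul_one, Units.mul_inv_cancel_left, add_neg_cancel_comm] at e
    rw [AddChar.mulShift_apply, sub_mul, one_mul, AddChar.map_sub_eq_div, e, AddChar.one_apply,
      div_self (AddChar.val_isUnit ψ r).ne_zero]
  · apply Nat.cast_injective (R := ℂ)
    rw [dg_cast, Subtype.coe_mk, indFun_one, map_one, mul_one, Subgroup.index_ker,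
      MonoidHom.range_eq_top.mpr SemidirectProduct.rightHom_surjective, Subgroup.card_top]

theorem prim {R S : Type} [CommRing R] [CommRing S] {ψ : AddChar R ℂ} {φ : AddChar S ℂ}
    (h : ψ.IsPrimitive) (h' : φ.IsPrimitive) : ∃ θ : AddChar (R × S) ℂ, θ.IsPrimitive := by
  refine ⟨ψ.compAddMonoidHom (AddMonoidHom.fst R S) * φ.compAddMonoidHom (AddMonoidHom.snd R S),
    fun a ha e => ha (Prod.ext ?_ ?_)⟩ <;> by_contra c
  · exact h c (AddChar.ext _ _ fun r => by simpa using DFunLike.congr_fun e (r, 0))
  · exact h' c (AddChar.ext _ _ fun r => by simpa using DFunLike.congr_fun e (0, r))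

/-- The character degree graph of a finite group has as vertices the primes dividing some irreducible complex character degree, two distinct primes being joined when their product divides some irreducible character degree; two groups have the same character degree graph when they have the same vertices and the same joined pairs. Let F be the field with 9 elements and L = PSU(3,3) realised over F (order 6048). There is a finite solvable group of order 6048 with the same character degree graph as L; so L is not determined by its order together with its character degree graph. -/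
theorem result {F : Type*} [Field F] [Fintype F] (hF : Fintype.card F = 9) :
    ∃ (H : Type) (_ : Group H) (_ : Fintype H), Group.IsSolvable H ∧ Nat.card H = 6048 ∧ Cfsg.degreePrimes H = Cfsg.degreePrimes (Cfsg.PSU 3 F 3) ∧ Cfsg.degreeGraph H = Cfsg.degreeGraph (Cfsg.PSU 3 F 3) := by
  classical
  let R := GaloisField 2 3 × ZMod 18
  have c0 : Nat.card (GaloisField 2 3) = 8 := GaloisField.card 2 3 (by decide)
  have c1 : Nat.card Rˣ = 42 := by
    rw [Nat.card_congr MulEquiv.prodUnits.toEquiv, Nat.card_prod, Nat.card_units, c0,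
      Nat.card_eq_fintype_card, ZMod.card_units_eq_totient]
    decide
  have c2 : Nat.card (Aff R) = 6048 := by
    rw [SemidirectProduct.card, c1, Nat.card_congr Multiplicative.toAdd, Nat.card_prod, c0,
      Nat.card_zmod]
  haveI : Finite (Aff R) := Nat.finite_of_card_ne_zero (by omega)
  obtain ⟨θ, hθ⟩ := prim (AddChar.FiniteField.primitiveChar_to_Complex_isPrimitive (GaloisField 2 3))
    (ZMod.isPrimitive_stdAddChar 18)
  obtain ⟨χ, hχ⟩ := exists_deg hθ
  have c3 : Nat.card (PSU 3 F 3) = 6048 := by
    have := S0280.result (q := 3) hF 3 (by decide)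
    rw [show Nat.gcd 3 (3 + 1) = 1 by decide, show _ * ∏ i ∈ Finset.range 3, _ = 24192 by decide] at this
    omega
  haveI := S0283.result (q := 3) hF 3 le_rfl (by decide)
  haveI : Finite (PSU 3 F 3) := Nat.finite_of_card_ne_zero (by omega)
  obtain ⟨⟨a, ha⟩, ⟨b, hb⟩, c, hc⟩ := U33.degrees c3
  refine ⟨Aff R, inferInstance, Fintype.ofFinite _, Group.isSolvable_of_ker_le_range
    SemidirectProduct.inl SemidirectProduct.rightHom SemidirectProduct.range_inl_eq_ker_rightHom.ge,
    c2, graph_eq (l := [2, 3, 7]) ?_ ?_ ?_ ?_ (by decide)⟩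
  · rw [c2]; decide +kernel
  · rw [c3]; decide +kernel
  · exact fun p hp q hq h => ⟨χ, by rw [hχ, c1]; revert p q; decide⟩
  · intro p hp q hq h
    have : p * q ∣ 6 ∨ p * q ∣ 14 ∨ p * q ∣ 21 := by revert p q; decide
    exact this.elim (fun h => ⟨a, ha ▸ h⟩) fun h => h.elim (fun h => ⟨b, h.trans hb⟩)
      fun h => ⟨c, h.trans hc⟩

end Cfsg.Agent.S3670
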