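import Cfsg.Statements.S3680
import Cfsg.Agent.S5914
import Cfsg.Agent.Lib.Perm.MultiTransBurnside
import Cfsg.Agent.Lib.Perm.Centralizer
import Cfsg.Agent.Lib.Core.MinNormal
import Cfsg.Agent.Lib.Recog.ExtPrim

set_option autoImplicit false
open Cfsg

namespace Cfsg.Agent.S3680

open MulAction Subgroup CfsgLib CfsgLib.Perm

theorem exists_power {G : Type*} [Group G] [Finite G] (M : Subgroup G) [M.Normal] (hM : M ≠ ⊥)
    (hmin : ∀ L : Subgroup G, L.Normal → L ≤ M → L = ⊥ ∨ L = M) (hna : ¬ IsMulCommutative M) :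
    ∃ (T : Type) (_ : Group T) (m : ℕ), 1 ≤ m ∧ IsSimpleGroup T ∧ ¬ IsMulCommutative T ∧
      Nonempty (M ≃* (Fin m → T)) := by
  have := (nontrivial_iff_ne_bot M).2 hM
  obtain ⟨T, _, hT, m, hm, ⟨e⟩⟩ := (Cfsg.Agent.S5914.result (G := M)).1 fun H hH => by
    rcases hmin (H.map M.subtype) inferInstance (map_subtype_le H) with h | h
    · exact Or.inl ((map_eq_bot_iff_of_injective _ M.subtype_injective).1 h)
    · refine Or.inr (eq_top_iff.2 fun x _ => ?_)
      obtain ⟨y, hy, hyx⟩ := h.ge x.2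
      exact Subtype.ext hyx ▸ hy
  refine ⟨T, _, m, hm, hT, fun hc => hna ⟨⟨fun x y => e.injective ?_⟩⟩, ⟨e⟩⟩
  rw [map_mul, map_mul]
  funext i
  exact mul_comm' _ _


/-- The socle of a finite primitive permutation group. Let a finite group G act faithfully and primitively on a set Ω, and let N be the subgroup generated by the minimal normal subgroups of G. Then either N is an elementary abelian p-group for some prime p and acts regularly on Ω (transitively with trivial point stabilizers), or N is isomorphic to a direct product of m ≥ 1 copies of a non-abelian simple group. -/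
theorem result {G Ω : Type*} [Group G] [Finite G] [MulAction G Ω] [FaithfulSMul G Ω] [Finite Ω]
    (hprim : MulAction.IsPreprimitive G Ω) (N : Subgroup G)
    (hN : N = sSup {V : Subgroup G | V.Normal ∧ V ≠ ⊥ ∧ ∀ M : Subgroup G, M.Normal → M ≤ V → M = ⊥ ∨ M = V}) :
    (∃ p : ℕ, p.Prime ∧ IsMulCommutative N ∧ (∀ x : N, x ^ p = 1) ∧
      MulAction.IsPretransitive N Ω ∧ ∀ ω : Ω, MulAction.stabilizer N ω = ⊥) ∨
    (∃ (T : Type) (_ : Group T) (m : ℕ), 1 ≤ m ∧ IsSimpleGroup T ∧ ¬ IsMulCommutative T ∧ Nonempty (N ≃* (Fin m → T))) := by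
  classical
  rcases subsingleton_or_nontrivial G with hG | hG
  · refine Or.inl ⟨2, Nat.prime_two, ⟨⟨fun x y => Subsingleton.elim _ _⟩⟩,
      fun x => Subsingleton.elim _ _, ⟨fun x y => ?_⟩, fun ω => Subsingleton.elim _ _⟩
    obtain ⟨g, hg⟩ := exists_smul_eq G x y
    exact ⟨1, by rw [← hg, Subsingleton.elim g 1, one_smul, one_smul]⟩
  have htr : ∀ K : Subgroup G, K.Normal → K ≠ ⊥ → ∀ x y : Ω, ∃ k ∈ K, k • x = y := by
    intro K hK hK0 x y
    have : IsPretransitive K Ω := by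
      apply IsQuasiPreprimitive.isPretransitive_of_normal
      intro h
      have hx : x ∈ fixedPoints K Ω := by rw [h]; trivial
      exact hK0 (Recog.eq_bot_of_normal_le_stabilizer (α := x) fun k hk => hx ⟨k, hk⟩)
    obtain ⟨k, hk⟩ := exists_smul_eq K x y
    exact ⟨k, k.2, hk⟩
  obtain ⟨a⟩ : Nonempty Ω := by
    by_contra h
    obtain ⟨g, hg⟩ := exists_ne (1 : G)
    exact hg (FaithfulSMul.eq_of_smul_eq_smul (α := Ω) fun x => absurd ⟨x⟩ h)
  obtain ⟨M, hM, hM0, -, hmin⟩ := Core.exists_minimal_normal_le (K := (⊤ : Subgroup G)) top_ne_bot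
  have hreg : ∀ c ∈ centralizer (M : Set G), ∀ ω : Ω, c • ω = ω → c = 1 := fun c hc ω =>
    eq_one_of_commute_of_fix fun b => by
      obtain ⟨m, hm, h⟩ := htr M hM hM0 ω b
      exact ⟨m, (mem_centralizer_iff.1 hc m hm).symm, h⟩
  have hcen : ∀ L : Subgroup G, L.Normal → L ≠ ⊥ → L ≤ centralizer (M : Set G) →
      centralizer (M : Set G) ≤ L := fun L hL hL0 hLM c hc => by
    obtain ⟨l, hl, h⟩ := htr L hL hL0 a (c • a)
    have := hreg _ (mul_mem (inv_mem (hLM hl)) hc) a (by rw [mul_smul, ← h, inv_smul_smul])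
    exact inv_mul_eq_one.1 this ▸ hl
  have hother : ∀ L : Subgroup G, L.Normal → (∀ K : Subgroup G, K.Normal → K ≤ L → K = ⊥ ∨ K = L) →
      L ≠ M → L ≤ centralizer (M : Set G) := fun L hL hLm hne l hl =>
    mem_centralizer_iff.2 fun m hm => commute_of_normal_of_disjoint M L hM hL
      (disjoint_of_minimal_normal M L hM0 hmin hLm hne.symm) m l hm hl
  have hMN : M ≤ N := hN ▸ le_sSup ⟨hM, hM0, hmin⟩
  by_cases huniq : N ≤ M
  · obtain rfl : N = M := le_antisymm huniq hMN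
    by_cases hc : IsMulCommutative N
    · obtain ⟨p, hp, h⟩ := exists_prime_pow_eq_one_of_minimal_normal_comm N hM0 hmin hc
      refine Or.inl ⟨p, hp, hc, fun x => Subtype.ext (h x x.2), ⟨fun x y => ?_⟩, fun ω =>
        eq_bot_iff.2 fun x hx => Subtype.ext (hreg _ (le_centralizer N x.2) ω hx)⟩
      obtain ⟨k, hk, h⟩ := htr N hM hM0 x y
      exact ⟨⟨k, hk⟩, h⟩
    · exact Or.inr (exists_power N hM0 hmin hc)
  obtain ⟨L, ⟨hL, hL0, hLm⟩, hLM⟩ : ∃ L ∈ {V : Subgroup G | V.Normal ∧ V ≠ ⊥ ∧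
      ∀ M : Subgroup G, M.Normal → M ≤ V → M = ⊥ ∨ M = V}, ¬ L ≤ M := by
    by_contra h
    push Not at h
    exact huniq (hN ▸ sSup_le h)
  have hLC := hother L hL hLm fun h => hLM h.le
  have hCL := hcen L hL hL0 hLC
  have hdisj := disjoint_of_minimal_normal M L hM0 hmin hLm fun h => hLM h.ge
  have hNML : N = M ⊔ L := by
    refine le_antisymm (hN ▸ sSup_le fun K ⟨hK, _, hKm⟩ => ?_)
      (sup_le hMN (hN ▸ le_sSup ⟨hL, hL0, hLm⟩))
    by_cases h : K = M
    · exact h.le.trans le_sup_left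
    · exact ((hother K hK hKm h).trans hCL).trans le_sup_right
  obtain ⟨T, _, m, hm, hT, hTc, ⟨e⟩⟩ := exists_power M hM0 hmin fun hc =>
    hM0 (hdisj.eq_bot_of_le ((le_centralizer M).trans hCL))
  have hex : ∀ x : M, ∃ l : L, (l : G) • (x : G) • a = a := fun x => by
    obtain ⟨l, hl, h⟩ := htr L hL hL0 ((x : G) • a) a
    exact ⟨⟨l, hl⟩, h⟩
  choose φ hφ using hex
  have huq : ∀ (x : M) (l : L), (l : G) • (x : G) • a = a → φ x = l := fun x l h => by
    have := hreg _ (hLC (mul_mem (φ x).2 (inv_mem l.2))) a (by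
      rw [mul_smul, inv_smul_eq_iff.2 h.symm, hφ])
    exact Subtype.ext (mul_inv_eq_one.1 this)
  let ψ : M →* G := L.subtype.comp (MonoidHom.mk' φ fun x y => huq _ _ (by
    rw [coe_mul, coe_mul, mul_smul, mul_smul, smul_smul (φ y : G),
      ← mem_centralizer_iff.1 (hLC (φ y).2) x x.2, mul_smul, hφ, hφ]))
  have hψ : ∀ x, ψ x = φ x := fun _ => rfl
  have hrange : ψ.range = L := by
    refine le_antisymm (by rintro _ ⟨x, rfl⟩; exact (φ x).2) fun l hl => ?_
    obtain ⟨x, hx, h⟩ := htr M hM hM0 a (l⁻¹ • a)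
    exact ⟨⟨x, hx⟩, by rw [hψ, huq ⟨x, hx⟩ ⟨l, hl⟩ (by simp [h])]⟩
  have hinj : Function.Injective ψ := (injective_iff_map_eq_one ψ).2 fun x hx => by
    have h1 := hφ x
    rw [← hψ, hx, one_smul] at h1
    refine Subtype.ext (eq_one_of_commute_of_fix (fun b => ?_) h1)
    obtain ⟨l, hl, h⟩ := htr L hL hL0 a b
    exact ⟨l, mem_centralizer_iff.1 (hLC hl) x x.2, h⟩
  let f : M × M →* G := M.subtype.noncommCoprod ψ fun x y =>
    mem_centralizer_iff.1 (hLC (φ y).2) x x.2
  have hf : Function.Injective f := (MonoidHom.noncommCoprod_injective _ _ _).2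
    ⟨M.subtype_injective, hinj, by rwa [range_subtype, hrange]⟩
  have hfr : f.range = N := by
    refine (MonoidHom.noncommCoprod_range _ _ _).trans ?_
    rw [range_subtype, hrange, hNML]
  refine Or.inr ⟨T, _, m + m, by omega, hT, hTc, ⟨?_⟩⟩
  exact ((MulEquiv.subgroupCongr hfr.symm).trans (MonoidHom.ofInjective hf).symm).trans
    ((e.prodCongr e).trans ((MulEquiv.mk (Equiv.sumArrowEquivProdArrow _ _ T).symm fun x y => by
      funext i; cases i <;> rfl).trans (MulEquiv.arrowCongr finSumFinEquiv (MulEquiv.refl T))))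

end Cfsg.Agent.S3680
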