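import Cfsg.Statements.S3726
import Cfsg.Agent.S0339
import Cfsg.Agent.S1230
import Cfsg.Agent.Lib.Bender.Zas
import Cfsg.Agent.Lib.BenderRed.Final
import Cfsg.Agent.Lib.Gold.FactB
import Cfsg.Agent.Lib.CIT.AppTI
import Cfsg.Agent.Lib.Perm.MultiTransBurnside
import Cfsg.Agent.Lib.Perm.Sharp2
import Cfsg.Agent.Lib.Core.MinNormal
import Cfsg.Agent.Lib.FT.OddOrder

set_option autoImplicit false
open Cfsg

namespace Cfsg.Agent.S3726

open MulAction CfsgLib CfsgLib.Perm CfsgLib.StrEmb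

set_option linter.unusedSectionVars false

section
variable {G Ω : Type*} [Group G] [Finite G] [Finite Ω] [MulAction G Ω] [FaithfulSMul G Ω]

theorem exists_move {g : G} (hg : g ≠ 1) : ∃ a : Ω, g • a ≠ a := by
  by_contra h
  exact hg (FaithfulSMul.eq_of_smul_eq_smul (α := Ω) fun y => by
    rw [one_smul]; exact not_not.1 fun e => h ⟨y, e⟩)

theorem psl_of_zass (hZ : IsZassenhausGroup G Ω) [IsSimpleGroup G] (he : Even (Nat.card Ω)) :
    ∃ (F : Type) (_ : Field F) (_ : Fintype F), Nonempty (G ≃* Matrix.ProjectiveSpecialLinearGroup (Fin 2) F) := by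
  have hT := isZT_of_zass hZ
  have hc := zass_three_le_card hZ
  have : Nontrivial Ω := Finite.one_lt_card_iff_nontrivial.mp (by omega)
  obtain ⟨a, b, hab⟩ := exists_pair_ne Ω
  obtain ⟨F, hF⟩ := hT.exists_rootGrp hab
  have h3 := hT.two_mul_le_of_simple hc hab he
  rcases zass_le_or_two_group hZ hab hF with h | ⟨h, u, hu, v, hv, huv⟩
  · obtain ⟨K, _, _, -, -, φ, -⟩ := zass_psl_of_comm hZ hab hF (hT.rootGrp_comm hc hab hF h) (by omega)
    exact ⟨K, inferInstance, inferInstance, ⟨φ⟩⟩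
  · obtain ⟨k, hk⟩ := h.exists_card_eq
    rw [hF.card hab] at hk
    rcases k with _ | k
    · omega
    · obtain ⟨r, hr⟩ := he
      omega

variable (h2 : IsMultiplyPretransitive G Ω 2) {i : ℕ} {t : G} (ht : orderOf t = 2)
  (hC : ∀ g : G, Commute g t → g ≠ 1 → Nat.card (fixedBy Ω g) = i)
include h2

theorem reg_of_comm (A : Subgroup G) [A.Normal] (h0 : A ≠ ⊥) (hA : ∀ x ∈ A, ∀ y ∈ A, x * y = y * x) :
    ∃ R : Subgroup G, R.Normal ∧ (∀ x y : Ω, ∃ r ∈ R, r • x = y) ∧ ∀ x : Ω, ∀ r ∈ R, r • x = x → r = 1 :=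
  ⟨A, inferInstance, normal_transitive_of_two_transitive h2 A h0, fun x r hr h =>
    FaithfulSMul.eq_of_smul_eq_smul (α := Ω) fun y => by
      obtain ⟨n, hn, rfl⟩ := normal_transitive_of_two_transitive h2 A h0 x y
      rw [← mul_smul, hA r hr n hn, mul_smul, h, one_smul]⟩

include ht hC

theorem key : Nat.card (Subgroup.centralizer ({t} : Set G)) + i = Nat.card Ω ∧
    ∀ (a b : Ω) (s : G), a ≠ b → s • a = b → s • b = a → IsConj t s := by
  classical
  have t1 := ne_one_of_orderOf ht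
  have t2 := mul_self_of_orderOf ht
  set C := Subgroup.centralizer ({t} : Set G)
  have := Fintype.ofFinite Ω
  have := Fintype.ofFinite C
  obtain ⟨a, ha⟩ := exists_move (Ω := Ω) t1
  have hm : Nat.card {x : Ω // t • x ≠ x} + i = Nat.card Ω := by
    rw [← hC t (Commute.refl t) t1, add_comm, ← Nat.card_sum]
    exact Nat.card_congr (Equiv.sumCompl fun x : Ω => t • x = x)
  have h1 : Nat.card C ≤ Nat.card {x : Ω // t • x ≠ x} := by
    have hb := sum_card_fixedBy_eq_card_orbits_mul_card_group C Ω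
    rw [← Finset.add_sum_erase _ _ (Finset.mem_univ 1), Finset.sum_congr rfl (g := fun _ => i) fun g hg => by
      rw [← Nat.card_eq_fintype_card]
      exact hC g (Subgroup.mem_centralizer_singleton_iff.1 g.2) fun e =>
        (Finset.mem_erase.1 hg).1 (Subtype.ext e)] at hb
    simp only [fixedBy_one_eq_univ, Finset.sum_const, Finset.card_erase_of_mem (Finset.mem_univ _),
      Finset.card_univ, smul_eq_mul, ← Nat.card_eq_fintype_card, Nat.card_univ] at hb
    have : Nonempty {x : Ω // t • x ≠ x} := ⟨⟨a, ha⟩⟩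
    refine Nat.le_of_dvd Nat.card_pos ((Nat.dvd_add_left (Dvd.intro i rfl)).1 ?_)
    obtain ⟨c, hc⟩ := Nat.exists_eq_succ_of_ne_zero (Nat.card_pos (α := C)).ne'
    rw [hc] at hb ⊢
    exact Dvd.intro_left _ (hb.symm.trans (by rw [← hm, Nat.succ_sub_one, Nat.succ_mul]; ring))
  let W : Set G := {s | s • a = t • a ∧ s • t • a = a}
  let W' : Set G := {s | s ∈ W ∧ IsConj t s}
  have ta : t • t • a = a := smul_smul_of_mul_self t2 a
  choose g hg1 hg2 using fun x : {x : Ω // t • x ≠ x} => exists_smul_pair h2 x.2.symm ha.symm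
  choose h hh using fun s : W' => isConj_iff.1 s.2.2
  have e1 : ∀ (x : {x : Ω // t • x ≠ x}) (w : W), (w * t * g x) • x.1 = a := fun x w => by
    rw [mul_smul, hg1, mul_smul, w.2.2]
  have hW : ∀ (x : {x : Ω // t • x ≠ x}) (w : W), w * t * g x * t * (w * t * g x)⁻¹ ∈ W' := fun x w => by
    have e2 : (w * t * g x) • t • x.1 = t • a := by rw [mul_smul, hg2, mul_smul, ta, w.2.1]
    refine ⟨⟨?_, ?_⟩, isConj_iff.2 ⟨_, rfl⟩⟩
    · rw [mul_smul, mul_smul _ t, inv_smul_eq_iff.2 (e1 x w).symm, e2]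
    · rw [mul_smul, mul_smul _ t, inv_smul_eq_iff.2 e2.symm, smul_smul_of_mul_self t2, e1]
  have h3 := Nat.card_le_card_of_injective (fun p : {x : Ω // t • x ≠ x} × W =>
    ((⟨_, hW p.1 p.2⟩, ⟨(h ⟨_, hW p.1 p.2⟩)⁻¹ * (p.2 * t * g p.1),
      Subgroup.mem_centralizer_singleton_iff.2 (by
        have := hh ⟨_, hW p.1 p.2⟩
        rw [mul_assoc, inv_mul_eq_iff_eq_mul, ← mul_assoc (h _), ← mul_assoc (h _ * t), this,
          inv_mul_cancel_right])⟩) : W' × C)) fun p r e => by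
      have e3 := (Prod.ext_iff.1 e).1
      have e4 := congrArg Subtype.val (Prod.ext_iff.1 e).2
      simp only at e3 e4
      rw [e3, mul_right_inj] at e4
      have e5 : p.1 = r.1 := Subtype.ext (smul_left_cancel _ ((e1 p.1 p.2).trans (e4 ▸ (e1 r.1 r.2).symm)))
      rw [e5] at e4
      exact Prod.ext e5 (Subtype.ext (mul_right_cancel (mul_right_cancel e4)))
  rw [Nat.card_prod, Nat.card_prod] at h3
  have h4 : W'.ncard ≤ W.ncard := Set.ncard_le_ncard fun _ h => h.1
  have : Nonempty W := ⟨⟨t, rfl, ta⟩⟩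
  have h5 := Nat.card_pos (α := W)
  have h6 := Nat.card_pos (α := C)
  simp only [Nat.card_coe_set_eq W, Nat.card_coe_set_eq W'] at h3 h5
  have h7 : W' = W := Set.eq_of_subset_of_ncard_le (fun _ h => h.1) (by nlinarith)
  refine ⟨by nlinarith, fun x y s hxy hx hy => ?_⟩
  obtain ⟨k, k1, k2⟩ := exists_smul_pair h2 hxy ha.symm
  have h8 : k * s * k⁻¹ ∈ W := ⟨by rw [← k2, ← k1, mul_smul, inv_smul_smul, mul_smul, hx],
    by rw [← k2, mul_smul, inv_smul_smul, mul_smul, hy, k1]⟩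
  exact (h7.ge h8).2.trans (isConj_iff.2 ⟨k, rfl⟩).symm

theorem conj_of_ord {w : G} (hw : orderOf w = 2) : IsConj t w :=
  let ⟨a, ha⟩ := exists_move (Ω := Ω) (ne_one_of_orderOf hw)
  (key h2 ht hC).2 a _ w ha.symm rfl (smul_smul_of_mul_self (mul_self_of_orderOf hw) a)

theorem ord_of_swap {a b : Ω} {s : G} (hab : a ≠ b) (h1 : s • a = b) (h3 : s • b = a) : orderOf s = 2 := by
  obtain ⟨g, rfl⟩ := isConj_iff.1 ((key h2 ht hC).2 a b s hab h1 h3)
  rw [orderOf_conj, ht]

theorem card_of_comm {w g : G} (hw : orderOf w = 2) (h : Commute g w) (h1 : g ≠ 1) :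
    Nat.card (fixedBy Ω g) = i := by
  obtain ⟨k, rfl⟩ := isConj_iff.1 (conj_of_ord h2 ht hC hw)
  obtain ⟨g, rfl⟩ := (MulAut.conj k).surjective g
  exact (card_fixedBy_conj k g).trans (hC g ((commute_map_iff (f := MulAut.conj k) (MulAut.conj k).injective).1 h)
    fun e => h1 (by rw [e, map_one]))

theorem inv_of_swap {a b : Ω} {s d : G} (hab : a ≠ b) (h1 : s • a = b) (h3 : s • b = a)
    (ha : d • a = a) (hb : d • b = b) : s * d * s⁻¹ = d⁻¹ := by
  have h4 := mul_self_of_orderOf (ord_of_swap h2 ht hC (s := s * d) hab (by rw [mul_smul, ha, h1])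
    (by rw [mul_smul, hb, h3]))
  rw [inv_eq_of_orderOf (ord_of_swap h2 ht hC hab h1 h3), eq_inv_iff_mul_eq_one, mul_assoc, h4]

theorem mem_of_fix_two (N : Subgroup G) [hN : N.Normal] (htN : t ∈ N) {a b : Ω} (hab : a ≠ b) {d : G}
    (ha : d • a = a) (hb : d • b = b) : d ∈ N := by
  obtain ⟨s, h1, h3⟩ := exists_smul_pair h2 hab hab.symm
  have h : ∀ s : G, s • a = b → s • b = a → s ∈ N := fun s h1 h3 => by
    obtain ⟨g, rfl⟩ := isConj_iff.1 ((key h2 ht hC).2 a b s hab h1 h3)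
    exact hN.conj_mem t htN g
  exact (N.mul_mem_cancel_left (h s h1 h3)).1 (h _ (by rw [mul_smul, ha, h1]) (by rw [mul_smul, hb, h3]))

theorem eq_one_of_fix (hi : i = 0 ∨ i = 2) {d : G} {x y z : Ω} (hxy : x ≠ y) (hyz : y ≠ z) (hxz : x ≠ z)
    (hx : d • x = x) (hy : d • y = y) (hz : d • z = z) : d = 1 := by
  by_contra hd
  obtain ⟨s, s1, s2⟩ := exists_smul_pair h2 hxy hxy.symm
  rcases hi with rfl | rfl
  · have h0 : ∀ g : G, g • y = y → Odd (orderOf g) := fun g hg => Nat.not_even_iff_odd.1 fun he => by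
      obtain ⟨k, hk⟩ := exists_pow_orderOf_two he
      exact (Nat.card_eq_zero.1 (card_of_comm h2 ht hC hk (Commute.refl _) (ne_one_of_orderOf hk))).elim
        (fun h => h.false ⟨y, pow_smul_of_fix hg k⟩) fun h => h.false
    obtain ⟨r, r1, r2⟩ := exists_smul_pair h2 hxz hxz.symm
    obtain ⟨u, u1, u2⟩ := exists_smul_pair h2 hyz hyz.symm
    have h1 : s * r * u * d * (s * r * u)⁻¹ = d⁻¹ := by
      have e1 := inv_of_swap h2 ht hC hyz u1 u2 hy hz
      have e2 := inv_of_swap h2 ht hC hxz r1 r2 (inv_smul_of_fix hx) (inv_smul_of_fix hz)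
      have e3 := inv_of_swap h2 ht hC hxy s1 s2 hx hy
      rw [inv_inv, ← e1] at e2
      rw [← e3]
      conv_rhs => rw [← e2]
      group
    have h3 : s * r * u ∈ Subgroup.centralizer ({d} : Set G) := mem_of_odd_of_mul_self_mem
      (h0 _ (by rw [mul_smul, mul_smul, u1, r2, s1])) (Subgroup.mem_centralizer_singleton_iff.2 (by
        generalize s * r * u = g at h1
        rw [← mul_inv_eq_iff_eq_mul, show g * g * d * (g * g)⁻¹ = g * (g * d * g⁻¹) * g⁻¹ by group, h1,
          ← conj_inv, h1, inv_inv]))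
    rw [Subgroup.mem_centralizer_singleton_iff.1 h3, mul_inv_cancel_right, eq_inv_iff_mul_eq_one] at h1
    exact hd (eq_one_of_odd_of_mul_self (h0 d hy) h1)
  · obtain ⟨u, v, huv, -⟩ := Nat.card_eq_two_iff.1 (hC t (Commute.refl t) (ne_one_of_orderOf ht))
    obtain ⟨g, rfl, rfl⟩ := exists_smul_pair h2 (Subtype.coe_ne_coe.2 huv) hxy
    have w1 := conj_smul_smul (g := g) u.2
    have w2 := conj_smul_smul (g := g) v.2
    have w3 := (orderOf_conj g t).trans ht
    generalize g * t * g⁻¹ = w at w1 w2 w3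
    have h1 : Commute d w := by
      have e := inv_of_swap h2 ht hC hxy s1 s2 (d := w * d) (by rw [mul_smul, hx, w1]) (by rw [mul_smul, hy, w2])
      rw [← conj_mul, inv_of_swap h2 ht hC hxy s1 s2 w1 w2, inv_of_swap h2 ht hC hxy s1 s2 hx hy,
        ← mul_inv_rev, inv_inj] at e
      exact e
    have h3 := Nat.card_le_card_of_injective (![⟨_, hx⟩, ⟨_, hy⟩, ⟨_, hz⟩] : Fin 3 → fixedBy Ω d) (by
      intro a b
      fin_cases a <;> fin_cases b <;> simp [Subtype.ext_iff, hxy, hyz, hxz, hxy.symm, hyz.symm, hxz.symm])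
    rw [card_of_comm h2 ht hC w3 h1 hd, Nat.card_fin] at h3
    omega

theorem fix_eq {g : G} (h : Commute g t) (h1 : g * g ≠ 1) : fixedBy Ω g = fixedBy Ω t := by
  have t2 := mul_self_of_orderOf ht
  have e : ∀ u v : G, Commute u t → u ≠ 1 → Commute v t → v ≠ 1 → fixedBy Ω u ⊆ fixedBy Ω v →
      fixedBy Ω u = fixedBy Ω v := fun u v u1 u2 v1 v2 h =>
    Set.eq_of_subset_of_ncard_le h ((hC v v1 v2).trans (hC u u1 u2).symm).le
  have e2 : ∀ u : G, Commute u t → u * u ≠ 1 → fixedBy Ω u = fixedBy Ω (u * u) := fun u u1 u2 =>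
    e u _ u1 (fun h => u2 (by rw [h, mul_one])) (u1.mul_left u1) u2 fun x hx => by
      rw [mem_fixedBy, mul_smul, hx, hx]
  have e3 : g * t * (g * t) = g * g := by rw [← pow_two, h.mul_pow, pow_two t, t2, mul_one, pow_two]
  have e4 := e2 (g * t) (h.mul_left (Commute.refl t)) (e3 ▸ h1)
  rw [e3, ← e2 g h h1] at e4
  refine e g t h (fun h => h1 (by rw [h, mul_one])) (Commute.refl t) (ne_one_of_orderOf ht) fun x hx => ?_
  have : (g * t) • x = x := e4.ge hx
  rw [mul_smul] at this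
  exact smul_left_cancel g (this.trans (Eq.symm hx))

theorem sq_of_three {x y z : Ω} (hxy : x ≠ y) (hyz : y ≠ z) (hxz : x ≠ z)
    (hx : t • x = x) (hy : t • y = y) (hz : t • z = z) {g : G} (h : Commute g t) : g * g = 1 := by
  by_contra h1
  have h3 := fix_eq h2 ht hC h h1
  obtain ⟨s, s1, s2⟩ := exists_smul_pair h2 hxy hxy.symm
  obtain ⟨r, r1, r2⟩ := exists_smul_pair h2 hxz hxz.symm
  have e : ∀ d : G, d • x = x → d • y = y → d • z = z → Commute (s * r) d := fun d dx dy dz => by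
    have e2 := inv_of_swap h2 ht hC hxz r1 r2 dx dz
    have e3 := inv_of_swap h2 ht hC hxy s1 s2 (inv_smul_of_fix dx) (inv_smul_of_fix dy)
    rw [inv_inv, ← e2] at e3
    rw [Commute, SemiconjBy, ← mul_inv_eq_iff_eq_mul]
    exact Eq.trans (by group) e3
  have e1 := e t hx hy hz
  have e2 := e g (h3.ge hx) (h3.ge hy) (h3.ge hz)
  have e3 : ∀ u : G, Commute u t → u • z = y → u * u = 1 := fun u u1 u2 => by
    by_contra u3
    exact hyz (u2.symm.trans ((fix_eq h2 ht hC u1 u3).ge hz))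
  have e4 : (s * r) • z = y := by rw [mul_smul, r2, s1]
  have e5 := e3 (s * r * g) (e1.mul_left h) (by rw [mul_smul, show g • z = z from h3.ge hz, e4])
  rw [← pow_two, e2.mul_pow, pow_two, e3 _ e1 e4, one_mul, pow_two] at e5
  exact h1 e5

theorem exists_three (hi : 3 ≤ i) : ∃ x y z : Ω, x ≠ y ∧ y ≠ z ∧ x ≠ z ∧ t • x = x ∧ t • y = y ∧ t • z = z := by
  obtain ⟨x, y, z, hx, hy, hz, h1, h3, h4⟩ := (Set.two_lt_ncard_iff (s := fixedBy Ω t)).1
    (hi.trans (hC t (Commute.refl t) (ne_one_of_orderOf ht)).ge)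
  exact ⟨x, y, z, h1, h4, h3, hx, hy, hz⟩

theorem case_one (hi : i = 1) (N : Subgroup G) [N.Normal] [IsSimpleGroup N] (hN : ¬ IsMulCommutative N)
    (htN : t ∈ N) : N = ⊤ ∧ CIT.IsCIT G ∧ ∃ M : Subgroup N, IsStronglyEmbedded M := by
  have : Fact (Nat.Prime 2) := ⟨Nat.prime_two⟩
  have t1 := ne_one_of_orderOf ht
  have h0 : N ≠ ⊥ := fun e => t1 (Subgroup.mem_bot.1 (e ▸ htN))
  have : IsPretransitive N Ω := ⟨fun a b =>
    let ⟨n, hn, h⟩ := normal_transitive_of_two_transitive h2 N h0 a b; ⟨⟨n, hn⟩, h⟩⟩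
  have hU : UniqueFix N Ω := fun w hw => by
    have hw' : orderOf (w : G) = 2 := (Subgroup.orderOf_coe w).trans hw
    obtain ⟨x, hx⟩ := Nat.card_eq_one_iff_exists.1
      ((card_of_comm h2 ht hC hw' (Commute.refl _) (ne_one_of_orderOf hw')).trans hi)
    exact ⟨x, x.2, fun y hy => congrArg Subtype.val (hx ⟨y, hy⟩)⟩
  have ht' : orderOf (⟨t, htN⟩ : N) = 2 := (Subgroup.orderOf_mk t htN).trans ht
  obtain ⟨a, ha⟩ := hU.exists_fix ht'
  obtain ⟨b, hb⟩ := exists_move (Ω := Ω) t1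
  have : Nontrivial Ω := ⟨⟨_, _, hb⟩⟩
  have hM := hU.isStronglyEmbedded_stabilizer (fun e => by
    obtain ⟨c, hc⟩ := exists_ne a
    obtain ⟨n, rfl⟩ := exists_smul_eq N a c
    exact hc (e.ge (Subgroup.mem_top n))) ht' ha
  have hB : Gold.BType N := by
    rcases BenderRed.benderSimple N hN _ hM with h | h | ⟨F, _, _, q, hq, h4, hF, ⟨e⟩⟩
    exacts [Gold.btype_of_isPSLEven h, Gold.btype_of_isoSuzuki h, Gold.btype_of_psu hq h4 hF e]
  obtain ⟨T, hT⟩ := (IsPGroup.of_card (p := 2) (n := 1) ((Nat.card_zpowers _).trans ht')).exists_le_sylow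
  replace hT := hT (Subgroup.mem_zpowers _)
  have h3 : Subgroup.normalizer ((T : Subgroup N) : Set N) ≤ stabilizer N a := fun g hg =>
    mem_of_conj_mem hM ht' ha (hU.fix_of_commute ht' ha
      (hB.central T _ hT (mul_self_of_orderOf ht') _ ((Subgroup.mem_normalizer_iff''.1 hg _).1 hT)))
  have h4 := Nat.le_of_dvd (Nat.pos_of_ne_zero Subgroup.index_ne_zero_of_finite) (Subgroup.index_dvd_of_le h3)
  rw [index_stabilizer_of_transitive] at h4
  replace h4 := h4.trans (T.card_eq_index_normalizer.symm.trans (hB.card T)).le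
  have h5 : (T : Subgroup N).map N.subtype = Subgroup.centralizer ({t} : Set G) :=
    Subgroup.eq_of_le_of_card_ge (by
      rintro _ ⟨g, hg, rfl⟩
      exact Subgroup.mem_centralizer_singleton_iff.2
        (congrArg Subtype.val (hB.central T _ hT (mul_self_of_orderOf ht') g hg)).symm) (by
      have := (key h2 ht hC).1
      rw [Subgroup.card_map_of_injective N.subtype_injective]
      omega)
  refine ⟨eq_top_iff.2 fun g _ => ?_, fun w hw => ?_, _, hM⟩
  · obtain ⟨m, hm⟩ := isConj_iff.1 (hU.isConj ht' (b := ⟨g * t * g⁻¹, Subgroup.Normal.conj_mem ‹_› t htN g⟩)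
      ((Subgroup.orderOf_mk _ _).trans ((orderOf_conj g t).trans ht)))
    replace hm : (m : G) * t * (m : G)⁻¹ = g * t * g⁻¹ := congrArg Subtype.val hm
    refine (N.mul_mem_cancel_left (N.inv_mem m.2)).1 (Subgroup.map_subtype_le (T : Subgroup N) (h5.ge
      (Subgroup.mem_centralizer_singleton_iff.2 ?_)))
    rw [mul_assoc, inv_mul_eq_iff_eq_mul, ← mul_assoc (m : G), ← mul_assoc ((m : G) * t), hm, inv_mul_cancel_right]
  · obtain ⟨k, hk⟩ := T.isPGroup'.exists_card_eq
    have e1 := (key h2 ht hC).1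
    have e2 := (key h2 hw fun g => card_of_comm h2 ht hC hw).1
    rw [← h5, Subgroup.card_map_of_injective N.subtype_injective] at e1
    exact IsPGroup.of_card (n := k) (by omega)

end


/-- Let a finite group G act faithfully and 2-transitively on a finite set Ω, and suppose there is an involution t of G, fixing exactly i points, such that every non-identity element of the centralizer of t also fixes exactly i points. Then G is isomorphic to PSL₂(q) for some finite field of order q, or to a Suzuki group Sz(q) (q = 2^(2m+1) ≥ 8), or G has a normal subgroup acting regularly on Ω. -/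
theorem result {G Ω : Type*} [Group G] [Finite G] [Fintype Ω] [MulAction G Ω] [FaithfulSMul G Ω]
    (h2 : MulAction.IsMultiplyPretransitive G Ω 2) (i : ℕ) (t : G) (ht : orderOf t = 2)
    (hti : Nat.card {x : Ω // t • x = x} = i)
    (hC : ∀ g : G, Commute g t → g ≠ 1 → Nat.card {x : Ω // g • x = x} = i) :
    (∃ (F : Type) (_ : Field F) (_ : Fintype F), Nonempty (G ≃* Matrix.ProjectiveSpecialLinearGroup (Fin 2) F)) ∨
    Cfsg.Lie.IsoSuzuki G ∨
    (∃ R : Subgroup G, R.Normal ∧ (∀ x y : Ω, ∃ r ∈ R, r • x = y) ∧ ∀ x : Ω, ∀ r ∈ R, r • x = x → r = 1) := by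
  replace hC : ∀ g : G, Commute g t → g ≠ 1 → Nat.card (fixedBy Ω g) = i := hC
  have : Fact (Nat.Prime 2) := ⟨Nat.prime_two⟩
  rw [← or_assoc, or_iff_not_imp_right]
  intro hR
  have t1 := ne_one_of_orderOf ht
  by_cases h3 : 3 ≤ i
  · have hsq : ∀ w : G, orderOf w = 2 → ∀ c ∈ Subgroup.centralizer ({w} : Set G), c * c = 1 := fun w hw c hc => by
      have hw' := fun g => card_of_comm h2 ht hC (g := g) hw
      obtain ⟨x, y, z, h1, h4, h5, hx, hy, hz⟩ := exists_three h2 hw hw' h3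
      exact sq_of_three h2 hw hw' h1 h4 h5 hx hy hz (Subgroup.mem_centralizer_singleton_iff.1 hc)
    obtain ⟨T, hT⟩ := IsPGroup.exists_le_sylow (p := 2) (P := Subgroup.centralizer ({t} : Set G))
      fun c => ⟨1, Subtype.ext (by simpa [pow_two] using hsq t ht c c.2)⟩
    have htT := hT (Subgroup.mem_centralizer_singleton_iff.2 rfl)
    refine let ⟨F, _, _, _, e⟩ := Cfsg.Agent.S1230.result T (fun hc => ?_) (fun hn => ?_) fun w hw =>
      ⟨⟨⟨fun a b => Subtype.ext ?_⟩⟩, fun c hc => (pow_two c).trans (hsq w hw c hc)⟩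
      Or.inl ⟨F, inferInstance, inferInstance, e⟩
    · obtain ⟨x, y, z, h1, -, -, hx, hy, -⟩ := exists_three h2 ht hC h3
      obtain ⟨s, s1, s2⟩ := exists_smul_pair h2 h1 h1.symm
      have h4 := inv_of_swap h2 ht hC h1 s1 s2 hx hy
      rw [inv_eq_of_orderOf ht, mul_inv_eq_iff_eq_mul] at h4
      obtain ⟨γ, hγ⟩ := IsCyclic.exists_monoid_generator (α := T)
      have h5 : ∀ u : T, u = 1 ∨ u = γ := fun u => by
        obtain ⟨k, hk⟩ := hγ ⟨t, htT⟩
        have h6 : γ * γ = 1 := Subtype.ext (hsq t ht γ (Subgroup.mem_centralizer_singleton_iff.2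
          (congrArg Subtype.val (hk ▸ (Commute.self_pow γ k).eq : γ * ⟨t, htT⟩ = ⟨t, htT⟩ * γ))))
        obtain ⟨l, rfl⟩ := hγ u
        rcases Nat.even_or_odd' l with ⟨j, rfl | rfl⟩ <;> simp [pow_succ, pow_mul, h6]
      have h6 := (h5 ⟨t, htT⟩).resolve_left fun e => t1 (congrArg Subtype.val e)
      rcases h5 ⟨s, hT (Subgroup.mem_centralizer_singleton_iff.2 h4)⟩ with e | e
      · exact h1 (by rw [← s1, show s = 1 from congrArg Subtype.val e, one_smul])
      · exact h1 (by rw [← s1, show s = t from congrArg Subtype.val (e.trans h6.symm), hx])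
    · have : Nontrivial T := ⟨⟨⟨t, htT⟩, 1, fun e => t1 (congrArg Subtype.val e)⟩⟩
      have := T.isPGroup'.center_nontrivial
      refine hR (reg_of_comm h2 ((Subgroup.center T).map (T : Subgroup G).subtype) (fun e =>
        (Subgroup.nontrivial_iff_ne_bot _).1 this
          ((Subgroup.map_eq_bot_iff_of_injective _ (Subgroup.subtype_injective _)).1 e)) ?_)
      rintro _ ⟨x, -, rfl⟩ _ ⟨y, hy, rfl⟩
      exact congrArg Subtype.val (Subgroup.mem_center_iff.1 hy x)
    · have h4 := hsq w hw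
      rw [Subgroup.coe_mul, Subgroup.coe_mul, ← inv_eq_of_mul_eq_one_right (h4 _ (mul_mem a.2 b.2)),
        mul_inv_rev, inv_eq_of_mul_eq_one_right (h4 _ a.2), inv_eq_of_mul_eq_one_right (h4 _ b.2)]
  obtain ⟨N, hN, h0, -, hmin⟩ := Core.exists_minimal_normal_le (K := (⊤ : Subgroup G)) fun e =>
    t1 (Subgroup.mem_bot.1 (e ▸ Subgroup.mem_top t))
  have hc : ¬ IsMulCommutative N := fun h => hR (reg_of_comm h2 N h0 fun x hx y hy =>
    congrArg Subtype.val (h.is_comm.comm ⟨x, hx⟩ ⟨y, hy⟩))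
  have hs := ((burnside_minimal_normal h2 N h0 hmin).resolve_left fun h => hc h.1).1
  have htN : t ∈ N := by
    obtain ⟨w, hw, hw2⟩ := exists_involution_of_even (FT.even_card_of_simple hc)
    obtain ⟨g, rfl⟩ := isConj_iff.1 (conj_of_ord h2 ht hC hw2).symm
    exact hN.conj_mem w hw g
  by_cases h1 : i = 1
  · obtain ⟨rfl, h4, M, hM⟩ := case_one h2 ht hC h1 N hc htN
    rcases BenderRed.benderSimple _ hc _ hM with ⟨F, _, _, -, -, ⟨e⟩⟩ | ⟨F, _, _, m, m1, m2, ⟨e⟩⟩ |
      ⟨F, _, _, q, q1, q2, q3, ⟨e⟩⟩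
    · exact Or.inl ⟨F, inferInstance, inferInstance, ⟨Subgroup.topEquiv.symm.trans e⟩⟩
    · exact Or.inr ⟨F, _, _, m, m1, m2, ⟨Subgroup.topEquiv.symm.trans e⟩⟩
    · exact absurd h4 (CIT.App.not_cit_of_u3 ⟨F, _, _, q, q1, q2, q3, ⟨Subgroup.topEquiv.symm.trans e⟩⟩)
  have hi : i = 0 ∨ i = 2 := by omega
  have hZ : IsZassenhausGroup G Ω := ⟨inferInstance, h2, fun g a b c hab hbc hac =>
    eq_one_of_fix h2 ht hC hi hab hbc hac, by
      by_contra h
      have h4 : IsSharp2 G Ω := ⟨exists_smul_pair h2, fun {g a b} hab ha hb =>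
        not_not.1 fun e => h ⟨g, e, a, b, hab, ha, hb⟩⟩
      exact hR ⟨_, h4.kernel_normal, h4.kernel_exists_smul_eq, fun x r hr => h4.kernel_eq_one hr⟩,
    fun R hR1 hR2 => by
      by_contra h
      exact hR ⟨R, hR1, fun x y => let ⟨r, hr⟩ := hR2.1 x y; ⟨r, r.2, hr⟩, fun x r hr e =>
        congrArg (fun y : R => (y : G)) (Subgroup.mem_bot (x := (⟨r, hr⟩ : R)).1
          ((not_not.1 fun e => h ⟨x, e⟩ : stabilizer R x = ⊥).le e))⟩⟩
  obtain rfl : N = ⊤ := eq_top_iff.2 fun g _ => by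
    obtain ⟨a, ha⟩ := exists_move (Ω := Ω) t1
    obtain ⟨n, n1, n2⟩ := exists_smul_pair (Cfsg.Agent.S0339.result hZ N h0).2.1 ha
      ((smul_left_cancel_iff g).not.2 ha)
    exact (N.mul_mem_cancel_left (N.inv_mem n.2)).1 (mem_of_fix_two h2 ht hC N htN ha
      (by rw [mul_smul, inv_smul_eq_iff]; exact n1.symm) (by rw [mul_smul, inv_smul_eq_iff]; exact n2.symm))
  have := (Subgroup.topEquiv (G := G)).symm.isSimpleGroup
  refine Or.inl (psl_of_zass hZ (Nat.even_iff.2 ?_))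
  rw [card_modEq_card_fixedBy_two (mul_self_of_orderOf ht), hC t (Commute.refl t) t1]
  omega

end Cfsg.Agent.S3726
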