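import Cfsg.Statements.S3727
import Cfsg.Agent.Lib.L3N.B2
import Cfsg.Agent.Lib.L3N.PBe

set_option autoImplicit false
open Cfsg CfsgLib.L3N MulAction

namespace Cfsg.Agent.S3727

/-- Let a finite group G act faithfully and 2-transitively on a finite set Ω of even size, and suppose the stabilizer of a point a has a normal subgroup N isomorphic to PSL₃(q) with q = 2ⁿ, n ≥ 1. Then N is transitive on the remaining points, and either G has a normal subgroup of order q³ acting regularly on Ω and n is odd, or Ω has 22 points, q = 4, and G is isomorphic to the Mathieu group M₂₂ or has a subgroup of index 2 isomorphic to M₂₂. -/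
theorem result {G Ω : Type*} [Group G] [Finite G] [Fintype Ω] [MulAction G Ω] [FaithfulSMul G Ω]
    (h2 : MulAction.IsMultiplyPretransitive G Ω 2) (hev : Even (Fintype.card Ω)) (a : Ω) (N : Subgroup G)
    (hNle : N ≤ MulAction.stabilizer G a) (hNnormal : ∀ g ∈ MulAction.stabilizer G a, ∀ x ∈ N, g * x * g⁻¹ ∈ N)
    (n : ℕ) (hn : 1 ≤ n)
    (hN : ∃ (F : Type) (_ : Field F) (_ : Fintype F), Fintype.card F = 2 ^ n ∧
      Nonempty (↥N ≃* Matrix.ProjectiveSpecialLinearGroup (Fin 3) F)) :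
    (∀ x y : Ω, x ≠ a → y ≠ a → ∃ g ∈ N, g • x = y) ∧
    ((Odd n ∧ ∃ E : Subgroup G, E.Normal ∧ Nat.card E = (2 ^ n) ^ 3 ∧ (∀ x y : Ω, ∃ r ∈ E, r • x = y) ∧
        ∀ x : Ω, ∀ r ∈ E, r • x = x → r = 1) ∨
     (Fintype.card Ω = 22 ∧ n = 2 ∧ (Cfsg.Spor.IsoM22 G ∨ ∃ H : Subgroup G, H.index = 2 ∧ Cfsg.Spor.IsoM22 ↥H))) := by
  obtain ⟨F, _, _, hF, ⟨e⟩⟩ := hN
  have : CharP F 2 := charP_of_card_eq_prime_pow (p := 2) hF
  have tr : ∀ {a b c d : Ω}, a ≠ b → c ≠ d → ∃ g : G, g • a = c ∧ g • b = d := is_two_pretransitive_iff.1 h2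
  have : Nontrivial Ω := Fintype.one_lt_card_iff_nontrivial.1 (by
    have := Fintype.card_pos_iff.2 ⟨a⟩
    obtain ⟨k, hk⟩ := hev; omega)
  obtain ⟨b, hb⟩ := exists_ne a
  have t1 : ∀ c, ∃ g : G, g • a = c := fun c => let ⟨_, hd⟩ := exists_ne c; (tr hb.symm hd.symm).imp fun _ => And.left
  choose γ hγ using t1
  have k : ∀ (g : G) c, g • a = c → γ c • N = g • N := fun g c h => by
    rw [← mul_inv_cancel_left g (γ c), mul_smul, cj_eq (hNnormal _ (by
      rw [mem_stabilizer_iff, mul_smul, hγ, ← h, inv_smul_smul]))]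
  have ha : γ a • N = N := (k 1 a (one_smul ..)).trans (one_smul ..)
  have Γ : Gl (2 ^ n) fun c => γ c • N :=
    ⟨fun c => let ⟨_, T⟩ := exists_TS ((Subgroup.equivSMul (MulAut.conj (γ c)) N).symm.trans e); hF ▸ T.tri,
      fun g c => by rw [k (g * γ c) _ (by rw [mul_smul, hγ]), mul_smul],
      fun {c x} hx => by
        have := hNle (mem_cj.1 hx)
        rwa [mem_stabilizer_iff, mul_smul, mul_smul, hγ, inv_smul_eq_iff, hγ] at this,
      tr, by simpa using hev, fun g hg => FaithfulSMul.eq_of_smul_eq_smul (α := Ω) fun c =>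
        (hg c).trans (one_smul ..).symm⟩
  obtain h | h := Γ.cases a
  swap
  · exact (BC.elim ⟨Γ, h _ _⟩ h2 a).elim
  choose! L hL using h
  have P : PC _ _ L := ⟨Γ, hL _ _⟩
  by_cases β : ∀ {a b c W e}, Cf (2 ^ n) (fun c => γ c • N) L a b c W → e ∈ L a b → c ≠ e • c →
      L c (e • c) ⊓ W = L a b ⊓ W
  · have A : PA _ _ L := ⟨P, β⟩
    refine ⟨fun x y hx hy => ha ▸ A.ntr hx.symm hy.symm, .inl ⟨Nat.not_even_iff_odd.1 ?_, A.affine h2 hb.symm⟩⟩
    rintro ⟨m, rfl⟩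
    have := Nat.dvd_gcd (dvd_refl 3) (Nat.sub_one_dvd_pow_sub_one 4 m)
    rw [show 4 ^ m = 2 ^ (m + m) by rw [← two_mul, pow_mul]; rfl, A.gcd_eq hb.symm] at this
    omega
  simp only [not_forall] at β
  obtain ⟨_, _, _, _, _, C, h3, h4, h5⟩ := β
  obtain ⟨h6, h7⟩ := P.alpha C h3 h4 h5
  obtain ⟨h8, h9, h10⟩ := P.mathieu C.ne h6 h7
  exact ⟨fun x y hx hy => ha ▸ h8 a x y hx.symm hy.symm,
    .inr ⟨h9, Nat.pow_right_injective le_rfl h6, h10⟩⟩

end Cfsg.Agent.S3727
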