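import Cfsg.Statements.S3755
import Cfsg.Agent.Lib.S4Cor.Off2

set_option autoImplicit false
open Cfsg

namespace Cfsg.Agent.S3755

/-- Let M and V be subgroups of a finite group with V an elementary abelian 2-group, M normalizing V and acting faithfully on it (M ∩ C(V) = 1), and C_M(O_{2'}(M)) ≤ O_{2'}(M). If some elementary abelian 2-subgroup A of M satisfies |V : C_V(A)| < |A|², then M has a section isomorphic to the symmetric group of degree 3. -/
theorem result {X : Type*} [Group X] [Finite X] (M V : Subgroup X) (hV : Cfsg.IsElementaryAbelian 2 V) (hMV : M ≤ Subgroup.normalizer (V : Set X)) (hfaith : M ⊓ Subgroup.centralizer (V : Set X) = ⊥) (hcon : Subgroup.centralizer (Cfsg.pPrimeCore 2 ↥M : Set ↥M) ≤ Cfsg.pPrimeCore 2 ↥M) (A : Subgroup X) (hAM : A ≤ M) (hA : Cfsg.IsElementaryAbelian 2 A) (hsmall : (V ⊓ Subgroup.centralizer (A : Set X)).relIndex V < Nat.card A ^ 2) : Cfsg.Involves (Equiv.Perm (Fin 3)) ↥M := by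
  by_contra h3
  have h := CfsgLib.S4Cor.sq_le_of_cent
    (CfsgLib.S4Cor.kl_fix (CfsgLib.S4Cor.rep_injective hV hMV hfaith)) h3 hcon
    (CfsgLib.PLocal.elemAb_subgroupOf hA M)
  rw [CfsgLib.S4Cor.card_fix_rep hV hMV hAM, ← Subgroup.bot_subgroupOf M,
    CfsgLib.S4Cor.card_fix_rep hV hMV bot_le, Nat.card_congr (Subgroup.subgroupOfEquivOfLe hAM).toEquiv] at h
  have h1 := h.trans (Subgroup.card_le_of_le inf_le_left)
  rw [CfsgLib.PLocal.card_eq_relIndex_mul (V ⊓ Subgroup.centralizer (A : Set X)) V,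
    inf_eq_left.2 inf_le_left] at h1
  exact hsmall.not_ge (Nat.le_of_mul_le_mul_right h1 Nat.card_pos)

end Cfsg.Agent.S3755
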