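import Cfsg.Statements.S3756
import Cfsg.Agent.Lib.S4Free.App

set_option autoImplicit false
open Cfsg

namespace Cfsg.Agent.S3756

open CfsgLib CfsgLib.LAE CfsgLib.S4Free Subgroup

theorem eq_of_sylow {G : Type*} [Group G] [Finite G]
    (hloc : ∀ M : Subgroup G, IsTwoLocal M → IsOfCharacteristicTwo M ∧
      ¬ Involves (Equiv.Perm (Fin 4)) M) {M T : Subgroup G} (hM : IsMaximalTwoLocal M)
    (hT : IsSylowIn 2 T M) : T ≠ ⊥ ∧ normalizer (WIn T : Set G) = M := by
  have h1 : T ≠ ⊥ := by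
    obtain ⟨Q, hQ, hQ1, rfl⟩ := hM.1
    exact fun e => hQ1 (eq_bot_iff.mpr (e ▸ hT.le_of_normal hQ le_normalizer le_rfl))
  have := W_normal (hloc M hM.1).2 (hloc M hM.1).1 (subgroupOf_self M ▸ hT.subgroupOf le_rfl)
  have h3 := le_normalizer_map_subtype (WIn (T.subgroupOf M))
  rw [map_WIn M.subtype_injective, map_subgroupOf_eq_of_le hT.le] at h3
  exact ⟨h1, hM.2 _ ⟨_, PLocal.elemAb_isPGroup (pi_WIn T).elem, WIn_ne_bot hT.isPGroup h1, rfl⟩ h3⟩

theorem eq_of_inf {G : Type*} [Group G] [Finite G]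
    (hloc : ∀ M : Subgroup G, IsTwoLocal M → IsOfCharacteristicTwo M ∧
      ¬ Involves (Equiv.Perm (Fin 4)) M) (T : Subgroup G) (hT : IsPGroup 2 T) (h1 : T ≠ ⊥)
    {M N : Subgroup G} (hM : IsMaximalTwoLocal M) (hN : IsMaximalTwoLocal N) (hTM : T ≤ M)
    (hTN : T ≤ N) : M = N := by
  induction T using WellFoundedGT.induction generalizing M N with
  | ind T ih =>
  obtain ⟨K, hK, hle⟩ := Finite.exists_le_maximal (p := IsTwoLocal (G := G)) ⟨T, hT, h1, rfl⟩
  have hK' : IsMaximalTwoLocal K := ⟨hle.1, fun L hL h => le_antisymm (hle.2 hL h) h⟩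
  have key : ∀ {L}, IsMaximalTwoLocal L → T ≤ L → L = K ∨ normalizer (WIn T : Set G) = L :=
    fun {L} hL hTL => by
      obtain ⟨R, hR, hTR⟩ := exists_isSylowIn_ge hT hTL
      rcases hTR.eq_or_lt with rfl | h
      · exact Or.inr (eq_of_sylow hloc hL hR).2
      · have h2 := Core.lt_inf_normalizer_of_isPGroup hR.isPGroup h
        exact Or.inl (ih _ h2 hR.isPGroup.to_inf_left (ne_bot_of_gt h2) hL hK'
          (inf_le_left.trans hR.le) (inf_le_right.trans hK))
  have key' : ∀ {L}, IsMaximalTwoLocal L → T ≤ L → L = K := fun {L} hL hTL =>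
    (key hL hTL).elim id fun e => by
      obtain ⟨R, hR, hTR⟩ := exists_isSylowIn_ge hT (le_normalizer.trans hK)
      rcases hTR.eq_or_lt with rfl | h
      · exact e.symm.trans (eq_of_sylow hloc hK' hR).2
      · have h2 := Core.lt_inf_normalizer_of_isPGroup hR.isPGroup h
        refine ih _ h2 hR.isPGroup.to_inf_left (ne_bot_of_gt h2) hL hK' (e ▸ fun g hg => ?_)
          (inf_le_left.trans hR.le)
        rw [mem_normalizer_iff_conjS, conjS_WIn, mem_normalizer_iff_conjS.mp hg.2]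
  rw [key' hM hTM, key' hN hTN]

/-- Let G be a finite group of even order with O₂(G) = 1 such that every 2-local subgroup of G is solvable, of characteristic 2, and has no section isomorphic to the symmetric group of degree 4. Then every maximal 2-local subgroup of G is strongly embedded in G. -/
theorem result {G : Type*} [Group G] [Finite G] (heven : Even (Nat.card G)) (hO : Cfsg.pCore 2 G = ⊥) (hloc : ∀ M : Subgroup G, Cfsg.IsTwoLocal M → Group.IsSolvable M ∧ Cfsg.IsOfCharacteristicTwo ↥M ∧ ¬ Cfsg.Involves (Equiv.Perm (Fin 4)) ↥M) (M : Subgroup G) (hM : Cfsg.IsMaximalTwoLocal M) : Cfsg.IsStronglyEmbedded M := by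
  have hloc' := fun M hM => (hloc M hM).2
  obtain ⟨T, hT⟩ := exists_isSylowIn 2 M
  obtain ⟨h1, h2⟩ := eq_of_sylow hloc' hM hT
  have hW := PLocal.elemAb_isPGroup (pi_WIn T).elem
  refine ⟨h2 ▸ S4Free.normalizer_ne_top hW (by
    rw [hO, le_bot_iff]; exact WIn_ne_bot hT.isPGroup h1), ?_, fun g hg => ?_⟩
  · exact even_iff_two_dvd.mpr ((hT.isPGroup.card_eq_or_dvd.resolve_left (mt card_eq_one.mp h1)).trans
      (card_dvd_of_le hT.le))
  by_contra hev
  obtain ⟨R, hR⟩ := exists_isSylowIn 2 (M ⊓ conjS g M)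
  have hc : ∀ {g : G} {N : Subgroup G}, IsTwoLocal N → IsTwoLocal (conjS g N) := by
    rintro g _ ⟨Q, hQ, hQ1, rfl⟩
    exact ⟨_, isPGroup_conjS hQ g, mt conjS_eq_bot_iff.mp hQ1, conjS_normalizer g Q⟩
  have hM' : IsMaximalTwoLocal (conjS g M) := ⟨hc hM.1, fun N hN h => by
    rw [← hM.2 _ (hc hN) (conjS_le_iff.mp h), conjS_conjS_inv]⟩
  have e := eq_of_inf hloc' R hR.isPGroup
    (hR.ne_bot (even_iff_two_dvd.mp (Nat.not_odd_iff_even.mp hev))) hM hM'
    (hR.le.trans inf_le_left) (hR.le.trans inf_le_right)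
  obtain ⟨Q, hQ, hQ1, rfl⟩ := id hM.1
  refine hg ((hM.2 _ ⟨_, isPGroup_pCoreOf _, fun h => hQ1 (eq_bot_iff.mpr (h ▸ le_pCoreOf hQ
    le_normalizer le_rfl)), rfl⟩ (le_normalizer_pCoreOf _)).le
      (normalizer_le_normalizer_pCoreOf _ (mem_normalizer_iff_conjS.mpr e.symm)))

end Cfsg.Agent.S3756
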