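import Cfsg.Statements.S3758
import Cfsg.Agent.Lib.ZC.Main
import Cfsg.Agent.S0518
import Cfsg.Agent.S3224
import Cfsg.Agent.Lib.QDFus.QDGroup
import Cfsg.Agent.Lib.Kazarin.Basic

set_option autoImplicit false
open Cfsg

namespace Cfsg.Agent.S3758

open Subgroup CfsgLib CfsgLib.BG CfsgLib.ZC CfsgLib.Signal

variable {X : Type*} [Group X] [Finite X]

theorem se_equiv {Y : Type*} [Group Y] [Finite Y] (e : X ≃* Y) {M : Subgroup X} (hM : IsStronglyEmbedded M) :
    IsStronglyEmbedded (M.comap e.symm.toMonoidHom) := by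
  obtain ⟨t, htM, ht⟩ := StrEmb.exists_involution_of_even hM.2.1
  refine StrEmb.isStronglyEmbedded_of (fun h => hM.1 (eq_top_iff.mpr fun y _ => ?_))
    ⟨e t, by simpa using htM, by rwa [e.orderOf_eq]⟩ fun s hs hs2 y hy => ?_
  · simpa using (h ▸ mem_top (e y) : e y ∈ M.comap e.symm.toMonoidHom)
  · exact StrEmb.mem_of_conj_mem hM (t := e.symm s) (by rwa [e.symm.orderOf_eq]) hs (by simpa using hy)

/-- a self-centralizing four-group -/
def SC (X : Type*) [Group X] : Prop :=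
  ∃ x y : X, orderOf x = 2 ∧ orderOf y = 2 ∧ x ≠ y ∧ x * y = y * x ∧
    ∀ g : X, g * x = x * g → g * y = y * g → g = 1 ∨ g = x ∨ g = y ∨ g = x * y

omit [Finite X] in
theorem SC.equiv {Y : Type*} [Group Y] (e : X ≃* Y) (h : SC X) : SC Y := by
  obtain ⟨x, y, h1, h2, h3, h4, h5⟩ := h
  refine ⟨e x, e y, by rwa [e.orderOf_eq], by rwa [e.orderOf_eq], e.injective.ne h3,
    by rw [← map_mul, h4, map_mul], fun g a b => ?_⟩
  obtain ⟨g, rfl⟩ := e.surjective g
  rw [← map_mul, ← map_mul, e.apply_eq_iff_eq] at a b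
  rcases h5 g a b with rfl | rfl | rfl | rfl <;> simp

theorem s4_facts : ∃ a b : Equiv.Perm (Fin 4), a * a = 1 ∧ a ≠ 1 ∧ b * b = 1 ∧ b ≠ 1 ∧ a ≠ b ∧ a * b = b * a ∧
    (∀ g : Equiv.Perm (Fin 4), g * a = a * g → g * b = b * g → g = 1 ∨ g = a ∨ g = b ∨ g = a * b) ∧
    ∀ g : Equiv.Perm (Fin 4), (g * a * g⁻¹ = a ∨ g * a * g⁻¹ = b ∨ g * a * g⁻¹ = a * b) ∧
      (g * b * g⁻¹ = a ∨ g * b * g⁻¹ = b ∨ g * b * g⁻¹ = a * b) :=
  ⟨Equiv.swap 0 1 * Equiv.swap 2 3, Equiv.swap 0 2 * Equiv.swap 1 3, by decide, by decide, by decide, by decide,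
    by decide, by decide, by decide, fun g => ⟨by revert g; decide, by revert g; decide⟩⟩

theorem sc_of_s4 {M : Subgroup X} (hM : IsMaximalTwoLocal M) (e : M ≃* Equiv.Perm (Fin 4)) : SC X := by
  obtain ⟨a, b, h1, h2, h3, h4, h5, h6, h7, h8⟩ := s4_facts
  have hx : orderOf (e.symm a : X) = 2 := by
    rw [orderOf_coe, e.symm.orderOf_eq, StrEmb.orderOf_eq_two h1 h2]
  have hy : orderOf (e.symm b : X) = 2 := by
    rw [orderOf_coe, e.symm.orderOf_eq, StrEmb.orderOf_eq_two h3 h4]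
  have hxy : (e.symm a : X) * e.symm b = e.symm b * e.symm a := by
    rw [← coe_mul, ← coe_mul, ← map_mul, ← map_mul, h6]
  have hne : (e.symm a : X) ≠ e.symm b := fun h => h5 (e.symm.injective (Subtype.ext h))
  have hE := e2_four hx hy (mem_cent1.mpr hxy) hne
  have hc : ∀ (g : M) (c : Equiv.Perm (Fin 4)), (g : X) * e.symm c * (g : X)⁻¹ = e.symm (e g * c * (e g)⁻¹) := by
    intro g c
    simp
  have hN : 𝒩(zpowers (e.symm a : X) ⊔ zpowers (e.symm b : X)) = M := by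
    refine hM.2 _ ⟨_, Classif.isPGroup_of_sq_eq_one hE.abelem.2, ne_bot_of_lt_card two_pos hE.card, rfl⟩
      (le_norm_of_cj_le fun g hg => ?_)
    rw [cj_sup, cj_zpowers, cj_zpowers]
    refine sup_le (zpowers_le.mpr ?_) (zpowers_le.mpr ?_)
    · rw [hc ⟨g, hg⟩, mem_four hx hy (mem_cent1.mpr hxy)]
      rcases (h8 (e ⟨g, hg⟩)).1 with h | h | h <;> simp [h]
    · rw [hc ⟨g, hg⟩, mem_four hx hy (mem_cent1.mpr hxy)]
      rcases (h8 (e ⟨g, hg⟩)).2 with h | h | h <;> simp [h]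
  refine ⟨_, _, hx, hy, hne, hxy, fun g ha hb => ?_⟩
  have hg : g ∈ M := hN ▸ cent_sub _ (by
    rw [centY, cent_zpowers, cent_zpowers]; exact ⟨mem_cent1.mpr ha, mem_cent1.mpr hb⟩)
  have key : ∀ c, g * e.symm c = e.symm c * g → e ⟨g, hg⟩ * c = c * e ⟨g, hg⟩ := fun c h => by
    apply e.symm.injective
    simpa [Subtype.ext_iff] using h
  have e1 : g = e.symm (e ⟨g, hg⟩) := by simp
  rcases h7 _ (key a ha) (key b hb) with h | h | h | h <;> rw [e1, h] <;> simp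

theorem dih_of_sc (h : SC X) (P : Sylow 2 X) :
    (∃ n : ℕ, 2 ≤ n ∧ Nonempty (P ≃* DihedralGroup n)) ∨ IsQuasiDihedral P := by
  have hp := Nat.prime_two
  obtain ⟨x, y, hx, hy, hne, hxy, hc⟩ := h
  have hE := e2_four hx hy (mem_cent1.mpr hxy) hne
  set V := zpowers x ⊔ zpowers y with hV
  have hcV : 𝒞(V) ≤ V := fun g hg => by
    rw [hV, centY, cent_zpowers, cent_zpowers] at hg
    exact (mem_four hx hy (mem_cent1.mpr hxy)).mpr (hc g (mem_cent1.mp hg.1) (mem_cent1.mp hg.2))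
  have h4 : Nat.card V = 4 := by
    refine le_antisymm ?_ (hE.sq_le hp)
    have : (V : Set X) ⊆ {1, x, y, x * y} := fun g hg => (mem_four hx hy (mem_cent1.mpr hxy)).mp hg
    exact (Set.ncard_le_ncard this).trans ((Set.ncard_insert_le _ _).trans (Nat.succ_le_succ
      ((Set.ncard_insert_le _ _).trans (Nat.succ_le_succ
        ((Set.ncard_insert_le _ _).trans (by simp))))))
  obtain ⟨Q, hQ⟩ := (Classif.isPGroup_of_sq_eq_one hE.abelem.2).exists_le_sylow
  obtain ⟨w, hwQ, hwc, hw⟩ := InvHarv.exists_central_orderOf_eq Q.isPGroup'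
    fun e => ne_bot_of_lt_card two_pos hE.card (eq_bot_iff.mpr (e ▸ hQ))
  have hwV : w ∈ V := hcV (centS hQ hwc)
  obtain ⟨u, huV, hu1, huw⟩ := Classif.exists_mem_ne_ne hE.card w
  have hu : orderOf u = 2 := abelem_order_p hp hE.abelem huV hu1
  have hVu : V ≤ 𝒞[u] := (abelem_cents hE.abelem).trans (cent_le_cent1 huV)
  have e1 : zpowers w ⊔ zpowers u = V := eq_of_le_of_card_ge (sup_le (zpowers_le.mpr hwV) (zpowers_le.mpr huV))
    (h4 ▸ (e2_four hw hu (hVu hwV) huw.symm).sq_le hp)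
  have e2 : (Q : Subgroup X) ⊓ 𝒞[u] = V := by
    refine le_antisymm (le_trans ?_ hcV) (le_inf hQ hVu)
    rw [← e1, centY, cent_zpowers, cent_zpowers]
    exact inf_le_inf_right _ fun s hs => mem_cent1.mpr (mem_cent_iff.mp hwc s hs)
  have h5 : Nat.card 𝒞[(⟨u, hQ huV⟩ : (Q : Subgroup X))] = 4 := by
    rw [← card_subtype, map_cent1, e2, h4]
  have f := P.equiv Q
  have h6 : 4 ≤ Nat.card Q := h4 ▸ Subgroup.card_le_of_le hQ
  rcases Cfsg.Agent.S3224.result Q.isPGroup' ⟨u, hQ huV⟩ (by rwa [orderOf_mk]) h5 with ⟨n, ⟨g⟩⟩ | h | h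
  · refine Or.inl ⟨n, ?_, ⟨f.trans g⟩⟩
    rw [Nat.card_congr g.toEquiv, DihedralGroup.nat_card] at h6
    omega
  · exact Or.inr (QDFus.isQuasiDihedral_of_equiv f.symm h)
  · have : IsKleinFour (Q : Subgroup X) :=
      eq_of_le_of_card_ge hQ (h.trans h4.symm).le ▸ Classif.isKleinFour_iff.mpr ⟨h4, hE.abelem.2⟩
    obtain ⟨g⟩ := IsKleinFour.nonempty_mulEquiv (G₁ := (Q : Subgroup X)) (G₂ := DihedralGroup 2)
    exact Or.inl ⟨2, le_rfl, ⟨f.trans g⟩⟩

omit [Finite X] in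
theorem two_local_sub (h : ∀ L : Subgroup X, IsTwoLocal L → Group.IsSolvable L) (N : Subgroup X)
    (L : Subgroup N) (hL : IsTwoLocal L) : Group.IsSolvable L := by
  obtain ⟨T, hT, h1, rfl⟩ := hL
  have h2 := h _ ⟨T.map N.subtype, hT.map _, by rwa [Ne, map_eq_bot_iff_of_injective _ N.subtype_injective], rfl⟩
  have h3 : Group.IsSolvable ((𝒩(T)).map N.subtype) := solvableS (le_normalizer_map _) h2
  exact Group.isSolvable_of_isSolvable_injective
    (f := (equivMapOfInjective _ _ N.subtype_injective).toMonoidHom) (MulEquiv.injective _)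

/-- Let G be a finite group of even order in which every 2-local subgroup is solvable and C_G(Ω₁(Z(S))) ≤ N_G(S) for every Sylow 2-subgroup S, and suppose O_{2'}(G) = 1 = O₂(G). Fix a Sylow 2-subgroup S, put Z = Ω₁(Z(S)), H = O²(G) (generated by the elements of odd order) and R = S ∩ H. Then one of the following holds: H has a strongly embedded subgroup; R is dihedral (of order at least 4) or semidihedral; Z ∩ R has order 2 and is weakly closed in R with respect to H; or Z has order 4 and is exactly the subgroup generated by the involutions of R. -/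
theorem result {G : Type*} [Group G] [Finite G] (heven : Even (Nat.card G)) (hN : ∀ L : Subgroup G, Cfsg.IsTwoLocal L → Group.IsSolvable L) (hZ : ∀ S : Sylow 2 G, Subgroup.centralizer (Cfsg.omegaOne 2 ((S : Subgroup G) ⊓ Subgroup.centralizer ((S : Subgroup G) : Set G)) : Set G) ≤ Subgroup.normalizer ((S : Subgroup G) : Set G)) (hO' : Cfsg.pPrimeCore 2 G = ⊥) (hO : Cfsg.pCore 2 G = ⊥) (S : Sylow 2 G) : (∃ M : Subgroup ↥(Cfsg.pResidual 2 G), Cfsg.IsStronglyEmbedded M) ∨ ((∃ n : ℕ, 2 ≤ n ∧ Nonempty (↥((S : Subgroup G) ⊓ Cfsg.pResidual 2 G) ≃* DihedralGroup n)) ∨ Cfsg.IsQuasiDihedral ↥((S : Subgroup G) ⊓ Cfsg.pResidual 2 G)) ∨ (Nat.card ↥(Cfsg.omegaOne 2 ((S : Subgroup G) ⊓ Subgroup.centralizer ((S : Subgroup G) : Set G)) ⊓ Cfsg.pResidual 2 G) = 2 ∧ ∀ h ∈ Cfsg.pResidual 2 G, ∀ z ∈ Cfsg.omegaOne 2 ((S : Subgroup G) ⊓ Subgroup.centralizer ((S : Subgroup G) : Set G)) ⊓ Cfsg.pResidual 2 G, h * z * h⁻¹ ∈ (S : Subgroup G) → h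 * z * h⁻¹ ∈ Cfsg.omegaOne 2 ((S : Subgroup G) ⊓ Subgroup.centralizer ((S : Subgroup G) : Set G))) ∨ (Nat.card ↥(Cfsg.omegaOne 2 ((S : Subgroup G) ⊓ Subgroup.centralizer ((S : Subgroup G) : Set G))) = 4 ∧ Cfsg.omegaOne 2 ((S : Subgroup G) ⊓ Cfsg.pResidual 2 G) = Cfsg.omegaOne 2 ((S : Subgroup G) ⊓ Subgroup.centralizer ((S : Subgroup G) : Set G))) := by
  have hp := Nat.prime_two
  have hC : Sol G := fun t ht => by
    rw [← InvHarv.normalizer_zpowers_of_orderOf_two ht]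
    exact hN _ ⟨_, Comp.isPGroup_zpowers_of_orderOf ht,
      fun e => StrEmb.ne_one_of_orderOf ht (zpowers_eq_bot.mp e), rfl⟩
  rcases zc_main heven hC S (hZ S) hO' hO with h | h | h | h
  · exact Or.inl h
  · exact Or.inr (Or.inr (Or.inl h))
  · exact Or.inr (Or.inr (Or.inr h))
  have := Transfer.pResidual_normal 2 G
  have hn := res_sup_normal S
  set N := pResidual 2 G ⊔ Zs (S : Subgroup G) with hNdef
  have e := subgroupOfEquivOfLe (le_sup_left : pResidual 2 G ≤ N)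
  have hZN : ∀ R : Sylow 2 N, centralizer {z : N | z ∈ (R : Subgroup N) ∧ z ^ 2 = 1 ∧
      ∀ s ∈ (R : Subgroup N), s * z = z * s} ≤ normalizer ((R : Subgroup N) : Set N) := by
    intro R
    obtain ⟨T, hT⟩ := (R.isPGroup'.map N.subtype).exists_le_sylow
    have hR : (R : Subgroup N) = (T : Subgroup G).subgroupOf N :=
      (R.is_maximal' T.isPGroup'.comap_subtype (map_le_iff_le_comap.mp hT)).symm
    have hTN : Zs (T : Subgroup G) ≤ N := by
      obtain ⟨g, -, hg⟩ := Sylow_trans hp (isSylowOf_top hp S) (isSylowOf_top hp T)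
      intro x hx
      rw [hg, mem_Zs] at hx
      have h1 : g⁻¹ * x * g ∈ Zs (S : Subgroup G) := by
        refine mem_Zs.mpr ⟨mem_cj.mp hx.1, ?_, ?_⟩
        · have := cj_mono g⁻¹ hx.2.1
          rwa [cj_inv_cj, cj_cent1, inv_inv] at this
        · rw [show g⁻¹ * x * g = g⁻¹ * x * g⁻¹⁻¹ by rw [inv_inv], conj_pow, hx.2.2, mul_one, mul_inv_cancel]
      simpa [mul_assoc] using hn.conj_mem _ (mem_sup_right h1) g
    rw [hR]
    refine le_norm_of_cj_le fun x hx => cj_le_iff.mpr fun s hs => ?_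
    refine conj_mem_of_mem_norm (H := (T : Subgroup G)) (hZ T (mem_cent_iff.mpr fun y hy => ?_)) hs
    obtain ⟨h1, h2, h3⟩ := mem_Zs.mp hy
    exact congrArg Subtype.val (hx ⟨y, hTN hy⟩ ⟨h1, Subtype.ext h3,
      fun s hs => Subtype.ext (mem_cent1.mp (h2 hs))⟩)
  have hH : (pResidual 2 G).subgroupOf N = closure {g : N | Odd (orderOf g)} := by
    apply le_antisymm
    · rw [← map_le_map_iff_of_injective N.subtype_injective, subgroupOf_map_subtype]
      refine inf_le_left.trans (Transfer.pResidual_le_iff.mpr fun g hg => ?_)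
      exact ⟨⟨g, mem_sup_left (Transfer.mem_pResidual_of_coprime hg)⟩,
        subset_closure (by rwa [Set.mem_ofPred_eq, orderOf_mk, ← Nat.coprime_two_right]), rfl⟩
    · refine (closure_le _).mpr fun g hg => ?_
      exact Transfer.mem_pResidual_of_coprime (g := (g : G)) (by rwa [orderOf_coe, Nat.coprime_two_right])
  rcases Cfsg.Agent.S0518.result h (Kazarin.pCore_eq_bot_of_normal hO N) (two_local_sub hN N) hZN
    _ hH with ⟨K, hK⟩ | ⟨M, -, -, hM, -, ⟨f⟩, -⟩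
  · obtain ⟨z, hz, hz2⟩ := exists_mem_res heven hO' hO S
    refine Or.inl ⟨_, se_equiv e (se_normal hK _ ?_)⟩
    rw [Nat.card_congr e.toEquiv]
    exact even_iff_two_dvd.mpr (hz2 ▸ (pResidual 2 G).orderOf_dvd_natCard hz.2)
  · obtain ⟨R, hR⟩ := Transfer.exists_sylow_subgroupOf_normal S (pResidual 2 G)
    have g : (R : Subgroup (pResidual 2 G)) ≃* ↥((S : Subgroup G) ⊓ pResidual 2 G) :=
      (MulEquiv.subgroupCongr (by rw [hR, inf_subgroupOf_right])).trans (subgroupOfEquivOfLe inf_le_right)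
    rcases dih_of_sc ((sc_of_s4 hM f).equiv e) R with ⟨n, h1, ⟨k⟩⟩ | h1
    · exact Or.inr (Or.inl (Or.inl ⟨n, h1, ⟨g.symm.trans k⟩⟩))
    · exact Or.inr (Or.inl (Or.inr (QDFus.isQuasiDihedral_of_equiv g h1)))

end Cfsg.Agent.S3758
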