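import Cfsg.Statements.S3805
import Cfsg.Agent.Lib.Rec3.S8a

set_option autoImplicit false
open Cfsg

namespace Cfsg.Agent.S3805

open Subgroup CfsgLib.Tech CfsgLib.W2 CfsgLib.Rec3 in
/-- Let G be a finite group whose Sylow 3-subgroup T is elementary abelian of order 9 and self-centralizing, with N_G(T)/T a Klein four-group, and suppose that the centralizer of every nonidentity element of T lies in N_G(T). Then T is normal in G. -/
theorem result {G : Type*} [Group G] [Finite G]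
    (T : Sylow 3 G) (hT : Cfsg.IsElementaryAbelian 3 (T : Subgroup G)) (hcard : Nat.card T = 9)
    (hC : Subgroup.centralizer ((T : Subgroup G) : Set G) = T)
    [hn : ((T : Subgroup G).subgroupOf (Subgroup.normalizer ((T : Subgroup G) : Set G))).Normal]
    (hK : IsKleinFour (↥(Subgroup.normalizer ((T : Subgroup G) : Set G)) ⧸
      (T : Subgroup G).subgroupOf (Subgroup.normalizer ((T : Subgroup G) : Set G))))
    (hloc : ∀ t ∈ (T : Subgroup G), t ≠ 1 →
      Subgroup.centralizer ({t} : Set G) ≤ Subgroup.normalizer ((T : Subgroup G) : Set G)) :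
    Subgroup.normalizer ((T : Subgroup G) : Set G) = ⊤ := by
  have hc : ∀ x ∈ (T : Subgroup G), ∀ y ∈ (T : Subgroup G), x * y = y * x := fun a ha b hb =>
    congrArg Subtype.val (hT.1.is_comm.comm ⟨a, ha⟩ ⟨b, hb⟩)
  have h9 : Nat.card (T : Subgroup G) = 9 := hcard
  have key : ∀ (S : Subgroup G) {u w}, S ≤ T → u ∈ S → u ≠ 1 → w ∈ (T : Subgroup G) → w ∉ S →
      S ≤ zpowers u := fun S u w h1 h2 h3 h4 h5 => by
    have e1 : Nat.card (zpowers u) = 3 := by
      rw [Nat.card_zpowers]; exact orderOf_eq_prime (hT.2 u (h1 h2)) h3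
    have e2 := card_dvd_of_le h1
    have e3 : Nat.card S ≠ 9 := fun e => h5 ((eq_of_le_of_card_ge h1 (by omega)).ge h4)
    rw [h9] at e2
    refine (eq_of_le_of_card_ge (zpowers_le.2 h2) ?_).ge
    have := Nat.le_of_dvd (by norm_num) e2
    interval_cases Nat.card S <;> omega
  have pm : ∀ {u : G}, u ∈ (T : Subgroup G) → u ≠ 1 → ∀ {g}, g * u * g⁻¹ ∈ zpowers u →
      g * u * g⁻¹ = u ∨ g * u * g⁻¹ = u⁻¹ := fun hu h1 g h =>
    (S8.cases_three (hT.2 _ hu) h).resolve_left (by simpa using h1)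
  have ne : ∀ {u}, u ∈ (T : Subgroup G) → u = u⁻¹ → u = 1 := fun {u} hu e => by
    simpa [pow_three, mul_eq_one_iff_eq_inv.2 e] using hT.2 u hu
  have q : ∀ {g k : normalizer ((T : Subgroup G) : Set G)}, 
      (QuotientGroup.mk g : _ ⧸ (T : Subgroup G).subgroupOf _) = QuotientGroup.mk k →
      ∀ x ∈ (T : Subgroup G), g * x * g.1⁻¹ = k * x * k.1⁻¹ := fun {g k} e x hx => by
    have h1 : g.1⁻¹ * k ∈ (T : Subgroup G) := mem_subgroupOf.1 (QuotientGroup.eq.1 e)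
    calc _ = g * (g.1⁻¹ * k * x) * k.1⁻¹ := by rw [hc _ h1 x hx]; group
      _ = _ := by group
  obtain ⟨a, ha, b, hb, h1, h2, h3⟩ : ∃ a ∈ (T : Subgroup G), ∃ b ∈ (T : Subgroup G), a ≠ 1 ∧
      b ∉ zpowers a ∧ ∀ g ∈ normalizer ((T : Subgroup G) : Set G),
        (g * a * g⁻¹ = a ∨ g * a * g⁻¹ = a⁻¹) ∧ (g * b * g⁻¹ = b ∨ g * b * g⁻¹ = b⁻¹) := by
    by_cases hh : ∀ g ∈ normalizer ((T : Subgroup G) : Set G), (∀ x ∈ (T : Subgroup G), g * x * g⁻¹ = x) ∨
        ∀ x ∈ (T : Subgroup G), g * x * g⁻¹ = x⁻¹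
    · obtain ⟨a, ha, h1⟩ := (T : Subgroup G).bot_or_exists_ne_one.resolve_left fun e => by
        rw [e, card_bot] at h9; omega
      obtain ⟨b, hb, h2⟩ := SetLike.not_le_iff_exists.1 (show ¬ (T : Subgroup G) ≤ zpowers a from fun e => by
        have := card_le_of_le e
        rw [Nat.card_zpowers, orderOf_eq_prime (hT.2 a ha) h1] at this
        omega)
      exact ⟨a, ha, b, hb, h1, h2, fun g hg => ⟨(hh g hg).imp (· a ha) (· a ha), (hh g hg).imp (· b hb) (· b hb)⟩⟩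
    push Not at hh
    obtain ⟨g, hg, ⟨x, hx, e1⟩, y, hy, e2⟩ := hh
    have sq : ∀ x ∈ (T : Subgroup G), g * (g * x * g⁻¹) * g⁻¹ = x := fun x hx => by
      simpa [mul_assoc] using q (g := ⟨g, hg⟩ * ⟨g, hg⟩) (k := 1)
        (by rw [QuotientGroup.mk_mul, hK.mul_self, QuotientGroup.mk_one]) x hx
    have cm : ∀ k ∈ normalizer ((T : Subgroup G) : Set G), ∀ x ∈ (T : Subgroup G),
        g * (k * x * k⁻¹) * g⁻¹ = k * (g * x * g⁻¹) * k⁻¹ := fun k hk x hx => by
      simpa [mul_assoc] using q (g := ⟨g, hg⟩ * ⟨k, hk⟩) (k := ⟨k, hk⟩ * ⟨g, hg⟩)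
        (by rw [QuotientGroup.mk_mul, QuotientGroup.mk_mul, hK.isMulCommutative.is_comm.comm]) x hx
    have hx' := conj_mem_of_mem_normalizer hg hx
    have hy' := conj_mem_of_mem_normalizer hg hy
    have hw := mul_mem (inv_mem hx) hx'
    have hu := mul_mem hy hy'
    have w1 : x⁻¹ * (g * x * g⁻¹) ≠ 1 := fun e => e1 (inv_mul_eq_one.1 e).symm
    have u1 : y * (g * y * g⁻¹) ≠ 1 := fun e => e2 (eq_inv_of_mul_eq_one_right e)
    have ew : g * (x⁻¹ * (g * x * g⁻¹)) * g⁻¹ = (x⁻¹ * (g * x * g⁻¹))⁻¹ := by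
      rw [← conj_mul, sq x hx, mul_inv_rev (x⁻¹), inv_inv, conj_inv]
    have eu : g * (y * (g * y * g⁻¹)) * g⁻¹ = y * (g * y * g⁻¹) := by
      rw [← conj_mul, sq y hy, hc _ hy' _ hy]
    generalize x⁻¹ * (g * x * g⁻¹) = w at *
    generalize y * (g * y * g⁻¹) = u at *
    let I : Subgroup G :=
      { carrier := {x | x ∈ (T : Subgroup G) ∧ g * x * g⁻¹ = x⁻¹}
        one_mem' := ⟨one_mem _, by simp⟩
        mul_mem' := fun h k => ⟨mul_mem h.1 k.1, by rw [← conj_mul, h.2, k.2, hc _ h.1 _ k.1, mul_inv_rev]⟩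
        inv_mem' := fun h => ⟨inv_mem h.1, by rw [← conj_inv, h.2]⟩ }
    have n1 : w ∉ (T : Subgroup G) ⊓ Cx g := fun e =>
      w1 (ne hw (by rw [← ew, ← mem_Cx.1 e.2, mul_inv_cancel_right]))
    have m1 : u ∈ (T : Subgroup G) ⊓ Cx g := ⟨hu, mem_Cx.2 (mul_inv_eq_iff_eq_mul.1 eu).symm⟩
    refine ⟨u, hu, w, hw, u1, fun e => n1 (zpowers_le.2 m1 e), fun k hk => ⟨pm hu u1 ?_, pm hw w1 ?_⟩⟩
    · exact key _ inf_le_left m1 u1 hw n1 ⟨conj_mem_of_mem_normalizer hk hu,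
        mem_Cx.2 (mul_inv_eq_iff_eq_mul.1 (by rw [cm k hk u hu, eu])).symm⟩
    · exact key I (fun _ h => h.1) ⟨hw, ew⟩ w1 hu (fun e => u1 (ne hu (eu.symm.trans e.2)))
        ⟨conj_mem_of_mem_normalizer hk hw, by rw [cm k hk w hw, ew, conj_inv]⟩
  have gen : (T : Subgroup G) ≤ closure {a, b} := fun w hw => by_contra fun h => h2 (key _
    ((closure_le _).2 (by rintro _ (rfl | rfl) <;> assumption)) (subset_closure (by simp)) h1 hw h
    (subset_closure (by simp)))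
  refine eq_top_iff.2 (e9b (Z := ⊥) ⟨bot_le, le_top, le_normalizer_of_normal, ha, hb, hT.2 a ha, hT.2 b hb,
    cj_bot_iff.2 (mul_inv_eq_of_eq_mul (hc a ha b hb)), gen.trans le_sup_right, by rwa [relIndex_bot_left],
    by rw [relIndex_top_right]; exact T.not_dvd_index⟩ (fun g _ e1 e2 => hC.le (centralizer_le gen ?_))
    (fun x hx h g _ e => hloc x hx h (mem_Cx'.2 (cj_bot_iff.1 e))) fun g _ hg => by
      simpa only [cj_bot_iff] using h3 g hg)
  rw [centralizer_closure]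
  rintro _ (rfl | rfl)
  exacts [(mul_inv_eq_iff_eq_mul.1 (cj_bot_iff.1 e1)).symm, (mul_inv_eq_iff_eq_mul.1 (cj_bot_iff.1 e2)).symm]

end Cfsg.Agent.S3805
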