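import Cfsg.Statements.S3866
import Mathlib

set_option autoImplicit false
open Cfsg

namespace Cfsg.Agent.S3866

/-- Let A be a commutative normal subgroup of the finite group G with G generated by A and an element x. Then a ↦ x a x⁻¹ a⁻¹ is a surjective homomorphism from A onto the commutator subgroup of G whose kernel is the centralizer of x in A; in particular the commutator subgroup has order equal to the index in A of that centralizer. -/
theorem result {G : Type*} [Group G] [Finite G] (A : Subgroup G) [A.Normal] (hA : IsMulCommutative A) (x : G) (hgen : A ⊔ Subgroup.zpowers x = ⊤) : (∀ a ∈ A, x * a * x⁻¹ * a⁻¹ ∈ commutator G) ∧ (∀ c ∈ commutator G, ∃ a ∈ A, x * a * x⁻¹ * a⁻¹ = c) ∧ (∀ a ∈ A, ∀ b ∈ A, x * (a * b) * x⁻¹ * (a * b)⁻¹ = (x * a * x⁻¹ * a⁻¹) * (x * b * x⁻¹ * b⁻¹)) ∧ Nat.card (commutator G) * Nat.card ↥(A ⊓ Subgroup.centralizer ({x} : Set G)) = Nat.card A := by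
  have hcomm : ∀ a ∈ A, ∀ b ∈ A, a * b = b * a := fun a ha b hb =>
    congrArg Subtype.val (hA.is_comm.comm (⟨a, ha⟩ : A) ⟨b, hb⟩)
  have hconj : ∀ g : G, ∀ a ∈ A, g * a * g⁻¹ ∈ A := fun g a ha =>
    Subgroup.Normal.conj_mem inferInstance a ha g
  have hmul : ∀ a ∈ A, ∀ b ∈ A, x * (a * b) * x⁻¹ * (a * b)⁻¹ =
      (x * a * x⁻¹ * a⁻¹) * (x * b * x⁻¹ * b⁻¹) := by
    intro a ha b hb
    have h1 := hcomm _ (A.inv_mem ha) _ (A.mul_mem (hconj x b hb) (A.inv_mem hb))
    calc x * (a * b) * x⁻¹ * (a * b)⁻¹ = x * a * x⁻¹ * ((x * b * x⁻¹ * b⁻¹) * a⁻¹) := by group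
      _ = x * a * x⁻¹ * (a⁻¹ * (x * b * x⁻¹ * b⁻¹)) := by rw [h1]
      _ = _ := by group
  let φ : A →* G := MonoidHom.mk' (fun a => x * a * x⁻¹ * (a : G)⁻¹) (fun a b => hmul a a.2 b b.2)
  have hBA : φ.range ≤ A := by
    rintro _ ⟨a, rfl⟩
    exact A.mul_mem (hconj x a a.2) (A.inv_mem a.2)
  have hBn : φ.range.Normal := by
    rw [← Subgroup.normalizer_eq_top_iff, eq_top_iff, ← hgen, sup_le_iff]
    constructor
    · rw [Subgroup.le_normalizer_iff]
      intro a ha k hk
      rw [hcomm a ha k (hBA hk), mul_inv_cancel_right]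
      exact hk
    · rw [Subgroup.zpowers_le]
      apply Subgroup.mem_normalizer_fintype
      rintro _ ⟨a, rfl⟩
      refine ⟨⟨x * a * x⁻¹, hconj x a a.2⟩, ?_⟩
      show x * (x * a * x⁻¹) * x⁻¹ * (x * a * x⁻¹)⁻¹ = x * (x * a * x⁻¹ * (a : G)⁻¹) * x⁻¹
      group
  have hxa : ∀ a ∈ A, (QuotientGroup.mk x : G ⧸ φ.range) * QuotientGroup.mk a =
      QuotientGroup.mk a * QuotientGroup.mk x := by
    intro a ha
    have : (QuotientGroup.mk (x * a * x⁻¹ * a⁻¹) : G ⧸ φ.range) = 1 :=
      (QuotientGroup.eq_one_iff _).2 ⟨⟨a, ha⟩, rfl⟩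
    simp only [QuotientGroup.mk_mul, QuotientGroup.mk_inv] at this
    rw [mul_inv_eq_one, mul_inv_eq_iff_eq_mul] at this
    exact this
  have hcen : ∀ g : G, (∀ a ∈ A, (QuotientGroup.mk g : G ⧸ φ.range) * QuotientGroup.mk a =
      QuotientGroup.mk a * QuotientGroup.mk g) →
      (QuotientGroup.mk g : G ⧸ φ.range) * QuotientGroup.mk x =
        QuotientGroup.mk x * QuotientGroup.mk g →
      ∀ h : G, (QuotientGroup.mk h : G ⧸ φ.range) * QuotientGroup.mk g =
        QuotientGroup.mk g * QuotientGroup.mk h := by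
    intro g h1 h2 h
    have : (⊤ : Subgroup G) ≤ (Subgroup.centralizer {(QuotientGroup.mk g : G ⧸ φ.range)}).comap
        (QuotientGroup.mk' φ.range) := by
      rw [← hgen, sup_le_iff, Subgroup.zpowers_le]
      refine ⟨fun a ha => ?_, ?_⟩
      · rw [Subgroup.mem_comap, Subgroup.mem_centralizer_singleton_iff]
        exact (h1 a ha).symm
      · rw [Subgroup.mem_comap, Subgroup.mem_centralizer_singleton_iff]
        exact h2.symm
    have := this (Subgroup.mem_top h)
    rw [Subgroup.mem_comap, Subgroup.mem_centralizer_singleton_iff] at this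
    exact this
  have hall : ∀ g h : G, (QuotientGroup.mk h : G ⧸ φ.range) * QuotientGroup.mk g =
        QuotientGroup.mk g * QuotientGroup.mk h := by
    intro g h
    apply hcen g
    · intro a ha
      apply hcen a
      · intro b hb
        rw [← QuotientGroup.mk_mul, ← QuotientGroup.mk_mul, hcomm a ha b hb]
      · exact (hxa a ha).symm
    · exact hcen x hxa rfl g
  have hle : commutator G ≤ φ.range := by
    rw [commutator_def, Subgroup.commutator_le]
    intro g _ h _
    rw [← QuotientGroup.eq_one_iff, commutatorElement_def]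
    simp only [QuotientGroup.mk_mul, QuotientGroup.mk_inv]
    rw [hall h g]
    group
  have hge : ∀ a ∈ A, x * a * x⁻¹ * a⁻¹ ∈ commutator G := fun a _ =>
    Subgroup.commutator_mem_commutator (Subgroup.mem_top x) (Subgroup.mem_top a)
  have heq : commutator G = φ.range := by
    refine le_antisymm hle ?_
    rintro _ ⟨a, rfl⟩
    exact hge a a.2
  refine ⟨hge, fun c hc => ?_, hmul, ?_⟩
  · obtain ⟨a, rfl⟩ := hle hc
    exact ⟨a, a.2, rfl⟩
  · have hker : φ.ker = (A ⊓ Subgroup.centralizer ({x} : Set G)).subgroupOf A := by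
      ext a
      rw [MonoidHom.mem_ker, Subgroup.mem_subgroupOf, Subgroup.mem_inf,
        Subgroup.mem_centralizer_singleton_iff]
      show x * a * x⁻¹ * (a : G)⁻¹ = 1 ↔ _
      rw [mul_inv_eq_one, mul_inv_eq_iff_eq_mul]
      simp [eq_comm]
    rw [heq, ← Subgroup.index_ker, ← Nat.card_congr
      (Subgroup.subgroupOfEquivOfLe (inf_le_left : A ⊓ Subgroup.centralizer ({x} : Set G) ≤ A)).toEquiv,
      ← hker, Subgroup.index_mul_card]

end Cfsg.Agent.S3866
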