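import Cfsg.Statements.S3807
import Mathlib
import Cfsg.Agent.S3866
import Cfsg.Agent.Lib.PGroup.Basic
import Cfsg.Agent.Lib.Core.Basic
import Cfsg.Agent.Lib.Fgs.PrimeSubgroupCount

set_option autoImplicit false
open Cfsg

namespace Cfsg.Agent.S3807

theorem sup_eq_top_of_not_le {S : Type*} [Group S] [Finite S] {p : ℕ} (hp : p.Prime)
    {A B : Subgroup S} (hA : A.index = p) (h : ¬ B ≤ A) : A ⊔ B = ⊤ := by
  have h1 : (A ⊔ B).index ∣ p := hA ▸ Subgroup.index_dvd_of_le le_sup_left
  rcases (Nat.dvd_prime hp).1 h1 with h2 | h2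
  · exact Subgroup.index_eq_one.1 h2
  · exfalso
    apply h
    have h3 : A = A ⊔ B := by
      apply Subgroup.eq_of_le_of_card_ge le_sup_left
      have e1 := A.index_mul_card
      have e2 := (A ⊔ B).index_mul_card
      rw [hA] at e1
      rw [h2, ← e1] at e2
      exact (Nat.eq_of_mul_eq_mul_left hp.pos e2).le
    rw [h3]
    exact le_sup_right

theorem center_le {S : Type*} [Group S] [Finite S] {p : ℕ} (hp : p.Prime)
    (hna : ¬ IsMulCommutative S) (A : Subgroup S) (hA : IsMulCommutative ↥A) (hAi : A.index = p) :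
    Subgroup.center S ≤ A := by
  by_contra h
  have h1 := sup_eq_top_of_not_le hp hAi h
  apply hna
  refine ⟨⟨fun a b => ?_⟩⟩
  obtain ⟨a1, ha1, a2, ha2, rfl⟩ := Subgroup.mem_sup_of_normal_right.1 (h1 ▸ Subgroup.mem_top a)
  obtain ⟨b1, hb1, b2, hb2, rfl⟩ := Subgroup.mem_sup_of_normal_right.1 (h1 ▸ Subgroup.mem_top b)
  have e1 := CfsgLib.Core.isMulCommutative_iff_forall.1 hA a1 ha1 b1 hb1
  have e2 := Subgroup.mem_center_iff.1 ha2
  have e3 := Subgroup.mem_center_iff.1 hb2
  calc a1 * a2 * (b1 * b2) = a1 * (b1 * b2 * a2) := by rw [mul_assoc, e2]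
    _ = (a1 * b1) * b2 * a2 := by group
    _ = b1 * (a1 * b2) * a2 := by rw [e1]; group
    _ = _ := by rw [e3]; group

/-- Let S be a non-abelian finite p-group with an abelian subgroup A of index p. Then [S : Z(S)] = p·#[S,S], and either [S,S] has order p, S/Z(S) is elementary abelian of order p², and S has exactly p + 1 abelian subgroups of index p; or [S,S] has order at least p² and A is the only abelian subgroup of index p in S. -/
theorem result {S : Type*} [Group S] [Finite S] (p : ℕ) [Fact p.Prime] (hS : IsPGroup p S) (hna : ¬ IsMulCommutative S)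
    (A : Subgroup S) (hA : IsMulCommutative ↥A) (hAi : A.index = p) :
    (Subgroup.center S).index = p * Nat.card (commutator S) ∧
      ((Nat.card (commutator S) = p ∧ Cfsg.IsElementaryAbelian p (⊤ : Subgroup (S ⧸ Subgroup.center S)) ∧
          Nat.card (S ⧸ Subgroup.center S) = p ^ 2 ∧
          Nat.card {B : Subgroup S // IsMulCommutative ↥B ∧ B.index = p} = p + 1) ∨
        (p ^ 2 ≤ Nat.card (commutator S) ∧ ∀ B : Subgroup S, IsMulCommutative ↥B → B.index = p → B = A)) := by
  have hp : p.Prime := Fact.out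
  have hAn : A.Normal := CfsgLib.PGroup.normal_of_index_eq_prime hS hAi
  obtain ⟨x, hx⟩ : ∃ x, x ∉ A := by
    by_contra hcon
    push Not at hcon
    have : A = ⊤ := eq_top_iff.2 fun x _ => hcon x
    rw [this, Subgroup.index_top] at hAi
    exact hp.one_lt.ne hAi
  have hgen : A ⊔ Subgroup.zpowers x = ⊤ :=
    sup_eq_top_of_not_le hp hAi (fun h => hx (Subgroup.zpowers_le.1 h))
  have hZA := center_le hp hna A hA hAi
  have hZ : A ⊓ Subgroup.centralizer ({x} : Set S) = Subgroup.center S := by
    refine le_antisymm ?_ (le_inf hZA (Subgroup.center_le_centralizer _))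
    intro a ha
    rw [← Subgroup.centralizer_univ, ← Subgroup.coe_top, ← hgen,
      CfsgLib.PGroup.centralizer_sup_zpowers]
    exact ⟨fun b hb => CfsgLib.Core.isMulCommutative_iff_forall.1 hA b hb a ha.1, ha.2⟩
  have h1 := (Cfsg.Agent.S3866.result A hA x hgen).2.2.2
  rw [hZ] at h1
  have hidx : (Subgroup.center S).index = p * Nat.card (commutator S) := by
    have e1 := A.index_mul_card
    have e2 := (Subgroup.center S).index_mul_card
    rw [hAi, ← h1, ← mul_assoc, ← e2] at e1
    exact (Nat.eq_of_mul_eq_mul_right Nat.card_pos e1).symm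
  refine ⟨hidx, ?_⟩
  obtain ⟨k, hk⟩ := (hS.to_subgroup (commutator S)).exists_card_eq
  have hk0 : k ≠ 0 := by
    rintro rfl
    rw [pow_zero, Subgroup.card_eq_one, commutator_eq_bot_iff_center_eq_top] at hk
    apply hna
    exact ⟨⟨fun a b => Subgroup.mem_center_iff.1 (hk ▸ Subgroup.mem_top b) a⟩⟩
  by_cases hk1 : k = 1
  · left
    rw [hk1, pow_one] at hk
    have hq : Nat.card (S ⧸ Subgroup.center S) = p ^ 2 := by
      rw [← Subgroup.index_eq_card, hidx, hk, pow_two]
    have hnc : ¬ IsCyclic (S ⧸ Subgroup.center S) := fun h =>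
      hna (isMulCommutative_of_isCyclic_quotient_center_self S)
    have hexp := (not_isCyclic_iff_exponent_eq_prime hp hq).1 hnc
    have hpow : ∀ y : S ⧸ Subgroup.center S, y ^ p = 1 := fun y => hexp ▸ Monoid.pow_exponent_eq_one y
    have hcomm := IsPGroup.isMulCommutative_of_card_eq_prime_sq hq
    refine ⟨hk, ⟨inferInstance, fun a _ => hpow a⟩, hq, ?_⟩
    rw [← CfsgLib.Fgs.card_primeSubgroups_of_card_sq hp hpow hq]
    have hcard : ∀ H : Subgroup (S ⧸ Subgroup.center S), Nat.card H = p ↔ H.index = p := by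
      intro H
      have e := H.index_mul_card
      rw [hq, pow_two] at e
      constructor
      · intro h
        rw [h] at e
        exact Nat.eq_of_mul_eq_mul_right hp.pos e
      · intro h
        rw [h] at e
        exact Nat.eq_of_mul_eq_mul_left hp.pos e
    have hsurj := QuotientGroup.mk'_surjective (Subgroup.center S)
    symm
    refine Nat.card_congr (Equiv.ofBijective (fun H => ⟨H.1.comap (QuotientGroup.mk' _), ?_, ?_⟩)
      ⟨?_, ?_⟩)
    · have : IsCyclic H.1 := isCyclic_of_prime_card H.2
      refine MonoidHom.isMulCommutative_of_isCyclic_of_ker_le_center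
        ((QuotientGroup.mk' _).subgroupComap H.1) ?_
      intro y hy
      have h2 : (y : S) ∈ Subgroup.center S := by
        rw [← QuotientGroup.eq_one_iff]
        exact congrArg Subtype.val hy
      rw [Subgroup.mem_center_iff]
      intro g
      exact Subtype.ext (Subgroup.mem_center_iff.1 h2 g)
    · rw [Subgroup.index_comap_of_surjective _ hsurj]
      exact (hcard _).1 H.2
    · intro H K h
      exact Subtype.ext (Subgroup.comap_injective hsurj (congrArg Subtype.val h))
    · rintro ⟨B, hB, hBi⟩
      have hZB := center_le hp hna B hB hBi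
      have e : (B.map (QuotientGroup.mk' (Subgroup.center S))).comap (QuotientGroup.mk' _) = B := by
        rw [Subgroup.comap_map_eq, QuotientGroup.ker_mk', sup_eq_left.2 hZB]
      refine ⟨⟨B.map (QuotientGroup.mk' _), ?_⟩, Subtype.ext e⟩
      rw [hcard, ← Subgroup.index_comap_of_surjective _ hsurj, e, hBi]
  · right
    have hk2 : 2 ≤ k := by omega
    refine ⟨hk ▸ Nat.pow_le_pow_right hp.pos hk2, fun B hB hBi => ?_⟩
    by_contra hne
    have hBA : ¬ B ≤ A := by
      intro h
      apply hne
      apply Subgroup.eq_of_le_of_card_ge h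
      have e1 := A.index_mul_card
      have e2 := B.index_mul_card
      rw [hAi] at e1
      rw [hBi, ← e1] at e2
      exact (Nat.eq_of_mul_eq_mul_left hp.pos e2).ge
    have hsup := sup_eq_top_of_not_le hp hAi hBA
    have hle : A ⊓ B ≤ Subgroup.center S := by
      intro a ha
      rw [← Subgroup.centralizer_univ, ← Subgroup.coe_top, ← hsup, CfsgLib.Core.centralizer_sup]
      exact ⟨fun b hb => CfsgLib.Core.isMulCommutative_iff_forall.1 hA b hb a ha.1,
        fun b hb => CfsgLib.Core.isMulCommutative_iff_forall.1 hB b hb a ha.2⟩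
    have h2 : (Subgroup.center S).index ≤ p * p := by
      refine (Subgroup.index_antitone hle).trans ?_
      have := Subgroup.index_inf_le (H := A) (K := B)
      rwa [hAi, hBi] at this
    rw [hidx, hk] at h2
    have h3 := Nat.le_of_mul_le_mul_left h2 hp.pos
    have h4 : p ^ 1 < p ^ k := Nat.pow_lt_pow_right hp.one_lt hk2
    rw [pow_one] at h4
    omega

end Cfsg.Agent.S3807
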