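import Cfsg.Statements.S3808
import Mathlib
import Cfsg.Agent.S3807

set_option autoImplicit false
open Cfsg

namespace Cfsg.Agent.S3808

/-- Let S be a finite p-group with an extraspecial subgroup Q of index p. Then either Z(S) = Z(Q), or S = Q·Z(S) and Z(S) has order p². -/
theorem result {S : Type*} [Group S] [Finite S] (p : ℕ) [Fact p.Prime] (hS : IsPGroup p S) (Q : Subgroup S) (hQ : Cfsg.IsExtraspecial p ↥Q) (hQi : Q.index = p) :
    Subgroup.center S = (Subgroup.center ↥Q).map Q.subtype ∨
      (Q ⊔ Subgroup.center S = ⊤ ∧ Nat.card (Subgroup.center S) = p ^ 2) := by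
  have hp : p.Prime := Fact.out
  have hQn : Q.Normal := CfsgLib.PGroup.normal_of_index_eq_prime hS hQi
  have hn : ((Subgroup.center Q).map Q.subtype).Normal :=
    CfsgLib.Core.normal_map_subtype_of_characteristic _
  have hc : Nat.card ((Subgroup.center Q).map Q.subtype) = p := by
    rw [CfsgLib.Core.card_map_subtype, hQ.2]
  have hle := CfsgLib.PGroup.le_center_of_card_eq_prime hS _ hc
  have hinf : Subgroup.center S ⊓ Q = (Subgroup.center Q).map Q.subtype := by
    refine le_antisymm ?_ (le_inf hle (Subgroup.map_subtype_le _))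
    rw [CfsgLib.Core.map_subtype_center, inf_comm]
    exact inf_le_inf_left _ (Subgroup.center_le_centralizer _)
  by_cases h : Subgroup.center S ≤ Q
  · left
    rw [← hinf, inf_eq_left.2 h]
  · right
    have hsup := Cfsg.Agent.S3807.sup_eq_top_of_not_le hp hQi h
    refine ⟨hsup, ?_⟩
    have e1 := CfsgLib.Core.card_sup_mul_card_inf_of_normal Q (Subgroup.center S)
    rw [hsup, inf_comm, hinf, hc, Subgroup.card_top, ← Q.index_mul_card, hQi] at e1
    apply Nat.eq_of_mul_eq_mul_left (Nat.card_pos (α := Q))
    rw [← e1]; ring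

end Cfsg.Agent.S3808
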