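import Cfsg.Statements.S3809
import Cfsg.Agent.Lib.PGroup.Extraspecial

set_option autoImplicit false
open Cfsg

namespace Cfsg.Agent.S3809

open CfsgLib.PGroup

/-- Let S be a finite p-group with an extraspecial subgroup of index p. Then S has order p^(2+2n) for some n ≥ 1, derived length at most 3, and exponent dividing p³. -/
theorem result {S : Type*} [Group S] [Finite S] (p : ℕ) [Fact p.Prime] (hS : IsPGroup p S) (Q : Subgroup S) (hQ : Cfsg.IsExtraspecial p ↥Q) (hQi : Q.index = p) :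
    (∃ n : ℕ, 1 ≤ n ∧ Nat.card S = p ^ (2 + 2 * n)) ∧ derivedSeries S 3 = ⊥ ∧ ∀ x : S, x ^ (p ^ 3) = 1 := by
  haveI : Q.Normal := normal_of_index_eq_prime hS hQi
  refine ⟨?_, ?_, ?_⟩
  · obtain ⟨n, hn, hc⟩ := IsExtraspecial.exists_card_eq hQ
    refine ⟨n, hn, ?_⟩
    rw [← Q.card_mul_index, hc, hQi]
    ring
  · have h1 : ⁅(⊤ : Subgroup S), (⊤ : Subgroup S)⁆ ≤ Q := by
      haveI : IsCyclic (S ⧸ Q) := isCyclic_of_prime_card (p := p) hQi
      exact Subgroup.Normal.quotient_commutative_iff_commutator_le.1 IsCyclic.isMulCommutative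
    have h2 : ⁅⁅(⊤ : Subgroup S), (⊤ : Subgroup S)⁆, ⁅(⊤ : Subgroup S), (⊤ : Subgroup S)⁆⁆ ≤
        Q ⊓ Subgroup.centralizer (Q : Set S) := by
      rw [← (IsExtraspecial.ambient hQ).1]
      exact Subgroup.commutator_mono h1 h1
    rw [derivedSeries_succ, derivedSeries_succ, derivedSeries_succ, derivedSeries_zero,
      Subgroup.commutator_eq_bot_iff_le_centralizer]
    intro x hx y hy
    exact (Subgroup.mem_inf.1 (h2 hx)).2 y (Subgroup.mem_inf.1 (h2 hy)).1
  · intro x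
    have h1 : x ^ p ∈ Q := hQi ▸ Subgroup.pow_index_mem Q x
    have h2 := IsExtraspecial.pow_eq_one_of_mem_center hQ
      (IsExtraspecial.pow_mem_center hQ ⟨x ^ p, h1⟩)
    have h3 : ((x ^ p) ^ p) ^ p = 1 := congrArg Subtype.val h2
    rw [← h3, ← pow_mul, ← pow_mul]
    congr 1
    ring

end Cfsg.Agent.S3809
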