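import Cfsg.Statements.S3810
import Cfsg.Agent.Lib.PGroup.Extraspecial

set_option autoImplicit false
open Cfsg

namespace Cfsg.Agent.S3810

open CfsgLib.PGroup

/-- Let S be a finite p-group with an extraspecial subgroup of index p. Then S has an abelian subgroup of index p if and only if S has order p⁴. -/
theorem result {S : Type*} [Group S] [Finite S] (p : ℕ) [Fact p.Prime] (hS : IsPGroup p S) (Q : Subgroup S) (hQ : Cfsg.IsExtraspecial p ↥Q) (hQi : Q.index = p) :
    (∃ A : Subgroup S, IsMulCommutative ↥A ∧ A.index = p) ↔ Nat.card S = p ^ 4 := by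
  have hp : p.Prime := Fact.out
  obtain ⟨n, hn, hc⟩ := IsExtraspecial.exists_card_eq hQ
  have hSc : Nat.card S = p ^ (2 * n + 2) := by
    rw [← Q.card_mul_index, hc, hQi]
    ring
  constructor
  · rintro ⟨A, hA, hAi⟩
    haveI : A.Normal := normal_of_index_eq_prime hS hAi
    have h1 := IsExtraspecial.card_le_of_isMulCommutative hQ hc (A := A.subgroupOf Q) inferInstance
    have h2 : (A.subgroupOf Q).index ≤ p :=
      Nat.le_of_dvd hp.pos (hAi ▸ Subgroup.relIndex_dvd_index_of_normal A Q)
    have h3 := (A.subgroupOf Q).card_mul_index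
    have h4 : p ^ (2 * n + 1) ≤ p ^ (n + 1 + 1) := by
      rw [← hc, ← h3, pow_succ p (n + 1)]
      exact Nat.mul_le_mul h1 h2
    have h5 := (Nat.pow_le_pow_iff_right hp.one_lt).1 h4
    rw [hSc]
    congr 1
    omega
  · intro h4
    haveI := hS.isNilpotent
    obtain ⟨B, -, hBn, hBc, hBs⟩ := exists_scn_ge (⊥ : Subgroup S) inferInstance
    obtain ⟨a, ha⟩ := (hS.to_subgroup B).exists_card_eq
    have h1 := index_centralizer_le_of_normal hS a B ha
    have h2 : B.index ≤ (Subgroup.centralizer (B : Set S)).index :=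
      Nat.le_of_dvd (Nat.pos_of_ne_zero Subgroup.index_ne_zero_of_finite)
        (Subgroup.index_dvd_of_le hBs)
    have h3 := B.card_mul_index
    rw [ha, h4] at h3
    have ha4 : a ≤ 4 := (Nat.pow_dvd_pow_iff_le_right hp.one_lt).1 ⟨_, h3.symm⟩
    have hi : B.index = p ^ (4 - a) := by
      apply Nat.eq_of_mul_eq_mul_left (pow_pos hp.pos a)
      rw [h3, ← pow_add]
      congr 1
      omega
    have h5 : 4 - a ≤ a.choose 2 := (Nat.pow_le_pow_iff_right hp.one_lt).1 (hi ▸ h2.trans h1)
    have ha3 : a = 3 := by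
      interval_cases a
      · simp at h5
      · simp at h5
      · simp at h5
      · rfl
      · exfalso
        have hB : B = ⊤ := Subgroup.index_eq_one.1 (by simpa using hi)
        apply IsExtraspecial.not_isMulCommutative hQ
        refine ⟨⟨fun x y => Subtype.ext ?_⟩⟩
        exact isMulCommutative_iff.1 hBc x.1 (hB ▸ trivial) y.1 (hB ▸ trivial)
    exact ⟨B, hBc, by rw [hi, ha3]; simp⟩

end Cfsg.Agent.S3810
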