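import Cfsg.Statements.S3811
import Cfsg.Agent.Lib.PGroup.Basic
import Cfsg.Agent.Lib.Core.Frattini
import Cfsg.Agent.Lib.Core.Fitting

set_option autoImplicit false
open Cfsg

namespace Cfsg.Agent.S3811

open Subgroup CfsgLib

universe u

/-- soft subgroups -/
structure Soft {P : Type*} [Group P] (p : ℕ) (E : Subgroup P) : Prop where
  ab : ∀ a ∈ E, ∀ b ∈ E, a * b = b * a
  cent : centralizer (E : Set P) ≤ E
  idx : E.relIndex (normalizer (E : Set P)) = p

section
variable {P : Type*} [Group P] [Finite P] {p : ℕ} [hp : Fact p.Prime]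

theorem relIndex_pow (hP : IsPGroup p P) (H K : Subgroup P) : ∃ n, H.relIndex K = p ^ n :=
  (hP.to_subgroup K).index _

theorem eq_of_pow_lt {n : ℕ} (h1 : p ^ n ≠ 1) (h2 : p ^ n < p ^ 2) : p ^ n = p := by
  have := (Nat.pow_lt_pow_iff_right hp.out.one_lt).1 h2
  have h0 : n ≠ 0 := by rintro rfl; exact h1 (pow_zero p)
  have : n = 1 := by omega
  rw [this, pow_one]

omit [Finite P] in
theorem Soft.eq_or {E K : Subgroup P} (h : Soft p E) (h1 : E ≤ K)
    (h2 : K ≤ normalizer (E : Set P)) : K = E ∨ K = normalizer (E : Set P) :=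
  Core.eq_or_eq_of_relIndex_prime (h.idx ▸ hp.out) h1 h2

theorem Soft.eq_or_le (hP : IsPGroup p P) {E K : Subgroup P} (h : Soft p E) (h1 : E ≤ K) :
    K = E ∨ normalizer (E : Set P) ≤ K := by
  rcases h1.lt_or_eq with h2 | h2
  · have h3 := Core.lt_inf_normalizer_of_isPGroup (hP.to_subgroup K) h2
    rcases h.eq_or h3.le inf_le_right with h4 | h4
    · exact absurd h4 h3.ne'
    · exact Or.inr (h4 ▸ inf_le_left)
  · exact Or.inl h2.symm

/-- the second step of the tower has index `p` -/
theorem Soft.idx_two (hP : IsPGroup p P) {E : Subgroup P} (h : Soft p E)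
    (hN : normalizer (E : Set P) ≠ ⊤) :
    (normalizer (E : Set P)).relIndex (normalizer (normalizer (E : Set P) : Set P)) = p := by
  set N := normalizer (E : Set P) with hNdef
  set M := normalizer (N : Set P) with hM
  have := hP.isNilpotent
  have hlt : N < M := Core.lt_normalizer_of_isNilpotent hN
  obtain ⟨y, hyM, hyN⟩ := SetLike.exists_of_lt hlt
  have hEN : E ≤ N := le_normalizer
  set E' := E.map (MulAut.conj y).toMonoidHom with hE'
  have hNy : N.map (MulAut.conj y).toMonoidHom = N := Core.mem_normalizer_iff_map_conj_eq'.1 hyM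
  have hE'N : E' ≤ N := hNy ▸ map_mono hEN
  have hE'idx : E'.relIndex N = p := by
    conv_lhs => rw [← hNy]
    rw [hE', relIndex_map_map_of_injective _ _ (MulAut.conj y).injective, h.idx]
  have hsup : E ⊔ E' = N := by
    refine (h.eq_or le_sup_left (sup_le hEN hE'N)).resolve_left fun h1 => hyN ?_
    refine Core.mem_normalizer_of_forall_conj_mem fun x hx => ?_
    rw [← h1]; exact mem_sup_right ⟨x, hx, rfl⟩
  set Z := N ⊓ centralizer (N : Set P) with hZ
  have hZE : Z ≤ E := inf_le_right.trans ((centralizer_le hEN).trans h.cent)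
  have hinf : E ⊓ E' ≤ Z := by
    intro x ⟨hx, hx'⟩
    refine ⟨hEN hx, ?_⟩
    have : N ≤ centralizer {x} := by
      rw [← hsup]
      refine sup_le (fun a ha => mem_centralizer_singleton_iff.2 (h.ab a ha x hx)) ?_
      rintro _ ⟨a, ha, rfl⟩
      obtain ⟨b, hb, rfl⟩ := hx'
      rw [mem_centralizer_singleton_iff, ← map_mul, ← map_mul, h.ab a ha b hb]
    intro n hn
    exact mem_centralizer_singleton_iff.1 (this hn)
  have hZne : ¬ E ≤ Z := by
    intro h1
    have : N ≤ E := by
      refine le_trans ?_ h.cent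
      intro n hn e he
      exact ((h1 he).2 n hn).symm
    have h2 := h.idx
    rw [relIndex_eq_one.2 this] at h2
    exact hp.out.one_lt.ne h2
  have hZidx : Z.relIndex E = p := by
    obtain ⟨n, hn⟩ := relIndex_pow hP Z E
    have h1 : Z.relIndex E ≤ p := by
      calc Z.relIndex E ≤ (E ⊓ E').relIndex E :=
            relIndex_le_of_le_left hinf FiniteIndex.index_ne_zero
        _ = E'.relIndex E := inf_relIndex_left _ _
        _ ≤ E'.relIndex N := relIndex_le_of_le_right hEN FiniteIndex.index_ne_zero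
        _ = p := hE'idx
    rw [hn] at h1 ⊢
    refine eq_of_pow_lt (fun h2 => hZne (relIndex_eq_one.1 (hn.trans h2))) (h1.trans_lt ?_)
    have := hp.out.one_lt
    nlinarith
  have hZN : Z.relIndex N = p ^ 2 := by
    rw [← relIndex_mul_relIndex _ _ _ hZE hEN, hZidx, h.idx, pow_two]
  obtain ⟨a, haE, haZ⟩ := SetLike.not_le_iff_exists.1 hZne
  have hMZ : M ≤ normalizer (Z : Set P) :=
    (le_inf le_rfl (Core.normalizer_le_normalizer_centralizer _)).trans
      inf_normalizer_le_normalizer_inf
  have hconj : ∀ w ∈ M, w * a * w⁻¹ ∈ N := fun w hw => (mem_normalizer_iff.1 hw a).1 (hEN haE)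
  have hstab : ∀ w ∈ M, a⁻¹ * (w * a * w⁻¹) ∈ Z → w ∈ N := by
    intro w hw h1
    let T : Subgroup P := E ⊓ E.comap (MulAut.conj w).toMonoidHom
    have hZT : Z ≤ T := fun z hz => ⟨hZE hz, hZE ((mem_normalizer_iff.1 (hMZ hw) z).1 hz)⟩
    have haT : a ∈ T := ⟨haE, by
      have := E.mul_mem haE (hZE h1)
      simpa using this⟩
    rcases Core.eq_or_eq_of_relIndex_prime (hZidx ▸ hp.out) hZT inf_le_left with h2 | h2
    · exact absurd (h2 ▸ haT) haZ
    · refine Core.mem_normalizer_of_forall_conj_mem fun x hx => ?_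
      have : x ∈ T := h2.symm ▸ hx
      exact this.2
  let f : M ⧸ N.subgroupOf M → N ⧸ Z.subgroupOf N := fun q =>
    QuotientGroup.mk ⟨q.out * a * (q.out : P)⁻¹, hconj _ q.out.2⟩
  have hf : Function.Injective f := by
    intro q r hqr
    have h1 := QuotientGroup.eq.1 hqr
    rw [mem_subgroupOf] at h1
    rw [← q.out_eq, ← r.out_eq]
    refine QuotientGroup.eq.2 (mem_subgroupOf.2 (hstab _ (q.out⁻¹ * r.out).2 ?_))
    have h2 := (mem_normalizer_iff.1 (hMZ (q.out⁻¹).2) _).1 h1
    convert h2 using 1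
    simp only [coe_mul, coe_inv]
    group
  have hns : ¬ Function.Surjective f := by
    intro hs
    obtain ⟨q, hq⟩ := hs (QuotientGroup.mk 1)
    have h1 := QuotientGroup.eq.1 hq
    rw [mem_subgroupOf] at h1
    have h2 := (mem_normalizer_iff.1 (hMZ (q.out⁻¹).2) _).1 (Z.inv_mem h1)
    apply haZ
    convert h2 using 1
    simp only [coe_mul, coe_inv, coe_one]
    group
  have hlt2 : N.relIndex M < Z.relIndex N := by
    have := Fintype.ofFinite (M ⧸ N.subgroupOf M)
    have := Fintype.ofFinite (N ⧸ Z.subgroupOf N)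
    rw [relIndex, relIndex, index, index, Nat.card_eq_fintype_card, Nat.card_eq_fintype_card]
    exact Fintype.card_lt_of_injective_not_surjective f hf hns
  obtain ⟨n, hn⟩ := relIndex_pow hP N M
  rw [hn, hZN] at hlt2
  rw [hn]
  exact eq_of_pow_lt (fun h2 => hlt.not_ge (relIndex_eq_one.1 (hn.trans h2))) hlt2

omit [Finite P] hp in
theorem map_normalizer {L K : Subgroup P} [L.Normal] (h : L ≤ K) :
    (normalizer (K : Set P)).map (QuotientGroup.mk' L) =
      normalizer ((K.map (QuotientGroup.mk' L) : Subgroup (P ⧸ L)) : Set (P ⧸ L)) := by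
  have hs := QuotientGroup.mk'_surjective L
  have h1 := comap_normalizer_eq_of_surjective (K.map (QuotientGroup.mk' L)) hs
  rw [comap_map_eq_self (by rwa [QuotientGroup.ker_mk'])] at h1
  rw [← h1, map_comap_eq_self_of_surjective hs]

omit [Finite P] hp in
theorem relIndex_map_mk {L H K : Subgroup P} [L.Normal] (h : L ≤ H) :
    (H.map (QuotientGroup.mk' L)).relIndex (K.map (QuotientGroup.mk' L)) = H.relIndex K := by
  rw [← relIndex_comap, comap_map_eq_self (by rwa [QuotientGroup.ker_mk'])]

/-- the normaliser is soft modulo the normal core -/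
theorem Soft.quot (hP : IsPGroup p P) {E : Subgroup P} (h : Soft p E)
    (hN : normalizer (E : Set P) ≠ ⊤) :
    Soft p ((normalizer (E : Set P)).map (QuotientGroup.mk' E.normalCore)) := by
  set L := E.normalCore with hL
  set π := QuotientGroup.mk' L with hπ
  set N := normalizer (E : Set P) with hNdef
  have hLE : L ≤ E := normalCore_le E
  have hEN : E ≤ N := le_normalizer
  have hmem : ∀ x, π x = 1 ↔ x ∈ L := fun x => QuotientGroup.eq_one_iff x
  have hidx := h.idx_two hP hN
  have hab : ∀ a ∈ N.map π, ∀ b ∈ N.map π, a * b = b * a := by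
    have : Nontrivial (P ⧸ L) := by
      rw [QuotientGroup.nontrivial_iff]
      intro h1
      exact hN (eq_top_iff.2 (h1.symm.le.trans (hLE.trans hEN)))
    have := (hP.to_quotient L).center_nontrivial
    obtain ⟨⟨z', hz⟩, hz1⟩ := exists_ne (1 : center (P ⧸ L))
    obtain ⟨z, rfl⟩ := QuotientGroup.mk'_surjective L z'
    have hc : ∀ g : P, g * z * g⁻¹ * z⁻¹ ∈ L := fun g => by
      rw [← hmem, map_mul, map_mul, map_mul, mem_center_iff.1 hz (π g)]; simp [hπ]
    have hzE : z ∉ E := by
      intro hzE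
      apply hz1
      refine Subtype.ext ((hmem z).2 fun g => ?_)
      have := E.mul_mem (hLE (hc g)) hzE
      simpa using this
    have hzN : z ∈ N := by
      refine Core.mem_normalizer_of_forall_conj_mem fun x hx => ?_
      have := E.mul_mem (E.inv_mem (hLE (hc x))) hx
      convert this using 1; group
    have hsup : E ⊔ zpowers z = N := by
      refine (h.eq_or le_sup_left (sup_le hEN (zpowers_le.2 hzN))).resolve_left fun h1 => hzE ?_
      rw [← h1]; exact mem_sup_right (mem_zpowers z)
    have h1 : ∀ a ∈ E ⊔ zpowers z, ∃ e ∈ E, ∃ c ∈ center (P ⧸ L), π a = π e * c := by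
      intro a ha
      obtain ⟨e, he, w, hw, rfl⟩ := (Core.mem_sup_of_le_normalizer_left (zpowers_le.2 hzN)).1 ha
      obtain ⟨k, rfl⟩ := hw
      exact ⟨e, he, π z ^ k, zpow_mem hz k, by simp⟩
    rintro _ ⟨a, ha, rfl⟩ _ ⟨b, hb, rfl⟩
    obtain ⟨e, he, c, hc', h2⟩ := h1 a (hsup ▸ ha)
    obtain ⟨e', he', c', hc'', h3⟩ := h1 b (hsup ▸ hb)
    have h4 : π e * π e' = π e' * π e := by rw [← map_mul, h.ab e he e' he', map_mul]
    rw [h2, h3]
    calc π e * c * (π e' * c') = π e * (c * π e') * c' := by group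
      _ = π e * π e' * (c * c') := by rw [← mem_center_iff.1 hc' (π e')]; group
      _ = π e' * π e * (c' * c) := by rw [h4, mem_center_iff.1 hc' c']
      _ = π e' * (π e * c') * c := by group
      _ = π e' * c' * (π e * c) := by rw [mem_center_iff.1 hc'' (π e)]; group
  have hi : (N.map π).relIndex (normalizer ((N.map π : Subgroup (P ⧸ L)) : Set (P ⧸ L))) = p := by
    rw [← map_normalizer (hLE.trans hEN), relIndex_map_mk (hLE.trans hEN), hidx]
  refine ⟨hab, ?_, hi⟩
  have h1 : N.map π ≤ centralizer ((N.map π : Subgroup (P ⧸ L)) : Set (P ⧸ L)) :=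
    fun a ha b hb => hab b hb a ha
  rcases Core.eq_or_eq_of_relIndex_prime (hi ▸ hp.out) h1 (centralizer_le_normalizer _) with h2 | h2
  · exact h2.le
  · exfalso
    have := hP.isNilpotent
    obtain ⟨y, hyM, hyN⟩ := SetLike.exists_of_lt (Core.lt_normalizer_of_isNilpotent hN)
    apply hyN
    have h3 : π y ∈ centralizer ((N.map π : Subgroup (P ⧸ L)) : Set (P ⧸ L)) := by
      rw [h2, ← map_normalizer (hLE.trans hEN)]; exact mem_map_of_mem _ hyM
    refine Core.mem_normalizer_of_forall_conj_mem fun x hx => ?_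
    have h4 : y * x * y⁻¹ * x⁻¹ ∈ L := by
      rw [← hmem, map_mul, map_mul, map_mul, ← h3 _ (mem_map_of_mem π (hEN hx))]; simp
    simpa using E.mul_mem (hLE h4) hx
end

theorem main {p : ℕ} [hp : Fact p.Prime] : ∀ (n : ℕ) (P : Type u) [Group P] [Finite P],
    Nat.card P = n → IsPGroup p P → ∀ E : Subgroup P, Soft p E →
    (∀ K L : Subgroup P, E ≤ K → E ≤ L → K ≤ L ∨ L ≤ K) ∧
    (∀ K : Subgroup P, E ≤ K → K ≠ ⊤ → K.relIndex (normalizer (K : Set P)) = p) ∧
    ∀ (i : ℕ) (K : Subgroup P), E ≤ K → K ≠ ⊤ → E.relIndex K = p ^ i →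
      Group.nilpotencyClass K ≤ i + 1 := by
  intro n
  induction n using Nat.strong_induction_on with
  | _ n ih =>
  intro P _ _ hn hP E h
  have hE1 : ∀ i, Group.nilpotencyClass E ≤ i + 1 := fun i => by
    have := (hP.to_subgroup E).isNilpotent
    have : Group.nilpotencyClass E ≤ 1 := Group.IsNilpotent.nilpotencyClass_le_one_iff.2
      ⟨⟨fun a b => Subtype.ext (h.ab a a.2 b b.2)⟩⟩
    omega
  by_cases hN : normalizer (E : Set P) = ⊤
  · have h1 : ∀ K, E ≤ K → K = E ∨ K = ⊤ := fun K hK =>
      (h.eq_or_le hP hK).imp_right fun h2 => eq_top_iff.2 (hN ▸ h2)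
    refine ⟨fun K L hK hL => ?_, fun K hK hK' => ?_, fun i K hK hK' _ => ?_⟩
    · rcases h1 K hK with rfl | rfl
      · exact Or.inl hL
      · exact Or.inr le_top
    · rw [(h1 K hK).resolve_right hK']; exact h.idx
    · rw [(h1 K hK).resolve_right hK']; exact hE1 i
  set L := E.normalCore with hL
  set π := QuotientGroup.mk' L with hπ
  set N := normalizer (E : Set P) with hNdef
  have hLE : L ≤ E := normalCore_le E
  have hEN : E ≤ N := le_normalizer
  have hLne : L ≠ ⊥ := by
    have : Nontrivial P := by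
      by_contra h1
      rw [not_nontrivial_iff_subsingleton] at h1
      exact hN (Subsingleton.elim _ _)
    have := hP.center_nontrivial
    intro h1
    have h2 : center P ≤ L := normal_le_normalCore.2 ((center_le_centralizer _).trans h.cent)
    exact (center P).nontrivial_iff_ne_bot.1 inferInstance (le_bot_iff.1 (h1 ▸ h2))
  have hcard : Nat.card (P ⧸ L) < n := by
    rw [← hn, card_eq_card_quotient_mul_card_subgroup L]
    have h1 : 1 < Nat.card L := (one_lt_card_iff_ne_bot L).2 hLne
    have h2 : 0 < Nat.card (P ⧸ L) := Nat.card_pos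
    nlinarith
  obtain ⟨c1, c2, c3⟩ := ih _ hcard (P ⧸ L) rfl (hP.to_quotient L) _ (h.quot hP hN)
  have hker : ∀ K, N ≤ K → π.ker ≤ K := fun K hK => by
    rw [QuotientGroup.ker_mk']; exact hLE.trans (hEN.trans hK)
  have htop : ∀ K, N ≤ K → K ≠ ⊤ → K.map π ≠ ⊤ := fun K hK hK' h1 => hK' (by
    rw [← comap_map_eq_self (hker K hK), h1, comap_top])
  have d1 : ∀ K L : Subgroup P, E ≤ K → E ≤ L → K ≤ L ∨ L ≤ K := by
    intro K K' hK hK'
    rcases h.eq_or_le hP hK with rfl | h1
    · exact Or.inl hK'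
    rcases h.eq_or_le hP hK' with rfl | h2
    · exact Or.inr hK
    rw [← comap_map_eq_self (hker K h1), ← comap_map_eq_self (hker K' h2)]
    exact (c1 _ _ (map_mono h1) (map_mono h2)).imp comap_mono comap_mono
  have d2 : ∀ K : Subgroup P, E ≤ K → K ≠ ⊤ → K.relIndex (normalizer (K : Set P)) = p := by
    intro K hK hK'
    rcases h.eq_or_le hP hK with rfl | h1
    · exact h.idx
    have hLK := hLE.trans hK
    rw [← relIndex_map_mk hLK, map_normalizer hLK]
    exact c2 _ (map_mono h1) (htop K h1 hK')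
  refine ⟨d1, d2, fun i K hK hK' hi => ?_⟩
  rcases h.eq_or_le hP hK with rfl | h1
  · exact hE1 i
  have hi' := relIndex_mul_relIndex _ _ _ hEN h1
  rw [h.idx, hi] at hi'
  obtain ⟨j, rfl⟩ : ∃ j, i = j + 1 := by
    cases i with
    | zero => exact absurd (Nat.eq_one_of_mul_eq_one_right hi') hp.out.one_lt.ne'
    | succ j => exact ⟨j, rfl⟩
  have hj : N.relIndex K = p ^ j := by
    rw [pow_succ'] at hi'
    exact Nat.eq_of_mul_eq_mul_left hp.out.pos hi'
  have h2 := c3 j _ (map_mono h1) (htop K h1 hK') (by rw [relIndex_map_mk (hLE.trans hEN), hj])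
  have hC : K ≤ centralizer (L : Set P) := by
    have hEC : E ≤ centralizer (L : Set P) := fun a ha b hb => h.ab b (hLE hb) a ha
    by_cases h3 : centralizer (L : Set P) = ⊤
    · rw [h3]; exact le_top
    rcases d1 _ _ hK hEC with h4 | h4
    · exact h4
    have h5 := d2 _ hEC h3
    rw [normalizer_eq_top] at h5
    rcases Core.eq_or_eq_of_relIndex_prime (h5 ▸ hp.out) h4 le_top with h6 | h6
    · exact h6.le
    · exact absurd h6 hK'
  have := ((hP.to_quotient L).to_subgroup (K.map π)).isNilpotent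
  refine (Group.nilpotencyClass_le_of_ker_le_center (π.subgroupMap K) ?_).trans
    (Nat.add_le_add_right h2 1)
  intro x hx
  have hxL : (x : P) ∈ L := (QuotientGroup.eq_one_iff _).1 (congrArg Subtype.val hx)
  exact mem_center_iff.2 fun g => Subtype.ext (hC g.2 x hxL).symm

/-- the normaliser tower -/
def tower {P : Type*} [Group P] (E : Subgroup P) : ℕ → Subgroup P
  | 0 => E
  | j + 1 => normalizer (tower E j : Set P)

theorem le_tower {P : Type*} [Group P] (E : Subgroup P) : ∀ j, E ≤ tower E j
  | 0 => le_rfl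
  | j + 1 => (le_tower E j).trans le_normalizer

/-- Let P be a finite p-group and E an abelian subgroup of P that contains its centralizer, has index p in its normalizer, and has index at least p² in P. Then the subgroups of P containing E are totally ordered by inclusion, each proper one has index p in its normalizer (so they form the normalizer tower of E, with all steps of index p), and the i-th member of the tower above E has nilpotency class i + 1 whenever it is a proper subgroup of P. -/
theorem result {P : Type*} [Group P] [Finite P] (p : ℕ) [Fact p.Prime] (hP : IsPGroup p P)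
    (E : Subgroup P) (hEab : IsMulCommutative ↥E) (hC : Subgroup.centralizer (E : Set P) ≤ E)
    (hN : (E.subgroupOf (Subgroup.normalizer (E : Set P))).index = p) (hidx : p ^ 2 ≤ E.index) :
    (∀ K L : Subgroup P, E ≤ K → E ≤ L → K ≤ L ∨ L ≤ K) ∧
      (∀ K : Subgroup P, E ≤ K → K ≠ ⊤ → (K.subgroupOf (Subgroup.normalizer (K : Set P))).index = p) ∧
      ∀ (i : ℕ) (K : Subgroup P) [Group.IsNilpotent ↥K], E ≤ K → K ≠ ⊤ → K.index * p ^ i = E.index →
        Group.nilpotencyClass ↥K = i + 1 := by
  have hp : p.Prime := Fact.out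
  have h : Soft p E := ⟨fun a ha b hb => congrArg Subtype.val (hEab.1.1 ⟨a, ha⟩ ⟨b, hb⟩), hC, hN⟩
  obtain ⟨c1, c2, c3⟩ := main _ P rfl hP E h
  refine ⟨c1, c2, fun i K _ hK hK' hi => ?_⟩
  have hi' : E.relIndex K = p ^ i := by
    rw [← relIndex_mul_index hK, mul_comm] at hi
    exact (Nat.eq_of_mul_eq_mul_right (Nat.pos_of_ne_zero FiniteIndex.index_ne_zero) hi).symm
  refine le_antisymm (c3 i K hK hK' hi') ?_
  have t1 : ∀ j, E.relIndex (tower E j) ≤ p ^ j := by
    intro j
    induction j with
    | zero => simp [tower]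
    | succ j ih =>
      rw [tower, ← relIndex_mul_relIndex _ _ _ (le_tower E j) le_normalizer, pow_succ]
      refine Nat.mul_le_mul ih ?_
      by_cases ht : tower E j = ⊤
      · rw [relIndex_eq_one.2 (ht ▸ le_top)]; exact hp.one_lt.le
      · exact (c2 _ (le_tower E j) ht).le
  have t2 : ∀ j, ∀ x ∈ Subgroup.upperCentralSeries K (j + 1), (x : P) ∈ tower E j := by
    intro j
    induction j with
    | zero =>
      intro x hx
      rw [zero_add, Subgroup.upperCentralSeries_one] at hx
      exact hC fun e he => congrArg Subtype.val (mem_center_iff.1 hx ⟨e, hK he⟩)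
    | succ j ih =>
      intro x hx
      rcases c1 _ _ hK (le_tower E j) with h1 | h1
      · exact le_normalizer (h1 x.2)
      refine Core.mem_normalizer_of_forall_conj_mem fun t ht => ?_
      have := ih _ (Subgroup.mem_upperCentralSeries_succ_iff.1 hx ⟨t, h1 ht⟩)
      have h2 := (tower E j).mul_mem this ht
      simpa [commutatorElement_def] using h2
  have hc0 : Group.nilpotencyClass K ≠ 0 := by
    intro h0
    have hs := Group.nilpotencyClass_zero_iff_subsingleton.1 h0
    have hE : E = ⊥ := eq_bot_iff.2 (hK.trans (eq_bot_of_subsingleton K).le)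
    apply hK'
    rw [hE] at hC
    refine eq_top_iff.2 fun x _ => ?_
    have : x ∈ (⊥ : Subgroup P) := hC fun y hy => by rw [mem_bot.1 hy, one_mul, mul_one]
    rw [mem_bot.1 this]; exact one_mem _
  obtain ⟨c, hc⟩ := Nat.exists_eq_succ_of_ne_zero hc0
  have hKT : K ≤ tower E c := fun x hx => t2 c ⟨x, hx⟩ (by
    have := Subgroup.upperCentralSeries_nilpotencyClass (G := K)
    rw [hc] at this
    rw [this]; trivial)
  have h3 : p ^ i ≤ p ^ c :=
    hi' ▸ (relIndex_le_of_le_right hKT FiniteIndex.index_ne_zero).trans (t1 c)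
  have := (Nat.pow_le_pow_iff_right hp.one_lt).1 h3
  omega

end Cfsg.Agent.S3811
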