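import Cfsg.Statements.S3824
import Cfsg.Agent.S0143
import Cfsg.Agent.Lib.Char.Burnside
import Cfsg.Agent.Lib.SolvStruct.Subnormal

set_option autoImplicit false
open Cfsg

namespace Cfsg.Agent.S3824

/-- Every finite group having an abelian subgroup whose index is a power of 2 is solvable. -/
theorem result {G : Type*} [Group G] [Finite G]
    (A : Subgroup G) (hA : IsMulCommutative A) (hidx : ∃ k : ℕ, A.index = 2 ^ k) : Group.IsSolvable G := by
  refine CfsgLib.Char.isSolvable_of_simple_case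
    (fun G _ => ∃ A : Subgroup G, IsMulCommutative A ∧ ∃ k : ℕ, A.index = 2 ^ k) ?_ ?_ ?_ G ⟨A, hA, hidx⟩
  · rintro G _ _ N _ ⟨A, hA, k, hk⟩
    refine ⟨A.subgroupOf N, inferInstance, ?_⟩
    have h1 : (A.subgroupOf N).index ∣ A.index := CfsgLib.SolvStruct.relIndex_dvd_index_of_normal_right A N
    rw [hk] at h1
    obtain ⟨j, -, hj⟩ := (Nat.dvd_prime_pow Nat.prime_two).1 h1
    exact ⟨j, hj⟩
  · rintro G _ _ N _ ⟨A, hA, k, hk⟩
    refine ⟨A.map (QuotientGroup.mk' N), inferInstance, ?_⟩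
    have h1 : (A.map (QuotientGroup.mk' N)).index ∣ A.index :=
      Subgroup.index_map_dvd A (QuotientGroup.mk'_surjective N)
    rw [hk] at h1
    obtain ⟨j, -, hj⟩ := (Nat.dvd_prime_pow Nat.prime_two).1 h1
    exact ⟨j, hj⟩
  · rintro G _ _ _ ⟨A, hA, k, hk⟩
    by_cases hA0 : A = ⊥
    · subst hA0
      rw [Subgroup.index_bot] at hk
      haveI : Fact (Nat.Prime 2) := ⟨Nat.prime_two⟩
      have hp : IsPGroup 2 G := IsPGroup.of_card hk
      haveI := hp.isNilpotent
      infer_instance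
    · obtain ⟨⟨x, hxA⟩, hx⟩ := (Subgroup.ne_bot_iff_exists_ne_one).1 hA0
      have hx1 : x ≠ 1 := fun h => hx (Subtype.ext h)
      have hle : A ≤ Subgroup.centralizer ({x} : Set G) := by
        intro a ha
        rw [Subgroup.mem_centralizer_singleton_iff]
        exact congrArg Subtype.val (hA.is_comm.comm ⟨a, ha⟩ ⟨x, hxA⟩)
      have h1 := Subgroup.index_dvd_of_le hle
      rw [hk] at h1
      obtain ⟨j, -, hj⟩ := (Nat.dvd_prime_pow Nat.prime_two).1 h1
      have hp := Cfsg.Agent.S0143.result 2 j Nat.prime_two x hx1 hj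
      haveI : Fact (Nat.card G).Prime := ⟨hp⟩
      haveI : IsCyclic G := isCyclic_of_prime_card rfl
      exact Group.isSolvable_of_comm (fun a b => (IsCyclic.isMulCommutative (α := G)).is_comm.comm a b)

end Cfsg.Agent.S3824
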