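import Cfsg.Statements.S3868
import Cfsg.Agent.Lib.Fgs.MinNonClosed

set_option autoImplicit false
open Cfsg

namespace Cfsg.Agent.S3868

open CfsgLib.Fgs

/-- Structure of the non-simple minimal non-p-closed groups. Call a finite group p-closed when its Sylow p-subgroups are normal, and minimal non-p-closed when it is not p-closed but every proper subgroup and every proper quotient is. If such a group G is not simple, then there is a prime q ≠ p such that G has order p · q^e, where e is the multiplicative order of q modulo p, and G has a normal subgroup A of order q^e that is elementary abelian and is a minimal normal subgroup of G (so G is the semidirect product of A by a group of order p acting irreducibly). -/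
theorem result {G : Type*} [Group G] [Finite G] {p : ℕ} [Fact p.Prime]
    (hnc : ¬ Cfsg.IsPClosed p G) (hsub : ∀ H : Subgroup G, H ≠ ⊤ → Cfsg.IsPClosed p ↥H)
    (hquo : ∀ (N : Subgroup G) [N.Normal], N ≠ ⊥ → Cfsg.IsPClosed p (G ⧸ N)) (hns : ¬ IsSimpleGroup G) :
    ∃ q : ℕ, q.Prime ∧ q ≠ p ∧ Nat.card G = p * q ^ orderOf (q : ZMod p) ∧
      ∃ A : Subgroup G, A.Normal ∧ Nat.card ↥A = q ^ orderOf (q : ZMod p) ∧ Cfsg.IsElementaryAbelian q A ∧
        ∀ B : Subgroup G, B.Normal → B ≤ A → B = ⊥ ∨ B = A := by
  have hp : p.Prime := Fact.out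
  have hO : ∀ R : Subgroup G, R.Normal → IsPGroup p R → R = ⊥ := by
    intro R _ hR
    by_contra h
    exact hnc (isPClosed_of_quotient R hR (hquo R h))
  have hnt : Nontrivial G := by
    by_contra h
    rw [not_nontrivial_iff_subsingleton] at h
    exact hnc (isPClosed_of_isPGroup (fun g => ⟨0, Subsingleton.elim _ _⟩))
  obtain ⟨K, hKn, hK0, hK1⟩ : ∃ K : Subgroup G, K.Normal ∧ K ≠ ⊥ ∧ K ≠ ⊤ := by
    by_contra h
    push Not at h
    exact hns ⟨fun K hK => by
      by_cases h0 : K = ⊥
      · exact Or.inl h0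
      · exact Or.inr (h K hK h0)⟩
  obtain ⟨N, hNn, hN0, hNK, hmin⟩ := CfsgLib.Core.exists_minimal_normal_le hK0
  have hN1 : N ≠ ⊤ := fun h => hK1 (eq_top_iff.2 (h ▸ hNK))
  have hchar : ∀ L : Subgroup G, L.Normal → L ≠ ⊤ → ¬ p ∣ Nat.card L := by
    intro L _ hL hd
    obtain ⟨R⟩ : Nonempty (Sylow p L) := inferInstance
    haveI := hsub L hL R
    haveI : (R : Subgroup L).Characteristic := Sylow.characteristic_of_normal R inferInstance
    have h1 := hO ((R : Subgroup L).map L.subtype) inferInstance (R.2.map _)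
    rw [Subgroup.map_eq_bot_iff_of_injective _ L.subtype_injective] at h1
    have h2 := R.not_dvd_index
    rw [h1, Subgroup.index_bot] at h2
    exact h2 hd
  have hpN := hchar N hNn hN1
  obtain ⟨P⟩ : Nonempty (Sylow p G) := inferInstance
  have hNP : N ⊔ (P : Subgroup G) = ⊤ := by
    by_contra h
    have h1 := hquo N hN0 (P.mapSurjective (QuotientGroup.mk'_surjective N))
    have h2 : (((P : Subgroup G).map (QuotientGroup.mk' N)).comap (QuotientGroup.mk' N)).Normal :=
      Subgroup.Normal.comap h1 _
    rw [Subgroup.comap_map_eq, QuotientGroup.ker_mk', sup_comm] at h2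
    have h3 := hchar _ h2 h
    apply hnc
    apply isPClosed_of_not_dvd
    intro hd
    apply h3
    have hP0 : (P : Subgroup G) ≠ ⊥ := by
      intro h0
      have h2 := P.not_dvd_index
      rw [h0, Subgroup.index_bot] at h2
      exact h2 hd
    exact (CfsgLib.Core.dvd_card_of_isPGroup_of_ne_bot P.2 hP0).trans
      (Subgroup.card_dvd_of_le le_sup_right)
  have hNtop : ∀ x : G, x ∈ Subgroup.normalizer (N : Set G) := by
    intro x; rw [Subgroup.normalizer_eq_top]; trivial
  obtain ⟨x, hxP, hxc⟩ : ∃ x ∈ (P : Subgroup G), x ∉ Subgroup.centralizer (N : Set G) := by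
    by_contra h
    push Not at h
    apply hnc
    apply isPClosed_of_normal_sylow P
    rw [← Subgroup.normalizer_eq_top_iff, eq_top_iff, ← hNP]
    refine sup_le ?_ Subgroup.le_normalizer
    intro a ha
    apply Subgroup.mem_normalizer_fintype
    intro b hb
    rw [h b hb a ha, mul_inv_cancel_right]
    exact hb
  obtain ⟨k, hk⟩ := P.2 ⟨x, hxP⟩
  have hk : x ^ p ^ k = 1 := congrArg Subtype.val hk
  have hsup : N ⊔ Subgroup.zpowers x = ⊤ := by
    by_contra h
    exact hxc (mem_centralizer_of_isPClosed (hsub _ h) hpN le_sup_left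
      (Subgroup.mem_sup_right (Subgroup.mem_zpowers x)) hk (hNtop x))
  have hsmall : ∀ (Q : Subgroup G) (y : G), Q ≤ N → y ∈ Subgroup.zpowers x →
      y ∈ Subgroup.normalizer (Q : Set G) → Q ⊔ Subgroup.zpowers y = ⊤ →
      Q = N ∧ Subgroup.zpowers y = Subgroup.zpowers x := by
    intro Q y hQ hy hyQ h
    have hdis : Disjoint N (Subgroup.zpowers x) := by
      apply Subgroup.disjoint_of_coprime_natCard
      obtain ⟨j, hj⟩ := (isPGroup_zpowers_of_pow hk).exists_card_eq
      rw [hj]
      exact ((Nat.Prime.coprime_iff_not_dvd hp).2 hpN).symm.pow_right j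
    have hmem : ∀ g : G, ∃ a ∈ Q, ∃ b ∈ Subgroup.zpowers y, g = a * b := by
      intro g
      have h1 : g ∈ ((Q ⊔ Subgroup.zpowers y : Subgroup G) : Set G) := by rw [h]; trivial
      rw [Subgroup.coe_mul_of_right_le_normalizer_left _ _ (Subgroup.zpowers_le.2 hyQ)] at h1
      obtain ⟨a, ha, b, hb, rfl⟩ := h1
      exact ⟨a, ha, b, hb, rfl⟩
    constructor
    · refine le_antisymm hQ ?_
      intro g hg
      obtain ⟨a, ha, b, hb, rfl⟩ := hmem g
      have hb1 : b ∈ N := by
        have := N.mul_mem (N.inv_mem (hQ ha)) hg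
        simpa using this
      have := Subgroup.disjoint_def.1 hdis hb1 (Subgroup.zpowers_le.2 hy hb)
      rw [this, mul_one]; exact ha
    · refine le_antisymm (Subgroup.zpowers_le.2 hy) ?_
      intro g hg
      obtain ⟨a, ha, b, hb, rfl⟩ := hmem g
      have ha1 : a ∈ Subgroup.zpowers x := by
        have := (Subgroup.zpowers x).mul_mem hg
          ((Subgroup.zpowers x).inv_mem (Subgroup.zpowers_le.2 hy hb))
        simpa using this
      have := Subgroup.disjoint_def.1 hdis (hQ ha) ha1
      rw [this, one_mul]; exact hb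
  have hxp : x ^ p = 1 := by
    have h1 : N ⊔ Subgroup.zpowers (x ^ p) ≠ ⊤ := by
      intro h
      have h2 := (hsmall N (x ^ p) le_rfl (Subgroup.pow_mem _ (Subgroup.mem_zpowers x) p)
        (hNtop _) h).2
      have h3 := congrArg (fun H : Subgroup G => Nat.card H) h2
      simp only [Nat.card_zpowers] at h3
      have hx1 : x ≠ 1 := by rintro rfl; exact hxc (Subgroup.one_mem _)
      obtain ⟨j, -, hj⟩ := (Nat.dvd_prime_pow hp).1 (orderOf_dvd_of_pow_eq_one hk)
      have hj0 : j ≠ 0 := by
        rintro rfl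
        exact hx1 (orderOf_eq_one_iff.1 (by simpa using hj))
      have hpd : p ∣ orderOf x := by rw [hj]; exact dvd_pow_self p hj0
      rw [orderOf_pow' x hp.ne_zero, Nat.gcd_eq_right hpd] at h3
      have h4 := Nat.div_lt_self (orderOf_pos x) hp.one_lt
      omega
    have h2 : (x ^ p) ^ p ^ k = 1 := by rw [← pow_mul, mul_comm, pow_mul, hk, one_pow]
    have h3 := mem_centralizer_of_isPClosed (hsub _ h1) hpN le_sup_left
      (Subgroup.mem_sup_right (Subgroup.mem_zpowers _)) h2 (hNtop _)
    have h4 : x ^ p ∈ Subgroup.center G := by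
      have : (⊤ : Subgroup G) ≤ Subgroup.centralizer {x ^ p} := by
        rw [← hsup]
        refine sup_le ?_ (Subgroup.zpowers_le.2 ?_)
        · intro a ha
          exact Subgroup.mem_centralizer_singleton_iff.2 (h3 a ha)
        · exact Subgroup.mem_centralizer_singleton_iff.2 ((Commute.refl x).pow_right p)
      rw [Subgroup.mem_center_iff]
      intro g
      exact Subgroup.mem_centralizer_singleton_iff.1 (this trivial)
    have h5 := hO _ (CfsgLib.Core.normal_of_le_center (Subgroup.zpowers_le.2 h4))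
      (isPGroup_zpowers_of_pow h2)
    simpa using h5
  refine minimal_nonclosed_structure hmin hpN hxp hsup hxc ?_
  intro Q hQ hxQ
  have h1 : Q ⊔ Subgroup.zpowers x ≠ ⊤ := fun h =>
    hQ.ne (hsmall Q x hQ.le (Subgroup.mem_zpowers x) hxQ h).1
  exact mem_centralizer_of_isPClosed (hsub _ h1)
    (fun h => hpN (h.trans (Subgroup.card_dvd_of_le hQ.le))) le_sup_left
    (Subgroup.mem_sup_right (Subgroup.mem_zpowers _)) hk hxQ

end Cfsg.Agent.S3868
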