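import Cfsg.Statements.S3869
import Cfsg.Agent.Lib.Fgs.MinNonClosed

set_option autoImplicit false
open Cfsg

namespace Cfsg.Agent.S3869

open CfsgLib.Fgs

/-- Let p and q be distinct primes and G a finite non-abelian group with a normal elementary abelian q-subgroup A that is a minimal normal subgroup of G and has index p. Then A has order q^e with e the multiplicative order of q modulo p, and G is minimal non-p-closed: its Sylow p-subgroups are not normal, while in every proper subgroup and in every proper quotient of G the Sylow p-subgroups are normal. -/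
theorem result {G : Type*} [Group G] [Finite G] {p q : ℕ} [Fact p.Prime] (hq : q.Prime) (hpq : q ≠ p)
    (hna : ¬ IsMulCommutative G) (A : Subgroup G) [A.Normal] (hA : Cfsg.IsElementaryAbelian q A) (hidx : A.index = p)
    (hmin : ∀ B : Subgroup G, B.Normal → B ≤ A → B = ⊥ ∨ B = A) :
    Nat.card ↥A = q ^ orderOf (q : ZMod p) ∧ ¬ Cfsg.IsPClosed p G ∧ (∀ H : Subgroup G, H ≠ ⊤ → Cfsg.IsPClosed p ↥H) ∧
      ∀ (N : Subgroup G) [N.Normal], N ≠ ⊥ → Cfsg.IsPClosed p (G ⧸ N) := by
  haveI : Fact q.Prime := ⟨hq⟩
  have hp : p.Prime := Fact.out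
  have hAq : IsPGroup q A := CfsgLib.Core.isElementaryAbelian_isPGroup hA
  have hpA : ¬ p ∣ Nat.card A := by
    obtain ⟨k, hk⟩ := hAq.exists_card_eq
    rw [hk]
    intro h
    exact hpq ((Nat.prime_dvd_prime_iff_eq hp hq).1 (hp.dvd_of_dvd_pow h)).symm
  have hG : Nat.card G = Nat.card A * p := by rw [← hidx, Subgroup.card_mul_index]
  obtain ⟨x, hx⟩ := exists_prime_orderOf_dvd_card' (G := G) p (by rw [hG]; exact dvd_mul_left _ _)
  have hxp : x ^ p = 1 := by rw [← hx]; exact pow_orderOf_eq_one x
  have hxA : x ∉ A := by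
    intro h
    apply hpA
    rw [← hx]
    exact Subgroup.orderOf_dvd_natCard A h
  have hsupgen : ∀ H : Subgroup G, ¬ H ≤ A → A ⊔ H = ⊤ := by
    intro H hH
    have h1 : (A ⊔ H).index ∣ p := hidx ▸ Subgroup.index_dvd_of_le le_sup_left
    rcases (Nat.dvd_prime hp).1 h1 with h | h
    · exact Subgroup.index_eq_one.1 h
    · exfalso
      apply hH
      have h2 : A.relIndex (A ⊔ H) * (A ⊔ H).index = A.index :=
        Subgroup.relIndex_mul_index le_sup_left
      rw [h, hidx] at h2
      have h3 : A.relIndex (A ⊔ H) = 1 := by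
        have := hp.pos
        nlinarith
      exact le_sup_right.trans (Subgroup.relIndex_eq_one.1 h3)
  have hsup : A ⊔ Subgroup.zpowers x = ⊤ := hsupgen _ (fun h => hxA (h (Subgroup.mem_zpowers x)))
  have hxc : x ∉ Subgroup.centralizer (A : Set G) := by
    intro h
    apply hna
    haveI := hA.1
    haveI := CfsgLib.Core.isMulCommutative_sup (A := Subgroup.zpowers x) (B := A)
      (Subgroup.zpowers_le.2 h)
    rw [sup_comm, hsup] at this
    exact ⟨⟨fun a b => congrArg Subtype.val
      (this.is_comm.comm (⟨a, trivial⟩ : (⊤ : Subgroup G)) ⟨b, trivial⟩)⟩⟩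
  have hxN : x ∈ Subgroup.normalizer (A : Set G) := by rw [Subgroup.normalizer_eq_top]; trivial
  have hcard : Nat.card A = q ^ orderOf (q : ZMod p) :=
    card_eq_pow_orderOf_of_irreducible hq hpq hA hxN
      hxp hxc (fun B hB hBx => hmin B (normal_of_invariant_of_comm hA.1 hsup hB hBx) hB)
  have hdisj : ∀ H : Subgroup G, H ⊓ A = ⊥ → Nat.card H ∣ p := by
    intro H hH
    have h1 : A.relIndex H ∣ A.index := Subgroup.relIndex_dvd_index_of_normal A H
    rw [hidx, Subgroup.relIndex, Subgroup.subgroupOf_eq_bot.2 (by rw [disjoint_iff, inf_comm, hH]),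
      Subgroup.index_bot] at h1
    exact h1
  refine ⟨hcard, ?_, ?_, ?_⟩
  · intro h
    apply hxc
    obtain ⟨P, hP⟩ := (isPGroup_zpowers_of_pow (p := p) (k := 1) (by simpa using hxp)).exists_le_sylow
    haveI := h P
    exact mem_centralizer_of_normalize_coprime P.2 hpA
      (by rw [Subgroup.normalizer_eq_top]; exact le_top) (hP (Subgroup.mem_zpowers x)) hxN
  · intro H hH
    by_cases hHA : H ≤ A
    · exact isPClosed_of_not_dvd (fun h => hpA (h.trans (Subgroup.card_dvd_of_le hHA)))
    · have hn : (H ⊓ A).Normal := by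
        rw [← Subgroup.normalizer_eq_top_iff, eq_top_iff, ← hsupgen H hHA]
        refine sup_le ?_ ?_
        · intro a ha
          apply Subgroup.mem_normalizer_fintype
          intro b hb
          have : a * b = b * a :=
            congrArg Subtype.val (hA.1.is_comm.comm ⟨a, ha⟩ ⟨b, (Subgroup.mem_inf.1 hb).2⟩)
          rw [this, mul_inv_cancel_right]
          exact hb
        · intro a ha
          apply Subgroup.mem_normalizer_fintype
          intro b hb
          obtain ⟨hb1, hb2⟩ := Subgroup.mem_inf.1 hb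
          exact Subgroup.mem_inf.2 ⟨H.mul_mem (H.mul_mem ha hb1) (H.inv_mem ha),
            Subgroup.Normal.conj_mem inferInstance b hb2 a⟩
      rcases hmin _ hn inf_le_right with h | h
      · exact isPClosed_of_isPGroup (IsPGroup.of_card_dvd_pow (n := 1) (by simpa using hdisj H h))
      · exfalso
        apply hH
        rw [← hsupgen H hHA]
        exact (sup_eq_right.2 (inf_eq_right.1 h)).symm
  · intro N _ hN
    rcases hmin (N ⊓ A) inferInstance inf_le_right with h | h
    · apply isPClosed_of_not_dvd
      have h1 : Nat.card N = p := by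
        rcases (Nat.dvd_prime hp).1 (hdisj N h) with h2 | h2
        · exact absurd (Subgroup.card_eq_one.1 h2) hN
        · exact h2
      have h2 := Subgroup.card_eq_card_quotient_mul_card_subgroup N
      rw [hG, h1] at h2
      rw [← Nat.eq_of_mul_eq_mul_right hp.pos h2]
      exact hpA
    · apply isPClosed_of_isPGroup
      apply IsPGroup.of_card_dvd_pow (n := 1)
      rw [pow_one, ← hidx]
      exact Subgroup.index_dvd_of_le (inf_eq_right.1 h)

end Cfsg.Agent.S3869
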