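import Cfsg.Statements.S3870
import Mathlib

set_option autoImplicit false
open Cfsg

namespace Cfsg.Agent.S3870

theorem le_of_closed {G : Type*} [Group G] [Finite G] {p : ℕ} [Fact p.Prime] (N : Subgroup G)
    (hN : Cfsg.IsPClosed p N) (A B : Subgroup G) (hA : IsPGroup p A) (hB : IsPGroup p B)
    (hAN : A ≤ N) (hBN : B ≤ N) : IsPGroup p ↥(A ⊔ B) := by
  obtain ⟨P, hP⟩ := (hA.comap_subtype (K := N)).exists_le_sylow
  obtain ⟨Q, hQ⟩ := (hB.comap_subtype (K := N)).exists_le_sylow
  have := Sylow.unique_of_normal P (hN P)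
  have hPQ : P = Q := Subsingleton.elim _ _
  subst hPQ
  refine (P.isPGroup'.map N.subtype).to_le (sup_le ?_ ?_)
  · intro a ha
    exact ⟨⟨a, hAN ha⟩, hP ha, rfl⟩
  · intro a ha
    exact ⟨⟨a, hBN ha⟩, hQ ha, rfl⟩

theorem lt_inf_normalizer {G : Type*} [Group G] [Finite G] {p : ℕ} [Fact p.Prime] (P D : Subgroup G)
    (hP : IsPGroup p P) (hD : D < P) : D < P ⊓ Subgroup.normalizer (D : Set G) := by
  have := hP.isNilpotent
  have h1 : D.subgroupOf P < ⊤ := by
    rw [lt_top_iff_ne_top, Ne, Subgroup.subgroupOf_eq_top]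
    exact hD.not_ge
  have h2 := Group.normalizerCondition_of_isNilpotent (D.subgroupOf P) h1
  rw [← Subgroup.subgroupOf_normalizer_eq hD.le] at h2
  obtain ⟨x, hx1, hx2⟩ := SetLike.exists_of_lt h2
  refine lt_of_le_of_ne (le_inf hD.le Subgroup.le_normalizer) fun h => hx2 ?_
  rw [Subgroup.mem_subgroupOf, h]
  exact ⟨x.2, hx1⟩

/-- Let G be a finite simple group whose Sylow p-subgroups are not normal but such that every proper subgroup of G has a normal Sylow p-subgroup. Then any two distinct Sylow p-subgroups of G intersect trivially, and for every Sylow p-subgroup P the normalizer of every non-identity subgroup of P lies in the normalizer of P. -/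
theorem result {G : Type*} [Group G] [Finite G] [IsSimpleGroup G] {p : ℕ} [Fact p.Prime]
    (hnc : ¬ Cfsg.IsPClosed p G) (hsub : ∀ H : Subgroup G, H ≠ ⊤ → Cfsg.IsPClosed p ↥H) :
    (∀ P Q : Sylow p G, P ≠ Q → (P : Subgroup G) ⊓ (Q : Subgroup G) = ⊥) ∧
      ∀ (P : Sylow p G) (R : Subgroup G), R ≤ P → R ≠ ⊥ →
        Subgroup.normalizer (R : Set G) ≤ Subgroup.normalizer ((P : Subgroup G) : Set G) := by
  have hTI : ∀ P Q : Sylow p G, P ≠ Q → (P : Subgroup G) ⊓ (Q : Subgroup G) = ⊥ := by
    have key : ∀ D : Subgroup G, D ≠ ⊥ → ∀ P Q : Sylow p G, D ≤ P → D ≤ Q → P = Q := by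
      intro D
      induction D using WellFoundedGT.induction with
      | _ D ih =>
        intro hD P Q hP hQ
        by_contra hne
        have hDP : D < P := by
          refine lt_of_le_of_ne hP fun h => hne ?_
          rw [h] at hQ
          exact Sylow.ext (P.is_maximal' Q.isPGroup' hQ).symm
        have hDQ : D < Q := by
          refine lt_of_le_of_ne hQ fun h => hne ?_
          rw [h] at hP
          exact Sylow.ext (Q.is_maximal' P.isPGroup' hP)
        have hN : Subgroup.normalizer (D : Set G) ≠ ⊤ := by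
          intro h
          rw [Subgroup.normalizer_eq_top_iff] at h
          rcases h.eq_bot_or_eq_top with h | h
          · exact hD h
          · rw [h] at hDP
            exact not_top_lt hDP
        have h1 := lt_inf_normalizer _ D P.isPGroup' hDP
        have h2 := lt_inf_normalizer _ D Q.isPGroup' hDQ
        obtain ⟨S, hS⟩ := (le_of_closed _ (hsub _ hN) _ _ (P.isPGroup'.to_inf_left)
          (Q.isPGroup'.to_inf_left) inf_le_right inf_le_right).exists_le_sylow
        have e1 := ih _ h1 (ne_bot_of_gt h1) P S inf_le_left (le_sup_left.trans hS)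
        have e2 := ih _ h2 (ne_bot_of_gt h2) Q S inf_le_left (le_sup_right.trans hS)
        exact hne (e1.trans e2.symm)
    intro P Q hne
    by_contra h
    exact hne (key _ h P Q inf_le_left inf_le_right)
  refine ⟨hTI, fun P R hR hR1 g hg => ?_⟩
  have : g • P = P := by
    by_contra hne
    apply hR1
    rw [eq_bot_iff, ← hTI _ _ hne]
    refine le_inf ?_ hR
    intro r hr
    rw [Sylow.coe_subgroup_smul, Subgroup.mem_pointwise_smul_iff_inv_smul_mem]
    apply hR
    have := (Subgroup.mem_normalizer_iff''.1 hg r).1 hr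
    simpa using this
  exact Sylow.smul_eq_iff_mem_normalizer.1 this

end Cfsg.Agent.S3870
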