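import Cfsg.Statements.S3872
import Mathlib
import Cfsg.Agent.Lib.RegP.HallPetrescu
import Cfsg.Agent.Lib.PGroup.MaxClass
import Cfsg.Agent.Lib.Frob.Quaternion

set_option autoImplicit false
open Cfsg

namespace Cfsg.Agent.S3872

open Subgroup CfsgLib in

/-- Say that a finite group is p-exponent closed when its elements of order dividing p form a subgroup. Let G be a finite p-group that is not p-exponent closed, but all of whose proper subgroups and proper quotients are. Then G is generated by two elements, has nilpotency class at least p, has exponent p², has cyclic center, and has order at least p^(p+1). -/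
theorem result {G : Type*} [Group G] [Finite G] {p : ℕ} [Fact p.Prime] (hG : IsPGroup p G)
    (hnc : ¬ (∃ H : Subgroup G, (H : Set G) = {g : G | g ^ p = 1})) (hsub : ∀ K : Subgroup G, K ≠ ⊤ → (∃ H : Subgroup ↥K, (H : Set ↥K) = {g : ↥K | g ^ p = 1}))
    (hquo : ∀ (N : Subgroup G) [N.Normal], N ≠ ⊥ → (∃ H : Subgroup (G ⧸ N), (H : Set (G ⧸ N)) = {g : (G ⧸ N) | g ^ p = 1})) :
    (∃ x y : G, Subgroup.closure ({x, y} : Set G) = ⊤) ∧ (⊤ : Subgroup G).lowerCentralSeries (p - 1) ≠ ⊥ ∧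
      Monoid.exponent G = p ^ 2 ∧ IsCyclic ↥(Subgroup.center G) ∧ p ^ (p + 1) ≤ Nat.card G := by
  have hp : p.Prime := Fact.out
  have := hG.isNilpotent
  obtain ⟨x, y, hx, hy, hxy⟩ : ∃ x y : G, x ^ p = 1 ∧ y ^ p = 1 ∧ (x * y) ^ p ≠ 1 := by
    by_contra! h
    exact hnc ⟨{ carrier := {g | g ^ p = 1}, one_mem' := one_pow p, mul_mem' := h _ _,
                 inv_mem' := fun hx => by rw [Set.mem_setOf_eq, inv_pow, hx, inv_one] }, rfl⟩
  have h1 : closure ({x, y} : Set G) = ⊤ := by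
    by_contra h
    obtain ⟨H, hH⟩ := hsub _ h
    have m : ∀ g, g ∈ H ↔ (g : G) ^ p = 1 := fun g => (Set.ext_iff.1 hH g).trans Subtype.ext_iff
    exact hxy ((m _).1 (mul_mem ((m ⟨x, subset_closure (by simp)⟩).2 hx) ((m ⟨y, subset_closure (by simp)⟩).2 hy)))
  have h2 : ∀ (N : Subgroup G) [N.Normal], N ≠ ⊥ → ∀ g : G, g ^ p ∈ N := fun N _ hN g => by
    obtain ⟨H, hH⟩ := hquo N hN
    have m : ∀ g : G, g ∈ H.comap (QuotientGroup.mk' N) ↔ g ^ p ∈ N := fun g =>
      (Set.ext_iff.1 hH (g : G ⧸ N)).trans (QuotientGroup.eq_one_iff (g ^ p))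
    refine (m g).1 ((h1.ge.trans ((closure_le _).2 ?_)) (mem_top g))
    rintro _ (rfl | rfl) <;> refine (m _).2 ?_
    exacts [hx ▸ one_mem _, hy ▸ one_mem _]
  have h3 : ∀ z ∈ center G, orderOf z = p → ∀ g : G, g ^ p ∈ zpowers z := fun z hz ho => by
    have : (zpowers z).Normal := ⟨fun a ha g => by
      rw [mem_center_iff.1 (zpowers_le.2 hz ha) g, mul_inv_cancel_right]; exact ha⟩
    exact h2 _ (by rw [Ne, zpowers_eq_bot, ← orderOf_eq_one_iff, ho]; exact hp.one_lt.ne')
  have h4 : (⊤ : Subgroup G).lowerCentralSeries (p - 1) ≠ ⊥ := fun h =>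
    hnc ⟨(RegP.reg1_of_lowerCentralSeries_eq_bot hG h).omega1, rfl⟩
  have h5 : p ≤ Group.nilpotencyClass G := by
    rw [Ne, Subgroup.lowerCentralSeries_eq_bot_iff_nilpotencyClass_le] at h4
    omega
  refine ⟨⟨x, y, h1⟩, h4, ?_, Frob.isCyclic_of_comm_of_forall_mem_zpowers inferInstance fun q hq a b ha hb => ?_, ?_⟩
  · obtain ⟨z, -, hz, ho⟩ := PGroup.exists_mem_center_orderOf_eq hG ⊤ fun h =>
      hxy (mem_bot.1 (h ▸ mem_top _))
    obtain ⟨k, hk, e⟩ := (Nat.dvd_prime_pow hp).1 (Monoid.exponent_dvd_of_forall_pow_eq_one (n := p ^ 2) fun g : G => by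
      obtain ⟨n, e⟩ := h3 z hz ho g
      rw [sq, pow_mul, ← e, ← zpow_natCast, ← zpow_mul, mul_comm, zpow_mul, zpow_natCast, ← ho, pow_orderOf_eq_one,
        one_zpow])
    rw [e, le_antisymm hk (by_contra fun h => hxy (Monoid.exponent_dvd_iff_forall_pow_eq_one.1
      (e ▸ (pow_dvd_pow p (show k ≤ 1 by omega)).trans (pow_one p).dvd) _))]
  · obtain ⟨k, hk⟩ := IsPGroup.iff_orderOf.1 (hG.to_subgroup _) a
    obtain rfl : q = p := (Nat.prime_dvd_prime_iff_eq hq hp).1 (hq.dvd_of_dvd_pow (hk ▸ ha.symm.dvd))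
    rw [← orderOf_coe] at ha hb
    have e : ∀ c : center G, orderOf (c : G) = q → zpowers ((x * y) ^ q) = zpowers (c : G) := fun c hc => by
      have h6 := zpowers_le.2 (h3 c c.2 hc (x * y))
      refine eq_of_le_of_card_ge h6 ?_
      have h7 := card_dvd_of_le h6
      rw [Nat.card_zpowers, Nat.card_zpowers, hc, Nat.dvd_prime hq, orderOf_eq_one_iff] at h7
      rw [Nat.card_zpowers, Nat.card_zpowers, hc, h7.resolve_left hxy]
    obtain ⟨n, e1⟩ : (b : G) ∈ zpowers (a : G) := by rw [← e a ha, e b hb]; exact mem_zpowers _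
    exact ⟨n, Subtype.ext e1⟩
  · have h6 := PGroup.sq_le_index_commutator hG fun h => PGroup.not_isMulCommutative_of_two_le_class
      (hp.two_le.trans h5) inferInstance
    obtain ⟨k, hk⟩ := IsPGroup.iff_card.1 (hG.to_subgroup (_root_.commutator G))
    have h7 := PGroup.nilpotencyClass_le_of_card_lowerCentralSeries_le hG (i := 1) hk.le
    rw [← (_root_.commutator G).card_mul_index, hk]
    exact (Nat.pow_le_pow_right hp.pos (show p + 1 ≤ k + 2 by omega)).trans (pow_add p k 2 ▸ Nat.mul_le_mul_left _ h6)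
end Cfsg.Agent.S3872
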