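import Cfsg.Statements.S3873
import Cfsg.Agent.Lib.Fgs.MinNonClosed

set_option autoImplicit false
open Cfsg

namespace Cfsg.Agent.S3873

open CfsgLib.Fgs

theorem amb {G : Type*} [Group G] {p : ℕ} {K : Subgroup G}
    (h : ∃ H : Subgroup ↥K, (H : Set ↥K) = {g : ↥K | g ^ p = 1}) :
    ∃ E : Subgroup G, ∀ g, g ∈ E ↔ g ∈ K ∧ g ^ p = 1 := by
  obtain ⟨H, hH⟩ := h
  refine ⟨H.map K.subtype, fun g => ⟨?_, ?_⟩⟩
  · rintro ⟨a, ha, rfl⟩
    rw [hH] at ha
    exact ⟨a.2, congrArg Subtype.val ha⟩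
  · rintro ⟨h1, h2⟩
    refine ⟨⟨g, h1⟩, ?_, rfl⟩
    rw [hH]
    exact Subtype.ext h2

theorem conj_pow_eq_one {G : Type*} [Group G] {p : ℕ} {g x : G} (h : x ^ p = 1) :
    (g * x * g⁻¹) ^ p = 1 := by rw [conj_pow, h]; simp

theorem cent {G : Type*} [Group G] [Finite G] {p : ℕ} [Fact p.Prime] {K Q : Subgroup G}
    (h : ∃ H : Subgroup ↥K, (H : Set ↥K) = {g : ↥K | g ^ p = 1}) (hQ : ¬ p ∣ Nat.card Q)
    (hQK : Q ≤ K) {x : G} (hx : x ∈ K) (hxp : x ^ p = 1)
    (hxQ : x ∈ Subgroup.normalizer (Q : Set G)) : x ∈ Subgroup.centralizer (Q : Set G) := by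
  obtain ⟨E, hE⟩ := amb h
  refine mem_centralizer_of_normalize_coprime (E := E)
    (CfsgLib.Core.isPGroup_of_forall_pow_eq_one (fun y hy => ((hE y).1 hy).2)) hQ ?_
    ((hE x).2 ⟨hx, hxp⟩) hxQ
  intro a ha
  apply Subgroup.mem_normalizer_fintype
  intro b hb
  obtain ⟨hb1, hb2⟩ := (hE b).1 hb
  exact (hE _).2 ⟨K.mul_mem (K.mul_mem (hQK ha) hb1) (K.inv_mem (hQK ha)), conj_pow_eq_one hb2⟩

/-- Say that a finite group is p-exponent closed when its elements of order dividing p form a subgroup. Let G be a finite group that is not p-exponent closed, but all of whose proper subgroups and proper quotients are, and suppose G is neither simple nor a p-group. Then there is a prime q ≠ p such that G has order p · q^e, where e is the multiplicative order of q modulo p, and G has a normal elementary abelian subgroup of order q^e that is a minimal normal subgroup of G. -/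
theorem result {G : Type*} [Group G] [Finite G] {p : ℕ} [Fact p.Prime]
    (hnc : ¬ (∃ H : Subgroup G, (H : Set G) = {g : G | g ^ p = 1})) (hsub : ∀ K : Subgroup G, K ≠ ⊤ → (∃ H : Subgroup ↥K, (H : Set ↥K) = {g : ↥K | g ^ p = 1}))
    (hquo : ∀ (N : Subgroup G) [N.Normal], N ≠ ⊥ → (∃ H : Subgroup (G ⧸ N), (H : Set (G ⧸ N)) = {g : (G ⧸ N) | g ^ p = 1}))
    (hns : ¬ IsSimpleGroup G) (hnp : ¬ IsPGroup p G) :
    ∃ q : ℕ, q.Prime ∧ q ≠ p ∧ Nat.card G = p * q ^ orderOf (q : ZMod p) ∧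
      ∃ A : Subgroup G, A.Normal ∧ Nat.card ↥A = q ^ orderOf (q : ZMod p) ∧ Cfsg.IsElementaryAbelian q A ∧
        ∀ B : Subgroup G, B.Normal → B ≤ A → B = ⊥ ∨ B = A := by
  have hp : p.Prime := Fact.out
  have hnt : Nontrivial G := by
    by_contra h
    rw [not_nontrivial_iff_subsingleton] at h
    exact hnp (fun g => ⟨0, Subsingleton.elim _ _⟩)
  obtain ⟨K, hKn, hK0, hK1⟩ : ∃ K : Subgroup G, K.Normal ∧ K ≠ ⊥ ∧ K ≠ ⊤ := by
    by_contra h
    push Not at h
    exact hns ⟨fun K hK => by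
      by_cases h0 : K = ⊥
      · exact Or.inl h0
      · exact Or.inr (h K hK h0)⟩
  obtain ⟨N, hNn, hN0, hNK, hmin⟩ := CfsgLib.Core.exists_minimal_normal_le hK0
  have hN1 : N ≠ ⊤ := fun h => hK1 (eq_top_iff.2 (h ▸ hNK))
  have hexp : ∀ g : G, g ^ p ∈ N := by
    obtain ⟨Eb, hEb⟩ := hquo N hN0
    by_cases h : Eb.comap (QuotientGroup.mk' N) = ⊤
    · intro g
      have h1 : g ∈ Eb.comap (QuotientGroup.mk' N) := by rw [h]; trivial
      have h2 : (g : G ⧸ N) ∈ (Eb : Set (G ⧸ N)) := h1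
      rw [hEb] at h2
      have h3 : ((g ^ p : G) : G ⧸ N) = 1 := h2
      exact (QuotientGroup.eq_one_iff _).1 h3
    · exfalso
      obtain ⟨E, hE⟩ := amb (hsub _ h)
      refine hnc ⟨E, Set.ext fun g => ⟨fun hg => ((hE g).1 hg).2, fun hg => (hE g).2 ⟨?_, hg⟩⟩⟩
      show (g : G ⧸ N) ∈ (Eb : Set (G ⧸ N))
      rw [hEb]
      show ((g ^ p : G) : G ⧸ N) = 1
      rw [show g ^ p = 1 from hg]; rfl
  have hpN : ¬ p ∣ Nat.card N := by
    intro hd
    obtain ⟨E, hE⟩ := amb (hsub N hN1)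
    have hEn : E.Normal := ⟨fun b hb g =>
      (hE _).2 ⟨hNn.conj_mem b ((hE b).1 hb).1 g, conj_pow_eq_one ((hE b).1 hb).2⟩⟩
    rcases hmin E hEn (fun b hb => ((hE b).1 hb).1) with h | h
    · obtain ⟨y, hy, hyo⟩ := CfsgLib.Core.exists_mem_orderOf_eq_of_dvd_card hp hd
      have h1 : y ∈ E := (hE y).2 ⟨hy, by rw [← hyo]; exact pow_orderOf_eq_one y⟩
      rw [h, Subgroup.mem_bot] at h1
      rw [h1, orderOf_one] at hyo
      exact hp.one_lt.ne hyo
    · apply hnp
      intro g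
      refine ⟨2, ?_⟩
      have h1 : g ^ p ∈ E := h ▸ hexp g
      rw [pow_two, pow_mul]
      exact ((hE _).1 h1).2
  have hNtop : ∀ x : G, x ∈ Subgroup.normalizer (N : Set G) := by
    intro x; rw [Subgroup.normalizer_eq_top]; trivial
  have hone : ∀ y ∈ N, y ^ p ^ 2 = 1 → y = 1 := by
    intro y hy h
    have h1 := orderOf_dvd_of_pow_eq_one h
    have h2 := Subgroup.orderOf_dvd_natCard N hy
    exact orderOf_eq_one_iff.1 (Nat.eq_one_of_dvd_coprimes
      (((Nat.Prime.coprime_iff_not_dvd hp).2 hpN).pow_left 2) h1 h2)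
  obtain ⟨x, hxp, hxc⟩ : ∃ x : G, x ^ p = 1 ∧ x ∉ Subgroup.centralizer (N : Set G) := by
    by_contra h
    push Not at h
    apply hnc
    refine ⟨{ carrier := {g : G | g ^ p = 1}, mul_mem' := ?_, one_mem' := one_pow p, inv_mem' := ?_ }, rfl⟩
    · intro a b ha hb
      have hab : a * b ∈ Subgroup.centralizer (N : Set G) := mul_mem (h a ha) (h b hb)
      obtain ⟨P, hP⟩ := (isPGroup_zpowers_of_pow (p := p) (k := 1) (x := a)
        (by simpa using ha)).exists_le_sylow
      obtain ⟨R, hR⟩ := (isPGroup_zpowers_of_pow (p := p) (k := 1) (x := b)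
        (by simpa using hb)).exists_le_sylow
      have hPexp : ∀ y ∈ (P : Subgroup G), y ^ p = 1 := by
        intro y hy
        obtain ⟨j, hj⟩ := P.2 ⟨y, hy⟩
        have hj : y ^ p ^ j = 1 := congrArg Subtype.val hj
        have h1 := orderOf_dvd_of_pow_eq_one
          (show (y ^ p) ^ p ^ j = 1 by rw [← pow_mul, mul_comm, pow_mul, hj, one_pow])
        have h2 := Subgroup.orderOf_dvd_natCard N (hexp y)
        exact orderOf_eq_one_iff.1 (Nat.eq_one_of_dvd_coprimes
          (((Nat.Prime.coprime_iff_not_dvd hp).2 hpN).pow_left j) h1 h2)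
      have hNP : N ⊔ (P : Subgroup G) = ⊤ := by
        refine CfsgLib.Transfer.sup_eq_top_of_isPGroup_quotient (p := p) ?_ P.not_dvd_index
        intro z
        obtain ⟨z, rfl⟩ := QuotientGroup.mk_surjective z
        refine ⟨1, ?_⟩
        rw [pow_one, ← QuotientGroup.mk_pow, QuotientGroup.eq_one_iff]
        exact hexp z
      have hPn : (P : Subgroup G).Normal := by
        rw [← Subgroup.normalizer_eq_top_iff, eq_top_iff, ← hNP]
        refine sup_le ?_ Subgroup.le_normalizer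
        intro c hc
        apply Subgroup.mem_normalizer_fintype
        intro d hd
        rw [h d (hPexp d hd) c hc, mul_inv_cancel_right]
        exact hd
      haveI := Sylow.unique_of_normal P hPn
      rw [Subsingleton.elim R P] at hR
      exact hPexp _ (mul_mem (hP (Subgroup.mem_zpowers a)) (hR (Subgroup.mem_zpowers b)))
    · intro a ha
      show a⁻¹ ^ p = 1
      rw [inv_pow, show a ^ p = 1 from ha, inv_one]
  have hsup : N ⊔ Subgroup.zpowers x = ⊤ := by
    by_contra h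
    exact hxc (cent (hsub _ h) hpN le_sup_left
      (Subgroup.mem_sup_right (Subgroup.mem_zpowers x)) hxp (hNtop x))
  refine minimal_nonclosed_structure hmin hpN hxp hsup hxc ?_
  intro Q hQ hxQ
  have h1 : Q ⊔ Subgroup.zpowers x ≠ ⊤ := by
    intro h
    apply hQ.ne
    have hdis : Disjoint N (Subgroup.zpowers x) := by
      apply Subgroup.disjoint_of_coprime_natCard
      obtain ⟨j, hj⟩ := (isPGroup_zpowers_of_pow (p := p) (k := 1) (x := x)
        (by simpa using hxp)).exists_card_eq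
      rw [hj]
      exact ((Nat.Prime.coprime_iff_not_dvd hp).2 hpN).symm.pow_right j
    refine le_antisymm hQ.le ?_
    intro g hg
    have h1 : g ∈ ((Q ⊔ Subgroup.zpowers x : Subgroup G) : Set G) := by rw [h]; trivial
    rw [Subgroup.coe_mul_of_right_le_normalizer_left _ _ (Subgroup.zpowers_le.2 hxQ)] at h1
    obtain ⟨a, ha, b, hb, rfl⟩ := h1
    have hb1 : b ∈ N := by
      have := N.mul_mem (N.inv_mem (hQ.le ha)) hg
      simpa using this
    have := Subgroup.disjoint_def.1 hdis hb1 hb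
    rw [this]; simpa using ha
  exact cent (hsub _ h1)
    (fun h => hpN (h.trans (Subgroup.card_dvd_of_le hQ.le))) le_sup_left
    (Subgroup.mem_sup_right (Subgroup.mem_zpowers _)) hxp hxQ

end Cfsg.Agent.S3873
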