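import Cfsg.Statements.S3875
import Cfsg.Agent.S0999
import Cfsg.Agent.Lib.Dickson.MinSimple
import Cfsg.Agent.Lib.Fgs.MinNonClosed
import Cfsg.Agent.Lib.Coprime.Sylow
import Cfsg.Agent.Lib.Transfer.NormalComplement

set_option autoImplicit false
open Cfsg

namespace Cfsg.Agent.S3875

open CfsgLib Subgroup

theorem card_sylow_eq {H : Type*} [Group H] [Finite H] {p : ℕ} [hp : Fact p.Prime]
    (h : ¬ IsPClosed p H) (hc : Nat.card H < p ^ 3) (P : Sylow p H) : Nat.card P = p := by
  have h1 : 1 < Nat.card (Sylow p H) := by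
    rw [Finite.one_lt_card_iff_nontrivial]
    by_contra hn
    rw [not_nontrivial_iff_subsingleton] at hn
    exact h fun P => P.normal_of_subsingleton
  have h2 : p + 1 ≤ Nat.card (Sylow p H) := by
    have := Nat.le_of_dvd (by omega)
      ((Nat.modEq_iff_dvd' h1.le).1 (card_sylow_modEq_one p H).symm)
    omega
  have h3 := Nat.le_of_dvd (Nat.pos_of_ne_zero index_ne_zero_of_finite) P.card_dvd_index
  obtain ⟨k, hk⟩ := IsPGroup.iff_card.1 P.isPGroup'
  have h4 := (P : Subgroup H).card_mul_index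
  rcases k with _ | _ | k
  · exact absurd (Fgs.isPClosed_of_normal_sylow P (by
      rw [card_eq_one.1 hk]; infer_instance)) h
  · simpa using hk
  · have h5 : p ^ 2 ≤ Nat.card P := hk ▸ Nat.pow_le_pow_right hp.out.pos (by omega)
    have := Nat.mul_le_mul h5 (h2.trans h3)
    nlinarith [hp.out.pos]

theorem normal_of_map_normal {H : Type*} [Group H] [Finite H] {p : ℕ} [Fact p.Prime]
    (P : Sylow p H) (N : Subgroup H) [N.Normal] (h : P ≤ N)
    (hn : ((P : Subgroup H).subgroupOf N).Normal) : (P : Subgroup H).Normal := by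
  have := (P.subtype h).characteristic_of_normal hn
  have h1 : ((P.subtype h : Subgroup N).map N.subtype).Normal :=
    ConjAct.normal_of_characteristic_of_normal
  rwa [Sylow.coe_subtype, subgroupOf_map_subtype, inf_eq_left.2 h] at h1

theorem lower {p : ℕ} [hp : Fact p.Prime] {m : ℕ}
    (hleast : ∀ k : ℕ, IsPrimePow k → k % p = 1 → m ≤ k) (n : ℕ) :
    ∀ (H : Type) [Group H] [Finite H], Nat.card H = n → ¬ IsPClosed p H →
      min (p * m) (p * (p ^ 2 - 1) / 2) ≤ n := by
  induction n using Nat.strong_induction_on with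
  | _ n ih =>
  intro H _ _ hn h
  subst hn
  by_contra hlt
  rw [not_le, lt_min_iff] at hlt
  have hp1 := hp.out.one_lt
  have h3 : Nat.card H < p ^ 3 := hlt.2.trans_le ((Nat.div_le_self _ _).trans (by
    rw [pow_succ' p 2]; exact Nat.mul_le_mul_left _ (Nat.sub_le _ _)))
  obtain ⟨P⟩ : Nonempty (Sylow p H) := inferInstance
  have hP := card_sylow_eq h h3 P
  have small : ∀ (K : Type) [Group K] [Finite K], Nat.card K < Nat.card H → IsPClosed p K :=
    fun K _ _ hK => by_contra fun hc => by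
      have := ih _ hK K rfl hc
      rw [min_le_iff] at this
      omega
  by_cases hs : IsSimpleGroup H
  · have h4 := hlt.2
    rw [Nat.lt_div_iff_mul_lt' ((hp.out.eq_two_or_odd'.elim (fun e => e ▸ by norm_num) fun e =>
      (Nat.Odd.sub_odd e.pow odd_one).two_dvd.mul_left _))] at h4
    rcases S0999.result (G := H) (fun hc => h fun P => by
        have := hc.isMulCommutative; infer_instance) p hp.out
      (hP ▸ (P : Subgroup H).card_subgroup_dvd_card) h3 with
      ⟨F, _, _, h5, -, ⟨e⟩⟩ | ⟨k, F, _, _, h5, h6, h7, ⟨e⟩⟩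
    · have h8 := Dickson.card_psl (K := F)
      rw [← Nat.card_congr e.toEquiv, Nat.card_eq_fintype_card (α := F), h5] at h8
      have := Nat.mul_le_mul_right (Nat.card H) (Nat.gcd_le_left (n := p - 1) two_pos)
      omega
    · have h8 := Dickson.card_psl (K := F)
      have h9 : 2 ∣ 2 ^ k := dvd_pow_self 2 (by rintro rfl; omega)
      rw [← Nat.card_congr e.toEquiv, Nat.card_eq_fintype_card (α := F), h5,
        show Nat.gcd 2 (2 ^ k - 1) = 1 from
          (Nat.Prime.coprime_iff_not_dvd Nat.prime_two).2 (by omega), one_mul] at h8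
      generalize 2 ^ k = q at *
      subst h6
      obtain ⟨r, rfl⟩ : ∃ r, q = r + 4 := ⟨q - 4, by omega⟩
      rw [h8, show (r + 4) ^ 2 - 1 = r * r + 8 * r + 15 by rw [Nat.sub_eq_iff_eq_add] <;> nlinarith,
        show (r + 4 + 1) ^ 2 - 1 = r * r + 10 * r + 24 by
          rw [Nat.sub_eq_iff_eq_add] <;> nlinarith] at h4
      nlinarith [Nat.zero_le (r * r * r), Nat.zero_le (r * r)]
  have : Nontrivial H := Finite.one_lt_card_iff_nontrivial.1
    (hp1.trans_le (Nat.le_of_dvd Nat.card_pos (hP ▸ (P : Subgroup H).card_subgroup_dvd_card)))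
  obtain ⟨N, hN, h0, h1⟩ : ∃ N : Subgroup H, N.Normal ∧ N ≠ ⊥ ∧ N ≠ ⊤ := by
    by_contra hc
    push Not at hc
    exact hs ⟨fun N hN => or_iff_not_imp_left.2 (hc N hN)⟩
  refine h (Fgs.isPClosed_of_normal_sylow P ?_)
  have := Fact.mk (hP.symm ▸ hp.out : (Nat.card P).Prime)
  rcases ((P : Subgroup H) ⊓ N).subgroupOf P |>.eq_bot_or_eq_top_of_prime_card with h4 | h4
  swap
  · have h5 : (P : Subgroup H) ≤ N := (subgroupOf_eq_top.1 h4).trans inf_le_right
    exact normal_of_map_normal P N h5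
      (small N (Core.card_lt_of_ne_top h1) (P.subtype h5))
  have h5 : ¬ p ∣ Nat.card N := Transfer.not_dvd_card_of_inf_sylow_eq_bot P N (by
    rw [inf_comm]
    exact (subgroupOf_eq_bot.1 h4).eq_bot_of_le inf_le_left)
  have h6 : N ⊓ centralizer (P : Set H) = N := by
    refine Coprime.eq_of_forall_invariant_pgroup_le le_normalizer_of_normal
      (hP ▸ (Nat.Prime.coprime_iff_not_dvd hp.out).2 h5)
      (Or.inl (by have := P.isPGroup'.isNilpotent; infer_instance)) inf_le_left
      fun q Q hq hQN hQ _ hPQ => le_inf hQN (le_centralizer_iff.1 fun x hx => ?_)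
    have h6 : ¬ p ∣ Nat.card Q := fun hd => h5 (hd.trans (card_dvd_of_le hQN))
    refine Fgs.mem_centralizer_of_isPClosed (H := P ⊔ Q) (k := 1) (by_contra fun hc => ?_) h6
      le_sup_right (mem_sup_left hx) (by
        rw [pow_one, ← hP]; exact congrArg Subtype.val (pow_card_eq_one' (x := (⟨x, hx⟩ : P))))
      (hPQ hx)
    have := Fact.mk hq
    obtain ⟨k, hk⟩ := IsPGroup.iff_card.1 hQ
    have h7 := card_le_card_group ((P : Subgroup H) ⊔ Q)
    obtain ⟨R⟩ : Nonempty (Sylow p ↥((P : Subgroup H) ⊔ Q)) := inferInstance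
    have h8 := (R : Subgroup ↥((P : Subgroup H) ⊔ Q)).card_mul_index
    rw [card_sylow_eq hc (h7.trans_lt h3) R] at h8
    have h9 := Core.card_sup_dvd_of_le_normalizer hPQ
    rw [← h8, hP, hk, Nat.mul_dvd_mul_iff_left hp.out.pos] at h9
    obtain ⟨j, -, hj⟩ := (Nat.dvd_prime_pow hq).1 (R.card_dvd_index.trans h9)
    have h10 := hleast (q ^ j) (hq.isPrimePow.pow (by
      rintro rfl
      have := (Nat.card_eq_one_iff_unique.1 hj).1
      exact hc fun P => P.normal_of_subsingleton)) (by
      rw [← hj, card_sylow_modEq_one p, Nat.mod_eq_of_lt hp1])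
    have h11 := Nat.le_of_dvd (Nat.pos_of_ne_zero index_ne_zero_of_finite) R.card_dvd_index
    have := Nat.mul_le_mul_left p (h10.trans (hj ▸ h11))
    omega
  have h7 := (small _ (Core.card_quotient_lt_of_ne_bot h0)
    (P.mapSurjective (QuotientGroup.mk'_surjective N))).comap (QuotientGroup.mk' N)
  rw [Sylow.coe_mapSurjective, comap_map_eq, QuotientGroup.ker_mk'] at h7
  exact normal_of_map_normal P _ le_sup_left ((normal_subgroupOf_iff_le_normalizer le_sup_left).2
    (sup_le le_normalizer ((h6.ge.trans inf_le_right).trans (centralizer_le_normalizer _))))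

theorem exists_affine {p : ℕ} [hp : Fact p.Prime] {m : ℕ} (hm : IsPrimePow m) (hm1 : m % p = 1) :
    ∃ (H : Type) (_ : Group H) (_ : Finite H), Nat.card H = p * m ∧ ¬ IsPClosed p H := by
  obtain ⟨q, k, hq, hk, rfl⟩ := (isPrimePow_nat_iff m).1 hm
  have := Fact.mk hq
  have hF := GaloisField.card q k hk.ne'
  obtain ⟨ζ, hζ⟩ := exists_prime_orderOf_dvd_card' (G := (GaloisField q k)ˣ) p (by
    rw [Nat.card_units, hF]
    exact (Nat.modEq_iff_dvd' hm.one_lt.le).1 (by
      rw [Nat.ModEq, hm1, Nat.mod_eq_of_lt hp.out.one_lt]))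
  let φ : zpowers ζ →* MulAut (Multiplicative (GaloisField q k)) :=
    (MulAutMultiplicative _).symm.toMonoidHom.comp
      ((DistribMulAction.toAddAut _ _).comp (zpowers ζ).subtype)
  refine ⟨Multiplicative (GaloisField q k) ⋊[φ] zpowers ζ, inferInstance,
    Finite.of_equiv _ SemidirectProduct.equivProd.symm, ?_, fun h => ?_⟩
  · rw [SemidirectProduct.card, Nat.card_zpowers, hζ, Nat.card_congr Multiplicative.toAdd, hF,
      mul_comm]
  have : Finite (Multiplicative (GaloisField q k) ⋊[φ] zpowers ζ) :=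
    Finite.of_equiv _ SemidirectProduct.equivProd.symm
  obtain ⟨P, hP⟩ := ((IsPGroup.of_card (p := p) (n := 1) (G := zpowers ζ)
    (by rw [Nat.card_zpowers, hζ, pow_one])).to_subgroup ⊤ |>.map
    (SemidirectProduct.inr (φ := φ))).exists_le_sylow
  have h1 := hP (mem_map_of_mem _ (mem_top ⟨ζ, mem_zpowers ζ⟩))
  have h2 := mul_mem ((h P).conj_mem _ h1 (SemidirectProduct.inl (Multiplicative.ofAdd 1)))
    (inv_mem h1)
  have h3 : (SemidirectProduct.inl (Multiplicative.ofAdd (1 - ζ : GaloisField q k)) :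
      Multiplicative (GaloisField q k) ⋊[φ] zpowers ζ) ∈ (P : Subgroup _) := by
    rw [mul_assoc, mul_assoc, ← mul_assoc (SemidirectProduct.inr _), ← map_inv,
      ← map_inv SemidirectProduct.inr, ← SemidirectProduct.inl_aut, ← map_mul, map_inv] at h2
    rw [ofAdd_sub, div_eq_mul_inv, ← mul_one (ζ : GaloisField q k)]
    exact h2
  obtain ⟨j, hj⟩ := P.isPGroup' ⟨_, h3⟩
  have h4 : (Multiplicative.ofAdd (1 - ζ : GaloisField q k)) ^ p ^ j = 1 :=
    SemidirectProduct.inl_injective (by simpa using congrArg Subtype.val hj)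
  rw [← ofAdd_nsmul, ofAdd_eq_one, nsmul_eq_mul, mul_eq_zero, sub_eq_zero,
    CharP.cast_eq_zero_iff _ q] at h4
  rcases h4 with h4 | h4
  · obtain rfl := (Nat.prime_dvd_prime_iff_eq hq hp.out).1 (hq.dvd_of_dvd_pow h4)
    rw [Nat.mod_eq_zero_of_dvd (dvd_pow_self q hk.ne')] at hm1
    exact zero_ne_one hm1
  · rw [show ζ = 1 from Units.ext h4.symm, orderOf_one] at hζ
    exact hp.out.ne_one hζ.symm


/-- Let p be an odd prime and let m be the least prime power congruent to 1 modulo p. Then the least order of a finite group whose Sylow p-subgroups are not normal is the smaller of p · m and p(p² − 1)/2: every finite group whose Sylow p-subgroups are not normal has at least that order, and some group of exactly that order has non-normal Sylow p-subgroups. -/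
theorem result (p : ℕ) [Fact p.Prime] (hp : p ≠ 2) (m : ℕ) (hm : IsPrimePow m) (hm1 : m % p = 1)
    (hleast : ∀ k : ℕ, IsPrimePow k → k % p = 1 → m ≤ k) :
    (∀ (H : Type) [Group H] [Finite H], ¬ Cfsg.IsPClosed p H → min (p * m) (p * (p ^ 2 - 1) / 2) ≤ Nat.card H) ∧
      ∃ (H : Type) (_ : Group H) (_ : Finite H), Nat.card H = min (p * m) (p * (p ^ 2 - 1) / 2) ∧ ¬ Cfsg.IsPClosed p H := by
  refine ⟨fun H _ _ => lower hleast _ H rfl, ?_⟩
  have hp' : p.Prime := Fact.out
  by_cases h : p * m ≤ p * (p ^ 2 - 1) / 2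
  · rw [min_eq_left h]
    exact exists_affine hm hm1
  have h3 : p ≠ 3 := by
    rintro rfl
    have := hleast 4 (Nat.prime_two.isPrimePow.pow two_ne_zero) rfl
    omega
  have h4 : 4 ≤ Nat.card (ZMod p) := by
    have := hp'.two_le
    rw [Nat.card_zmod]
    omega
  have h5 := Dickson.card_psl (K := ZMod p)
  rw [Nat.card_zmod, Nat.gcd_eq_left (hp'.even_sub_one hp).two_dvd] at h5
  refine ⟨Matrix.ProjectiveSpecialLinearGroup (Fin 2) (ZMod p), inferInstance, inferInstance,
    by rw [min_eq_right (not_le.1 h).le]; omega, fun hc => ?_⟩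
  have := Dickson.psl_isSimpleGroup h4
  obtain ⟨P⟩ : Nonempty (Sylow p (Matrix.ProjectiveSpecialLinearGroup (Fin 2) (ZMod p))) :=
    inferInstance
  rcases (hc P).eq_bot_or_eq_top with e | e
  · refine P.not_dvd_index ?_
    rw [e, index_bot]
    exact ((Nat.coprime_primes hp' Nat.prime_two).2 hp).dvd_of_dvd_mul_left (h5 ▸ Dvd.intro _ rfl)
  · have := (IsPGroup.of_equiv (e ▸ P.isPGroup') topEquiv).isNilpotent
    exact Dickson.psl_not_isSolvable h4 inferInstance

end Cfsg.Agent.S3875
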