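import Cfsg.Statements.S3890
import Mathlib
import Cfsg.Agent.Lib.Fgs.NilCover

set_option autoImplicit false
open Cfsg

namespace Cfsg.Agent.S3890

/-- A cover of a group is a finite set of proper subgroups whose union is the whole group; it is minimal when no cover has fewer members, and nilpotent when all its members are nilpotent. Let G be a finite group with trivial center admitting a nilpotent minimal cover 𝓐, and let P be an abelian Sylow p-subgroup of G that is not normal. Then either P is elementary abelian of order greater than p, or P is a Sylow p-subgroup of some member A of 𝓐, the normalizer N of P is a maximal subgroup of G, N meets each of its conjugates by elements outside N in a subgroup of order prime to p, and the centralizer of P equals A. -/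
theorem result {G : Type*} [Group G] [Finite G] (hZ : Subgroup.center G = ⊥) (𝓐 : Finset (Subgroup G))
    (h𝓐 : ((∀ A ∈ 𝓐, A ≠ ⊤) ∧ (∀ g : G, ∃ A ∈ 𝓐, g ∈ A)) ∧ (∀ 𝓑 : Finset (Subgroup G), (∀ A ∈ 𝓑, A ≠ ⊤) ∧ (∀ g : G, ∃ A ∈ 𝓑, g ∈ A) → 𝓐.card ≤ 𝓑.card) ∧ (∀ A ∈ 𝓐, Group.IsNilpotent ↥A)) {p : ℕ} [Fact p.Prime] (P : Sylow p G) (hab : IsMulCommutative ↥(P : Subgroup G))
    (hnn : ¬ (P : Subgroup G).Normal) :
    (Cfsg.IsElementaryAbelian p (P : Subgroup G) ∧ p < Nat.card ↥(P : Subgroup G)) ∨
    (∃ A ∈ 𝓐, (P : Subgroup G) ≤ A ∧ ¬ p ∣ ((P : Subgroup G).subgroupOf A).index ∧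
      IsCoatom (Subgroup.normalizer ((P : Subgroup G) : Set G)) ∧
      (∀ g : G, g ∉ Subgroup.normalizer ((P : Subgroup G) : Set G) →
        ¬ p ∣ Nat.card ↥(Subgroup.normalizer ((P : Subgroup G) : Set G) ⊓
          (Subgroup.normalizer ((P : Subgroup G) : Set G)).map (MulAut.conj g).toMonoidHom)) ∧
      Subgroup.centralizer ((P : Subgroup G) : Set G) = A) := by
  by_cases hne : Cfsg.IsElementaryAbelian p (P : Subgroup G) ∧ p < Nat.card ↥(P : Subgroup G)
  · exact Or.inl hne
  right
  obtain ⟨h1, -, h3, h4⟩ := CfsgLib.Fgs.nilCover_structure hZ h𝓐 P hab hnn hne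
  refine ⟨_, h1, Subgroup.le_centralizer _, fun h => P.not_dvd_index ?_, h3, fun g hg h => hg ?_, rfl⟩
  · exact h.trans (Subgroup.relIndex_dvd_index_of_le (Subgroup.le_centralizer _))
  · obtain ⟨x, hx⟩ := exists_prime_orderOf_dvd_card' p h
    have hxp : IsPGroup p (Subgroup.zpowers (x : G)) := by
      apply IsPGroup.of_card (n := 1)
      rw [Nat.card_zpowers, Subgroup.orderOf_coe, hx, pow_one]
    have hx1 : (x : G) ≠ 1 := by
      intro h1
      rw [← Subgroup.orderOf_coe, h1, orderOf_one] at hx
      exact (Fact.out : p.Prime).one_lt.ne hx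
    have key : ∀ Q : Sylow p G, (x : G) ∈ Subgroup.normalizer ((Q : Subgroup G) : Set G) →
        (x : G) ∈ (Q : Subgroup G) := by
      intro Q hQ
      have h2 := IsPGroup.inf_normalizer_sylow hxp Q
      have h3 : (x : G) ∈ Subgroup.zpowers (x : G) ⊓ Subgroup.normalizer (Q : Set G) :=
        ⟨Subgroup.mem_zpowers _, hQ⟩
      rw [h2] at h3
      exact h3.2
    have e1 := key P x.2.1
    have e2 := key (g • P) (by
      have := x.2.2
      rw [Sylow.coe_subgroup_smul]
      have e := Subgroup.map_equiv_normalizer_eq (P : Subgroup G) (MulAut.conj g)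
      exact e.le this)
    apply Sylow.smul_eq_iff_mem_normalizer.1
    apply h4
    intro hb
    have : (x : G) ∈ (P : Subgroup G) ⊓ (g • P : Sylow p G) := ⟨e1, e2⟩
    rw [hb] at this
    exact hx1 this

end Cfsg.Agent.S3890
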