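import Cfsg.Statements.S3892
import Cfsg.Agent.Lib.Fgs.NilCover

set_option autoImplicit false
open Cfsg

namespace Cfsg.Agent.S3892

open CfsgLib.Fgs Equiv Equiv.Perm

theorem gen {G : Type*} [Group G] [Finite G] {p : ℕ} [Fact p.Prime] (hp2 : ¬ p ^ 2 ∣ Nat.card G)
    (x y : G) (hx : x ^ p = 1) (hy : y ^ p = 1) (hxy : x * y ≠ y * x) (B : Subgroup G) (hB : B ≠ ⊤)
    (hxB : ∀ g, g * x = x * g → g ∈ B) (hyB : ∀ g, g * y = y * g → g ∈ B)
    (𝓐 : Finset (Subgroup G)) : ¬ IsNilMinCover 𝓐 := by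
  have hp : p.Prime := Fact.out
  have hab : ∀ Q : Sylow p G, IsMulCommutative Q := by
    intro Q
    obtain ⟨k, hk⟩ := Q.2.exists_card_eq
    have h1 : p ^ k ∣ Nat.card G := hk ▸ Subgroup.card_subgroup_dvd_card _
    have hk1 : k ≤ 1 := by
      by_contra h
      exact hp2 ((pow_dvd_pow p (by omega)).trans h1)
    have : IsCyclic Q := isCyclic_of_card_dvd_prime (p := p) (by
      rw [hk]; simpa using pow_dvd_pow p hk1)
    exact IsCyclic.isMulCommutative
  have key : ∀ z : G, z ^ p = 1 → ∀ A : Subgroup G, Group.IsNilpotent A → z ∈ A →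
      ∀ g ∈ A, g * z = z * g := by
    intro z hz A hA hzA g hg
    have h1 : IsPGroup p (Subgroup.zpowers z) := by
      rintro ⟨_, m, rfl⟩
      refine ⟨1, Subtype.ext ?_⟩
      show (z ^ m) ^ p ^ 1 = 1
      rw [pow_one, ← zpow_natCast, ← zpow_mul, mul_comm, zpow_mul, zpow_natCast, hz, one_zpow]
    exact (le_centralizer_of_abelian_sylow hab h1 (Subgroup.zpowers_le.2 hzA) hg z
      (Subgroup.mem_zpowers z)).symm
  exact not_isNilMinCover_of_pair hB x y (fun A hA h g hg => hxB g (key x hx A hA h g hg))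
    (fun A hA h g hg => hyB g (key y hy A hA h g hg))
    (fun A hA h1 h2 => hxy (key x hx A hA h1 y h2).symm) 𝓐

theorem big {n : ℕ} (hn : 6 ≤ n) {G : Type*} [Group G] [Finite G] (f : G →* Perm (Fin n))
    (hf : Function.Injective f) (hr : ∀ s : Perm (Fin n), sign s = 1 → ∃ g, f g = s)
    (𝓐 : Finset (Subgroup G)) : ¬ IsNilMinCover 𝓐 := by
  obtain ⟨p, hp, hp1, hp2⟩ := Nat.exists_prime_lt_and_le_two_mul (n / 2) (by omega)
  haveI : Fact p.Prime := ⟨hp⟩
  have hodd : Odd p := hp.odd_of_ne_two (by omega)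
  have hpn : p < n := by
    obtain ⟨k, hk⟩ := hodd
    omega
  have hp5 : 5 ≤ p := by
    obtain ⟨k, hk⟩ := hodd
    omega
  have hsq : ¬ p ^ 2 ∣ Nat.card G := by
    intro h
    have h1 : p ^ 2 ∣ n.factorial := by
      refine h.trans ?_
      have := Subgroup.card_dvd_of_injective f hf
      simpa [Nat.card_eq_fintype_card, Fintype.card_perm] using this
    have h2 := (padicValNat_dvd_iff_le (p := p) (Nat.factorial_ne_zero n)).1 h1
    have h3 := sub_one_mul_padicValNat_factorial (p := p) n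
    have h4 : (p - 1) * 2 ≤ (p - 1) * padicValNat p n.factorial := Nat.mul_le_mul_left _ h2
    have h5 : Nat.digits p n = [n - p, 1] := by
      rw [Nat.digits_def' hp.one_lt (by omega)]
      have e1 : n / p = 1 := by
        apply Nat.div_eq_of_lt_le <;> omega
      have e2 : n % p = n - p := by
        rw [Nat.mod_eq_sub_mod hpn.le, Nat.mod_eq_of_lt (by omega)]
      rw [e1, e2, Nat.digits_of_lt p 1 one_ne_zero hp.one_lt]
    rw [h5] at h3
    simp at h3
    omega
  obtain ⟨x, hx⟩ := (exists_with_cycleType_iff (Fin n) (m := {p})).2 ⟨by simpa using hpn.le, by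
    simpa using hp.two_le⟩
  have hxc : x.IsCycle := card_cycleType_eq_one.1 (by rw [hx]; rfl)
  have hsupp : x.support.card = p := by
    have := x.sum_cycleType
    rw [hx] at this
    simpa using this.symm
  have hox : orderOf x = p := by rw [hxc.orderOf, hsupp]
  have hxp : x ^ p = 1 := by rw [← hox]; exact pow_orderOf_eq_one x
  obtain ⟨a, ha, -⟩ := id hxc
  have hmove : ∀ k : ℕ, 0 < k → k < p → (x ^ k) a ≠ a := by
    intro k hk0 hk h
    have := (hxc.pow_eq_one_iff' ha).2 h
    have h2 := Nat.le_of_dvd hk0 (hox ▸ orderOf_dvd_of_pow_eq_one this)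
    omega
  have h2a : x (x a) ≠ a := by simpa [pow_succ] using hmove 2 (by omega) (by omega)
  have h3a : x (x (x a)) ≠ a := by simpa [pow_succ] using hmove 3 (by omega) (by omega)
  have h21 : x (x a) ≠ x a := fun h => ha (x.injective h)
  obtain ⟨c, hc⟩ : ∃ c, x c = c := by
    by_contra h
    push Not at h
    have : x.support = Finset.univ := Finset.eq_univ_of_forall (fun i => mem_support.2 (h i))
    rw [this] at hsupp
    simp at hsupp
    omega
  have hsign : ∀ z : Perm (Fin n), z ^ p = 1 → sign z = 1 := by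
    intro z hz
    have := congrArg sign hz
    rw [map_pow, map_one] at this
    rcases Int.units_eq_one_or (sign z) with h | h
    · exact h
    · rw [h, hodd.neg_one_pow] at this
      exact absurd this (by decide)
  set s := swap a (x a) with hs
  set y := s * x * s⁻¹ with hy
  have hyp : y ^ p = 1 := by rw [hy, conj_pow, hxp]; simp
  have hfix : ∀ i, y i = i ↔ x i = i := by
    intro i
    have e : y i = i ↔ x (s i) = s i := by
      rw [hy, hs, swap_inv, Perm.mul_apply, Perm.mul_apply, swap_apply_eq_iff]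
    rw [e]
    by_cases h1 : i = a
    · subst h1
      rw [hs, swap_apply_left]
      exact ⟨fun h => absurd h h21, fun h => absurd h ha⟩
    · by_cases h2 : i = x a
      · subst h2
        rw [hs, swap_apply_right]
        exact ⟨fun h => absurd h ha, fun h => absurd h h21⟩
      · rw [hs, swap_apply_of_ne_of_ne h1 h2]
  obtain ⟨x', hx'⟩ := hr x (hsign x hxp)
  obtain ⟨y', hy'⟩ := hr y (hsign y hyp)
  let B0 : Subgroup (Perm (Fin n)) :=
    { carrier := {g | ∀ i, x (g i) = g i ↔ x i = i}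
      mul_mem' := fun {g h} hg hh i => (hg (h i)).trans (hh i)
      one_mem' := fun i => Iff.rfl
      inv_mem' := fun {g} hg i => by
        have := hg (g⁻¹ i)
        simp only [Perm.inv_def, Equiv.apply_symm_apply] at this ⊢
        exact this.symm }
  refine gen hsq x' y' (hf (by rw [map_pow, hx', hxp, map_one]))
    (hf (by rw [map_pow, hy', hyp, map_one])) ?_ (B0.comap f) ?_ ?_ ?_ 𝓐
  · intro h
    have h1 : x * y = y * x := by rw [← hx', ← hy', ← map_mul, h, map_mul]
    have h2 := congrArg (fun g : Perm (Fin n) => g a) h1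
    simp only [hy, hs, swap_inv, Perm.mul_apply, swap_apply_left, swap_apply_right,
      swap_apply_of_ne_of_ne h2a h21] at h2
    exact h3a h2
  · intro h
    obtain ⟨g, hg⟩ := hr (swap a c * swap (x a) (x (x a))) (by
      have h1 : a ≠ c := by rintro rfl; exact ha hc
      rw [map_mul, sign_swap h1, sign_swap h21.symm]; simp)
    have h1 : g ∈ B0.comap f := by rw [h]; trivial
    have h2 := h1 a
    rw [hg] at h2
    simp only [Perm.mul_apply, swap_apply_of_ne_of_ne ha.symm h2a.symm, swap_apply_left] at h2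
    exact ha (h2.1 hc)
  · intro g hg i
    have h1 : f g * x = x * f g := by rw [← hx', ← map_mul, hg, map_mul]
    have h2 := congrArg (fun g : Perm (Fin n) => g i) h1
    simp only [Perm.mul_apply] at h2
    rw [← h2]
    exact (f g).injective.eq_iff
  · intro g hg i
    have h1 : f g * y = y * f g := by rw [← hy', ← map_mul, hg, map_mul]
    have h2 := congrArg (fun g : Perm (Fin n) => g i) h1
    simp only [Perm.mul_apply] at h2
    rw [← hfix, ← hfix, ← h2]
    exact (f g).injective.eq_iff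

theorem alt_ne_top (n : ℕ) : alternatingGroup (Fin (n + 2)) ≠ ⊤ := by
  intro h
  have : swap (0 : Fin (n + 2)) 1 ∈ alternatingGroup (Fin (n + 2)) := by rw [h]; trivial
  rw [mem_alternatingGroup, sign_swap (by simp)] at this
  exact absurd this (by decide)

theorem s4 (𝓐 : Finset (Subgroup (Perm (Fin 4)))) : ¬ IsNilMinCover 𝓐 := by
  haveI : Fact (Nat.Prime 3) := ⟨Nat.prime_three⟩
  refine gen (p := 3) (by simp [Nat.card_eq_fintype_card, Fintype.card_perm, Nat.factorial])
    (swap 0 1 * swap 0 2) (swap 0 1 * swap 0 3) (by decide) (by decide) (by decide)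
    (alternatingGroup _) (alt_ne_top 2) ?_ ?_ 𝓐
  · simp only [mem_alternatingGroup]; decide
  · simp only [mem_alternatingGroup]; decide

theorem s5 (𝓐 : Finset (Subgroup (Perm (Fin 5)))) : ¬ IsNilMinCover 𝓐 := by
  haveI : Fact (Nat.Prime 5) := ⟨Nat.prime_five⟩
  refine gen (p := 5) (by simp [Nat.card_eq_fintype_card, Fintype.card_perm, Nat.factorial])
    (swap 0 1 * swap 0 2 * swap 0 3 * swap 0 4) (swap 0 1 * swap 0 2 * swap 0 4 * swap 0 3)
    (by decide) (by decide) (by decide)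
    (alternatingGroup _) (alt_ne_top 3) ?_ ?_ 𝓐
  · simp only [mem_alternatingGroup]; decide +kernel
  · simp only [mem_alternatingGroup]; decide +kernel

theorem a5aux1 : ∀ g : Perm (Fin 5), sign g = 1 →
    g * (swap 0 1 * swap 0 2) = (swap 0 1 * swap 0 2) * g → g 4 = 4 := by decide +kernel

theorem a5aux2 : ∀ g : Perm (Fin 5), sign g = 1 →
    g * (swap 0 1 * swap 0 3) = (swap 0 1 * swap 0 3) * g → g 4 = 4 := by decide +kernel

theorem a5 (𝓐 : Finset (Subgroup (alternatingGroup (Fin 5)))) : ¬ IsNilMinCover 𝓐 := by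
  haveI : Fact (Nat.Prime 3) := ⟨Nat.prime_three⟩
  refine gen (p := 3) ?_
    ⟨swap 0 1 * swap 0 2, by rw [mem_alternatingGroup]; decide⟩
    ⟨swap 0 1 * swap 0 3, by rw [mem_alternatingGroup]; decide⟩
    ?_ ?_ ?_
    ((MulAction.stabilizer (Perm (Fin 5)) (4 : Fin 5)).comap (Subgroup.subtype _)) ?_ ?_ ?_ 𝓐
  · intro h
    have h1 := h.trans (Subgroup.card_subgroup_dvd_card (alternatingGroup (Fin 5)))
    simp [Nat.card_eq_fintype_card, Fintype.card_perm, Nat.factorial] at h1
  · apply Subtype.ext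
    show (swap 0 1 * swap 0 2 : Perm (Fin 5)) ^ 3 = 1
    decide
  · apply Subtype.ext
    show (swap 0 1 * swap 0 3 : Perm (Fin 5)) ^ 3 = 1
    decide
  · intro h
    have h1 : (swap 0 1 * swap 0 2 : Perm (Fin 5)) * (swap 0 1 * swap 0 3) =
      (swap 0 1 * swap 0 3) * (swap 0 1 * swap 0 2) := congrArg Subtype.val h
    exact absurd h1 (by decide)
  · intro h
    have : (⟨swap 0 1 * swap 0 4, by rw [mem_alternatingGroup]; decide⟩ : alternatingGroup (Fin 5)) ∈
      ((MulAction.stabilizer (Perm (Fin 5)) (4 : Fin 5)).comap (Subgroup.subtype _)) := by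
      rw [h]; trivial
    have h2 : (swap 0 1 * swap 0 4 : Perm (Fin 5)) 4 = 4 := this
    exact absurd h2 (by decide)
  · intro g hg
    exact a5aux1 g.1 g.2 (congrArg Subtype.val hg)
  · intro g hg
    exact a5aux2 g.1 g.2 (congrArg Subtype.val hg)

/-- A cover of a group is a finite set of proper subgroups whose union is the whole group; it is minimal when no cover has fewer members, and nilpotent when all its members are nilpotent. The alternating groups of degree at least 5 and the symmetric groups of degree at least 4 have no nilpotent minimal cover. -/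
theorem result (n : ℕ) :
    (5 ≤ n → ¬ ∃ 𝓐 : Finset (Subgroup ↥(alternatingGroup (Fin n))), ((∀ A ∈ 𝓐, A ≠ ⊤) ∧ (∀ g : ↥(alternatingGroup (Fin n)), ∃ A ∈ 𝓐, g ∈ A)) ∧ (∀ 𝓑 : Finset (Subgroup ↥(alternatingGroup (Fin n))), (∀ A ∈ 𝓑, A ≠ ⊤) ∧ (∀ g : ↥(alternatingGroup (Fin n)), ∃ A ∈ 𝓑, g ∈ A) → 𝓐.card ≤ 𝓑.card) ∧ (∀ A ∈ 𝓐, Group.IsNilpotent ↥A)) ∧
    (4 ≤ n → ¬ ∃ 𝓐 : Finset (Subgroup (Equiv.Perm (Fin n))), ((∀ A ∈ 𝓐, A ≠ ⊤) ∧ (∀ g : (Equiv.Perm (Fin n)), ∃ A ∈ 𝓐, g ∈ A)) ∧ (∀ 𝓑 : Finset (Subgroup (Equiv.Perm (Fin n))), (∀ A ∈ 𝓑, A ≠ ⊤) ∧ (∀ g : (Equiv.Perm (Fin n)), ∃ A ∈ 𝓑, g ∈ A) → 𝓐.card ≤ 𝓑.card) ∧ (∀ A ∈ 𝓐, Group.IsNilpotent ↥A)) := by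
  constructor
  · rintro hn ⟨𝓐, h⟩
    rcases hn.eq_or_lt with rfl | hn
    · exact a5 𝓐 h
    · exact big hn (Subgroup.subtype _) (Subgroup.subtype_injective _)
        (fun s hs => ⟨⟨s, hs⟩, rfl⟩) 𝓐 h
  · rintro hn ⟨𝓐, h⟩
    rcases hn.eq_or_lt with rfl | hn
    · exact s4 𝓐 h
    · rcases (Nat.succ_le_of_lt hn).eq_or_lt with rfl | hn
      · exact s5 𝓐 h
      · exact big hn (MonoidHom.id _) Function.injective_id (fun s _ => ⟨s, rfl⟩) 𝓐 h

end Cfsg.Agent.S3892
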