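import Cfsg.Statements.S3894
import Cfsg.Agent.Lib.Fgs.NilCover2

set_option autoImplicit false
open Cfsg

namespace Cfsg.Agent.S3894

open CfsgLib.Fgs Matrix MulAction
open scoped LinearAlgebra.Projectivization MatrixGroups

section
variable {F : Type*} [Field F]

theorem fix_iff {n : ℕ} (g : GL (Fin n) F) (v w : Fin n → F) (hv : v ≠ 0) (hw : w ≠ 0) :
    (ProjGenLinGroup.mk g : PGL(Fin n, F)) • Projectivization.mk F v hv = Projectivization.mk F w hw ↔
      ∃ c : F, (g : Matrix (Fin n) (Fin n) F) *ᵥ v = c • w := by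
  rw [Projectivization.PGL.mk_smul_mk, Projectivization.mk_eq_mk_iff']
  exact ⟨fun ⟨a, h⟩ => ⟨a, h.symm⟩, fun ⟨a, h⟩ => ⟨a, h.symm⟩⟩

theorem mk_eq_one_iff {n : ℕ} (g : GL (Fin n) F) :
    (ProjGenLinGroup.mk g : PGL(Fin n, F)) = 1 ↔
      ∃ c : Fˣ, (g : Matrix (Fin n) (Fin n) F) = (c : F) • (1 : Matrix (Fin n) (Fin n) F) := by
  rw [ProjGenLinGroup.mk_eq_one, GeneralLinearGroup.center_eq_range_scalar]
  constructor
  · rintro ⟨c, rfl⟩
    exact ⟨c, by simp [Matrix.smul_one_eq_diagonal]⟩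
  · rintro ⟨c, hc⟩
    exact ⟨c, Units.ext (by simp [hc, Matrix.smul_one_eq_diagonal])⟩

/-- The upper shift matrix. -/
def sh (F : Type*) [Field F] (n : ℕ) : Matrix (Fin n) (Fin n) F :=
  Matrix.of fun i j => if i.val + 1 = j.val then 1 else 0

theorem sh_mulVec {n : ℕ} (v : Fin n → F) (i : Fin n) :
    (sh F n *ᵥ v) i = if h : i.val + 1 < n then v ⟨i.val + 1, h⟩ else 0 := by
  simp only [sh, mulVec, dotProduct, of_apply, ite_mul, one_mul, zero_mul]
  split_ifs with h
  · rw [Finset.sum_eq_single ⟨i.val + 1, h⟩]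
    · simp
    · intro b _ hb
      rw [if_neg]
      intro e
      exact hb (Fin.ext e.symm)
    · simp
  · apply Finset.sum_eq_zero
    intro b _
    rw [if_neg]
    intro e
    exact h (e ▸ b.2)

theorem sh_pow_mulVec {n : ℕ} (k : ℕ) (v : Fin n → F) (i : Fin n) :
    (sh F n ^ k *ᵥ v) i = if h : i.val + k < n then v ⟨i.val + k, h⟩ else 0 := by
  induction k generalizing i with
  | zero => simp
  | succ k ih =>
    rw [pow_succ', ← mulVec_mulVec, sh_mulVec]
    split_ifs with h1 h2 h2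
    · rw [ih, dif_pos (by simp; omega)]
      congr 2
      simp; omega
    · rw [ih, dif_neg (by simp; omega)]
    · omega
    · rfl

theorem sh_pow_eq_zero {n k : ℕ} (h : n ≤ k) : sh F n ^ k = 0 := by
  apply Matrix.ext_of_mulVec_single
  intro j
  ext i
  rw [sh_pow_mulVec, dif_neg (by omega)]
  simp

theorem sh_eigen {n : ℕ} {v : Fin (n + 1) → F} (hv : v ≠ 0) {c : F}
    (h : (1 + sh F (n + 1)) *ᵥ v = c • v) : ∃ d : F, v = d • Pi.single 0 1 := by
  have h1 : sh F (n + 1) *ᵥ v = (c - 1) • v := by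
    rw [add_mulVec, one_mulVec] at h
    rw [sub_smul, one_smul, ← h, add_sub_cancel_left]
  have h2 : ∀ k : ℕ, sh F (n + 1) ^ k *ᵥ v = (c - 1) ^ k • v := by
    intro k
    induction k with
    | zero => simp
    | succ k ih => rw [pow_succ', ← mulVec_mulVec, ih, mulVec_smul, h1, smul_smul, pow_succ]
  have h3 := h2 (n + 1)
  rw [sh_pow_eq_zero le_rfl, zero_mulVec, eq_comm, smul_eq_zero] at h3
  have h4 : c - 1 = 0 := pow_eq_zero_iff (n := n + 1) (by omega) |>.1 (h3.resolve_right hv)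
  rw [h4, zero_smul] at h1
  refine ⟨v 0, funext fun i => ?_⟩
  refine Fin.cases ?_ (fun j => ?_) i
  · simp
  · have := congrFun h1 j.castSucc
    rw [sh_mulVec, dif_pos (by simp)] at this
    simp only [Pi.smul_apply, ne_eq, Fin.succ_ne_zero, not_false_eq_true, Pi.single_eq_of_ne,
      smul_eq_mul, mul_zero]
    exact this

theorem sh_single {n : ℕ} : (1 + sh F (n + 1)) *ᵥ (Pi.single 0 1) = Pi.single 0 1 := by
  rw [add_mulVec, one_mulVec]
  ext i
  rw [Pi.add_apply, sh_mulVec]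
  split_ifs with h
  · have : (⟨i.val + 1, h⟩ : Fin (n + 1)) ≠ 0 := fun e => by
      have := congrArg Fin.val e
      simp at this
    rw [Pi.single_eq_of_ne this, add_zero]
  · rw [add_zero]

theorem one_add_sh_pow (p : ℕ) [Fact p.Prime] [CharP F p] (n : ℕ) :
    (1 + sh F (n + 1)) ^ p ^ (n + 1) = 1 := by
  haveI : CharP (Matrix (Fin (n + 1)) (Fin (n + 1)) F) p := Matrix.charP p
  rw [add_pow_char_pow_of_commute p (n + 1) (Commute.one_left _), one_pow,
    sh_pow_eq_zero (Nat.lt_pow_self (Fact.out : p.Prime).one_lt).le, add_zero]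

theorem det_eq_one_of_pow (p : ℕ) [Fact p.Prime] [CharP F p] {n k : ℕ}
    {M : Matrix (Fin n) (Fin n) F} (h : M ^ p ^ k = 1) : M.det = 1 := by
  have h1 : M.det ^ p ^ k = 1 := by rw [← det_pow, h, det_one]
  have h2 := sub_pow_char_pow (p := p) (n := k) M.det 1
  rw [h1, one_pow, sub_self] at h2
  exact sub_eq_zero.1 (pow_eq_zero_iff (pow_pos (Fact.out : p.Prime).pos k).ne' |>.1 h2)

theorem single_ne_zero {n : ℕ} (i : Fin n) : (Pi.single i 1 : Fin n → F) ≠ 0 := by
  intro h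
  simpa using congrFun h i

/-- The standard points. -/
def pt (F : Type*) [Field F] {n : ℕ} (i : Fin n) : ℙ F (Fin n → F) :=
  Projectivization.mk F (Pi.single i 1) (single_ne_zero i)

theorem pt_ne {n : ℕ} {i j : Fin n} (h : i ≠ j) : pt F i ≠ pt F j := by
  intro e
  obtain ⟨c, hc⟩ := (Projectivization.mk_eq_mk_iff' _ _ _ _ _).1 e
  have := congrFun hc i
  simp [Pi.single_eq_of_ne h] at this

theorem unique_fixed {n : ℕ} (g : GL (Fin (n + 1)) F)
    (h0 : (g : Matrix (Fin (n + 1)) (Fin (n + 1)) F) *ᵥ (Pi.single 0 1) = Pi.single 0 1)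
    (h : ∀ (v : Fin (n + 1) → F) (c : F), v ≠ 0 →
      (g : Matrix (Fin (n + 1)) (Fin (n + 1)) F) *ᵥ v = c • v →
      ∃ d : F, v = d • Pi.single 0 1) (α : ℙ F (Fin (n + 1) → F)) :
    (ProjGenLinGroup.mk g : PGL(Fin (n + 1), F)) • α = α ↔ α = pt F 0 := by
  induction α using Projectivization.ind with | _ v hv =>
  constructor
  · intro h1
    obtain ⟨c, hc⟩ := (fix_iff _ _ _ _ _).1 h1
    obtain ⟨d, hd⟩ := h v c hv hc
    exact (Projectivization.mk_eq_mk_iff' _ _ _ _ _).2 ⟨d, hd.symm⟩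
  · intro h1
    rw [h1]
    exact (fix_iff _ _ _ _ _).2 ⟨1, by rw [h0, one_smul]⟩

variable {G : Type*} [Group G]

theorem exists_unip (p : ℕ) [Fact p.Prime] [CharP F p] {n : ℕ} (ρ : G →* PGL(Fin (n + 1), F))
    (hρ : Function.Injective ρ)
    (hSL : ∀ g : SpecialLinearGroup (Fin (n + 1)) F, ∃ x, ρ x = ProjGenLinGroup.mk (SpecialLinearGroup.toGL g))
    (ω : ℙ F (Fin (n + 1) → F)) :
    ∃ u : G, (∀ α, ρ u • α = α ↔ α = ω) ∧ u ^ p ^ (n + 1) = 1 := by
  let X : SpecialLinearGroup (Fin (n + 1)) F := ⟨1 + sh F (n + 1), det_eq_one_of_pow p (one_add_sh_pow p n)⟩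
  obtain ⟨x, hx⟩ := hSL X
  have hxp : x ^ p ^ (n + 1) = 1 := by
    apply hρ
    rw [map_pow, hx, ← map_pow, ← map_pow, map_one,
      show X ^ p ^ (n + 1) = 1 from Subtype.ext (one_add_sh_pow p n), map_one, map_one]
  have hxf := unique_fixed (SpecialLinearGroup.toGL X) sh_single (fun v c hv h => sh_eigen hv h)
  haveI := Projectivization.prePrimitive_SL (K := F) (ι := Fin (n + 1))
  obtain ⟨S, hS⟩ := MulAction.exists_smul_eq (SpecialLinearGroup (Fin (n + 1)) F) (pt F 0) ω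
  obtain ⟨s, hs⟩ := hSL S
  have hS' : ρ s • pt F 0 = ω := by rw [hs, ← hS]; rfl
  refine ⟨s * x * s⁻¹, fun α => ?_, by rw [conj_pow, hxp]; simp⟩
  rw [map_mul, map_mul, mul_smul, mul_smul, map_inv, smul_eq_iff_eq_inv_smul, hx, hxf,
    inv_smul_eq_iff, hS']

theorem big [Finite F] {m : ℕ} (ρ : G →* PGL(Fin (m + 3), F)) (hρ : Function.Injective ρ)
    (hSL : ∀ g : SpecialLinearGroup (Fin (m + 3)) F, ∃ x, ρ x = ProjGenLinGroup.mk (SpecialLinearGroup.toGL g))
    (𝓐 : Finset (Subgroup G)) : ¬ IsNilMinCover 𝓐 := by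
  obtain ⟨p, hp⟩ := CharP.exists F
  haveI : Fact p.Prime := ⟨CharP.char_is_prime F p⟩
  haveI : Finite PGL(Fin (m + 3), F) := Finite.of_surjective _ ProjGenLinGroup.mk_surjective
  haveI : Finite G := Finite.of_injective _ hρ
  letI : MulAction G (ℙ F (Fin (m + 3) → F)) := MulAction.compHom _ ρ
  let i1 : Fin (m + 3) := ⟨1, by omega⟩
  let i2 : Fin (m + 3) := ⟨2, by omega⟩
  let σ : Equiv.Perm (Fin (m + 3)) := Equiv.swap i1 i2
  have hσ0 : σ 0 = 0 := Equiv.swap_apply_of_ne_of_ne (by simp [i1, Fin.ext_iff]) (by simp [i2, Fin.ext_iff])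
  set N := sh F (m + 3) with hN
  have hXp : (1 + N) ^ p ^ (m + 3) = 1 := one_add_sh_pow p (m + 2)
  have hYe : (1 + N).submatrix σ σ = Matrix.reindexAlgEquiv F F σ.symm (1 + N) := by simp
  have hYp : ((1 + N).submatrix σ σ) ^ p ^ (m + 3) = 1 := by
    rw [hYe, ← map_pow, hXp, map_one]
  let X : SpecialLinearGroup (Fin (m + 3)) F := ⟨1 + N, det_eq_one_of_pow p hXp⟩
  let Y : SpecialLinearGroup (Fin (m + 3)) F := ⟨(1 + N).submatrix σ σ, det_eq_one_of_pow p hYp⟩
  obtain ⟨x, hx⟩ := hSL X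
  obtain ⟨y, hy⟩ := hSL Y
  have hxp : x ^ p ^ (m + 3) = 1 := by
    apply hρ
    rw [map_pow, hx, ← map_pow, ← map_pow, map_one,
      show X ^ p ^ (m + 3) = 1 from Subtype.ext hXp, map_one, map_one]
  have hyp : y ^ p ^ (m + 3) = 1 := by
    apply hρ
    rw [map_pow, hy, ← map_pow, ← map_pow, map_one,
      show Y ^ p ^ (m + 3) = 1 from Subtype.ext hYp, map_one, map_one]
  have hsing : ((Pi.single 0 1 : Fin (m + 3) → F) ∘ σ.symm) = Pi.single 0 1 := by
    ext i
    by_cases hi : i = 0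
    · subst hi
      have : σ.symm 0 = 0 := by rw [Equiv.symm_apply_eq, hσ0]
      simp [this]
    · have : σ.symm i ≠ 0 := by rw [Ne, Equiv.symm_apply_eq, hσ0]; exact hi
      simp [Pi.single_eq_of_ne hi, Pi.single_eq_of_ne this]
  have hsing' : ((Pi.single 0 1 : Fin (m + 3) → F) ∘ σ) = Pi.single 0 1 := hsing
  have hY0 : ((1 + N).submatrix σ σ) *ᵥ (Pi.single 0 1) = Pi.single 0 1 := by
    rw [submatrix_mulVec_equiv, hsing, sh_single, hsing']
  have hxf := unique_fixed (SpecialLinearGroup.toGL X) sh_single (fun v c hv h => sh_eigen hv h)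
  have hyf := unique_fixed (SpecialLinearGroup.toGL Y) hY0 (fun v c hv h => by
    have h1 : ((1 + N) *ᵥ (v ∘ σ.symm)) ∘ σ = c • v := by
      rw [← submatrix_mulVec_equiv]; exact h
    have h2 : (1 + N) *ᵥ (v ∘ σ.symm) = c • (v ∘ σ.symm) := by
      ext i
      have := congrFun h1 (σ.symm i)
      simpa using this
    obtain ⟨d, hd⟩ := sh_eigen (fun h0 => hv (by
      ext i
      simpa using congrFun h0 (σ i))) h2
    refine ⟨d, ?_⟩
    rw [← hsing']
    ext i
    simpa using congrFun hd (σ i))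
  obtain ⟨u, hu, -⟩ := exists_unip p ρ hρ hSL (pt F i1)
  refine not_isNilMinCover_of_pair (B := stabilizer G (pt F (0 : Fin (m + 3)))) ?_ x y ?_ ?_ ?_ 𝓐
  · intro h
    have h1 : u ∈ stabilizer G (pt F (0 : Fin (m + 3))) := by rw [h]; trivial
    exact pt_ne (by simp [i1, Fin.ext_iff]) ((hu _).1 h1)
  · intro A hA h
    exact le_stabilizer_of_unique_fixed hA h (fun α => by rw [← hxf, ← hx]; rfl)
  · intro A hA h
    exact le_stabilizer_of_unique_fixed hA h (fun α => by rw [← hyf, ← hy]; rfl)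
  · intro A hA h1 h2
    obtain ⟨k, hk⟩ := pow_eq_one_mul_of_nil hA h1 h2 hxp hyp
    have h3 := congrArg ρ hk
    rw [map_pow, map_mul, hx, hy, ← map_mul, ← map_mul, ← map_pow, ← map_pow, map_one,
      mk_eq_one_iff] at h3
    obtain ⟨c, hc⟩ := h3
    have hc' : ((1 + N) * (1 + N).submatrix σ σ) ^ p ^ k = (c : F) • 1 := hc
    have h4 : ∀ j : ℕ, ((1 + N) * (1 + N).submatrix σ σ) ^ j *ᵥ (Pi.single 0 1) = Pi.single 0 1 := by
      intro j
      induction j with
      | zero => rw [pow_zero, one_mulVec]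
      | succ j ih => rw [pow_succ, ← mulVec_mulVec, ← mulVec_mulVec, hY0, sh_single, ih]
    have h5 := congrFun (h4 (p ^ k)) 0
    rw [hc', smul_mulVec, one_mulVec] at h5
    have h6 : (c : F) = 1 := by simpa using h5
    rw [h6, one_smul] at hc'
    haveI : CharP (Matrix (Fin (m + 3)) (Fin (m + 3)) F) p := Matrix.charP p
    have h7 : IsNilpotent ((1 + N) * (1 + N).submatrix σ σ - 1) := ⟨p ^ k, by
      rw [sub_pow_char_pow_of_commute p k (Commute.one_right _), hc', one_pow, sub_self]⟩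
    have h8 := (isNilpotent_trace_of_isNilpotent h7).eq_zero
    have h9 : (1 + N) * (1 + N).submatrix σ σ - 1 = N + N.submatrix σ σ + N * N.submatrix σ σ := by
      rw [submatrix_add, Pi.add_apply, Pi.add_apply, submatrix_one_equiv]
      noncomm_ring
    have t1 : N.trace = 0 := by simp [hN, sh, Matrix.trace]
    have t2 : (N.submatrix σ σ).trace = 0 := by simp [hN, sh, Matrix.trace]
    have t3 : (N * N.submatrix σ σ).trace = 1 := by
      simp only [Matrix.trace, diag_apply, mul_apply, hN, sh, of_apply, submatrix_apply]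
      rw [Finset.sum_eq_single i1, Finset.sum_eq_single i2]
      · simp [σ, i1, i2]
      · intro b _ hb
        rw [if_neg, zero_mul]
        intro e
        exact hb (Fin.ext (by simp [i1, i2] at e ⊢; omega))
      · simp
      · intro a _ ha
        apply Finset.sum_eq_zero
        intro b _
        split_ifs with e1 e2
        · exfalso
          simp only [σ, Equiv.swap_apply_def] at e2
          have ha' : a.val ≠ 1 := fun h => ha (Fin.ext h)
          simp only [Fin.ext_iff, i1, i2] at e2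
          split_ifs at e2 <;> first | omega | (simp only at e2; omega)
        · simp
        · simp
        · simp
      · simp
    rw [h9, trace_add, trace_add, t1, t2, t3] at h8
    simp at h8

theorem mulVec_eq_two (M : Matrix (Fin 2) (Fin 2) F) (v w : Fin 2 → F) :
    M *ᵥ v = w ↔ M 0 0 * v 0 + M 0 1 * v 1 = w 0 ∧ M 1 0 * v 0 + M 1 1 * v 1 = w 1 := by
  rw [funext_iff, Fin.forall_fin_two]
  simp [mulVec, dotProduct, Fin.sum_univ_two]

theorem swap_sq (g : PGL(Fin 2, F)) (h0 : g • pt F (0 : Fin 2) = pt F 1)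
    (h1 : g • pt F (1 : Fin 2) = pt F 0) :
    g * g = 1 := by
  obtain ⟨M, rfl⟩ := ProjGenLinGroup.mk_surjective g
  obtain ⟨c, hc⟩ := (fix_iff _ _ _ _ _).1 h0
  obtain ⟨d, hd⟩ := (fix_iff _ _ _ _ _).1 h1
  rw [mulVec_eq_two] at hc hd
  simp at hc hd
  rw [← map_mul, mk_eq_one_iff]
  refine ⟨-GeneralLinearGroup.det M, ?_⟩
  ext i j
  fin_cases i <;> fin_cases j <;>
    simp [Matrix.mul_apply, Fin.sum_univ_two, det_fin_two, hc.1, hd.2, mul_comm]

theorem fix_pow [Fintype F] (g : PGL(Fin 2, F)) (h0 : g • pt F (0 : Fin 2) = pt F 0)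
    (h1 : g • pt F (1 : Fin 2) = pt F 1) : g ^ (Fintype.card F - 1) = 1 := by
  obtain ⟨M, rfl⟩ := ProjGenLinGroup.mk_surjective g
  obtain ⟨c, hc⟩ := (fix_iff _ _ _ _ _).1 h0
  obtain ⟨d, hd⟩ := (fix_iff _ _ _ _ _).1 h1
  rw [mulVec_eq_two] at hc hd
  simp at hc hd
  have hM : (M : Matrix (Fin 2) (Fin 2) F) = diagonal ![c, d] := by
    ext i j
    fin_cases i <;> fin_cases j <;> simp [hc.1, hc.2, hd.1, hd.2]
  have hdet : c * d ≠ 0 := by
    have := (GeneralLinearGroup.det M).ne_zero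
    rw [GeneralLinearGroup.val_det_apply, hM] at this
    simpa using this
  rw [← map_pow, mk_eq_one_iff]
  refine ⟨1, ?_⟩
  rw [Units.val_pow_eq_pow_val, hM, diagonal_pow]
  ext i j
  fin_cases i <;> fin_cases j <;>
    simp [FiniteField.pow_card_sub_one_eq_one c (left_ne_zero_of_mul hdet),
      FiniteField.pow_card_sub_one_eq_one d (right_ne_zero_of_mul hdet)]

/-- The split torus. -/
def dg (t : Fˣ) : SpecialLinearGroup (Fin 2) F :=
  ⟨diagonal ![(t : F), ((t⁻¹ : Fˣ) : F)], by simp⟩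

theorem dg_coe (t : Fˣ) : ((SpecialLinearGroup.toGL (dg t) : GL (Fin 2) F) : Matrix (Fin 2) (Fin 2) F) =
    diagonal ![(t : F), ((t⁻¹ : Fˣ) : F)] := rfl

theorem dg_fix (t : Fˣ) (ht : t ^ 2 ≠ 1) (α : ℙ F (Fin 2 → F)) :
    (ProjGenLinGroup.mk (SpecialLinearGroup.toGL (dg t)) : PGL(Fin 2, F)) • α = α ↔
      α = pt F 0 ∨ α = pt F 1 := by
  induction α using Projectivization.ind with | _ v hv =>
  constructor
  · intro h
    obtain ⟨c, hc⟩ := (fix_iff _ _ _ _ _).1 h
    rw [dg_coe, mulVec_eq_two] at hc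
    simp at hc
    by_cases h0 : v 0 = 0
    · right
      refine (Projectivization.mk_eq_mk_iff' _ _ _ _ _).2 ⟨v 1, ?_⟩
      ext i
      fin_cases i <;> simp [h0]
    · left
      have h1 : v 1 = 0 := by
        by_contra h1
        apply ht
        have e1 := hc.1.resolve_right h0
        have e2 := hc.2.resolve_right h1
        apply Units.ext
        rw [Units.val_pow_eq_pow_val, pow_two]
        nth_rewrite 1 [e1]
        rw [← e2]
        simp
      refine (Projectivization.mk_eq_mk_iff' _ _ _ _ _).2 ⟨v 0, ?_⟩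
      ext i
      fin_cases i <;> simp [h1]
  · rintro (h | h) <;> rw [h]
    · exact (fix_iff _ _ _ _ _).2 ⟨t, by rw [dg_coe, mulVec_eq_two]; simp⟩
    · exact (fix_iff _ _ _ _ _).2 ⟨(t⁻¹ : Fˣ), by rw [dg_coe, mulVec_eq_two]; simp⟩

theorem dg_pow (t : Fˣ) {r : ℕ} (h : t ^ r = 1) : dg t ^ r = 1 := by
  apply Subtype.ext
  show (diagonal ![(t : F), ((t⁻¹ : Fˣ) : F)]) ^ r = 1
  have h1 : (t : F) ^ r = 1 := by rw [← Units.val_pow_eq_pow_val, h, Units.val_one]
  rw [diagonal_pow]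
  ext i j
  fin_cases i <;> fin_cases j <;> simp [h1]

theorem free_comm [Fintype F] (M : GL (Fin 2) F)
    (hM : ∀ (v : Fin 2 → F) (c : F), (M : Matrix (Fin 2) (Fin 2) F) *ᵥ v = c • v → v = 0)
    {r : ℕ} (hr : r.Prime) (h1 : r ∣ Fintype.card F ^ 2 - 1) (h2 : ¬ r ∣ Fintype.card F - 1) :
    ∃ W : SpecialLinearGroup (Fin 2) F, W ^ r = 1 ∧
      (ProjGenLinGroup.mk (SpecialLinearGroup.toGL W) : PGL(Fin 2, F)) ≠ 1 ∧
      M * SpecialLinearGroup.toGL W = SpecialLinearGroup.toGL W * M := by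
  classical
  haveI : Fact r.Prime := ⟨hr⟩
  set A : Matrix (Fin 2) (Fin 2) F := M.val with hA
  have hinv : ∀ a b : F, (a, b) ≠ (0, 0) → (a • (1 : Matrix (Fin 2) (Fin 2) F) + b • A).det ≠ 0 := by
    intro a b hab hd
    obtain ⟨v, hv, h⟩ := Matrix.exists_mulVec_eq_zero_iff.2 hd
    rw [add_mulVec, smul_mulVec, smul_mulVec, one_mulVec] at h
    by_cases hb : b = 0
    · rw [hb, zero_smul, add_zero, smul_eq_zero] at h
      exact hab (by rw [h.resolve_right hv, hb])
    · apply hv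
      apply hM v (-a / b)
      have : b • A *ᵥ v = b • ((-a / b) • v) := by
        rw [smul_smul, mul_div_cancel₀ _ hb, neg_smul]
        exact eq_neg_of_add_eq_zero_right h
      exact smul_right_injective _ hb this
  have hCH : A * A = A.trace • A - A.det • (1 : Matrix (Fin 2) (Fin 2) F) := by
    ext i j
    fin_cases i <;> fin_cases j <;>
      simp [Matrix.mul_apply, Fin.sum_univ_two, det_fin_two, trace_fin_two] <;> ring
  let T : Submonoid (GL (Fin 2) F) :=
    { carrier := {g | ∃ a b : F, (g : Matrix (Fin 2) (Fin 2) F) = a • 1 + b • A}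
      mul_mem' := by
        rintro g h ⟨a, b, hg⟩ ⟨c, d, hh⟩
        refine ⟨a * c - b * d * A.det, a * d + b * c + b * d * A.trace, ?_⟩
        rw [Units.val_mul, hg, hh, add_mul, mul_add, mul_add]
        simp only [smul_mul_smul_comm, one_mul, mul_one, hCH]
        module
      one_mem' := ⟨1, 0, by simp⟩ }
  let T' : Subgroup (GL (Fin 2) F) :=
    { T with
      inv_mem' := by
        intro g hg
        have hpos := orderOf_pos g
        have : g⁻¹ = g ^ (orderOf g - 1) := by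
          rw [inv_eq_iff_mul_eq_one, ← pow_succ', Nat.sub_add_cancel hpos, pow_orderOf_eq_one]
        rw [this]
        exact T.pow_mem hg _ }
  have hcard : Nat.card T' = Fintype.card F ^ 2 - 1 := by
    let f : {x : F × F // x ≠ (0, 0)} → T' := fun x =>
      ⟨GeneralLinearGroup.mkOfDetNeZero _ (hinv x.1.1 x.1.2 x.2), x.1.1, x.1.2, rfl⟩
    have hf : Function.Bijective f := by
      constructor
      · rintro ⟨⟨a, b⟩, hab⟩ ⟨⟨c, d⟩, hcd⟩ h
        have h3 : a • (1 : Matrix (Fin 2) (Fin 2) F) + b • A = c • 1 + d • A :=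
          congrArg (fun g : T' => ((g : GL (Fin 2) F) : Matrix (Fin 2) (Fin 2) F)) h
        apply Subtype.ext
        by_contra hne
        refine hinv (a - c) (b - d) ?_ ?_
        · intro e
          apply hne
          simp only [Prod.mk.injEq, sub_eq_zero] at e ⊢
          exact e
        · have : (a - c) • (1 : Matrix (Fin 2) (Fin 2) F) + (b - d) • A = 0 := by
            rw [sub_smul, sub_smul, sub_add_sub_comm, h3, sub_self]
          rw [this, det_zero]
      · rintro ⟨g, a, b, hg⟩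
        refine ⟨⟨(a, b), ?_⟩, Subtype.ext (Units.ext hg.symm)⟩
        intro e
        simp only [Prod.mk.injEq] at e
        have := (GeneralLinearGroup.det g).ne_zero
        rw [GeneralLinearGroup.val_det_apply, hg, e.1, e.2] at this
        simp at this
    rw [← Nat.card_eq_of_bijective f hf, Nat.card_eq_fintype_card, Fintype.card_subtype_compl]
    simp [pow_two]
  obtain ⟨W0, hWo⟩ := exists_prime_orderOf_dvd_card' (G := T') r (hcard ▸ h1)
  rw [← Subgroup.orderOf_coe] at hWo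
  obtain ⟨W, a, b, hW⟩ := W0
  replace hWo : orderOf W = r := hWo
  have hWr : W ^ r = 1 := by rw [← hWo]; exact pow_orderOf_eq_one W
  have hunit : ∀ c : Fˣ, c ^ r = 1 → c = 1 := by
    intro c hc
    have h3 := orderOf_dvd_of_pow_eq_one hc
    have h4 : orderOf c ∣ Fintype.card F - 1 := by
      rw [← Fintype.card_units]; exact orderOf_dvd_card
    exact orderOf_eq_one_iff.1 (Nat.eq_one_of_dvd_coprimes
      ((Nat.Prime.coprime_iff_not_dvd hr).2 h2) h3 h4)
  have hdet : GeneralLinearGroup.det W = 1 := hunit _ (by rw [← map_pow, hWr, map_one])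
  let W' : SpecialLinearGroup (Fin 2) F := ⟨W, congrArg Units.val hdet⟩
  have hW' : SpecialLinearGroup.toGL W' = W := Units.ext rfl
  refine ⟨W', Subtype.ext (congrArg Units.val hWr), ?_, ?_⟩
  · rw [hW', Ne, mk_eq_one_iff]
    rintro ⟨c, hc⟩
    have h3 : c ^ r = 1 := by
      have h4 := congrArg Units.val hWr
      rw [Units.val_pow_eq_pow_val, hc, smul_pow, one_pow] at h4
      have h5 := congrFun (congrFun h4 0) 0
      apply Units.ext
      simpa using h5
    rw [hunit c h3] at hc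
    have h6 : W = 1 := Units.ext (by simpa using hc)
    rw [h6, orderOf_one] at hWo
    exact hr.one_lt.ne hWo
  · rw [hW']
    apply Units.ext
    rw [Units.val_mul, Units.val_mul, hW, ← hA, add_mul, mul_add]
    simp

theorem two [Fintype F] (hq : 4 ≤ Fintype.card F) (ρ : G →* PGL(Fin 2, F))
    (hρ : Function.Injective ρ)
    (hSL : ∀ g : SpecialLinearGroup (Fin 2) F, ∃ x, ρ x = ProjGenLinGroup.mk (SpecialLinearGroup.toGL g))
    (𝓐 : Finset (Subgroup G)) : ¬ IsNilMinCover 𝓐 := by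
  classical
  obtain ⟨p, hp⟩ := CharP.exists F
  haveI : Fact p.Prime := ⟨CharP.char_is_prime F p⟩
  haveI : Finite PGL(Fin 2, F) := Finite.of_surjective _ ProjGenLinGroup.mk_surjective
  haveI : Finite G := Finite.of_injective _ hρ
  letI : MulAction G (ℙ F (Fin 2 → F)) := MulAction.compHom _ ρ
  choose u hu hup using exists_unip p ρ hρ hSL
  have h01 : pt F (0 : Fin 2) ≠ pt F 1 := pt_ne (by decide)
  have hswap : ∀ g : G, g • pt F (0 : Fin 2) = pt F 1 → g • pt F (1 : Fin 2) = pt F 0 → g * g = 1 :=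
    fun g h1 h2 => hρ (by rw [map_mul, map_one]; exact swap_sq _ h1 h2)
  by_cases hodd : ∃ r : ℕ, r.Prime ∧ r ≠ 2 ∧ r ∣ Fintype.card F - 1
  · obtain ⟨r, hr, hr2, hrd⟩ := hodd
    haveI : Fact r.Prime := ⟨hr⟩
    obtain ⟨t, ht⟩ := exists_prime_orderOf_dvd_card (G := Fˣ) r (by rwa [Fintype.card_units])
    have ht2 : t ^ 2 ≠ 1 := by
      intro h
      have := orderOf_dvd_of_pow_eq_one h
      rw [ht] at this
      exact hr2 ((Nat.prime_dvd_prime_iff_eq hr Nat.prime_two).1 this)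
    obtain ⟨y, hy⟩ := hSL (dg t)
    have hyf : ∀ α : ℙ F (Fin 2 → F), y • α = α ↔ α = pt F 0 ∨ α = pt F 1 := fun α => by
      rw [← dg_fix t ht2, ← hy]; rfl
    have hyr : y ^ r = 1 := hρ (by
      rw [map_pow, hy, ← map_pow, ← map_pow, dg_pow t (ht ▸ pow_orderOf_eq_one t), map_one, map_one,
        map_one])
    refine not_isNilMinCover_rank_one_odd u hu h01 hswap y hyf ?_
      ((hr.odd_of_ne_two hr2).of_dvd_nat (orderOf_dvd_of_pow_eq_one hyr)) 𝓐
    intro h
    have hv : (![1, 1] : Fin 2 → F) ≠ 0 := by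
      intro e
      simpa using congrFun e 0
    rcases (hyf (Projectivization.mk F _ hv)).1 (by rw [h, one_smul]) with h1 | h1
    · obtain ⟨c, hc⟩ := (Projectivization.mk_eq_mk_iff' _ _ _ _ _).1 h1
      simpa using congrFun hc 1
    · obtain ⟨c, hc⟩ := (Projectivization.mk_eq_mk_iff' _ _ _ _ _).1 h1
      simpa using congrFun hc 0
  · push Not at hodd
    obtain ⟨k, hk⟩ : ∃ k, Fintype.card F - 1 = 2 ^ k :=
      ⟨_, Nat.eq_prime_pow_of_unique_prime_dvd (by omega) (fun {d} hd h => by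
        by_contra h2
        exact hodd d hd h2 h)⟩
    obtain ⟨j, rfl⟩ : ∃ j, k = j + 2 := by
      refine ⟨k - 2, ?_⟩
      by_contra h
      have : k = 0 ∨ k = 1 := by omega
      rcases this with rfl | rfl <;> omega
    have hq' : Fintype.card F = 4 * 2 ^ j + 1 := by
      rw [pow_add] at hk
      omega
    have hp2 : p ≠ 2 := by
      rintro rfl
      obtain ⟨l, -, hl⟩ := FiniteField.card F 2
      have : 2 ∣ Fintype.card F := by rw [hl]; exact dvd_pow_self 2 l.ne_zero
      omega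
    obtain ⟨t, ht⟩ := IsCyclic.exists_ofOrder_eq_natCard (α := Fˣ)
    rw [Nat.card_eq_fintype_card, Fintype.card_units] at ht
    have ht2 : t ^ 2 ≠ 1 := by
      intro h
      have := Nat.le_of_dvd two_pos (orderOf_dvd_of_pow_eq_one h)
      omega
    obtain ⟨y, hy⟩ := hSL (dg t)
    have hyf : ∀ α : ℙ F (Fin 2 → F), y • α = α ↔ α = pt F 0 ∨ α = pt F 1 := fun α => by
      rw [← dg_fix t ht2, ← hy]; rfl
    refine not_isNilMinCover_rank_one_two u hu (fun ω => ?_) h01 hswap (k := j + 2) ?_ y hyf ?_ 𝓐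
    · exact (((Fact.out : p.Prime).odd_of_ne_two hp2).pow).of_dvd_nat
        (orderOf_dvd_of_pow_eq_one (hup ω))
    · intro g h1 h2
      exact hρ (by rw [map_pow, map_one, ← hk]; exact fix_pow _ h1 h2)
    · intro g hg
      obtain ⟨M, hM⟩ := ProjGenLinGroup.mk_surjective (ρ g)
      obtain ⟨r, hr, hrd⟩ := Nat.exists_prime_and_dvd (n := 2 * 2 ^ j + 1) (by
        have := Nat.two_pow_pos j
        omega)
      have hr2 : r ≠ 2 := by
        rintro rfl
        omega
      obtain ⟨W, hW1, hW2, hW3⟩ := free_comm M (fun v c h => by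
        by_contra hv
        apply hg (Projectivization.mk F v hv)
        show ρ g • Projectivization.mk F v hv = _
        rw [← hM]
        exact (fix_iff _ _ _ _ _).2 ⟨c, h⟩) hr (by
          refine hrd.trans ⟨2 * (4 * 2 ^ j), ?_⟩
          rw [hq']
          apply Nat.sub_eq_of_eq_add
          ring) (hodd r hr hr2)
      obtain ⟨w, hw⟩ := hSL W
      refine ⟨w, fun h => hW2 (by rw [← hw, h, map_one]), ?_, hρ ?_⟩
      · refine (hr.odd_of_ne_two hr2).of_dvd_nat (orderOf_dvd_of_pow_eq_one (hρ ?_))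
        rw [map_pow, hw, ← map_pow, ← map_pow, hW1, map_one, map_one, map_one]
      · rw [map_mul, map_mul, hw, ← hM, ← map_mul, ← map_mul, hW3]

end

/-- A cover of a group is a finite set of proper subgroups whose union is the whole group; it is minimal when no cover has fewer members, and nilpotent when all its members are nilpotent. Let F be a finite field with q elements and n ≥ 3, or n = 2 and q ≥ 4. Then no subgroup of PGL_n(F) = GL_n(F)/Z(GL_n(F)) containing the image of SL_n(F) has a nilpotent minimal cover. -/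
theorem result {F : Type*} [Field F] [Fintype F] (n : ℕ) (hn : 3 ≤ n ∨ (n = 2 ∧ 4 ≤ Fintype.card F))
    (G : Subgroup (GL (Fin n) F ⧸ Subgroup.center (GL (Fin n) F)))
    (hG : ((Matrix.SpecialLinearGroup.toGL : Matrix.SpecialLinearGroup (Fin n) F →* GL (Fin n) F).range).map
      (QuotientGroup.mk' (Subgroup.center (GL (Fin n) F))) ≤ G) :
    ¬ ∃ 𝓐 : Finset (Subgroup ↥G), ((∀ A ∈ 𝓐, A ≠ ⊤) ∧ (∀ g : ↥G, ∃ A ∈ 𝓐, g ∈ A)) ∧ (∀ 𝓑 : Finset (Subgroup ↥G), (∀ A ∈ 𝓑, A ≠ ⊤) ∧ (∀ g : ↥G, ∃ A ∈ 𝓑, g ∈ A) → 𝓐.card ≤ 𝓑.card) ∧ (∀ A ∈ 𝓐, Group.IsNilpotent ↥A) := by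
  rintro ⟨𝓐, h⟩
  have hSL : ∀ g : SpecialLinearGroup (Fin n) F, ∃ x : G, (G.subtype : G →* PGL(Fin n, F)) x =
      ProjGenLinGroup.mk (SpecialLinearGroup.toGL g) := fun g =>
    ⟨⟨_, hG ⟨_, ⟨g, rfl⟩, rfl⟩⟩, rfl⟩
  rcases hn with hn | ⟨rfl, hq⟩
  · obtain ⟨m, rfl⟩ : ∃ m, n = m + 3 := ⟨n - 3, by omega⟩
    exact big (G.subtype : G →* PGL(Fin (m + 3), F)) G.subtype_injective hSL 𝓐 h
  · exact two hq (G.subtype : G →* PGL(Fin 2, F)) G.subtype_injective hSL 𝓐 h

end Cfsg.Agent.S3894
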