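import Cfsg.Statements.S3914
import Cfsg.Agent.Lib.WCor4.Sim

set_option autoImplicit false
open Cfsg

namespace Cfsg.Agent.S3914

/-- Let G be a finite group in which any two abelian subgroups of the same order are conjugate. If M is a non-abelian simple normal subgroup of G, then M is isomorphic to SL₂(2^f) with f ∈ {2, 3, 5}, or to PSL₂(q) for a prime power q ≥ 5 with q ≡ 3 or 5 (mod 8), or to the first Janko group J₁. -/
theorem result {G : Type*} [Group G] [Finite G] (hB : ∀ A B : Subgroup G, IsMulCommutative ↥A → IsMulCommutative ↥B → Nat.card ↥A = Nat.card ↥B → ∃ g : G, B = A.map (MulAut.conj g).toMonoidHom) (M : Subgroup G) [M.Normal] (hs : IsSimpleGroup ↥M) (hna : ¬ IsMulCommutative ↥M) :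
    (∃ (F : Type) (_ : Field F) (_ : Fintype F), (Fintype.card F = 2 ^ 2 ∨ Fintype.card F = 2 ^ 3 ∨ Fintype.card F = 2 ^ 5) ∧
        Nonempty (↥M ≃* Matrix.SpecialLinearGroup (Fin 2) F)) ∨
    (∃ (F : Type) (_ : Field F) (_ : Fintype F), 5 ≤ Fintype.card F ∧ (Fintype.card F % 8 = 3 ∨ Fintype.card F % 8 = 5) ∧
        Nonempty (↥M ≃* Matrix.ProjectiveSpecialLinearGroup (Fin 2) F)) ∨
    Cfsg.Spor.IsoJ1 ↥M := by
  have h : CfsgLib.WCor4.AB G := fun _ _ _ A B h1 h2 h3 h4 => hB A B h1 h2 (h3.trans h4.symm)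
  refine (h.cases M hs hna).imp_left ?_
  rintro ⟨f, hf, F, _, _, hF, ⟨e⟩⟩
  obtain ⟨ρ, hρ, -⟩ := CfsgLib.WCor4.exists_rho M e
  have : CharP F 2 := CfsgLib.CIT.App.charP_of_card_eq Nat.prime_two hF
  refine ⟨F, inferInstance, inferInstance, ?_, ⟨e.trans (CfsgLib.SL2.pmEquiv CharTwo.two_eq_zero).symm⟩⟩
  rcases (h.tr hρ Nat.prime_two).two (Nat.card_eq_fintype_card.trans hF) hf with rfl | rfl | ⟨rfl, -⟩
  exacts [.inl hF, .inr (.inl hF), .inr (.inr hF)]

end Cfsg.Agent.S3914
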