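import Cfsg.Statements.S3945
import Cfsg.Agent.Lib.Cop.Coset
import Cfsg.Agent.Lib.Cop.Inv
import Cfsg.Agent.Lib.FPD.Main

set_option autoImplicit false
open Cfsg

namespace Cfsg.Agent.S3945

/-- Call an automorphism α of order n of a group G splitting when x · α(x) · α²(x) ⋯ α^(n−1)(x) = 1 for every x ∈ G. A finite group admitting a splitting automorphism of odd order is solvable. -/
theorem result {G : Type*} [Group G] [Finite G] (α : MulAut G) (hodd : Odd (orderOf α))
    (hsplit : ∀ x : G, (((List.range (orderOf α)).map (fun i : ℕ => (α ^ i) x)).prod = 1)) : Group.IsSolvable G := by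
  exact CfsgLib.Cop.InvBox.s3945
    (fun _ _ _ _ _ h => CfsgLib.Cop.solv_of_inv CfsgLib.FPD.box h) α hodd hsplit

end Cfsg.Agent.S3945
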