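import Cfsg.Statements.S4012
import Cfsg.Agent.Lib.Cop.Coset
import Cfsg.Agent.Lib.Cop.Inv
import Cfsg.Agent.Lib.FPD.Main

set_option autoImplicit false
open Cfsg

namespace Cfsg.Agent.S4012

/-- Let N < M be normal subgroups of the finite group G and g ∈ M ∖ N whose conjugacy class is exactly M ∖ N. Then for some prime p the element g has p-power order (so every element of M ∖ N does), and M is solvable and has a normal p-complement (a normal subgroup of M of order prime to p and p-power index in M). -/
theorem result {G : Type*} [Group G] [Finite G] (N M : Subgroup G) [N.Normal] [M.Normal] (hNM : N < M) (g : G) (hgM : g ∈ M) (hgN : g ∉ N) (hcl : {h : G | IsConj g h} = (M : Set G) \ (N : Set G)) : ∃ p : ℕ, p.Prime ∧ (∃ k : ℕ, orderOf g = p ^ k) ∧ Group.IsSolvable ↥M ∧ ∃ K : Subgroup ↥M, K.Normal ∧ (Nat.card K).Coprime p ∧ ∃ k : ℕ, K.index = p ^ k := by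
  exact CfsgLib.Cop.InvBox.s4012
    (fun _ _ _ _ _ h => CfsgLib.Cop.solv_of_inv CfsgLib.FPD.box h) N M hNM g hgM hgN hcl

end Cfsg.Agent.S4012
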