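import Cfsg.Statements.S4403
import Mathlib
import Cfsg.Agent.S0082
import Cfsg.Agent.Lib.Comp.FStar
import Cfsg.Agent.Lib.Core.Cores
import Cfsg.Agent.Lib.LocStr.RankOne
import Cfsg.Agent.Lib.JRec.Syl
import Cfsg.Agent.Lib.Transfer.NormalComplement

set_option autoImplicit false
open Cfsg

namespace Cfsg.Agent.S4403

open Subgroup CfsgLib CfsgLib.Transfer CfsgLib.Comp in

/-- Let K be a finite group, p a prime dividing its order with O_{p'}(K) = 1 (no nontrivial normal subgroup of order prime to p), and P a cyclic Sylow p-subgroup of K. Then either P is normal and self-centralizing in K with K/P cyclic of order dividing p − 1 (so K is the semidirect product of P by a group of automorphisms of P of order dividing p − 1), or the generalized Fitting subgroup F*(K) is a non-abelian simple group and p does not divide the index of F*(K) in K. -/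
theorem result {K : Type*} [Group K] [Finite K] (p : ℕ) [Fact p.Prime] (hp : p ∣ Nat.card K) (hO : Cfsg.pPrimeCore p K = ⊥)
    (P : Sylow p K) (hP : IsCyclic ↥(P : Subgroup K)) :
    ((P : Subgroup K).Normal ∧ Subgroup.centralizer ((P : Subgroup K) : Set K) = (P : Subgroup K) ∧
      (∀ (_ : (P : Subgroup K).Normal), IsCyclic (K ⧸ (P : Subgroup K))) ∧ (P : Subgroup K).index ∣ p - 1) ∨
    (IsSimpleGroup ↥(Cfsg.generalizedFittingSubgroup K) ∧ ¬ IsMulCommutative ↥(Cfsg.generalizedFittingSubgroup K) ∧
      ¬ p ∣ (Cfsg.generalizedFittingSubgroup K).index) := by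
  classical
  have hpp : p.Prime := Fact.out
  have uniq : ∀ Q : Subgroup K, IsPGroup p Q → ∀ x ∈ Q, ∀ y ∈ Q, orderOf x = p → y ^ p = 1 →
      y ∈ zpowers x := fun Q hQ x hx y hy h1 h2 => by
    obtain ⟨R, hR⟩ := hQ.exists_le_sylow
    exact LocStr.unique_of_cyclic_or_quaternion R.isPGroup'
      (Or.inl (isCyclic_of_surjective (P.equiv R) (P.equiv R).surjective)) x (hR hx) y (hR hy) h1 h2
  have npc : ∀ N : Subgroup K, N.IsSubnormal → HasNormalPComplement p N → IsPGroup p N :=
    fun N hN h => by
      have h1 := Core.map_pPrimeCore_le_of_isSubnormal (p := p) hN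
      rw [hO, le_bot_iff, map_eq_bot_iff_of_injective _ N.subtype_injective,
        ← pResidual_eq_pPrimeCore h] at h1
      exact pResidual_eq_bot_iff.1 h1
  have cyc : ∀ (L : Subgroup K) (h : (P : Subgroup K) ≤ L), IsCyclic (P.subtype h) := fun L h =>
    isCyclic_of_surjective (subgroupOfEquivOfLe h).symm (subgroupOfEquivOfLe h).symm.surjective
  have elt : ∀ N : Subgroup K, p ∣ Nat.card N → ∃ x ∈ N, orderOf x = p := fun N h => by
    obtain ⟨x, hx⟩ := exists_prime_orderOf_dvd_card' p h
    exact ⟨x, x.2, by rwa [Subgroup.orderOf_coe]⟩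
  have hPc : (P : Subgroup K) ≤ centralizer ((P : Subgroup K) : Set K) := le_centralizer _
  by_cases h0 : pCore p K = ⊥
  · right
    have hF : fittingSubgroup K = ⊥ := (fit_eq_pCore_of_pPrimeCore_eq_bot hO).trans h0
    have : Nontrivial K := Finite.one_lt_card_iff_nontrivial.1
      (hpp.one_lt.trans_le (Nat.le_of_dvd Nat.card_pos hp))
    have hE : generalizedFittingSubgroup K = layer K := by rw [fstar_def, hF, sup_bot_eq]
    obtain ⟨L, hL⟩ : ∃ L : Subgroup K, IsComponent L := by
      by_contra h
      exact fstar_ne_bot (hE.trans (layer_eq_bot_iff.2 (not_exists.1 h)))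
    have dv : ∀ L : Subgroup K, IsComponent L → p ∣ Nat.card L := fun L hL => by
      by_contra h
      exact comp_ne_bot hL (le_bot_iff.1 ((Core.le_pPrimeCore_of_isSubnormal hL.1
        ((hpp.coprime_iff_not_dvd.2 h).symm)).trans hO.le))
    have hZ : L ⊓ centralizer (L : Set K) = ⊥ :=
      le_bot_iff.1 ((comp_inf_centralizer_le_fit hL).trans hF.le)
    have hEL : generalizedFittingSubgroup K = L := by
      refine hE.trans (le_antisymm (layer_le_iff.2 fun M hM => ?_) (comp_le_layer hL))
      by_contra h
      have hc := comp_le_centralizer_of_ne hM hL fun e => h e.le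
      obtain ⟨x, hx, ox⟩ := elt L (dv L hL)
      obtain ⟨y, hy, oy⟩ := elt M (dv M hM)
      have pz : ∀ a : K, orderOf a = p → IsPGroup p (zpowers a) := fun a ha =>
        IsPGroup.of_card (n := 1) (by rw [Nat.card_zpowers, ha, pow_one])
      have h1 := uniq _ (IsPGroup.to_sup_of_normal_left' (pz x ox) (pz y oy)
        (zpowers_le.2 (centralizer_le_normalizer _ (centralizer_le (zpowers_le.2 hx) (hc hy))))) x
        (mem_sup_left (mem_zpowers x)) y (mem_sup_right (mem_zpowers y)) ox
        (by rw [← oy, pow_orderOf_eq_one])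
      have h2 : y = 1 := mem_bot.1 (hZ.le ⟨zpowers_le.2 hx h1, hc hy⟩)
      rw [h2, orderOf_one] at oy
      exact hpp.one_lt.ne oy
    have hn : L.Normal := hEL ▸ fstar_normal
    rw [hEL]
    refine ⟨isSimpleGroup_of_qs_of_center_eq_bot hL.2 ?_, qs_not_isMulCommutative hL.2, fun h => ?_⟩
    · rw [← map_eq_bot_iff_of_injective _ L.subtype_injective, map_center_subtype, hZ]
    rcases S0082.result _ (cyc (L ⊔ P) le_sup_right) with h1 | h1
    · have := (npc L hL.1 (hasNormalPComplement_of_le h1 le_sup_left)).isNilpotent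
      exact comp_not_le_solvable hL inferInstance le_rfl
    · let π := (QuotientGroup.mk' L).comp (L ⊔ (P : Subgroup K)).subtype
      have h2 : IsPGroup p π.range := by
        rw [MonoidHom.range_comp, range_subtype, Subgroup.map_sup, QuotientGroup.map_mk'_self,
          bot_sup_eq]
        exact P.isPGroup'.map _
      refine P.not_dvd_index (h.trans (index_dvd_of_le fun x hx => ?_))
      exact (QuotientGroup.eq_one_iff x).1 (congrArg Subtype.val
        (map_eq_one_of_pResidual_eq_top h1 h2 π.rangeRestrict ⟨x, mem_sup_right hx⟩))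
  · left
    have hO1 := Core.isPGroup_pCore p K
    obtain ⟨z, hz, oz⟩ := elt _ (hO1.card_eq_or_dvd.resolve_left fun e => h0 (card_eq_one.1 e))
    have hOn : (pCore p K).Normal := inferInstance
    have hZn : (zpowers z).Normal := ⟨fun a ha g => uniq _ hO1 z hz _
      (hOn.conj_mem _ (zpowers_le.2 hz ha) g) oz (by
        obtain ⟨k, rfl⟩ := ha
        rw [conj_pow, ← zpow_natCast, ← zpow_mul, mul_comm k, zpow_mul, zpow_natCast, ← oz,
          pow_orderOf_eq_one, one_zpow, mul_one, mul_inv_cancel])⟩
    have hzP : zpowers z ≤ P := zpowers_le.2 (Core.pCore_le_sylow P hz)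
    have hPC : (P : Subgroup K) ≤ centralizer (zpowers z : Set K) := hPc.trans (centralizer_le hzP)
    have hC : centralizer (zpowers z : Set K) = P := by
      refine P.is_maximal' (npc _ (Normal.isSubnormal inferInstance) ?_) hPC
      refine (S0082.result _ (cyc _ hPC)).resolve_right fun h => ?_
      have := cyc _ hPC
      have h1 := (inf_centralizer_normalizer_eq_bot (P.subtype hPC) inferInstance h).le
        (x := ⟨z, hPC (hzP (mem_zpowers z))⟩) ⟨hzP (mem_zpowers z), fun g _ =>
          Subtype.ext (g.2 z (mem_zpowers z)).symm⟩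
      rw [show z = 1 from congrArg Subtype.val (mem_bot.1 h1), orderOf_one] at oz
      exact hpp.one_lt.ne oz
    obtain ⟨a1, a2⟩ := JRec.isCyclic_mulAut (p := p) (A := zpowers z) (by rw [Nat.card_zpowers, oz])
    have hk : (MulAut.conjNormal : K →* MulAut (zpowers z)).ker = P := by
      rw [← hC]; ext g
      simp only [MonoidHom.mem_ker, MulEquiv.ext_iff, Subtype.ext_iff, mem_centralizer_iff,
        MulAut.conjNormal_apply, MulAut.one_apply, Subtype.forall, SetLike.mem_coe,
        mul_inv_eq_iff_eq_mul]
      exact forall₂_congr fun a _ => eq_comm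
    refine ⟨hC ▸ inferInstance, le_antisymm ((centralizer_le hzP).trans hC.le) hPc, fun _ => ?_, ?_⟩
    · exact isCyclic_of_injective (QuotientGroup.lift _ _ hk.ge)
        ((QuotientGroup.injective_lift_iff _ _ _).2 hk.symm)
    · rw [← hk, index_ker, ← a2]
      exact card_subgroup_dvd_card _

end Cfsg.Agent.S4403
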