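import Cfsg.Statements.S4016
import Mathlib
import Cfsg.Agent.Lib.CycAb.Main
import Cfsg.Agent.S4403
import Cfsg.Agent.S0082

set_option autoImplicit false
open Cfsg

namespace Cfsg.Agent.S4016


open Subgroup CfsgLib CfsgLib.CycAb
open scoped commutatorElement

universe u

/-- The hypothesis. -/
def Hyp (p : ℕ) (G : Type*) [Group G] : Prop :=
  (∀ P : Sylow p G, IsCyclic P) ∧ ∀ H : Subgroup G, ¬ p ∣ Nat.card H → IsMulCommutative H

theorem Hyp.sub {G : Type*} [Group G] [Finite G] {p : ℕ} [Fact p.Prime] (h : Hyp p G)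
    (L : Subgroup G) : Hyp p L := by
  refine ⟨fun P => ?_, fun H hH => ?_⟩
  · obtain ⟨Q, hQ⟩ := (P.isPGroup'.map L.subtype).exists_le_sylow
    haveI := h.1 Q
    haveI := isCyclic_of_le hQ
    exact isCyclic_of_surjective (equivMapOfInjective (P : Subgroup L) L.subtype
      L.subtype_injective).symm (MulEquiv.surjective _)
  · have := h.2 (H.map L.subtype) (by rwa [card_map_of_injective L.subtype_injective])
    exact ⟨⟨fun a b => Subtype.ext (Subtype.ext (comm_of this ⟨a, a.2, rfl⟩ ⟨b, b.2, rfl⟩))⟩⟩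

theorem not_dvd_comap {G : Type*} [Group G] [Finite G] {p : ℕ} [hp : Fact p.Prime]
    (M : Subgroup G) [M.Normal] (hM : ¬ p ∣ Nat.card M) (H : Subgroup (G ⧸ M))
    (hH : ¬ p ∣ Nat.card H) : ¬ p ∣ Nat.card (H.comap (QuotientGroup.mk' M)) := fun hd => by
  obtain ⟨x, hx⟩ := exists_prime_orderOf_dvd_card' p hd
  rw [← orderOf_coe] at hx
  have h1 : orderOf (QuotientGroup.mk' M x) ∣ p := hx ▸ orderOf_map_dvd _ _
  rcases (Nat.dvd_prime hp.out).1 h1 with h2 | h2
  · exact hM (hx ▸ M.orderOf_dvd_natCard ((QuotientGroup.eq_one_iff _).1 (orderOf_eq_one_iff.1 h2)))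
  · exact hH (h2 ▸ H.orderOf_dvd_natCard x.2)

theorem Hyp.quot {G : Type*} [Group G] [Finite G] {p : ℕ} [Fact p.Prime] (h : Hyp p G)
    (M : Subgroup G) [M.Normal] (hM : ¬ p ∣ Nat.card M) : Hyp p (G ⧸ M) := by
  refine ⟨fun P => ?_, fun H hH => ?_⟩
  · obtain ⟨Q, rfl⟩ := Sylow.mapSurjective_surjective (QuotientGroup.mk'_surjective M) p P
    haveI := h.1 Q
    exact isCyclic_of_surjective ((QuotientGroup.mk' M).subgroupMap Q)
      ((QuotientGroup.mk' M).subgroupMap_surjective Q)
  · have := h.2 _ (not_dvd_comap M hM H hH)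
    refine ⟨⟨fun a b => Subtype.ext ?_⟩⟩
    obtain ⟨a, ha⟩ := a
    obtain ⟨b, hb⟩ := b
    obtain ⟨a, rfl⟩ := QuotientGroup.mk'_surjective M a
    obtain ⟨b, rfl⟩ := QuotientGroup.mk'_surjective M b
    show QuotientGroup.mk' M a * QuotientGroup.mk' M b = QuotientGroup.mk' M b * QuotientGroup.mk' M a
    rw [← map_mul, ← map_mul, comm_of this (mem_comap.2 ha) (mem_comap.2 hb)]

theorem simple_case {S : Type u} [Group S] [Finite S] {p : ℕ} [hp : Fact p.Prime] (h : Hyp p S)
    [IsSimpleGroup S] (hn : ¬ IsMulCommutative S)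
    (ih : ∀ L : Subgroup S, L ≠ ⊤ → ∀ P : Sylow p L,
      HasNormalPComplement p L ∨ (P : Subgroup L).Normal) : False := by
  have hd : p ∣ Nat.card S := by
    by_contra hn'
    have := h.2 ⊤ (by rwa [card_top])
    exact hn ⟨⟨fun a b => comm_of this (mem_top a) (mem_top b)⟩⟩
  refine Ctx.false (p := p) (G := S) ⟨inferInstance, hn, ?_, h.1, h.2, fun P L hL hN => ?_⟩
  · rintro rfl
    have P : Sylow 2 S := default
    exact SmallSimple.not_normalizer_le_centralizer hn P hd
      (IsCyclic.normalizer_le_centralizer ((Nat.minFac_eq_two_iff _).2 hd) (h.1 P))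
  · have hle : (P : Subgroup S) ≤ L := le_normalizer.trans hN
    rcases ih L hL (P.subtype hle) with h1 | h1
    · right
      obtain ⟨K, hK, hc⟩ := (Transfer.hasNormalPComplement_iff_sylow (P.subtype hle)).1 h1
      intro g hg
      rw [mem_centralizer_iff]
      intro a ha
      have h2 : ⁅(⟨g, hN hg⟩ : L), (⟨a, hle ha⟩ : L)⁆ ∈ K := by
        haveI := (h.sub L).1 (P.subtype hle)
        haveI : IsCyclic (L ⧸ K) := isCyclic_of_surjective hc.symm.QuotientMulEquiv.symm
          (MulEquiv.surjective _)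
        rw [← QuotientGroup.eq_one_iff]
        show QuotientGroup.mk' K _ = 1
        rw [map_commutatorElement, commutatorElement_eq_one_iff_mul_comm]
        exact IsCyclic.commutative.is_comm.comm _ _
      have h3 : ⁅(⟨g, hN hg⟩ : L), (⟨a, hle ha⟩ : L)⁆ ∈ (P.subtype hle : Subgroup L) := by
        show g * a * g⁻¹ * a⁻¹ ∈ (P : Subgroup S)
        exact mul_mem ((mem_normalizer_iff.1 hg a).1 ha) (inv_mem ha)
      have h4 := commutatorElement_eq_one_iff_mul_comm.1 (disjoint_def.1 hc.disjoint h2 h3)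
      exact (congrArg Subtype.val h4).symm
    · left
      exact (normal_subgroupOf_iff_le_normalizer hle).1 h1

theorem aux {p : ℕ} [hp : Fact p.Prime] (n : ℕ) : ∀ (G : Type u) [Group G] [Finite G],
    Nat.card G = n → Hyp p G → ∀ P : Sylow p G,
      HasNormalPComplement p G ∨ (P : Subgroup G).Normal := by
  induction n using Nat.strong_induction_on with
  | _ n ih =>
  intro G _ _ hn h P
  by_cases hd : p ∣ Nat.card G
  swap
  · exact Or.inl (Transfer.hasNormalPComplement_of_not_dvd hd)
  rcases Cfsg.Agent.S0082.result P (h.1 P) with h1 | h1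
  · exact Or.inl h1
  right
  haveI := Core.pPrimeCore_characteristic p G
  set M := pPrimeCore p G with hMdef
  have hM : ¬ p ∣ Nat.card M := Core.not_dvd_card_pPrimeCore hp.out G
  have hcen : ∀ g : G, ∀ m ∈ M, g * m = m * g := by
    have : pResidual p G ≤ centralizer (M : Set G) := by
      refine (closure_le _).2 fun g hg => mem_centralizer_iff.2 fun m hm => ?_
      have hg' : (orderOf g).Coprime p := hg
      have hdv := Core.card_sup_dvd_of_le_normalizer (H := zpowers g) (N := M)
        le_normalizer_of_normal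
      refine comm_of (h.2 (zpowers g ⊔ M) fun e => ?_) (mem_sup_right hm)
        (mem_sup_left (mem_zpowers g))
      rcases (Nat.Prime.dvd_mul hp.out).1 (e.trans hdv) with e1 | e1
      · rw [Nat.card_zpowers] at e1
        exact (hp.out.coprime_iff_not_dvd.1 hg'.symm) e1
      · exact hM e1
    intro g m hm
    exact (mem_centralizer_iff.1 (this (h1 ▸ mem_top g)) m hm).symm
  have hK := h.quot M hM
  have hdK : p ∣ Nat.card (G ⧸ M) := by
    rw [← M.card_mul_index] at hd
    exact ((Nat.Prime.dvd_mul hp.out).1 hd).resolve_left hM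
  let Q := P.mapSurjective (QuotientGroup.mk'_surjective M)
  rcases Cfsg.Agent.S4403.result p hdK (Core.pPrimeCore_quotient_pPrimeCore p G) Q (hK.1 Q) with
    h2 | h2
  · refine ⟨fun a ha g => ?_⟩
    obtain ⟨b, hb, e⟩ := h2.1.conj_mem _ (mem_map_of_mem (QuotientGroup.mk' M) ha)
      (QuotientGroup.mk' M g)
    refine mem_of_norm (k := (Nat.card G).factorization p) ?_ ?_
    · rw [conj_pow]
      have := pow_qq ha
      rw [qq] at this
      rw [this, mul_one, mul_inv_cancel]
    · have hm : b⁻¹ * (g * a * g⁻¹) ∈ M := by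
        rw [← QuotientGroup.eq]
        simpa using e
      have e2 : g * a * g⁻¹ = b * (b⁻¹ * (g * a * g⁻¹)) := by group
      rw [e2]
      refine mul_mem (le_normalizer hb) (mem_normalizer_fintype fun c hc => ?_)
      rw [← hcen c _ hm, mul_inv_cancel_right]
      exact hc
  · exfalso
    haveI := h2.1
    refine simple_case (hK.sub _) h2.2.1 fun L hL R => ih _ ?_ L rfl ((hK.sub _).sub L) R
    have a1 : Nat.card L < Nat.card (generalizedFittingSubgroup (G ⧸ M)) := by
      exact lt_of_le_of_ne (card_le_card_group L) fun e => hL (eq_top_of_card_eq L e)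
    have a2 := card_le_card_group (generalizedFittingSubgroup (G ⧸ M))
    have a3 := Nat.card_le_card_of_surjective _ (QuotientGroup.mk'_surjective M)
    omega


/-- Let G be a finite group and p a prime such that a Sylow p-subgroup P of G is cyclic and every subgroup of G of order prime to p is abelian. Then G has a normal p-complement or P is normal in G. -/
theorem result {G : Type*} [Group G] [Finite G] {p : ℕ}
    [Fact p.Prime] (P : Sylow p G) (hcyc : IsCyclic P)
    (hab : ∀ H : Subgroup G, ¬ p ∣ Nat.card H → IsMulCommutative H) :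
    Cfsg.HasNormalPComplement p G ∨ (P : Subgroup G).Normal := by
  exact aux _ G rfl ⟨fun Q => isCyclic_of_surjective (P.equiv Q) (P.equiv Q).surjective, hab⟩ P

end Cfsg.Agent.S4016
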