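import Cfsg.Statements.S4017
import Cfsg.Agent.Lib.WCor4.Sim
import Cfsg.Agent.Lib.Transfer.Frobenius
import Cfsg.Agent.Lib.Coprime.SchurZassenhaus
import Cfsg.Agent.Lib.SL2.SylowTwo

set_option autoImplicit false
open Cfsg

namespace Cfsg.Agent.S4017

open CfsgLib CfsgLib.Tech CfsgLib.Abel2 CfsgLib.WCor CfsgLib.SL2 Subgroup Matrix MatrixGroups

universe u

/-- every subgroup of order divisible by `q` is a `q`-group or has order divisible by `p` -/
def Mix (p q : ℕ) (G : Type*) [Group G] : Prop := ∀ H : Subgroup G, ¬ IsPGroup q H → q ∣ Nat.card H → p ∣ Nat.card H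

section
variable {G : Type*} [Group G] [Finite G] {p q s t : ℕ}

theorem dvd_of_pg (hs : s.Prime) {T : Subgroup G} (hT : IsPGroup s T) (h0 : T ≠ ⊥) : s ∣ Nat.card T := by
  have := Fact.mk hs
  obtain ⟨n, hn⟩ := IsPGroup.iff_card.1 hT
  rw [hn]
  exact dvd_pow_self s fun e => h0 (card_eq_one.1 (by rw [hn, e, pow_zero]))

theorem eq_of_pg (hs : s.Prime) (ht : t.Prime) {T : Subgroup G} (hT : IsPGroup s T) (h : t ∣ Nat.card T) : t = s := by
  have := Fact.mk hs
  obtain ⟨n, hn⟩ := IsPGroup.iff_card.1 hT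
  exact (Nat.prime_dvd_prime_iff_eq ht hs).1 (ht.dvd_of_dvd_pow (hn ▸ h))

theorem Mix.norm (h : Mix p q G) (hp : p.Prime) (hpq : p ≠ q) (hs : s.Prime) (ht : t.Prime) (hst : s ≠ t)
    (hq : s = q ∨ t = q) {S T : Subgroup G} (hS : IsPGroup s S) (hT : IsPGroup t T) (h1 : S ≠ ⊥) (h2 : T ≠ ⊥)
    (hn : T ≤ normalizer (S : Set G)) : s = p ∨ t = p := by
  have a1 := (dvd_of_pg hs hS h1).trans (card_dvd_of_le (le_sup_left : S ≤ S ⊔ T))
  have a2 := (dvd_of_pg ht hT h2).trans (card_dvd_of_le (le_sup_right : T ≤ S ⊔ T))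
  have a3 : p ∣ Nat.card ↥(S ⊔ T) := by
    rcases hq with rfl | rfl
    · exact h _ (fun e => hst (eq_of_pg hs ht e a2).symm) a1
    · exact h _ (fun e => hst (eq_of_pg ht hs e a1)) a2
  exact (hp.dvd_mul.1 (a3.trans (Coprime.card_sup_dvd_of_le_normalizer hn))).imp
    (fun e => (eq_of_pg hs hp hS e).symm) fun e => (eq_of_pg ht hp hT e).symm

theorem Mix.frat (h : Mix p q G) (hp : p.Prime) (hpq : p ≠ q) (hs : s.Prime) (ht : t.Prime)
    (hq : s = q ∨ t = q) (N : Subgroup G) [N.Normal] (h1 : s ∣ Nat.card N) (h2 : t ∣ Nat.card G)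
    (h3 : ¬ t ∣ Nat.card N) : s = p ∨ t = p := by
  have := Fact.mk hs; have := Fact.mk ht
  obtain ⟨S⟩ : Nonempty (Sylow s N) := inferInstance
  have a1 := Coprime.card_sup_dvd_of_le_normalizer (K := N)
    (A := normalizer (((S : Subgroup N).map N.subtype : Subgroup G) : Set G)) le_normalizer_of_normal
  rw [sup_comm, S.normalizer_sup_eq_top, card_top] at a1
  obtain ⟨x, hx⟩ := exists_prime_orderOf_dvd_card' t ((ht.dvd_mul.1 (h2.trans a1)).resolve_left h3)
  refine h.norm hp hpq hs ht (fun e => h3 (e ▸ h1)) hq (S.isPGroup'.map N.subtype) (T := zpowers (x : G))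
    (.of_card (n := 1) (by rw [Nat.card_zpowers, orderOf_coe, hx, pow_one])) (fun e => ?_) (fun e => ?_) (zpowers_le.2 x.2)
  · have := S.dvd_card_of_dvd_card h1
    rw [← card_subtype, e, card_bot] at this
    exact hs.one_lt.ne' (Nat.dvd_one.1 this)
  · rw [zpowers_eq_bot, OneMemClass.coe_eq_one] at e
    rw [e, orderOf_one] at hx
    exact ht.one_lt.ne hx

omit [Finite G] in
theorem Mix.of_injective {X : Type*} [Group X] (h : Mix p q G) (f : X →* G) (hf : Function.Injective f) : Mix p q X :=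
  fun H h1 h2 => by
    have e := H.equivMapOfInjective f hf
    rw [Nat.card_congr e.toEquiv] at h2 ⊢
    exact h _ (fun h3 => h1 (h3.of_equiv e.symm)) h2

theorem Mix.quot (h : Mix p q G) (hp : p.Prime) (hq : q.Prime) (N : Subgroup G) [N.Normal] (hN : IsPGroup p N) :
    Mix p q (G ⧸ N) := fun H h1 h2 => by
  have := Fact.mk hp; have := Fact.mk hq
  by_contra h3
  let K := H.comap (QuotientGroup.mk' N)
  have a1 : N ≤ K := QuotientGroup.le_comap_mk' N H
  have a2 : (N.subgroupOf K).index = Nat.card H := by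
    have b1 := card_mul_index (N.subgroupOf K)
    rw [Nat.card_congr (subgroupOfEquivOfLe a1).toEquiv, Core.card_comap_mk', mul_comm (Nat.card H)] at b1
    exact Nat.eq_of_mul_eq_mul_left Nat.card_pos b1
  obtain ⟨n, hn⟩ := IsPGroup.iff_card.1 hN
  obtain ⟨C, hC⟩ := exists_right_complement'_of_coprime (N := N.subgroupOf K) (by
    rw [a2, Nat.card_congr (subgroupOfEquivOfLe a1).toEquiv, hn]
    exact ((Nat.Prime.coprime_iff_not_dvd hp).2 h3).pow_left n)
  have a3 : Nat.card (C.map K.subtype) = Nat.card H := by rw [card_subtype, ← a2, hC.symm.index_eq_card]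
  refine h3 (a3 ▸ h _ (fun e => h1 ?_) (a3 ▸ h2))
  obtain ⟨m, hm⟩ := IsPGroup.iff_card.1 e
  exact .of_card (a3 ▸ hm)

end

section
variable {F : Type*} [Field F] [Fintype F] {p s : ℕ}

theorem sl_inv (h : Mix p 2 PSL(2, F)) (hp : p.Prime) (h2 : p ≠ 2) (hs : s.Prime) (hs2 : s ≠ 2) {g n : SL(2, F)}
    (hg : orderOf g = s) (hn : n * g * n⁻¹ = g⁻¹) (hnn : n * n = -1) : s = p := by
  have := Fact.mk hs
  let π := QuotientGroup.mk' (center SL(2, F))
  have a0 : g * g ≠ 1 := fun e =>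
    hs2 ((Nat.prime_dvd_prime_iff_eq hs Nat.prime_two).1 (hg ▸ orderOf_dvd_of_pow_eq_one (by rw [pow_two, e])))
  have a1 : π g ≠ 1 := fun e => by
    rcases (SL2.mem_center_iff g).1 ((QuotientGroup.eq_one_iff g).1 e) with e | e <;> simp [e] at a0
  have a2 : π n ≠ 1 := fun e => by
    rw [← mem_center_iff.1 ((QuotientGroup.eq_one_iff n).1 e) g, mul_inv_cancel_right] at hn
    exact a0 (by nth_rw 1 [hn]; simp)
  refine (h.norm hp h2 hs Nat.prime_two hs2 (.inr rfl) (S := zpowers (π g)) (T := zpowers (π n))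
    (isPGroup_zpowers_of_pow (k := 1) (by rw [pow_one, ← map_pow, ← hg, pow_orderOf_eq_one, map_one]))
    (isPGroup_zpowers_of_pow (k := 1) ?_) (mt zpowers_eq_bot.1 a1) (mt zpowers_eq_bot.1 a2)
    (zpowers_le.2 (TwoGrp.mem_normalizer_zpowers ?_))).resolve_right h2.symm
  · rw [pow_one, pow_two, ← map_mul, hnn]
    exact (QuotientGroup.eq_one_iff _).2 ((SL2.mem_center_iff _).2 (.inr rfl))
  · rw [← map_inv, ← map_mul, ← map_mul, hn, map_inv]
    exact inv_mem (mem_zpowers _)

theorem sl_div (h : Mix p 2 PSL(2, F)) (hp : p.Prime) (h2 : p ≠ 2) (hs : s.Prime) (hs2 : s ≠ 2)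
    (hd : s ∣ Fintype.card F - 1 ∨ s ∣ Fintype.card F + 1) : s = p := by
  have := Fact.mk hs
  obtain ⟨g, hg⟩ := exists_prime_orderOf_dvd_card' (G := SL(2, F)) s (by
    rw [card_SL2']
    exact hd.elim (fun e => (e.mul_left _).mul_right _) fun e => e.mul_left _)
  have a1 : tr g ^ 2 ≠ 4 := tr_sq_ne_of_coprime (fun e => by
      have : g * g = 1 := by rcases (isScal_iff g).1 e with e | e <;> simp [e]
      exact hs2 ((Nat.prime_dvd_prime_iff_eq hs Nat.prime_two).1 (hg ▸ orderOf_dvd_of_pow_eq_one (by rw [pow_two, this]))))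
    (hg ▸ hd.elim (fun e => (coprime_ringChar_card_sub_one.coprime_dvd_right e).symm)
      fun e => (coprime_ringChar_card_add_one.coprime_dvd_right e).symm)
  obtain ⟨n, hn⟩ := exists_inverts a1
  exact sl_inv h hp h2 hs hs2 hg hn (sq_eq_neg_one_of_inverts a1 hn).2

theorem sl_two (h : Mix p 2 PSL(2, F)) (hp : p.Prime) (h2 : p ≠ 2) {a b : ℕ} (ha : a % 2 = 1) (hb : b % 2 = 1)
    (a1 : a ≠ 1) (b1 : b ≠ 1) (h3 : a ∣ Fintype.card F - 1) (h4 : b ∣ Fintype.card F + 1) : False := by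
  obtain ⟨r, r1, r2⟩ := Nat.exists_prime_and_dvd a1
  obtain ⟨t, t1, t2⟩ := Nat.exists_prime_and_dvd b1
  have e1 := sl_div h hp h2 r1 (by rintro rfl; omega) (.inl (r2.trans h3))
  have e2 := sl_div h hp h2 t1 (by rintro rfl; omega) (.inr (t2.trans h4))
  have := (Nat.dvd_sub (e2 ▸ t2.trans h4) (e1 ▸ r2.trans h3))
  have h0 : 0 < Fintype.card F := Fintype.card_pos
  rw [show Fintype.card F + 1 - (Fintype.card F - 1) = 2 by omega] at this
  exact h2 ((Nat.prime_dvd_prime_iff_eq hp Nat.prime_two).1 this)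

theorem sl_odd (h : Mix p 2 PSL(2, F)) (hp : p.Prime) (h2 : p ≠ 2) (h5 : 5 ≤ Fintype.card F)
    (h8 : Fintype.card F % 8 = 3 ∨ Fintype.card F % 8 = 5) : False := by
  by_cases e : Fintype.card F = 5
  · have e1 := sl_div h hp h2 Nat.prime_three (by norm_num) (.inr (by rw [e]; norm_num))
    obtain ⟨i, hi⟩ := FiniteField.isSquare_neg_one_iff.2 (show Fintype.card F % 4 ≠ 3 by omega)
    have i0 : i ≠ 0 := by rintro rfl; simp at hi
    have := Fact.mk Nat.prime_five
    have e2 := sl_inv h hp h2 Nat.prime_five (by norm_num) (g := uu 1) (n := dg (Units.mk0 i i0))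
      (orderOf_eq_prime (by rw [uu_pow, ← e, FiniteField.cast_card_eq_zero, zero_mul, uu_zero])
        fun e => one_ne_zero (uu_injective (e.trans uu_zero.symm)))
      (by rw [mul_inv_eq_iff_eq_mul, ← uu_neg]
          apply ext2 <;> simp only [mul_ap] <;> simp
          field_simp; linear_combination -hi)
      (by apply ext2 <;> simp only [mul_ap, neg_ap, one_00, one_01, one_10, one_11] <;> simp [← hi]
          field_simp; linear_combination -hi)
    omega
  rcases h8 with h8 | h8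
  · exact sl_two h hp h2 (a := (Fintype.card F - 1) / 2) (b := (Fintype.card F + 1) / 4) (by omega) (by omega)
      (by omega) (by omega) (Nat.div_dvd_of_dvd (by omega)) (Nat.div_dvd_of_dvd (by omega))
  · exact sl_two h hp h2 (a := (Fintype.card F - 1) / 4) (b := (Fintype.card F + 1) / 2) (by omega) (by omega)
      (by omega) (by omega) (Nat.div_dvd_of_dvd (by omega)) (Nat.div_dvd_of_dvd (by omega))

end

theorem simple_false {G : Type u} [Group G] [Finite G] {p : ℕ} (h : Mix p 2 G) (hp : p.Prime) (h2 : p ≠ 2)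
    (hs : IsSimpleGroup G) (hn : ¬ IsMulCommutative G) (hab : Ab2 G) : False := by
  rcases classify inputs hs hn hab with h1 | h1 | ⟨-, -, -, t, -, -, E, -, F, _, _, a1, a2, N, -, ⟨e⟩, -⟩
  · obtain ⟨a, ha, F, _, _, hF, ⟨e⟩⟩ := pslEven_pow h1
    obtain ⟨b, rfl⟩ := Nat.exists_eq_add_of_le ha
    have : 0 < 2 ^ b := by positivity
    rw [pow_add] at hF
    exact sl_two (h.of_injective e.symm.toMonoidHom e.symm.injective) hp h2 (by omega) (by omega) (by omega) (by omega)
      dvd_rfl dvd_rfl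
  · obtain ⟨F, _, _, a1, a2, ⟨e⟩⟩ := Gold.Cor.pslOdd_mod hab h1
    exact sl_odd (h.of_injective e.symm.toMonoidHom e.symm.injective) hp h2 a1 a2
  · have hf : Function.Injective (E.subtype.comp N.subtype) := E.subtype_injective.comp N.subtype_injective
    obtain ⟨K, _, _, b1, b2, ⟨e⟩⟩ := Gold.Cor.pslOdd_mod (hab.of_injective _ hf) ⟨F, _, _, a1, a2, ⟨e⟩⟩
    exact sl_odd ((h.of_injective _ hf).of_injective e.symm.toMonoidHom e.symm.injective) hp h2 b1 b2

theorem main {p r : ℕ} (hp : p.Prime) (h2 : p ≠ 2) (hr : r.Prime) (r1 : r ≠ p) (r2 : r ≠ 2) (n : ℕ) :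
    ∀ (G : Type u) [Group G] [Finite G], Nat.card G = n → Mix p 2 G → Ab2 G → 2 ∣ Nat.card G → ¬ r ∣ Nat.card G := by
  induction n using Nat.strong_induction_on with
  | _ n ih =>
  intro G _ _ hn h hab e2 er
  by_cases hs : IsSimpleGroup G
  · refine simple_false h hp h2 hs (fun hc => ?_) hab
    have := (Group.is_simple_iff_prime_card.1 hs)
    exact r2 (((Nat.prime_dvd_prime_iff_eq hr this).1 er).trans ((Nat.prime_dvd_prime_iff_eq Nat.prime_two this).1 e2).symm)
  have : Nontrivial G := Finite.one_lt_card_iff_nontrivial.1 (hr.one_lt.trans_le (Nat.le_of_dvd Nat.card_pos er))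
  obtain ⟨N, _, n1, n2⟩ : ∃ N : Subgroup G, N.Normal ∧ N ≠ ⊥ ∧ N ≠ ⊤ := by
    by_contra e
    exact hs ⟨fun N hN => by by_contra e'; exact e ⟨N, hN, fun x => e' (.inl x), fun x => e' (.inr x)⟩⟩
  have c := N.card_mul_index
  have c1 := N.one_lt_card_iff_ne_bot.2 n1
  have c2 := one_lt_index_of_ne_top n2
  by_cases e : 2 ∣ Nat.card N
  · exact (h.frat hp h2 Nat.prime_two hr (.inl rfl) N e er (ih _ (by nlinarith) N rfl
      (h.of_injective _ N.subtype_injective) (hab.of_injective _ N.subtype_injective) e)).elim h2.symm r1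
  have a1 : ∀ s : ℕ, s.Prime → s ∣ Nat.card N → s = p := fun s hs e' =>
    (h.frat hp h2 hs Nat.prime_two (.inr rfl) N e' e2 e).resolve_right h2.symm
  have a2 : IsPGroup p N := .of_card (Nat.eq_prime_pow_of_unique_prime_dvd Nat.card_pos.ne' fun hs e' => a1 _ hs e')
  rw [← c] at e2 er
  exact ih N.index (by nlinarith) (G ⧸ N) rfl (h.quot hp Nat.prime_two N a2)
    (hab.of_surjective _ (QuotientGroup.mk'_surjective N)) ((Nat.prime_two.dvd_mul.1 e2).resolve_left e)
    ((hr.dvd_mul.1 er).resolve_left fun e' => r1 (a1 r hr e'))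

/-- Let G be a finite group and let p and q be distinct primes dividing the order of G, with p odd. Suppose that p divides the order of every proper subgroup of G that is neither a q-group nor of order prime to q. Let q^a be the q-part of the order of G. If p > q^a − 1, or if p = q^a − 1 and the Sylow p-subgroups of G are abelian, then p and q are the only primes dividing the order of G. -/
theorem result {G : Type*} [Group G] [Finite G]
    {p q : ℕ} (hp : p.Prime) (hq : q.Prime) (hpq : p ≠ q) (hp2 : p ≠ 2)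
    (hpG : p ∣ Nat.card G) (hqG : q ∣ Nat.card G)
    (hmix : ∀ H : Subgroup G, H ≠ ⊤ → ¬ IsPGroup q H → q ∣ Nat.card H → p ∣ Nat.card H)
    (hlarge : q ^ (Nat.card G).factorization q - 1 < p ∨
      (p = q ^ (Nat.card G).factorization q - 1 ∧ ∀ P : Sylow p G, IsMulCommutative P)) :
    ∀ r : ℕ, r.Prime → r ∣ Nat.card G → r = p ∨ r = q := by
  intro r hr er
  by_contra hc
  rw [not_or] at hc
  have := Fact.mk hq
  have h : Mix p q G := fun H h1 h2 => by
    by_cases e : H = ⊤
    · rwa [e, card_top]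
    · exact hmix H e h1 h2
  obtain ⟨Q⟩ : Nonempty (Sylow q G) := inferInstance
  by_cases hK : HasNormalPComplement q G
  · obtain ⟨P, N, _, hN⟩ := hK
    have a1 : ¬ q ∣ Nat.card N := hN.index_eq_card ▸ P.not_dvd_index
    rw [← hN.card_mul] at er
    exact (h.frat hp hpq hr hq (.inr rfl) N ((hr.dvd_mul.1 er).resolve_right fun e => hc.2 (eq_of_pg hq hr P.isPGroup' e))
      hqG a1).elim hc.1 hpq.symm
  obtain ⟨U, u1, u2, s, hs, s1, -, g, g1, ⟨k, hk⟩, g2⟩ := Transfer.exists_of_not_hasNormalPComplement Q hK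
  obtain rfl : s = p := (h.norm hp hpq hq hs s1.symm (.inl rfl) (Q.isPGroup'.to_le u1) (isPGroup_zpowers_of_pow hk) u2
    (fun e => g2 (zpowers_eq_bot.1 e ▸ one_mem _)) (zpowers_le.2 g1)).resolve_left hpq.symm
  have := Fact.mk hs
  set a := (Nat.card G).factorization q with ha
  have hQ : Nat.card Q = q ^ a := Q.card_eq_multiplicity
  have key : ∀ V : Subgroup G, V ≤ Q → g ∈ normalizer (V : Set G) → g ∉ centralizer (V : Set G) →
      V = Q ∧ s = q ^ a - 1 := fun V v1 v2 v3 => by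
    obtain ⟨n, hn⟩ := IsPGroup.iff_card.1 (Q.isPGroup'.to_le v1)
    obtain ⟨i, i1, i2, i3⟩ := Transfer.exists_dvd_pow_sub_one hs s1 hn v2 ⟨k, hk⟩ v3
    have b1 : n ≤ a := (Nat.pow_dvd_pow_iff_le_right hq.one_lt).1 (hn ▸ hQ ▸ card_dvd_of_le v1)
    have b2 := Nat.one_lt_pow (show i ≠ 0 by omega) hq.one_lt
    have b3 := Nat.le_of_dvd (by omega) i3
    have b4 := Nat.pow_le_pow_right hq.pos i2
    have b5 := Nat.pow_le_pow_right hq.pos b1
    have b6 : s = q ^ a - 1 := hlarge.elim (fun e => by omega) (·.1)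
    exact ⟨eq_of_le_of_card_ge v1 (by rw [hn, hQ]; omega), b6⟩
  obtain ⟨rfl, b1⟩ := key U u1 g1 g2
  have b0 := Nat.one_lt_pow (show a ≠ 0 by rintro e; rw [e] at b1; exact hs.ne_zero b1) hq.one_lt
  obtain rfl : q = 2 := by
    by_contra e
    have := (hq.odd_of_ne_two e).pow (n := a)
    have := hs.odd_of_ne_two hp2
    rw [Nat.odd_iff] at *
    omega
  have b2 : (Q : Subgroup G) ⊓ centralizer {g} = ⊥ := by
    have c1 := Transfer.card_modEq_card_inf_centralizer g1 ⟨k, hk⟩
    have c2 : Nat.card ↥((Q : Subgroup G) ⊓ centralizer {g}) < Nat.card Q :=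
      lt_of_le_of_ne (card_le_of_le inf_le_left) fun e => g2 fun x hx =>
        mem_centralizer_singleton_iff.1 ((eq_of_le_of_card_ge inf_le_left e.ge).ge hx).2
    have c3 := (Nat.modEq_iff_dvd' c2.le).1 c1.symm
    have c4 := Nat.le_of_dvd (by omega) c3
    have c5 : 0 < Nat.card ↥((Q : Subgroup G) ⊓ centralizer {g}) := Nat.card_pos
    exact card_eq_one.1 (by omega)
  have b3 := (key (Q ⊓ centralizer ((Q : Subgroup G) : Set G)) inf_le_left
    (inf_normalizer_le_normalizer_inf ⟨g1, Core.normalizer_le_normalizer_centralizer _ g1⟩) fun e => by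
      have : Nontrivial (Q : Subgroup G) := (nontrivial_iff_ne_bot _).2 u2
      have := Q.isPGroup'.center_nontrivial
      obtain ⟨z, hz⟩ := exists_ne (1 : center (Q : Subgroup G))
      have c1 : ((z : (Q : Subgroup G)) : G) ∈ (Q : Subgroup G) ⊓ centralizer {g} := ⟨z.1.2,
        mem_centralizer_singleton_iff.2 (e _ ⟨z.1.2, fun y hy => congrArg Subtype.val (mem_center_iff.1 z.2 ⟨y, hy⟩)⟩)⟩
      rw [b2, mem_bot] at c1
      exact hz (Subtype.ext (Subtype.ext c1))).1
  exact main hs hp2 hr hc.1 hc.2 _ G rfl h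
    (abelian_sylow_of_one Q ⟨⟨fun x y => Subtype.ext ((b3.ge y.2).2 x x.2)⟩⟩) hqG er

end Cfsg.Agent.S4017
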