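import Cfsg.Statements.S4018
import Cfsg.Agent.Lib.BSW.Main
import Cfsg.Agent.Lib.Transfer.Thompson

set_option autoImplicit false
open Cfsg

namespace Cfsg.Agent.S4018

open CfsgLib.BG CfsgLib.BSW Subgroup

theorem mul_mem_of_relIndex_two {G : Type*} [Group G] {A B : Subgroup G} (h : A.relIndex B = 2)
    {x y : G} (hx : x ∈ B) (hy : y ∈ B) (hxA : x ∉ A) (hyA : y ∉ A) : x * y ∈ A := by
  have := (mul_mem_iff_of_index_two (H := A.subgroupOf B) h (a := ⟨x, hx⟩) (b := ⟨y, hy⟩)).2
    (by simp [mem_subgroupOf, hxA, hyA])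
  simpa [mem_subgroupOf] using this

theorem relIndex_eq_two_of_card {G : Type*} [Group G] [Finite G] {A B : Subgroup G} (hAB : A ≤ B)
    (h : Nat.card B = 2 * Nat.card A) : A.relIndex B = 2 := by
  have h1 := (A.subgroupOf B).card_mul_index
  rw [Nat.card_congr (subgroupOfEquivOfLe hAB).toEquiv, h, mul_comm 2] at h1
  exact Nat.eq_of_mul_eq_mul_left Nat.card_pos h1

/-- A conclusion of the Brauer-Suzuki-Wall theorem in which all proper subgroups of even order have
order dividing `4 * 3 ^ k` has a non-trivial `3`-element with a centralizer of odd order. -/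
theorem exists_three_odd {G : Type*} [Group G] [Finite G] {Q D : Subgroup G} (h : Concl Q D) {k : ℕ}
    (heven : ∀ H : Subgroup G, H ≠ ⊤ → 2 ∣ Nat.card H → Nat.card H ∣ 4 * 3 ^ k) :
    ∃ y : G, y ≠ 1 ∧ orderOf y ∣ 3 ^ k * 3 ∧ Odd (Nat.card 𝒞[y]) := by
  have hD0 : 0 < Nat.card D := Nat.card_pos
  have hq := h.cardD
  have hQodd : Odd (Nat.card Q) := ⟨_, hq.symm⟩
  have hQ : ∀ m, Nat.card Q ∣ m → ∃ y : G, y ≠ 1 ∧ orderOf y ∣ m ∧ Odd (Nat.card 𝒞[y]) := by
    intro m hm
    have hne : Q ≠ ⊥ := fun e => by rw [e, card_bot] at hq; omega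
    obtain ⟨y, hy, h1⟩ := exists_ne_one_of_ne_bot hne
    exact ⟨y, h1, (order_dvdG hy).trans hm, by rw [h.self y hy h1]; exact hQodd⟩
  have hG := h.card
  obtain ⟨d, hd⟩ : ∃ d, Nat.card D = d + 1 := ⟨Nat.card D - 1, by omega⟩
  have hGe : Nat.card G = (2 * d + 3) * (2 * d + 4) * (d + 1) := by
    rw [← hq, hd] at hG
    have : 2 * (d + 1) + 1 - 1 = 2 * (d + 1) := by omega
    rw [this] at hG
    nlinarith
  by_cases h2 : 2 ∣ Nat.card D
  · have hDN : D ≤ 𝒩(Q) := h.norm ▸ le_sup_right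
    have hcard : Nat.card ↥(Q ⊔ D) = Nat.card Q * Nat.card D := TI_cardMg (Or.inr hDN) h.inf
    have hne : Q ⊔ D ≠ ⊤ := fun e => by
      rw [e, card_top, hGe, ← hq, hd] at hcard
      nlinarith
    have := heven _ hne (hcard ▸ h2.mul_left _)
    rw [hcard] at this
    refine hQ _ (Dvd.dvd.mul_right ?_ _)
    refine Nat.Coprime.dvd_of_dvd_mul_left ?_ ((Dvd.intro _ rfl).trans this)
    exact (Nat.Coprime.pow_right 2 (Nat.coprime_two_right.2 hQodd) : (Nat.card Q).Coprime (2 ^ 2))
  rcases h.dih with hD | ⟨u, hu⟩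
  · rw [hD, card_bot] at hq
    exact hQ _ (by rw [← hq]; exact Dvd.intro_left _ rfl)
  by_cases hD : D = ⊥
  · rw [hD, card_bot] at hq
    exact hQ _ (by rw [← hq]; exact Dvd.intro_left _ rfl)
  have hDodd : Odd (Nat.card D) := Nat.not_even_iff_odd.1 fun e => h2 e.two_dvd
  have hun : zpowers u ≤ 𝒩(D) := zpowers_le.2 (norm_of_inverts hu.inv)
  have hinf : D ⊓ zpowers u = ⊥ := by
    rw [eq_bot_iff]
    rintro x ⟨hx, hx'⟩
    rcases (mem_zpowers_two hu.hu).1 hx' with rfl | rfl
    · exact one_mem _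
    · exact absurd hx hu.not_mem
  have hcard : Nat.card ↥(D ⊔ zpowers u) = Nat.card D * 2 := by
    rw [TI_cardMg (Or.inr hun) hinf, Nat.card_zpowers, hu.hu]
  have hne : D ⊔ zpowers u ≠ ⊤ := fun e => by
    rw [e, card_top, hGe, hd] at hcard
    have := Nat.eq_of_mul_eq_mul_right (by omega : 0 < d + 1) (hcard.trans (mul_comm _ _))
    nlinarith
  have h3 := heven _ hne (hcard ▸ Dvd.intro_left _ rfl)
  rw [hcard] at h3
  have h4 : Nat.card D ∣ 3 ^ k :=
    Nat.Coprime.dvd_of_dvd_mul_left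
      (Nat.Coprime.pow_right 2 (Nat.coprime_two_right.2 hDodd) : (Nat.card D).Coprime (2 ^ 2))
      ((Dvd.intro _ rfl).trans h3)
  obtain ⟨y, hy, h1⟩ := exists_ne_one_of_ne_bot hD
  refine ⟨y, h1, ((order_dvdG hy).trans h4).mul_right _, hDodd.of_dvd_nat (card_dvd_of_le ?_)⟩
  intro g hg
  have hgy : g * y * g⁻¹ = y := by
    rw [mul_inv_eq_iff_eq_mul]; exact (mem_centralizer_singleton_iff.1 hg)
  obtain ⟨a, ha, b, hb, rfl⟩ := (mem_sup_norm_l hun).1 (hu.ti g y hy h1 (hgy.symm ▸ hy))
  rcases (mem_zpowers_two hu.hu).1 hb with rfl | rfl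
  · simpa using ha
  · exfalso
    have hc : a * y⁻¹ = y⁻¹ * a := (abelian_iff.1 hu.comm) ha y⁻¹ (inv_mem hy) |>.symm
    rw [show a * b * y * (a * b)⁻¹ = a * (b * y * b⁻¹) * a⁻¹ by group, hu.inv y hy, hc,
      mul_inv_cancel_right] at hgy
    exact h1 (eq_one_of_odd (hDodd.of_dvd_nat (order_dvdG hy)) (by
      nth_rewrite 1 [← hgy]; exact inv_mul_cancel y))

/-- Let G be a finite group with an abelian Sylow 3-subgroup P such that the normalizer of P has order 4·#P, the centralizer C of P has order 2·#P, C meets each of its conjugates by elements outside its normalizer trivially, and every proper subgroup of G of even order has order dividing 4·#P. Then G is not simple. -/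
theorem result {G : Type*} [Group G] [Finite G]
    (P : Sylow 3 G) (hab : IsMulCommutative P)
    (hN : Nat.card (Subgroup.normalizer ((P : Subgroup G) : Set G)) = 4 * Nat.card P)
    (hC : Nat.card (Subgroup.centralizer (P : Set G)) = 2 * Nat.card P)
    (hTI : Cfsg.IsTISubset (Subgroup.centralizer (P : Set G) : Set G))
    (heven : ∀ H : Subgroup G, H ≠ ⊤ → 2 ∣ Nat.card H → Nat.card H ∣ 4 * Nat.card P) :
    ¬ IsSimpleGroup G := by
  intro hs
  have : Fact (Nat.Prime 3) := ⟨Nat.prime_three⟩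
  obtain ⟨k, hk⟩ := IsPGroup.iff_card.1 P.isPGroup'
  set N := Subgroup.normalizer ((P : Subgroup G) : Set G) with hNdef
  set C := Subgroup.centralizer (P : Set G) with hCdef
  have hP0 : 0 < Nat.card P := Nat.card_pos
  have hPodd : Odd (Nat.card P) := by rw [hk]; exact Odd.pow (by decide)
  have h4G : 4 ∣ Nat.card G := (Dvd.intro _ hN.symm).trans (card_subgroup_dvd_card N)
  have hno2 : ∀ M : Subgroup G, M.index ≠ 2 := fun M hM => by
    have := normal_of_index_eq_two hM
    rcases hs.eq_bot_or_eq_top_of_normal M this with rfl | rfl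
    · rw [index_bot] at hM; rw [hM] at h4G; omega
    · rw [index_top] at hM; omega
  have hPC : (P : Subgroup G) ≤ C := abelian_iff.1 hab
  have hCN : C ≤ N := cent_sub _
  have hiP : (P : Subgroup G).relIndex C = 2 := relIndex_eq_two_of_card hPC hC
  have hiC : C.relIndex N = 2 := relIndex_eq_two_of_card hCN (by rw [hN, hC]; ring)
  obtain ⟨t, htC, ht⟩ := Cauchy Nat.prime_two (Dvd.intro _ hC.symm : 2 ∣ Nat.card C)
  have tt : t * t = 1 := by rw [← sq, ← ht, pow_orderOf_eq_one]
  have t1 : t ≠ 1 := by rintro rfl; simp at ht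
  have hoddP : ∀ y ∈ (P : Subgroup G), Odd (orderOf y) := fun y hy =>
    hPodd.of_dvd_nat (order_dvdG hy)
  have htP : t ∉ (P : Subgroup G) := fun e => by
    have := hoddP t e; rw [ht] at this; exact absurd this (by decide)
  have hdec : ∀ x ∈ C, x ∈ (P : Subgroup G) ∨ ∃ y ∈ (P : Subgroup G), x = y * t := fun x hx => by
    by_cases h : x ∈ (P : Subgroup G)
    · exact Or.inl h
    · exact Or.inr ⟨x * t, mul_mem_of_relIndex_two hiP hx htC h htP, by rw [mul_assoc, tt, mul_one]⟩
  have hct : ∀ x ∈ C, x * t = t * x := fun x hx => by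
    rcases hdec x hx with h | ⟨y, hy, rfl⟩
    · exact htC x h
    · rw [← mul_assoc, ← htC y hy]
  have hcomm : ∀ x ∈ C, ∀ y ∈ C, x * y = y * x := fun x hx y hy => by
    rcases hdec y hy with h | ⟨z, hz, rfl⟩
    · exact (hx y h).symm
    · rw [← mul_assoc, ← hx z hz, mul_assoc, hct x hx, mul_assoc]
  have hsq : ∀ x ∈ C, x * x = 1 → x = 1 ∨ x = t := fun x hx e => by
    rcases hdec x hx with h | ⟨y, hy, rfl⟩
    · exact Or.inl (eq_one_of_odd (hoddP x h) e)
    · right
      have : y * y = 1 := by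
        rw [← e, mul_assoc, ← mul_assoc t, ← htC y hy, mul_assoc, tt, mul_one]
      rw [eq_one_of_odd (hoddP y hy) this, one_mul]
  have hcardG : 4 ≤ Nat.card G := Nat.le_of_dvd Nat.card_pos h4G
  -- an overgroup of `N` of even order other than `G` is `N`
  have hmax : ∀ H : Subgroup G, N ≤ H → H ≠ ⊤ → H = N := fun H hle hne => by
    have h1 := heven H hne ((Dvd.intro (2 * Nat.card P) (by rw [hN]; ring)).trans
      (card_dvd_of_le hle))
    exact (eq_of_le_of_card_ge hle (Nat.le_of_dvd (hN ▸ by omega) (hN ▸ h1))).symm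
  have hNC : N ≤ 𝒩(C) := norms_cent le_rfl
  have hNt : N ≤ 𝒞[t] := fun g hg => by
    have h1 : g * t * g⁻¹ ∈ C := conj_mem_of_mem_norm (hNC hg) htC
    rcases hsq _ h1 (by rw [show g * t * g⁻¹ * (g * t * g⁻¹) = g * (t * t) * g⁻¹ by group, tt]; simp)
      with h | h
    · exact absurd (by simpa using h) t1
    · rw [mem_centralizer_singleton_iff]; exact mul_inv_eq_iff_eq_mul.1 h
  have hCt : 𝒞[t] = N := hmax _ hNt fun e => by
    have : (zpowers t).Normal := ⟨fun x hx g => by
      rcases (mem_zpowers_two ht).1 hx with rfl | rfl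
      · simp
      · have : g ∈ 𝒞[x] := e ▸ mem_top g
        rw [mem_centralizer_singleton_iff.1 this, mul_inv_cancel_right]; exact mem_zpowers _⟩
    rcases hs.eq_bot_or_eq_top_of_normal (zpowers t) this with h | h
    · exact t1 (zpowers_eq_bot.1 h)
    · have := Nat.card_zpowers t
      rw [h, card_top, ht] at this; omega
  have hNCe : 𝒩(C) = N := hmax _ hNC fun e => by
    have : C.Normal := normalizer_eq_top_iff.1 e
    rcases hs.eq_bot_or_eq_top_of_normal C this with h | h
    · exact t1 (by simpa [h] using htC)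
    · have h1 := Subgroup.card_le_of_le (le_top : N ≤ ⊤)
      rw [← h, hN, hC] at h1; omega
  have hNodd : ¬ 2 ∣ N.index := fun h2 => by
    have h8 : 2 ^ 3 ∣ Nat.card G := by
      rw [← N.card_mul_index, hN]
      obtain ⟨c, hc⟩ := h2
      exact ⟨Nat.card P * c, by rw [hc]; ring⟩
    have : Fact (Nat.Prime 2) := ⟨Nat.prime_two⟩
    obtain ⟨H, hH⟩ := Sylow.exists_subgroup_card_pow_prime 2 h8
    by_cases hT : H = ⊤
    · obtain ⟨M, hM⟩ := Sylow.exists_subgroup_card_pow_prime 2 (n := 2) h4G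
      rw [hT, card_top] at hH
      have := M.card_mul_index
      rw [hM, hH] at this
      exact hno2 M (by omega)
    · have h1 := heven H hT (by rw [hH]; decide)
      rw [hH] at h1
      obtain ⟨m, hm⟩ := hPodd
      omega
  have hconj : ∀ u : G, orderOf u = 2 → ∃ g, g * u * g⁻¹ = t := fun u hu => by
    obtain ⟨g, hg⟩ := CfsgLib.Transfer.exists_conj_mem_of_no_index_two hno2 hNodd hiC hu
    have uu : u * u = 1 := by rw [← sq, ← hu, pow_orderOf_eq_one]
    rcases hsq _ hg (by rw [show g * u * g⁻¹ * (g * u * g⁻¹) = g * (u * u) * g⁻¹ by group, uu]; simp)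
      with h | h
    · have : u = 1 := by simpa using h
      rw [this] at hu; simp at hu
    · exact ⟨g, h⟩
  have h4C : ¬ 4 ∣ Nat.card C := by
    rw [hC]; obtain ⟨m, hm⟩ := hPodd; omega
  obtain ⟨s, hsN, hsC, hs2⟩ : ∃ s ∈ N, s ∉ C ∧ orderOf s = 2 := by
    by_contra hcon
    push Not at hcon
    have : Fact (Nat.Prime 2) := ⟨Nat.prime_two⟩
    obtain ⟨S, hS⟩ := Sylow.exists_subgroup_card_pow_prime (G := N) 2 (n := 2) (Dvd.intro _ hN.symm)
    have hS' : Nat.card (S.map N.subtype) = 4 := by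
      rw [card_map_of_injective N.subtype_injective, hS]; rfl
    have hSC : ¬ S.map N.subtype ≤ C := fun e => h4C (hS' ▸ card_dvd_of_le e)
    obtain ⟨x, hx, hxC⟩ := SetLike.not_le_iff_exists.1 hSC
    have hxN : x ∈ N := map_subtype_le S hx
    have hord : ∀ y ∈ N, y ∉ C → 2 ^ (2 - 1) < orderOf y := fun y hy hyC => by
      have h1 := hcon y hy hyC
      have h2 : orderOf y ≠ 1 := fun e => hyC (orderOf_eq_one_iff.1 e ▸ one_mem _)
      have h3 := orderOf_pos y
      omega
    have hx4 : orderOf x = 2 ^ 2 := by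
      have h1 : orderOf x ∣ 4 := hS' ▸ order_dvdG hx
      have h2 := hord x hxN hxC
      have h3 := Nat.le_of_dvd (by norm_num) h1
      have h4 : orderOf x ≠ 3 := fun e => by rw [e] at h1; omega
      omega
    rcases CfsgLib.Transfer.thompson_transfer_large_order hNodd hiC hx4 hord with ⟨M, -, hM, -⟩ | ⟨g, hg⟩
    · exact hno2 M hM
    · have := order_dvdG hg
      rw [show g * x * g⁻¹ = MulAut.conj g x from rfl, MulEquiv.orderOf_eq, hx4] at this
      exact h4C this
  have ss : s * s = 1 := by rw [← sq, ← hs2, pow_orderOf_eq_one]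
  have hoddN : ∀ y ∈ N, Odd (orderOf y) → y ∈ C := fun y hy ho => by
    by_contra h
    exact h (mem_of_sq_mem ho (mul_mem_of_relIndex_two hiC hy hy h h))
  have hti : ∀ g, g ∉ 𝒞[t] → ∀ x ∈ C, g * x * g⁻¹ ∈ C → x = 1 := fun g hg x hx e =>
    hTI g (by rw [hCt, ← hNCe] at hg; exact hg) x hx e
  have hfpf : ∀ y ∈ (P : Subgroup G), s * y * s⁻¹ = y → y = 1 := fun y hy e => by
    obtain ⟨g, hg⟩ := hconj s hs2
    have hgt : g ∉ 𝒞[t] := fun h => hsC (by
      have h1 : s = g⁻¹ * t * g := by rw [← hg]; group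
      rw [h1, mul_assoc, ← mem_centralizer_singleton_iff.1 h, inv_mul_cancel_left]; exact htC)
    refine hti g hgt y (hPC hy) (hoddN _ ?_ ?_)
    · rw [← hCt, mem_centralizer_singleton_iff, ← hg]
      have : s * y = y * s := mul_inv_eq_iff_eq_mul.1 e
      calc g * y * g⁻¹ * (g * s * g⁻¹) = g * (y * s) * g⁻¹ := by group
        _ = g * (s * y) * g⁻¹ := by rw [this]
        _ = g * s * g⁻¹ * (g * y * g⁻¹) := by group
    · rw [show g * y * g⁻¹ = MulAut.conj g y from rfl, MulEquiv.orderOf_eq]; exact hoddP y hy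
  have hst : s * t = t * s := mem_centralizer_singleton_iff.1 (hNt hsN)
  have hinv : ∀ x ∈ C, s * x * s⁻¹ = x⁻¹ := fun x hx => by
    rcases hdec x hx with h | ⟨y, hy, rfl⟩
    · exact inverts_of_fpf ss hsN hfpf h
    · have h1 : s * t * s⁻¹ = t := by rw [hst, mul_inv_cancel_right]
      rw [show s * (y * t) * s⁻¹ = s * y * s⁻¹ * (s * t * s⁻¹) by group, inverts_of_fpf ss hsN hfpf hy,
        h1, mul_inv_rev, inv_eq_of_mul_eq_one_right tt, htC _ (inv_mem hy)]
  have H : Hyp t s C :=
    { ht := ht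
      comm := abelian_iff.2 fun x hx y hy => hcomm y hy x hx
      tK := htC
      hs := hs2
      sK := hsC
      cent := by
        rw [hCt]
        refine le_antisymm (sup_le hCN (zpowers_le.2 hsN)) fun g hg => ?_
        by_cases h : g ∈ C
        · exact mem_sup_left h
        · have := mul_mem_of_relIndex_two hiC hg hsN h hsC
          rw [show g = g * s * s by rw [mul_assoc, ss, mul_one]]
          exact mul_mem (mem_sup_left this) (mem_sup_right (mem_zpowers s))
      cs := by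
        refine le_antisymm (fun x hx => ?_) (zpowers_le.2 ⟨htC, mem_centralizer_singleton_iff.2 hst.symm⟩)
        have h1 := hinv x hx.1
        rw [← mem_centralizer_singleton_iff.1 hx.2, mul_inv_cancel_right] at h1
        exact (mem_zpowers_two ht).2 (hsq x hx.1 (by nth_rewrite 1 [h1]; exact inv_mul_cancel x))
      inv := hinv
      ti := fun g hg => by
        rw [eq_bot_iff]
        rintro x ⟨hx, hx'⟩
        obtain ⟨y, hy, rfl⟩ := mem_cj'.1 hx'
        rw [hti g hg y hy hx]; simp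
      conj := fun x y hx hy => by
        obtain ⟨a, ha⟩ := hconj x hx
        obtain ⟨b, hb⟩ := hconj y hy
        exact (isConj_iff.2 ⟨a, ha⟩).trans (isConj_iff.2 ⟨b, hb⟩).symm }
  obtain ⟨Q, D, hQ⟩ := H.bsw
  obtain ⟨y, h1, hy, hodd⟩ := exists_three_odd hQ (k := k) (fun H h1 h2 => hk ▸ heven H h1 h2)
  have hp : IsPGroup 3 (zpowers y) := by
    rw [← pow_succ] at hy
    obtain ⟨j, -, hj⟩ := (Nat.dvd_prime_pow Nat.prime_three).1 hy
    exact IsPGroup.of_card (by rw [Nat.card_zpowers, hj])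
  obtain ⟨R, hR⟩ := hp.exists_le_sylow
  obtain ⟨g, rfl⟩ := MulAction.exists_smul_eq G P R
  have hy' : g⁻¹ * y * g ∈ (P : Subgroup G) := by
    have := hR (mem_zpowers y)
    rw [Sylow.coe_subgroup_smul, mem_pointwise_smul_iff_inv_smul_mem] at this
    simpa [MulAut.smul_def] using this
  have hmem : g * t * g⁻¹ ∈ 𝒞[y] := by
    rw [mem_centralizer_singleton_iff]
    have := htC _ hy'
    calc g * t * g⁻¹ * y = g * (t * (g⁻¹ * y * g)) * g⁻¹ := by group
      _ = g * (g⁻¹ * y * g * t) * g⁻¹ := by rw [this]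
      _ = y * (g * t * g⁻¹) := by group
  have := hodd.of_dvd_nat (order_dvdG hmem)
  rw [show g * t * g⁻¹ = MulAut.conj g t from rfl, MulEquiv.orderOf_eq, ht] at this
  exact absurd this (by decide)

end Cfsg.Agent.S4018
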