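import Cfsg.Statements.S4021
import Cfsg.Agent.Lib.WCor4.Main
import Cfsg.Agent.Lib.Invol.BaerSuzuki

set_option autoImplicit false
open Cfsg

namespace Cfsg.Agent.S4021

open Subgroup CfsgLib CfsgLib.Tech CfsgLib.WCor4 Matrix MatrixGroups

/-- subgroups of the same order are conjugate -/
def CG (G : Type*) [Group G] : Prop := ∀ H K : Subgroup G, Nat.card H = Nat.card K → ∃ g : G, K = cj g H

theorem CG.of_surjective {G Y : Type*} [Group G] [Group Y] (h : CG G) {f : G →* Y} (hf : Function.Surjective f) :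
    CG Y := fun H K e => by
  obtain ⟨g, hg⟩ := h (H.comap f) (K.comap f) (by
    rw [Core.card_comap_of_surjective hf, Core.card_comap_of_surjective hf, e])
  refine ⟨f g, ?_⟩
  rw [← map_comap_eq_self_of_surjective hf K, hg, Subgroup.map_map]
  conv_rhs => rw [← map_comap_eq_self_of_surjective hf H, cj, Subgroup.map_map]
  congr 1; ext; simp

theorem CG.not_cfg {G : Type*} [Group G] [Finite G] (h : CG G) {a s t : G} (ha : Odd (orderOf a)) (h1 : a ≠ 1)
    (hs : orderOf s = 2) (ht : orderOf t = 2) (hsa : s * a * s⁻¹ = a⁻¹) (hta : t * a = a * t) : False := by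
  have key : ∀ u : G, orderOf u = 2 → u * a * u⁻¹ ∈ zpowers a →
      Nat.card ↥(zpowers a ⊔ zpowers u) = 2 * Nat.card (zpowers a) := fun u h2 h3 =>
    TwoGrp.card_sup_zpowers (TwoGrp.mem_normalizer_zpowers h3)
      (by rw [← pow_two, ← h2, pow_orderOf_eq_one]; exact one_mem _)
      fun h4 => ha.not_two_dvd_nat (h2 ▸ orderOf_dvd_of_mem_zpowers h4)
  obtain ⟨g, e⟩ := h _ _ ((key t ht (by rw [hta, mul_inv_cancel_right]; exact mem_zpowers a)).trans
    (key s hs (hsa ▸ inv_mem (mem_zpowers a))).symm)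
  have := Core.isMulCommutative_sup (A := zpowers a) (B := zpowers t) (by
    rw [zpowers_eq_closure t, centralizer_closure]; exact zpowers_le.2 (mem_centralizer_singleton_iff.2 hta.symm))
  have h2 : IsMulCommutative ↥(zpowers a ⊔ zpowers s) := e ▸ inferInstance
  have h3 : s * a = a * s := congrArg Subtype.val (h2.is_comm.comm ⟨s, mem_sup_right (mem_zpowers s)⟩
    ⟨a, mem_sup_left (mem_zpowers a)⟩)
  rw [h3, mul_inv_cancel_right, eq_inv_iff_mul_eq_one, ← pow_two, ← orderOf_dvd_iff_pow_eq_one] at hsa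
  rcases (Nat.dvd_prime Nat.prime_two).1 hsa with h4 | h4
  · exact h1 (orderOf_eq_one_iff.1 h4)
  · exact ha.not_two_dvd_nat h4.symm.dvd

theorem CG.not_J1 {G : Type*} [Group G] [Finite G] (h : CG G) : ¬ IsJ1 G := fun ⟨hs, hG⟩ => by
  have : Fact (Nat.Prime 2) := ⟨Nat.prime_two⟩
  obtain ⟨⟨-, -, -, t, ht, -, E, hE, F, _, _, h1, h3, N, -, ⟨e⟩, -⟩, -⟩ := jr_of_card hG
  have := Classical.psl_fin_isSimpleGroup (F := F) 2 le_rfl fun _ => h3
  have h4 := Gold.Cor.card_psl_odd h1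
  obtain ⟨k, hk⟩ := h1
  obtain ⟨j, hj⟩ := (Nat.even_mul_succ_self k).two_dvd
  obtain ⟨s, h5⟩ := exists_prime_orderOf_dvd_card' (G := PSL(2, F)) 2 ⟨(2 * k + 1) * (2 * j), by
    rw [hk, Nat.add_sub_cancel] at h4; nlinarith⟩
  obtain ⟨-, y, -, h6, h7, h8⟩ := Invol.exists_inverted_of_not_mem_pCore (t := s)
    (by rw [← pow_two, orderOf_dvd_iff_pow_eq_one.1 h5.dvd]) fun h6 => by
      rcases (pCore_normal 2 PSL(2, F)).eq_bot_or_eq_top with e | e
      · rw [e, mem_bot] at h6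
        simp [h6] at h5
      · obtain ⟨n, hn⟩ := IsPGroup.iff_card.1 (Core.pCore_eq_top_iff.1 e)
        have : 2 * k + 1 ∣ 2 ^ (n + 1) := ⟨_, by rw [pow_succ', ← hn, h4, hk]⟩
        have := Nat.eq_one_of_dvd_coprimes ((Nat.coprime_two_right.2 ⟨k, rfl⟩).pow_right _) dvd_rfl this
        omega
  let ι : PSL(2, F) →* G := E.subtype.comp (N.subtype.comp e.symm.toMonoidHom)
  have hι : Function.Injective ι := E.subtype_injective.comp (N.subtype_injective.comp e.symm.injective)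
  exact h.not_cfg (a := ι y) (s := ι s) (by rwa [orderOf_injective ι hι]) ((map_ne_one_iff ι hι).2 h6)
    (by rwa [orderOf_injective ι hι]) ht (by rw [← map_inv, ← map_mul, ← map_mul, h8, map_inv])
    (hE.2.2.1 t (mem_zpowers t) _ (e.symm y).1.2)

open Dickson in
theorem CG.card_le {F : Type} [Field F] [Finite F] (h : CG PSL(2, F)) (h8 : Nat.card F % 8 = 3 ∨ Nat.card F % 8 = 5) :
    Nat.card F ≤ 5 := by
  by_contra h5
  have := Fintype.ofFinite F
  obtain ⟨p, _, -, hp, -⟩ := FiniteField.card' F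
  have := Fact.mk hp
  have ho : Odd (Nat.card F) := Nat.odd_iff.2 (by omega)
  have h2 := SL2.two_ne_zero_of_odd (F := F) (Nat.card_eq_fintype_card (α := F) ▸ ho)
  obtain ⟨_, ⟨t, rfl⟩, -, -, h3, h4, -⟩ := GW.KP.exists_four h2
  obtain ⟨x, y, r, w, hT⟩ := GW.KP.exists_tor p h2 (by omega) h3 h4
  have h6 := hT.isDih p h3 h4
  have h7 := hT.orderOf_cases ho (by omega) h4
  obtain ⟨m, hm⟩ := (hT.even_iff p h3 h4).2 ⟨t, rfl⟩
  have h9 := h6.r_mem.2
  obtain ⟨r, rfl⟩ := hT.r_fix.1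
  obtain ⟨w, rfl⟩ := hT.w_mem
  have hι := pslPGL_injective (K := F)
  have h10 : orderOf (r ^ 2) = m := by
    rw [orderOf_pow' _ two_ne_zero, ← orderOf_injective _ hι, hm, ← two_mul, Nat.gcd_mul_right_left]; simp
  refine h.not_cfg (a := r ^ 2) (s := w) (t := t) (by rw [h10, Nat.odd_iff]; omega)
    (fun e => by rw [e, orderOf_one] at h10; omega) (by simpa [orderOf_injective _ hι] using h6.orderOf_rpows 0)
    (by rw [← orderOf_injective _ hι]; exact orderOf_eq_prime (by rw [pow_two, h3]) h4) ?_ ?_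
  · rw [← conj_pow, ← inv_pow, hι (show pslPGL F (w * r * w⁻¹) = pslPGL F r⁻¹ by rw [map_mul, map_mul, map_inv, h6.conj, map_inv])]
  · exact (Commute.pow_right (hι (by rw [map_mul, map_mul, mem_centralizer_singleton_iff.1 h9])) 2).eq

theorem CG.small {G : Type*} [Group G] (h : CG G) {P : (K : Type) → [Field K] → Type} [∀ K [Field K], Group (P K)]
    (π : ∀ K [Field K], P K →* PSL(2, K)) (hπ : ∀ K [Field K], Function.Surjective (π K)) (h4 : L4 G P) :
    Nonempty (G ≃* @P (ZMod 3) (@ZMod.instField 3 ⟨Nat.prime_three⟩)) ∨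
      Nonempty (G ≃* @P (ZMod 5) (@ZMod.instField 5 ⟨Nat.prime_five⟩)) := by
  obtain ⟨p, hp, h1, ⟨⟨e⟩⟩ | ⟨⟨e⟩⟩⟩ := h4
  · have := ((h.of_surjective (f := e.toMonoidHom) e.surjective).of_surjective (hπ _)).card_le (by rwa [Nat.card_zmod])
    rw [Nat.card_zmod] at this
    rcases (by omega : p = 3 ∨ p = 5) with rfl | rfl
    exacts [.inl ⟨e⟩, .inr ⟨e⟩]
  · have := ((h.of_surjective (f := e.toMonoidHom) e.surjective).of_surjective (hπ _)).card_le (by
      rw [GaloisField.card p 3 (by norm_num), Nat.pow_mod]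
      rcases h1 with h1 | h1 <;> simp [h1])
    rw [GaloisField.card p 3 (by norm_num)] at this
    have := Nat.pow_le_pow_left hp.out.two_le 3
    omega

/-- Let G be a finite group in which any two subgroups of the same order are conjugate. Then G/O(G), O(G) the largest normal subgroup of odd order, is one of: a cyclic 2-group; the one-dimensional affine group over the field with 8 elements; the one-dimensional semi-affine group over the field with 8 or with 32 elements; PSL₂(8); the full automorphism group of PSL₂(32); the alternating group of degree 4 or 5; SL₂(3); or SL₂(5). -/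
theorem result {G : Type*} [Group G] [Finite G]
    (hC : ∀ H K : Subgroup G, Nat.card H = Nat.card K → ∃ g : G, K = H.map (MulAut.conj g).toMonoidHom) :
    (IsCyclic (G ⧸ Cfsg.oddCore G) ∧ IsPGroup 2 (G ⧸ Cfsg.oddCore G)) ∨
    Nonempty (G ⧸ Cfsg.oddCore G ≃* Cfsg.affineGroup (GaloisField 2 3)) ∨
    Nonempty (G ⧸ Cfsg.oddCore G ≃* Cfsg.semiaffineGroup (GaloisField 2 3)) ∨
    Nonempty (G ⧸ Cfsg.oddCore G ≃* Cfsg.semiaffineGroup (GaloisField 2 5)) ∨
    Nonempty (G ⧸ Cfsg.oddCore G ≃* Matrix.ProjectiveSpecialLinearGroup (Fin 2) (GaloisField 2 3)) ∨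
    Nonempty (G ⧸ Cfsg.oddCore G ≃* MulAut (Matrix.ProjectiveSpecialLinearGroup (Fin 2) (GaloisField 2 5))) ∨
    Nonempty (G ⧸ Cfsg.oddCore G ≃* alternatingGroup (Fin 4)) ∨
    Nonempty (G ⧸ Cfsg.oddCore G ≃* alternatingGroup (Fin 5)) ∨
    Nonempty (G ⧸ Cfsg.oddCore G ≃* Matrix.SpecialLinearGroup (Fin 2) (ZMod 3)) ∨
    Nonempty (G ⧸ Cfsg.oddCore G ≃* Matrix.SpecialLinearGroup (Fin 2) (ZMod 5)) := by
  have : Fact (Nat.Prime 3) := ⟨Nat.prime_three⟩
  have : Fact (Nat.Prime 5) := ⟨Nat.prime_five⟩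
  have hC' := CG.of_surjective hC (QuotientGroup.mk'_surjective (oddCore G))
  rcases DG.main (fun _ _ H K _ _ => hC' H K) (Core.pPrimeCore_quotient_pPrimeCore 2 G) with
    h | (h | h | h | h | h | h) | h | h
  · exact .inl h
  · exact .inr (.inl h)
  · exact .inr (.inr (.inl h))
  · exact .inr (.inr (.inr (.inl h)))
  · exact absurd h hC'.not_J1
  · exact .inr (.inr (.inr (.inr (.inl h))))
  · exact .inr (.inr (.inr (.inr (.inr (.inl h)))))
  · obtain ⟨e1⟩ := Agent.S0251.result (ZMod.card 3)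
    obtain ⟨e2⟩ := Ward.psl_equiv_A5 (.inr (ZMod.card 5))
    exact .inr (.inr (.inr (.inr (.inr (.inr ((hC'.small (fun _ _ => .id _) (fun _ _ => Function.surjective_id) h).imp
      (fun ⟨e⟩ => ⟨e.trans e1⟩) fun ⟨e⟩ => .inl ⟨e.trans e2⟩))))))
  · exact .inr (.inr (.inr (.inr (.inr (.inr (.inr (.inr
      (hC'.small (fun _ _ => SL2.pm) (fun _ _ => SL2.pm_surjective) h))))))))

end Cfsg.Agent.S4021
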