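import Cfsg.Statements.S4025
import Cfsg.Agent.Lib.WCor4.Aff2

set_option autoImplicit false
open Cfsg

namespace Cfsg.Agent.S4025

open CfsgLib CfsgLib.WCor4 CfsgLib.Tech Subgroup

/-- Let p be a prime and G a finite group in which any two p-subgroups of the same order are conjugate, and suppose a Sylow p-subgroup P of G is elementary abelian of order pⁿ with n ≥ 3. Let N be the normalizer of P and K the largest normal subgroup of N of order prime to p, and assume N/K is solvable. Then either n = 3 and N/K embeds in the one-dimensional semi-affine group over the field with p³ elements (and for p = 2 it is isomorphic to the affine or the semi-affine group over the field with 8 elements), or n = 5, p = 2 and N/K is isomorphic to the one-dimensional semi-affine group over the field with 32 elements. -/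
theorem result {G : Type*} [Group G] [Finite G]
    {p : ℕ} [Fact p.Prime] (hC : ∀ H K : Subgroup G, IsPGroup p H → IsPGroup p K → Nat.card H = Nat.card K →
      ∃ g : G, K = H.map (MulAut.conj g).toMonoidHom) (P : Sylow p G) (n : ℕ) (hn : 3 ≤ n)
    (hel : Cfsg.IsElementaryAbelian p (P : Subgroup G)) (hcard : Nat.card P = p ^ n)
    (N : Subgroup G) (hN : N = Subgroup.normalizer ((P : Subgroup G) : Set G))
    (hsolv : Group.IsSolvable (↥N ⧸ Cfsg.pPrimeCore p ↥N)) :
    (n = 3 ∧ (∃ f : ↥N ⧸ Cfsg.pPrimeCore p ↥N →* ↥(Cfsg.semiaffineGroup (GaloisField p 3)), Function.Injective f) ∧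
      (p = 2 → Nonempty (↥N ⧸ Cfsg.pPrimeCore p ↥N ≃* Cfsg.semiaffineGroup (GaloisField 2 3)) ∨
               Nonempty (↥N ⧸ Cfsg.pPrimeCore p ↥N ≃* Cfsg.affineGroup (GaloisField 2 3)))) ∨
    (n = 5 ∧ p = 2 ∧ Nonempty (↥N ⧸ Cfsg.pPrimeCore p ↥N ≃* Cfsg.semiaffineGroup (GaloisField 2 5))) := by
  have hf := QuotientGroup.mk'_surjective (pPrimeCore p N)
  have hle : (P : Subgroup G) ≤ N := hN ▸ le_normalizer
  have := hel.1
  have hd : (P.subtype hle : Subgroup N) ⊓ (QuotientGroup.mk' (pPrimeCore p N)).ker = ⊥ := by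
    rw [QuotientGroup.ker_mk']
    exact Core.isPGroup_inf_eq_bot_of_coprime (P.subtype hle).isPGroup' (Core.coprime_card_pPrimeCore p N)
  have hc : ∀ A : Subgroup N, A ≤ P.subtype hle → Nat.card (A.map (QuotientGroup.mk' (pPrimeCore p N))) =
      Nat.card (A.map N.subtype) := fun A hA => by
    rw [card_subtype, ← Core.card_map_mul_card_inf_ker (QuotientGroup.mk' (pPrimeCore p N)) A, eq_bot_iff.2 ((inf_le_inf_right _ hA).trans hd.le), card_bot,
      mul_one]
  let S := (P.subtype hle).mapSurjective hf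
  have hS : S.toSubgroup = ((P : Subgroup G).subgroupOf N).map (QuotientGroup.mk' (pPrimeCore p N)) := rfl
  have : ((P : Subgroup G).subgroupOf N).Normal := by subst hN; infer_instance
  have : S.toSubgroup.Normal := Normal.map this _ hf
  have : IsMulCommutative S.toSubgroup := hS ▸ inferInstance
  have h1 : Nat.card S.toSubgroup = p ^ n := (hc _ le_rfl).trans
    ((congrArg (fun K : Subgroup G => Nat.card K) (map_subgroupOf_eq_of_le hle)).trans hcard)
  obtain ⟨φ, s, hφ, hs, hT, hd⟩ := affine_emb S.toSubgroup h1 hn (by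
    rintro _ ⟨x, hx, rfl⟩
    rw [← map_pow, show x ^ p = 1 from Subtype.ext (hel.2 x hx), map_one]) S.not_dvd_index
    (cent_le' (Core.pPrimeCore_quotient_pPrimeCore p N) S) fun A hA' B hB' e => by
      have k0 : ∀ A ≤ S.toSubgroup, ∃ A' ≤ (P.subtype hle : Subgroup N), A'.map (QuotientGroup.mk' _) = A := fun A hA =>
        ⟨_ ⊓ A.comap _, inf_le_left, le_antisymm (map_le_iff_le_comap.2 inf_le_right) fun y hy => by
          obtain ⟨x, hx, rfl⟩ := hA hy
          exact ⟨x, ⟨hx, hy⟩, rfl⟩⟩
      obtain ⟨A, hA, rfl⟩ := k0 A hA'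
      obtain ⟨B, hB, rfl⟩ := k0 B hB'
      have a1 : A.map N.subtype ≤ P := map_le_iff_le_comap.2 hA
      have b1 : B.map N.subtype ≤ P := map_le_iff_le_comap.2 hB
      obtain ⟨g, hg⟩ := hC _ _ (P.isPGroup'.to_le a1) (P.isPGroup'.to_le b1) ((hc A hA).symm.trans (e.trans (hc B hB)))
      have k : ∀ A ≤ (P : Subgroup G), (P : Subgroup G) ≤ centralizer (A : Set G) := fun A hA =>
        (le_centralizer _).trans (centralizer_le hA)
      have hP := IsSylowIn.of_sylow_top P
      obtain ⟨c, c1, c2⟩ := ((hP.cj_of_mem (mem_top g)).of_le (K := centralizer (B.map N.subtype : Set G)) (by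
        rw [hg, ← cj_centralizer]; exact cj_mono g (k _ a1)) le_top).exists_cj_eq (hP.of_le (k _ b1) le_top)
      refine ⟨QuotientGroup.mk' _ ⟨c * g, hN ▸ mem_normalizer_iff_cj.2 (by rw [cj_mul, c2])⟩, ?_⟩
      rw [← map_cj]
      congr 1
      refine map_injective N.subtype_injective ((map_cj _ _ A).trans ?_).symm
      exact (cj_mul c g _).trans (by rw [← show _ = cj g _ from hg]; exact mem_normalizer_iff_cj.1 (centralizer_le_normalizer _ c1))
  have hK := GaloisField.card p n (by omega)
  by_cases h2 : p = 2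
  · subst h2
    have h5 := semi_cases φ hφ hs (hK ▸ hd rfl)
    rw [Sz.card_ringEquiv hK, hK] at h5
    rcases hT.two hK (by omega) with rfl | rfl | ⟨rfl, h6⟩
    · omega
    · refine .inl ⟨rfl, ⟨φ, hφ⟩, fun _ => ?_⟩
      rcases (s.comp φ).range.eq_bot_or_eq_top_of_prime_card (hp := ⟨by rw [Sz.card_ringEquiv hK]; norm_num⟩) with e | e
      exacts [.inr ((h5 (by norm_num)).1 e), .inl ((h5 (by norm_num)).2 e)]
    · exact .inr ⟨rfl, rfl, (h5 (by norm_num)).2 h6⟩
  obtain rfl : n = 3 := by
    rcases Nat.even_or_odd n with ⟨k, rfl⟩ | h3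
    · have := hT.even (k := k) (by rw [hK, two_mul])
      omega
    · have := hT.odd h2 hK h3
      omega
  exact .inl ⟨rfl, ⟨φ, hφ⟩, fun e => absurd e h2⟩

end Cfsg.Agent.S4025
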