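import Cfsg.Statements.S4044
import Cfsg.Agent.Lib.HallNum.Bwd

set_option autoImplicit false
open Cfsg

namespace Cfsg.Agent.S4044

/-- For an integer m ≥ 2 the following are equivalent: (a) every finite group whose order n is divisible by m with gcd(m, n/m) = 1 has a subgroup of order m; (b) m is a prime power, or m ≡ 2 (mod 4), or m ∈ {12, 24, 60}. -/
theorem result (m : ℕ) (hm : 2 ≤ m) :
    (∀ (G : Type) [Group G] [Finite G], m ∣ Nat.card G → m.Coprime (Nat.card G / m) →
        ∃ H : Subgroup G, Nat.card H = m) ↔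
    (IsPrimePow m ∨ m % 4 = 2 ∨ m = 12 ∨ m = 24 ∨ m = 60) := by
  constructor
  · intro h
    by_contra hc
    push Not at hc
    obtain ⟨G, _, _, h1, h2, h3⟩ := CfsgLib.HallNum.counter m hm hc.1 hc.2.1 hc.2.2.1 hc.2.2.2.1 hc.2.2.2.2
    obtain ⟨H, hH⟩ := h G h1 h2
    exact h3 H hH
  · intro h G _ _ h1 h2
    rcases h with ⟨p, k, hp, -, rfl⟩ | h | rfl | rfl | rfl
    · haveI := Fact.mk hp.nat_prime
      exact Sylow.exists_subgroup_card_pow_prime p h1
    · refine CfsgLib.HallNum.hall_sub h2 ⊤ ?_ (by rwa [Subgroup.card_top])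
      haveI := CfsgLib.HallNum.solv_of_not_four (G := G)
        (CfsgLib.HallNum.not_dvd_of_coprime h1 h2 Nat.prime_two (by omega) (by omega) ⟨2, rfl⟩)
      infer_instance
    · exact CfsgLib.HallNum.hall12 h1 h2
    · exact CfsgLib.HallNum.hall24 h1 h2
    · exact CfsgLib.HallNum.hall60 G h1 h2

end Cfsg.Agent.S4044
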