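import Cfsg.Statements.S4070
import Cfsg.Agent.Lib.DL9.Odd

set_option autoImplicit false
open Cfsg

namespace Cfsg.Agent.S4070

/-- Let G be a finite solvable group acting faithfully by additive automorphisms on a finite vector space V over the field with p elements, completely reducibly (every G-invariant subspace has a G-invariant complement). Then some vector v ∈ V has stabilizer C_G(v) of derived length at most 9; and if both #G and p are odd, some vector has abelian stabilizer. -/
theorem result {G V : Type*} [Group G] [Finite G] [Group.IsSolvable G]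
    {p : ℕ} [Fact p.Prime] [AddCommGroup V] [Module (ZMod p) V] [Finite V] [DistribMulAction G V] [FaithfulSMul G V]
    (hcr : ∀ W : Submodule (ZMod p) V, (∀ (g : G) (w : V), w ∈ W → g • w ∈ W) →
      ∃ W' : Submodule (ZMod p) V, (∀ (g : G) (w : V), w ∈ W' → g • w ∈ W') ∧ IsCompl W W') :
    (∃ v : V, derivedSeries ↥(MulAction.stabilizer G v) 9 = ⊥) ∧
    (Odd (Nat.card G) → p ≠ 2 → ∃ v : V, IsMulCommutative ↥(MulAction.stabilizer G v)) := by
  have hV : CfsgLib.Base.CR G V := fun U hU => by
    obtain ⟨W, hW, h⟩ := hcr (AddSubgroup.toZModSubmodule p U) hU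
    refine ⟨W.toAddSubgroup, hW, ?_, ?_⟩
    · exact (AddSubgroup.toZModSubmodule p).injective (by simpa using h.inf_eq_bot)
    · exact (AddSubgroup.toZModSubmodule p).injective (by simpa using h.sup_eq_top)
  have key : ∀ (k : ℕ) (v : V), CfsgLib.DL9.D k (MulAction.stabilizer G v) ≤
      CfsgLib.Base.kerA G V → derivedSeries (MulAction.stabilizer G v) k = ⊥ := fun k v h =>
    (Subgroup.map_eq_bot_iff_of_injective _ (Subgroup.subtype_injective _)).1
      ((CfsgLib.DL9.D_eq k _).symm.trans (eq_bot_iff.2 fun g hg =>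
        FaithfulSMul.eq_of_smul_eq_smul (α := V) fun u => by
          rw [CfsgLib.Base.mem_kerA.1 (h hg), one_smul]))
  refine ⟨(CfsgLib.DL9.good_nine hV).imp (key 9), fun hG hp => ?_⟩
  obtain ⟨v, hv⟩ := CfsgLib.DL9.good_odd hV hG (by
    rw [Module.natCard_eq_pow_finrank (K := ZMod p), Nat.card_zmod]
    exact ((Fact.out : p.Prime).odd_of_ne_two hp).pow)
  exact ⟨v, (commutator_eq_bot_iff _).1 (key 1 v hv)⟩

end Cfsg.Agent.S4070
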