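import Cfsg.Statements.S4113
import Cfsg.Agent.Lib.Frob.FPF
import Cfsg.Agent.Lib.Core.Basic

set_option autoImplicit false
open Cfsg

namespace Cfsg.Agent.S4113

/-- Let G be a finite group, M ≤ N non-trivial proper normal subgroups, and H a subgroup with HM = G and H ∩ M = 1. Then every element of G outside N acts fixed-point-freely on M (C_G(x) ≤ N for every x ∈ M, x ≠ 1) if and only if H ∩ gHg⁻¹ ≤ H ∩ N for every g outside H, with H proper and non-trivial and H ∩ N proper in H. -/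
theorem result {G : Type*} [Group G] [Finite G] (N M : Subgroup G) [N.Normal] [M.Normal] (hMN : M ≤ N) (hM1 : M ≠ ⊥) (hN2 : N ≠ ⊤)
    (H : Subgroup G) (hHM : H ⊔ M = ⊤) (hHM' : H ⊓ M = ⊥) :
    (∀ x ∈ M, x ≠ 1 → Subgroup.centralizer ({x} : Set G) ≤ N) ↔
      (H ≠ ⊥ ∧ H ≠ ⊤ ∧ H ⊓ N < H ∧ ∀ g : G, g ∉ H → H ⊓ H.map (MulAut.conj g).toMonoidHom ≤ N) := by
  have hdec : ∀ g : G, ∃ m ∈ M, ∃ h ∈ H, g = m * h := by
    intro g
    have : g ∈ M ⊔ H := by rw [sup_comm, hHM]; trivial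
    rw [← SetLike.mem_coe, Subgroup.normal_mul] at this
    obtain ⟨m, hm, h, hh, e⟩ := this
    exact ⟨m, hm, h, hh, e.symm⟩
  have hdisj : ∀ x ∈ H, x ∈ M → x = 1 := fun x h1 h2 =>
    Subgroup.mem_bot.1 (hHM' ▸ Subgroup.mem_inf.2 ⟨h1, h2⟩)
  constructor
  · intro h
    have hHN : ¬ H ≤ N := fun e => hN2 (top_le_iff.1 (hHM ▸ sup_le e hMN))
    refine ⟨fun e => hHN (e ▸ bot_le), fun e => hM1 (by rwa [e, top_inf_eq] at hHM'),
      inf_lt_left.2 hHN, fun g hg y hy => ?_⟩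
    obtain ⟨m, hm, k, hk, rfl⟩ := hdec g
    have hm1 : m ≠ 1 := by rintro rfl; exact hg (by simpa using hk)
    have h1 := CfsgLib.Core.mem_map_conj_iff.1 hy.2
    have h2 : m⁻¹ * y * m ∈ H := by
      have := H.mul_mem (H.mul_mem hk h1) (H.inv_mem hk)
      convert this using 1
      group
    have h3 := hdisj (m⁻¹ * y * m * y⁻¹) (H.mul_mem h2 (H.inv_mem hy.1)) (by
      have := M.mul_mem (M.inv_mem hm) (Subgroup.Normal.conj_mem inferInstance m hm y)
      convert this using 1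
      group)
    refine h m hm hm1 (Subgroup.mem_centralizer_singleton_iff.2 ?_)
    calc y * m = m * (m⁻¹ * y * m * y⁻¹) * y := by group
      _ = _ := by rw [h3, mul_one]
  · rintro ⟨-, -, -, h⟩ x hx hx1 g hg
    obtain ⟨m, hm, k, hk, rfl⟩ := hdec g
    refine N.mul_mem (hMN hm) ?_
    by_contra hkN
    have hfpf : M ⊓ Subgroup.centralizer {k} = ⊥ := by
      rw [CfsgLib.Frob.fpf_iff]
      intro u hu e
      by_contra hu1
      refine hkN (h u (fun e => hu1 (hdisj u e hu)) ⟨hk, CfsgLib.Core.mem_map_conj_iff.2 ?_⟩)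
      rwa [mul_assoc, ← e, inv_mul_cancel_left]
    obtain ⟨y, hy, e⟩ := CfsgLib.Frob.exists_conj_eq_mul_of_fpf
      (Subgroup.le_normalizer_of_normal (Subgroup.mem_top k)) hfpf hm
    have h1 := Subgroup.mem_centralizer_singleton_iff.1 hg
    rw [← e] at h1
    have h2 := CfsgLib.Frob.eq_one_of_fpf hfpf
      (Subgroup.Normal.conj_mem inferInstance x hx y⁻¹) (by
        calc y⁻¹ * x * y⁻¹⁻¹ * k = y⁻¹ * (x * (y * k * y⁻¹)) * y := by group
          _ = _ := by rw [← h1]; group)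
    exact hx1 (conj_eq_one_iff.1 h2)

end Cfsg.Agent.S4113
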