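import Cfsg.Statements.S4133
import Cfsg.Agent.Lib.WAb.Idx
import Cfsg.Agent.S0089
import Cfsg.Agent.Lib.Char.Taketa
import Cfsg.Agent.Lib.Count.Subgroups

set_option autoImplicit false
open Cfsg

namespace Cfsg.Agent.S4133

/-- Let G be a finite group all of whose Sylow subgroups are abelian, and let 2^a be the largest power of 2 dividing the size of any conjugacy class of G. If some element has a conjugacy class of size exactly 2^a, then G is solvable. -/
theorem result {G : Type*} [Group G] [Finite G]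
    (hA : ∀ (p : ℕ) [Fact p.Prime] (P : Sylow p G), IsMulCommutative (P : Subgroup G))
    (a : ℕ) (hmax : ∀ y : G, ¬ 2 ^ (a + 1) ∣ (Subgroup.centralizer ({y} : Set G)).index) (hx : ∃ x : G, (Subgroup.centralizer ({x} : Set G)).index = 2 ^ a) :
    Group.IsSolvable G := by
  obtain ⟨x, hx⟩ := hx
  obtain ⟨n, hn⟩ := CfsgLib.Char.exists_derivedSeries_perfect (G := G)
  set R := derivedSeries G n with hR
  have hRn : R.Normal := derivedSeries_normal G n
  suffices h : R = ⊥ from ⟨⟨n, h⟩⟩
  have hab : CfsgLib.Abel2.Ab2 R :=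
    CfsgLib.Abel2.Ab2.of_injective (hA 2) R.subtype R.subtype_injective
  have hp : commutator R = ⊤ := by
    apply Subgroup.map_injective R.subtype_injective
    rw [commutator_def, Subgroup.map_commutator, ← MonoidHom.range_eq_map, R.range_subtype, hn]
  have hRx : R ≤ Subgroup.centralizer ({x} : Set G) := by
    obtain ⟨j, -, hj⟩ := (Nat.dvd_prime_pow Nat.prime_two).1
      (hx ▸ CfsgLib.Fgs.relIndex_dvd_index_of_normal_right (Subgroup.centralizer ({x} : Set G)) R)
    rw [← Subgroup.subgroupOf_eq_top]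
    exact CfsgLib.WAb.perfect_eq_top hp hab hj
  have hZ : Subgroup.center R = ⊥ := by
    have := Cfsg.Agent.S0089.result (G := R) fun p hp P =>
      haveI := Fact.mk hp
      CfsgLib.Abel2.abelian_sylow_of_injective (hA p) R.subtype R.subtype_injective P
    rwa [hp, top_inf_eq] at this
  have hodd : ∀ y : R, ¬ 2 ∣ (Subgroup.centralizer ({y} : Set R)).index := by
    intro y h2
    apply hmax (x * y)
    have hxR : ∀ g : G, ∀ r ∈ R, r * (g * x * g⁻¹) = g * x * g⁻¹ * r := by
      intro g r hr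
      have := Subgroup.mem_centralizer_singleton_iff.1 (hRx (hRn.conj_mem _ hr g⁻¹))
      calc r * (g * x * g⁻¹) = g * (g⁻¹ * r * g⁻¹⁻¹ * x) * g⁻¹ := by group
        _ = g * (x * (g⁻¹ * r * g⁻¹⁻¹)) * g⁻¹ := by rw [this]
        _ = _ := by group
    have hle : Subgroup.centralizer ({x * y} : Set G) ≤
        Subgroup.centralizer ({x} : Set G) ⊓ Subgroup.centralizer ({(y : G)} : Set G) := by
      intro g hg
      rw [Subgroup.mem_centralizer_singleton_iff] at hg
      have h1 : x⁻¹ * (g * x * g⁻¹) = y * (g * (y : G)⁻¹ * g⁻¹) := by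
        calc x⁻¹ * (g * x * g⁻¹) = x⁻¹ * (g * (x * y)) * ((y : G)⁻¹ * g⁻¹) := by group
          _ = _ := by rw [hg]; group
      have h2 : (y : G) * (g * (y : G)⁻¹ * g⁻¹) ∈ R :=
        mul_mem y.2 (hRn.conj_mem _ (inv_mem y.2) g)
      have h3 : (⟨_, h2⟩ : R) ∈ Subgroup.center R := by
        rw [Subgroup.mem_center_iff]
        intro r
        apply Subtype.ext
        simp only [Subgroup.coe_mul, ← h1]
        have e1 := hxR g r r.2
        have e2 := Subgroup.mem_centralizer_singleton_iff.1 (hRx r.2)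
        calc r * (x⁻¹ * (g * x * g⁻¹)) = x⁻¹ * (x * r) * x⁻¹ * (g * x * g⁻¹) := by group
          _ = x⁻¹ * (r * (g * x * g⁻¹)) := by rw [← e2]; group
          _ = _ := by rw [e1]; group
      rw [hZ, Subgroup.mem_bot] at h3
      have h4 : (y : G) * (g * (y : G)⁻¹ * g⁻¹) = 1 := congrArg Subtype.val h3
      refine ⟨Subgroup.mem_centralizer_singleton_iff.2 ?_,
        Subgroup.mem_centralizer_singleton_iff.2 ?_⟩
      · rw [h4] at h1
        calc g * x = x * (x⁻¹ * (g * x * g⁻¹)) * g := by group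
          _ = _ := by rw [h1]; group
      · calc g * y = (y * (g * (y : G)⁻¹ * g⁻¹)) * g * y := by rw [h4]; group
          _ = _ := by group
    refine Dvd.dvd.trans ?_ (Subgroup.index_dvd_of_le hle)
    rw [← Subgroup.relIndex_mul_index (inf_le_left : _ ⊓ _ ≤ Subgroup.centralizer ({x} : Set G)),
      hx, Subgroup.inf_relIndex_left, pow_succ']
    refine Nat.mul_dvd_mul_right (h2.trans ?_) _
    rw [CfsgLib.Fgs.index_cent_subgroup]
    have := CfsgLib.Fgs.relIndex_dvd_index_of_normal_right
      ((Subgroup.centralizer ({(y : G)} : Set G)).subgroupOf (Subgroup.centralizer ({x} : Set G)))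
      (R.subgroupOf (Subgroup.centralizer ({x} : Set G)))
    rwa [Subgroup.relIndex_subgroupOf hRx] at this
  obtain ⟨P⟩ : Nonempty (Sylow 2 R) := inferInstance
  have hP : Subgroup.centralizer ((P : Subgroup R) : Set R) = ⊤ := by
    refine CfsgLib.Count.eq_top_of_forall_exists_conj_mem _ fun y => ?_
    obtain ⟨Q, hQ⟩ := CfsgLib.Fgs.exists_sylow_le_of_not_dvd_index (hodd y)
    obtain ⟨g, rfl⟩ := MulAction.exists_smul_eq R P Q
    refine ⟨g⁻¹, fun s hs => ?_⟩
    have h1 : g * s * g⁻¹ ∈ ((g • P : Sylow 2 R) : Subgroup R) := by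
      rw [Sylow.coe_subgroup_smul, CfsgLib.Core.mem_conj_smul_iff]
      have : g⁻¹ * (g * s * g⁻¹) * g = s := by group
      rw [this]; exact hs
    have h2 := Subgroup.mem_centralizer_singleton_iff.1 (hQ h1)
    calc s * (g⁻¹ * y * g⁻¹⁻¹) = g⁻¹ * (g * s * g⁻¹ * y) * g := by group
      _ = _ := by rw [h2]; group
  have hP1 : (P : Subgroup R) = ⊥ := by
    rw [eq_bot_iff, ← hZ]
    intro s hs
    rw [Subgroup.mem_center_iff]
    intro g
    exact ((hP ▸ Subgroup.mem_top g : g ∈ Subgroup.centralizer _) s hs).symm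
  have h2 := P.not_dvd_index
  rw [hP1, Subgroup.index_bot] at h2
  exact CfsgLib.Comp.eq_bot_of_perfect_of_solvable hn
    (CfsgLib.FT.odd_order_solvable (Nat.not_even_iff_odd.1 fun h => h2 (even_iff_two_dvd.1 h)))

end Cfsg.Agent.S4133
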