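import Cfsg.Statements.S4159
import Cfsg.Agent.Lib.FT.OddOrder
import Cfsg.Agent.Lib.Coprime.SchurZassenhaus
import Cfsg.Agent.S3861
import Cfsg.Agent.S3863

set_option autoImplicit false
open Cfsg

namespace Cfsg.Agent.S4159

/-- Let G be a finite group such that in every subgroup H of G, any two conjugacy classes of H of size greater than 1 have non-coprime sizes. Then G is solvable. -/
theorem result {G : Type*} [Group G] [Finite G]
    (h : ∀ (H : Subgroup G) (x y : H), 1 < (Subgroup.centralizer ({x} : Set H)).index → 1 < (Subgroup.centralizer ({y} : Set H)).index →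
      ¬ ((Subgroup.centralizer ({x} : Set H)).index).Coprime (Subgroup.centralizer ({y} : Set H)).index) : Group.IsSolvable G := by
  obtain ⟨P⟩ : Nonempty (Sylow 2 G) := inferInstance
  have hn : (P : Subgroup G).Normal := by
    apply (Cfsg.Agent.S3861.result P).1
    intro x hx1 hodd hc
    obtain ⟨t, -, ht⟩ := Cfsg.Agent.S3863.exists_two_elt x hc
    have hne : x⁻¹ ≠ x := by
      intro e
      have h2 : x ^ 2 = 1 := by rw [pow_two]; nth_rewrite 1 [← e]; exact inv_mul_cancel x
      exact hx1 (orderOf_eq_one_iff.1 (Nat.eq_one_of_dvd_coprimes hodd.coprime_two_right dvd_rfl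
        (orderOf_dvd_of_pow_eq_one h2)))
    have hnc : t * x ≠ x * t := fun e => hne (by rw [← ht, e, mul_inv_cancel_right])
    set H : Subgroup G := Subgroup.zpowers x ⊔ Subgroup.zpowers t with hH
    have hxH : x ∈ H := Subgroup.mem_sup_left (Subgroup.mem_zpowers x)
    have htH : t ∈ H := Subgroup.mem_sup_right (Subgroup.mem_zpowers t)
    let E : Subgroup G :=
      { carrier := {g | g * x * g⁻¹ = x ∨ g * x * g⁻¹ = x⁻¹}
        mul_mem' := by
          intro a b ha hb
          have e : a * b * x * (a * b)⁻¹ = a * (b * x * b⁻¹) * a⁻¹ := by group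
          have e2 : a * x⁻¹ * a⁻¹ = (a * x * a⁻¹)⁻¹ := by group
          rcases ha with ha | ha <;> rcases hb with hb | hb
          · left; rw [e, hb, ha]
          · right; rw [e, hb, e2, ha]
          · right; rw [e, hb, ha]
          · left; rw [e, hb, e2, ha, inv_inv]
        one_mem' := by simp
        inv_mem' := by
          rintro a (ha | ha)
          · left; nth_rewrite 1 [← ha]; group
          · right
            have : a * x⁻¹ * a⁻¹ = x := by
              rw [show a * x⁻¹ * a⁻¹ = (a * x * a⁻¹)⁻¹ by group, ha, inv_inv]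
            nth_rewrite 1 [← this]; group }
    have hHE : H ≤ E := sup_le (Subgroup.zpowers_le.2 (Or.inl (by group)))
      (Subgroup.zpowers_le.2 (Or.inr ht))
    have hgt : ∀ a b : H, (a : G) * b ≠ b * a → 1 < (Subgroup.centralizer ({a} : Set H)).index := by
      intro a b hab
      refine lt_of_le_of_ne (Nat.pos_of_ne_zero Subgroup.index_ne_zero_of_finite) fun e => hab ?_
      have h1 := Subgroup.index_eq_one.1 e.symm
      have h2 : b ∈ Subgroup.centralizer ({a} : Set H) := by rw [h1]; trivial
      exact (congrArg Subtype.val (Subgroup.mem_centralizer_singleton_iff.1 h2)).symm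
    apply h H ⟨x, hxH⟩ ⟨t, htH⟩ (hgt _ ⟨t, htH⟩ hnc.symm) (hgt _ ⟨x, hxH⟩ hnc)
    have h1 : (Subgroup.centralizer ({⟨x, hxH⟩} : Set H)).index ∣ 2 := by
      rw [Subgroup.index_dvd_two_iff]
      refine ⟨⟨t, htH⟩, fun b => ?_⟩
      simp only [Subgroup.mem_centralizer_singleton_iff, Subtype.ext_iff, Subgroup.coe_mul]
      rcases hHE b.2 with hb | hb
      · right; exact mul_inv_eq_iff_eq_mul.1 hb
      · left
        apply mul_inv_eq_iff_eq_mul.1
        calc (b : G) * t * x * ((b : G) * t)⁻¹ = b * (t * x * t⁻¹) * (b : G)⁻¹ := by group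
          _ = ((b : G) * x * (b : G)⁻¹)⁻¹ := by rw [ht]; group
          _ = x := by rw [hb, inv_inv]
    have h2 : (Subgroup.centralizer ({⟨t, htH⟩} : Set H)).index ∣ orderOf x := by
      have h3 : (Subgroup.zpowers t).subgroupOf H ≤ Subgroup.centralizer ({⟨t, htH⟩} : Set H) := by
        rintro ⟨a, haH⟩ ⟨k, hk⟩
        rw [Subgroup.mem_centralizer_singleton_iff]
        apply Subtype.ext
        have hk' : t ^ k = a := hk
        show a * t = t * a
        rw [← hk']; group
      refine (Subgroup.index_dvd_of_le h3).trans ?_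
      have hN : Subgroup.zpowers t ≤ Subgroup.normalizer (Subgroup.zpowers x : Set G) := by
        rw [Subgroup.zpowers_le]
        apply Subgroup.mem_normalizer_fintype
        rintro _ ⟨k, rfl⟩
        refine ⟨-k, ?_⟩
        show x ^ (-k) = t * x ^ k * t⁻¹
        rw [← conj_zpow, ht]; group
      have h4 := CfsgLib.Coprime.card_sup_mul_card_inf hN
      have h5 := CfsgLib.Coprime.card_mul_relIndex_of_le (le_sup_right : Subgroup.zpowers t ≤ H)
      rw [← hH, ← h5, mul_assoc, mul_comm (Nat.card (Subgroup.zpowers x))] at h4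
      have h6 := Nat.eq_of_mul_eq_mul_left Nat.card_pos h4
      rw [← Nat.card_zpowers, ← h6]
      exact dvd_mul_right _ _
    exact Nat.Coprime.coprime_dvd_left h1 (Nat.Coprime.coprime_dvd_right h2 hodd.coprime_two_left)
  haveI := P.2.isNilpotent
  haveI : Group.IsSolvable (G ⧸ (P : Subgroup G)) :=
    CfsgLib.FT.odd_order_solvable (Nat.odd_iff.2 (Nat.two_dvd_ne_zero.1 P.not_dvd_index))
  exact Group.isSolvable_of_ker_le_range (P : Subgroup G).subtype (QuotientGroup.mk' (P : Subgroup G)) (by simp)

end Cfsg.Agent.S4159
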