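import Cfsg.Statements.S4161
import Cfsg.Agent.Lib.ClassGr.Diam
import Cfsg.Agent.S4160

set_option autoImplicit false
open Cfsg

namespace Cfsg.Agent.S4161

open Subgroup CfsgLib CfsgLib.ClassGr CfsgLib.Fgs in
theorem key {G : Type*} [Group G] [Finite G] {p q : ℕ} (hp : p.Prime) (hq : q.Prime) (hpq : p ≠ q)
    (hp' : ∃ x : G, p ∣ ix x) (hq' : ∃ x : G, q ∣ ix x)
    (H : ∀ x y : G, p ∣ ix x → q ∣ ix y → (ix x).Coprime (ix y))
    (h2 : ∀ x : G, p ∣ ix x → ¬ 2 ∣ ix x) : Group.IsSolvable G := by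
  have := Fact.mk hp
  have := Fact.mk hq
  by_contra hG
  have hz : ∃ z : G, 2 ∣ ix z := by_contra fun h => hG (dm_odd (not_exists.1 h))
  have hp2 : p ≠ 2 := fun e => by
    obtain ⟨x, hx⟩ := hp'
    exact h2 x hx (e ▸ hx)
  rcases Cfsg.Agent.S4160.result p 2 hp Nat.prime_two hp2 hp' hz (fun x hx =>
    h2 x ((dvd_mul_right _ _).trans hx) ((dvd_mul_left _ _).trans hx)) with ⟨P, K, hK, hc⟩ | ⟨P, K, hK, hc⟩
  swap
  · refine hG (dm_solv K (FT.odd_order_solvable (Nat.not_even_iff_odd.1 fun e => ?_)) ?_)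
    · exact P.not_dvd_index (hc.index_eq_card ▸ e.two_dvd)
    · obtain ⟨n, hn⟩ := P.isPGroup'.exists_card_eq
      have := (IsPGroup.of_card (G := G ⧸ K) (hc.symm.index_eq_card.trans hn)).isNilpotent
      infer_instance
  have hKp : ¬ p ∣ Nat.card K := hc.index_eq_card ▸ P.not_dvd_index
  obtain ⟨n, hn⟩ := P.isPGroup'.exists_card_eq
  have hKn : K.index ∣ p ^ n := (hc.symm.index_eq_card.trans hn).dvd
  set σ : Set ℕ := {r | ∀ x : G, p ∣ ix x → ¬ r ∣ ix x} with hσ
  have hY : ∀ y w : G, (∃ k, y ^ p ^ k = 1) → ix y ∣ ix w → q ∣ ix w → y ∈ closure (Ys p σ G) :=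
    fun y w hy h1 h3 => subset_closure ⟨hy, fun r hr e x hx e' =>
      hr.one_lt.ne' (Nat.eq_one_of_dvd_coprimes (H x w hx h3) e' (e.trans h1))⟩
  refine hG (dm_aux (σ := σ) h2 _ G rfl ⟨⟨K, hK, hKp, n, hKn⟩, fun x hx r hr => hr x hx, fun y hy => ?_⟩ hp')
  obtain ⟨S, hS⟩ := dm_sylow hy
  by_cases hv : ∃ v ∈ K, q ∣ ix v
  · obtain ⟨v, hv, hvq⟩ := hv
    obtain ⟨g, hg⟩ := dm_conj (x := v) (fun e =>
      hq.one_lt.ne' (Nat.eq_one_of_dvd_coprimes (H v v e hvq) hvq hvq)) S
    have h1 : Commute (g * v * g⁻¹) y := (hg y hS).symm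
    have h3 := dm_coprime hKp (hK.conj_mem v hv g) hy
    refine hY y _ hy (dm_ix_right h1 h3) (Dvd.dvd.trans ?_ (dm_ix_left h1 h3))
    rwa [ix, index_cent_conj]
  · push Not at hv
    obtain ⟨Q⟩ : Nonempty (Sylow q G) := inferInstance
    have hQK : (Q : Subgroup G) ≤ K := fun u hu => by
      obtain ⟨k, hk⟩ := dm_pow Q.isPGroup' hu
      rw [← QuotientGroup.eq_one_iff, ← orderOf_eq_one_iff]
      exact Nat.eq_one_of_dvd_coprimes (((Nat.coprime_primes hq hp).2 hpq.symm).pow k n)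
        ((orderOf_map_dvd (QuotientGroup.mk' K) u).trans (orderOf_dvd_of_pow_eq_one hk))
        ((_root_.orderOf_dvd_natCard _).trans hKn)
    set C := centralizer ((Q : Subgroup G) : Set G) with hC
    have hKC : K ≤ C := fun k hk u hu => by
      obtain ⟨j, hj⟩ := dm_pow Q.isPGroup' hu
      have := mem_center_iff.1 (dm_central (G := K) (p := q) (y := ⟨u, hQK hu⟩)
        (fun x e => hv x x.2 (e.trans (index_cent_normal_dvd K x))) ⟨j, Subtype.ext hj⟩) ⟨k, hk⟩
      exact (congrArg Subtype.val this).symm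
    have hQ : (Q : Subgroup G).Normal := normalizer_eq_top_iff.1 (by
      rw [← Q.normalizer_sup_eq_top' hQK]
      exact (sup_eq_left.2 (hKC.trans (centralizer_le_normalizer _))).symm)
    have hq1 : ∀ x : G, x ∉ C → q ∣ ix x := fun x hx => by_contra fun e => by
      obtain ⟨g, hg⟩ := dm_conj e Q
      exact hx (by simpa [mul_assoc] using (inferInstance : C.Normal).conj_mem _ hg g⁻¹)
    obtain ⟨u, hu, huC⟩ : ∃ u ∈ (S : Subgroup G), u ∉ C := by
      refine SetLike.not_le_iff_exists.1 fun e => ?_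
      obtain ⟨j, -, hj⟩ := (Nat.dvd_prime_pow hp).1 ((index_dvd_of_le hKC).trans hKn)
      have h1 : j = 0 := by_contra fun e' =>
        not_dvd_index_of_sylow_le S e (hj ▸ dvd_pow_self p e')
      have h3 : C = ⊤ := index_eq_one.1 (by rw [hj, h1, pow_zero])
      obtain ⟨x, hx⟩ := hq'
      exact not_dvd_index_of_sylow_le Q (fun w hw => mem_cent_iff.2 (h3.ge (mem_top x) w hw).symm) hx
    by_cases hyC : y ∈ C
    · have h1 := hY (y * u) _ (dm_pow S.isPGroup' (mul_mem hS hu)) dvd_rfl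
        (hq1 _ fun e => huC ((C.mul_mem_cancel_left hyC).1 e))
      have h3 := hY u _ (dm_pow S.isPGroup' hu) dvd_rfl (hq1 _ huC)
      simpa using mul_mem h1 (inv_mem h3)
    · exact hY y y hy dvd_rfl (hq1 y hyC)

/-- Let G be a finite non-solvable group and p ≠ q primes each dividing the size of some conjugacy class of G. Then either some class size is divisible by pq, or there is a prime r, different from p and q, such that some class size is divisible by pr and some class size is divisible by rq. -/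
theorem result {G : Type*} [Group G] [Finite G] (hG : ¬ Group.IsSolvable G)
    (p q : ℕ) (hp : p.Prime) (hq : q.Prime) (hpq : p ≠ q) (hp' : ∃ x : G, p ∣ (Subgroup.centralizer ({x} : Set G)).index) (hq' : ∃ x : G, q ∣ (Subgroup.centralizer ({x} : Set G)).index) :
    (∃ x : G, p * q ∣ (Subgroup.centralizer ({x} : Set G)).index) ∨ ∃ r : ℕ, r.Prime ∧ r ≠ p ∧ r ≠ q ∧ (∃ x : G, p * r ∣ (Subgroup.centralizer ({x} : Set G)).index) ∧ (∃ y : G, r * q ∣ (Subgroup.centralizer ({y} : Set G)).index) := by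
  by_contra hcon
  push Not at hcon
  obtain ⟨h1, h2⟩ := hcon
  have H : ∀ x y : G, p ∣ (Subgroup.centralizer ({x} : Set G)).index →
      q ∣ (Subgroup.centralizer ({y} : Set G)).index →
      (Subgroup.centralizer ({x} : Set G)).index.Coprime (Subgroup.centralizer ({y} : Set G)).index := by
    intro x y hx hy
    have hc := (Nat.coprime_primes hp hq).2 hpq
    refine Nat.coprime_of_dvd fun r hr e e' => ?_
    by_cases hrp : r = p
    · exact h1 y (hc.mul_dvd_of_dvd_of_dvd (hrp ▸ e') hy)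
    by_cases hrq : r = q
    · exact h1 x (hc.mul_dvd_of_dvd_of_dvd hx (hrq ▸ e))
    exact h2 r hr hrp hrq ⟨x, ((Nat.coprime_primes hp hr).2 (Ne.symm hrp)).mul_dvd_of_dvd_of_dvd hx e⟩ y
      (((Nat.coprime_primes hr hq).2 hrq).mul_dvd_of_dvd_of_dvd e' hy)
  by_cases h : ∃ x : G, p ∣ (Subgroup.centralizer ({x} : Set G)).index ∧
      2 ∣ (Subgroup.centralizer ({x} : Set G)).index
  · obtain ⟨x, hx, hx2⟩ := h
    exact hG (key hq hp hpq.symm hq' hp' (fun a b ha hb => (H b a hb ha).symm) fun y hy e =>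
      absurd (Nat.eq_one_of_dvd_coprimes (H x y hx hy) hx2 e) (by norm_num))
  · exact hG (key hp hq hpq hp' hq' H fun x hx e => h ⟨x, hx, e⟩)

end Cfsg.Agent.S4161
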