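import Cfsg.Statements.S4185
import Cfsg.Agent.Lib.Adj.Main
import Cfsg.Agent.Lib.Adj.FamC

set_option autoImplicit false
open Cfsg

namespace Cfsg.Agent.S4185

open Subgroup CfsgLib CfsgLib.Adj

theorem prime_of_lie {K : Type*} [Group K] {r : ℕ} (h : IsLieTypeChar r K) : r.Prime := by
  obtain ⟨F, _, _, _, -⟩ | ⟨F, _, _, _, -⟩ | ⟨F, _, _, _, -⟩ | ⟨F, _, _, _, -⟩ | ⟨F, _, _, _, -⟩ | ⟨F, _, _, _, -⟩ |
    ⟨F, _, _, _, -⟩ | ⟨F, _, _, _, -⟩ | ⟨rfl, -⟩ | ⟨rfl, -⟩ | ⟨rfl, -⟩ := h
  iterate 8 exact CharP.char_is_prime F r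
  exacts [Nat.prime_two, Nat.prime_two, Nat.prime_three]

theorem adj_of_equiv {K L : Type*} [Group K] [Group L] (e : K ≃* L) (h : Adj L) : Adj K := fun X hX => by
  obtain ⟨X', ⟨f⟩, k⟩ := exists_tr e X
  obtain ⟨r, h1, h2, h3, h4⟩ := h X' fun k => hX (f.isCyclic.2 k)
  rw [Nat.card_congr e.toEquiv, Nat.card_congr f.toEquiv]
  exact ⟨r, h1, h2, h3.imp_left fun k => k.of_equiv f.symm, fun s h5 h6 h7 => k _ (h4 s h5 h6 h7)⟩

/-- Let G be a finite group with normal subgroups K < H such that K is nilpotent and contains every solvable normal subgroup of G, H/K is a simple group of Lie type (in some characteristic p) and the centralizer of H/K in G/K is trivial. If G/H is not cyclic, then some prime r dividing #(G/H) is adjacent to every other vertex of the prime graph of G: for every prime s ≠ r dividing #G there is an element of order rs. -/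
theorem result {G : Type*} [Group G] [Finite G]
    (K H : Subgroup G) [K.Normal] [H.Normal] (hKH : K < H)
    (hrad : ∀ M : Subgroup G, M.Normal → Group.IsSolvable ↥M → M ≤ K) (hK : Group.IsNilpotent ↥K)
    (p : ℕ) (hS : IsSimpleGroup (↥H ⧸ K.subgroupOf H)) (hS' : Cfsg.IsLieTypeChar p (↥H ⧸ K.subgroupOf H))
    (hC : Subgroup.centralizer ((H.map (QuotientGroup.mk' K) : Subgroup (G ⧸ K)) : Set (G ⧸ K)) = ⊥)
    (hnc : ¬ IsCyclic (G ⧸ H)) :
    ∃ r : ℕ, r.Prime ∧ r ∣ Nat.card (G ⧸ H) ∧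
      ∀ s : ℕ, s.Prime → s ∣ Nat.card G → s ≠ r → ∃ g : G, orderOf g = r * s := by
  have := Fact.mk (prime_of_lie hS')
  let φ := (QuotientGroup.mk' K).subgroupMap H
  have e : (H ⧸ K.subgroupOf H) ≃* H.map (QuotientGroup.mk' K) := (QuotientGroup.quotientMulEquivOfEq (by
    ext x
    exact ((Subtype.ext_iff (a1 := φ x) (a2 := 1)).trans (QuotientGroup.eq_one_iff (N := K) x.1)).symm)).trans
    (QuotientGroup.quotientKerEquivOfSurjective φ ((QuotientGroup.mk' K).subgroupMap_surjective H))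
  have := e.symm.isSimpleGroup
  have := (inferInstance : H.Normal).map _ (QuotientGroup.mk'_surjective K)
  have h1 : center (H.map (QuotientGroup.mk' K)) = ⊥ := eq_bot_iff.2 fun z hz => Subtype.ext
    (mem_bot.1 (hC ▸ fun y hy => congrArg Subtype.val (mem_center_iff.1 hz ⟨y, hy⟩)))
  have h2 : 2 ∣ Nat.card (H ⧸ K.subgroupOf H) := by
    obtain ⟨D, ⟨f⟩, -⟩ := LieAll.exists_mdl hS'
    have := D.good.ne
    exact Nat.card_congr f.toEquiv ▸ (NoPQ.op_iff_dvd Nat.prime_two).1 (NoPQ.op_two D.good.tw)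
  have h3 : (H.map (QuotientGroup.mk' K)).comap (QuotientGroup.mk' K) = H :=
    comap_map_eq_self ((QuotientGroup.ker_mk' K).le.trans hKH.le)
  have h4 := main (QuotientGroup.mk'_surjective K) ((QuotientGroup.ker_mk' K).symm ▸ hK) _ hC
    ((inferInstance : (commutator _).Normal).eq_bot_or_eq_top.resolve_left fun k => bot_ne_top
      (h1.symm.trans (center_eq_top_iff.2 ((commutator_eq_bot_iff _).1 k)))) (Nat.card_congr e.toEquiv ▸ h2)
    (adj_of_equiv e.symm (adj_of_fam (eq_bot_iff.2 fun z hz => e.injective ((mem_bot.1 (h1 ▸ mem_center_iff.2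
      fun y => by simpa using congrArg e (mem_center_iff.1 hz (e.symm y)))).trans (map_one e).symm)) h2
      (fam_lie h2 hS'))) fun k => hnc ((QuotientGroup.quotientMulEquivOfEq h3).isCyclic.1 k)
  rwa [h3] at h4

end Cfsg.Agent.S4185
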