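import Cfsg.Statements.S4193
import Cfsg.Agent.Lib.ClassSz.Four
import Cfsg.Agent.Lib.Core.Frattini
import Cfsg.Agent.Lib.Transfer.Frobenius
import Cfsg.Agent.Lib.BGI.Stable
import Cfsg.Agent.S3861

set_option autoImplicit false
open Cfsg
open scoped commutatorElement

namespace Cfsg.Agent.S4193

/-- Let G be a finite group in which the conjugacy classes of all non-central real elements (elements conjugate to their inverses) have sizes with the same 2-part, and suppose G has a Sylow 2-subgroup S such that every element of S that is conjugate in S to its inverse lies in the centre of S. Then G is solvable and the subgroup generated by the 2-elements of G (the smallest normal subgroup of odd index) has a normal 2-complement. -/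
theorem result {G : Type*} [Group G] [Finite G] (a : ℕ) (h : ∀ x : G, IsConj x x⁻¹ → x ∉ Subgroup.center G → ((Subgroup.centralizer ({x} : Set G)).index).factorization 2 = a) (S : Sylow 2 G) (hS : ∀ s : ↥(S : Subgroup G), IsConj s s⁻¹ → s ∈ Subgroup.center ↥(S : Subgroup G)) : Group.IsSolvable G ∧ Cfsg.HasNormalPComplement 2 ↥(Subgroup.closure {g : G | ∃ k : ℕ, orderOf g = 2 ^ k}) := by
  open Subgroup CfsgLib.Core CfsgLib.Fgs in
    by_cases hinv : ∀ t : G, t ^ 2 = 1 → t ∈ center G
    · have hN : Cfsg.HasNormalPComplement 2 G := by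
        refine CfsgLib.Transfer.frobenius_of_forall_centralizer S fun Q hQP hQ1 a ha hodd => ?_
        clear hQ1
        induction Q using WellFoundedLT.induction with
        | ind Q ih =>
        have hQ : IsPGroup 2 Q := S.isPGroup'.to_le hQP
        by_cases hQ1 : Q = ⊥
        · intro y hy
          rw [hQ1] at hy
          rw [mem_bot.1 hy, one_mul, mul_one]
        have h1 := ih _ (map_frattini_lt hQ1) ((map_subtype_le _).trans hQP)
          (normalizer_le_normalizer_map_frattini Q ha)
        intro x hx
        have h2 : x ^ 2 * a = a * x ^ 2 := h1 _ (pow_mem_map_frattini hQ hx)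
        have hw : ⁅a, x⁆ ∈ Q := by
          rw [commutatorElement_def]
          exact Q.mul_mem ((mem_normalizer_iff.1 ha x).1 hx) (Q.inv_mem hx)
        have h4 : x⁻¹ * ⁅a, x⁆ * x⁻¹⁻¹ = ⁅a, x⁆⁻¹ := by
          rw [commutatorElement_def]
          calc x⁻¹ * (a * x * a⁻¹ * x⁻¹) * x⁻¹⁻¹ = x⁻¹ * (a * x ^ 2) * x⁻¹ * a⁻¹ := by group
            _ = (a * x * a⁻¹ * x⁻¹)⁻¹ := by rw [← h2]; group
        have h5 := hS ⟨_, hQP hw⟩ (isConj_iff.2 ⟨⟨x, hQP hx⟩⁻¹, Subtype.ext h4⟩)
        have h6 : x⁻¹ * ⁅a, x⁆ = ⁅a, x⁆ * x⁻¹ :=
          congrArg Subtype.val (mem_center_iff.1 h5 ⟨x, hQP hx⟩⁻¹)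
        have h7 : ⁅a, x⁆ ^ 2 = 1 := by
          rw [h6, mul_assoc, mul_inv_cancel, mul_one] at h4
          rw [pow_two]
          nth_rewrite 1 [h4]
          exact inv_mul_cancel _
        have h3 := hinv _ h7
        refine (CfsgLib.BGI.commute_of_commute_commutator (mem_center_iff.1 h3 a) ?_).symm.eq
        exact Nat.Coprime.coprime_dvd_right (orderOf_dvd_of_pow_eq_one h7) hodd
      refine ⟨?_, CfsgLib.Transfer.hasNormalPComplement_subgroup hN _⟩
      obtain ⟨N, hNn, h1, h2⟩ := CfsgLib.Transfer.hasNormalPComplement_iff_exists_normal.1 hN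
      have := CfsgLib.FT.odd_order_solvable (Nat.coprime_two_right.1 h1)
      have := h2.isNilpotent
      exact Group.isSolvable_of_ker_le_range N.subtype (QuotientGroup.mk' N) (by simp)
    · push Not at hinv
      obtain ⟨t, ht, htZ⟩ := hinv
      have ht2 : ∃ k, orderOf t = 2 ^ k := by
        obtain ⟨j, -, hj⟩ := (Nat.dvd_prime_pow Nat.prime_two (m := 1)).1
          (orderOf_dvd_of_pow_eq_one (by simpa using ht))
        exact ⟨j, hj⟩
      have htinv : t⁻¹ = t := by
        rw [inv_eq_iff_mul_eq_one, ← pow_two, ht]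
      have ha : a = 0 := by
        rw [← h t (by rw [htinv]) htZ]
        obtain ⟨g, hg⟩ := CfsgLib.ClassSz.exists_conj_mem_sylow S ht2
        have h5 := hS ⟨_, hg⟩ (by
          have : (⟨_, hg⟩ : (S : Subgroup G))⁻¹ = ⟨_, hg⟩ := Subtype.ext (by
            simp only [InvMemClass.coe_inv, conj_inv, htinv])
          rw [this])
        rw [← index_cent_conj t g]
        refine Nat.factorization_eq_zero_of_not_dvd (not_dvd_index_of_sylow_le S fun s hs => ?_)
        exact mem_cent_iff.2 (congrArg Subtype.val (mem_center_iff.1 h5 ⟨s, hs⟩)).symm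
      have hn : (S : Subgroup G).Normal := by
        refine (Cfsg.Agent.S3861.result S).1 fun x hx1 hodd hc => hx1 ?_
        refine eq_one_of_odd_index_of_isConj_inv x hodd ?_ hc
        by_cases hxZ : x ∈ center G
        · rw [index_cent_eq_one_iff.2 hxZ]; exact odd_one
        · have h1 := h x hc hxZ
          rw [ha, Nat.factorization_eq_zero_iff] at h1
          rcases h1 with h1 | h1 | h1
          · exact absurd Nat.prime_two h1
          · exact Nat.not_even_iff_odd.1 fun h2 => h1 (even_iff_two_dvd.1 h2)
          · exact absurd h1 FiniteIndex.index_ne_zero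
      constructor
      · have := CfsgLib.FT.odd_order_solvable (G := G ⧸ (S : Subgroup G))
          (Nat.not_even_iff_odd.1 fun h2 => S.not_dvd_index (even_iff_two_dvd.1 h2))
        have := S.isPGroup'.isNilpotent
        exact Group.isSolvable_of_ker_le_range (S : Subgroup G).subtype
          (QuotientGroup.mk' (S : Subgroup G)) (by simp)
      · refine CfsgLib.Transfer.hasNormalPComplement_of_isPGroup (S.isPGroup'.to_le ?_)
        rw [closure_le]
        intro g hg
        obtain ⟨c, hc⟩ := CfsgLib.ClassSz.exists_conj_mem_sylow S hg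
        have := hn.conj_mem _ hc c⁻¹
        change g ∈ (S : Subgroup G)
        simpa only [mul_assoc, inv_inv, inv_mul_cancel_left, inv_mul_cancel, mul_one] using this

end Cfsg.Agent.S4193
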