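import Cfsg.Statements.S4236
import Cfsg.Agent.Lib.SylNum.Basic
import Cfsg.Agent.S4343

set_option autoImplicit false
open Cfsg

namespace Cfsg.Agent.S4236

open Subgroup MulAction CfsgLib.SylNum CfsgLib.PSL2Rec

theorem simple_case {S : Type*} [Group S] [Finite S] [IsSimpleGroup S] :
    Nat.card (Sylow 17 S) ≠ 35 := by
  intro h
  have : Fact (Nat.Prime 17) := ⟨by norm_num⟩
  have h1 : Nat.card (Sylow 17 S) ≠ 1 := by omega
  have hnc := not_comm_of_card_sylow h1
  have hnp := not_prime_of_not_comm hnc
  have h7 := dvd_card_of_card_sylow h1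
  obtain ⟨P⟩ : Nonempty (Sylow 17 S) := inferInstance
  have hP := Cfsg.Agent.S4343.result hnc 17 h7 (by omega) P
  have hc : IsMulCommutative (P : Subgroup S) := (isCyclic_of_prime_card hP).isMulCommutative
  have hPC : (P : Subgroup S) ≤ centralizer ((P : Subgroup S) : Set S) := le_centralizer _
  have hC : Nat.card (centralizer ((P : Subgroup S) : Set S)) = 17 := by
    rw [← CfsgLib.SmallSimple.card_mul_relIndex hPC, hP]
    suffices (P : Subgroup S).relIndex (centralizer ((P : Subgroup S) : Set S)) = 1 by rw [this]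
    by_contra hne
    obtain ⟨r, hr, hd⟩ := Nat.exists_prime_and_dvd hne
    have hr7 : r ≠ 17 := by
      rintro rfl
      exact P.not_dvd_index (hd.trans (relIndex_dvd_index_of_le hPC))
    obtain ⟨c, hc, hcr⟩ := exists_mem_orderOf_eq_prime _ hr (hd.trans (relIndex_dvd_card _ _))
    have := Fact.mk hr
    have f1 := card_fixedBy_mod_of_mem_centralizer P hc
    have f2 := card_fixedBy_sylow_lt h1 (ne_one_of_orderOf_prime hr hcr)
    have f3 := card_fixedBy_modEq (X := Sylow 17 S) (p := r) (k := 1) (x := c)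
      (by rw [pow_one, ← hcr, pow_orderOf_eq_one])
    rw [h] at f2 f3
    have f4 := (Nat.modEq_iff_dvd' f2.le).1 f3.symm
    have f5 : Nat.card (fixedBy (Sylow 17 S) c) = 1 ∨ Nat.card (fixedBy (Sylow 17 S) c) = 18 := by
      omega
    rcases f5 with f5 | f5
    · rw [f5] at f4
      have : r = 2 := by
        rcases (Nat.Prime.dvd_mul hr).1 (show r ∣ 2 * 17 from f4) with h | h
        · exact (Nat.prime_dvd_prime_iff_eq hr Nat.prime_two).1 h
        · exact absurd ((Nat.prime_dvd_prime_iff_eq hr (by norm_num)).1 h) hr7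
      subst this
      have := simple_involution_moved hnp (Sylow 17 S) (x := c) (by rw [← hcr, pow_orderOf_eq_one])
      rw [h, f5] at this
      exact absurd this (by decide)
    · rw [f5] at f4
      exact hr7 ((Nat.prime_dvd_prime_iff_eq hr (by norm_num)).1 f4)
  have e1 := card_centralizer_mul_relIndex (P : Subgroup S)
  have e3 := CfsgLib.SmallSimple.one_lt_relIndex_centralizer hnc P h7
  have e2 := relIndex_centralizer_dvd_of_prime (P : Subgroup S) hP
  have e4 : (normalizer ((P : Subgroup S) : Set S)).index = 35 :=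
    h ▸ P.card_eq_index_normalizer.symm
  have h2 : 2 ∣ Nat.card S := by
    refine Dvd.dvd.trans ?_ (card_subgroup_dvd_card (normalizer ((P : Subgroup S) : Set S)))
    rw [← e1]
    obtain ⟨i, -, hi⟩ := (Nat.dvd_prime_pow Nat.prime_two (m := 4)).mp e2
    rw [hi] at e3 ⊢
    exact (dvd_pow_self 2 (by rintro rfl; simp at e3)).mul_left _
  obtain ⟨T⟩ : Nonempty (Sylow 2 (normalizer ((P : Subgroup S) : Set S))) := inferInstance
  have hT : IsCyclic (T : Subgroup (normalizer ((P : Subgroup S) : Set S))) := by
    haveI := isCyclic_of_prime_card hP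
    haveI : IsCyclic (MulAut (P : Subgroup S)) := by
      haveI : Fact (Nat.card (P : Subgroup S)).Prime := ⟨by rw [hP]; norm_num⟩
      exact isCyclic_of_injective (IsCyclic.mulAutMulEquiv (P : Subgroup S)).toMonoidHom
        (IsCyclic.mulAutMulEquiv (P : Subgroup S)).injective
    refine isCyclic_of_injective (((P : Subgroup S).normalizerMonoidHom).comp (Subgroup.subtype _))
      ((injective_iff_map_eq_one _).mpr fun x hx => ?_)
    have a1 : (x : normalizer ((P : Subgroup S) : Set S)) ∈
        ((P : Subgroup S).normalizerMonoidHom).ker := hx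
    rw [Subgroup.normalizerMonoidHom_ker, Subgroup.mem_subgroupOf] at a1
    have a2 := Subgroup.orderOf_dvd_natCard _ a1
    rw [hC, Subgroup.orderOf_coe, Subgroup.orderOf_coe] at a2
    obtain ⟨k, hk⟩ := IsPGroup.iff_orderOf.mp T.isPGroup' x
    exact orderOf_eq_one_iff.mp (Nat.eq_one_of_dvd_coprimes
      (Nat.Coprime.pow_left k (by norm_num : Nat.Coprime 2 17)) (hk ▸ dvd_rfl) a2)
  have hT2 : IsPGroup 2 ((T : Subgroup (normalizer ((P : Subgroup S) : Set S))).map
    (Subgroup.subtype _)) := T.isPGroup'.map _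
  have hT3 : ¬ 2 ∣ ((T : Subgroup (normalizer ((P : Subgroup S) : Set S))).map
      (Subgroup.subtype _)).index := by
    rw [Subgroup.index_map_subtype, e4]
    intro a
    rcases (Nat.Prime.dvd_mul Nat.prime_two).mp a with a | a
    · exact T.not_dvd_index a
    · omega
  have hc2 : IsCyclic ((hT2.toSylow hT3 : Sylow 2 S) : Subgroup S) :=
    isCyclic_of_surjective ((T : Subgroup (normalizer ((P : Subgroup S) : Set S))).equivMapOfInjective
      _ (Subgroup.subtype_injective _)) (MulEquiv.surjective _)
  exact CfsgLib.SmallSimple.not_normalizer_le_centralizer hnc _ h2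
    (hc2.normalizer_le_centralizer ((Nat.minFac_eq_two_iff _).2 h2))


/-- No finite group has exactly 35 Sylow 17-subgroups. -/
theorem result {G : Type*} [Group G] [Finite G] : Nat.card (Sylow 17 G) ≠ 35 := by
  intro h
  have : Fact (Nat.Prime 17) := ⟨by norm_num⟩
  obtain ⟨S, _, _, hS, h2⟩ := exists_simple_of_card_sylow h (by norm_num) (by
    rintro ⟨q, k, hq, hk, e⟩
    have h3 : (7 : ℕ) = q := (Nat.prime_dvd_prime_iff_eq Nat.prime_seven hq.nat_prime).1
      (Nat.prime_seven.dvd_of_dvd_pow (n := k) (by rw [e]; norm_num))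
    have h5 : (5 : ℕ) = q := (Nat.prime_dvd_prime_iff_eq Nat.prime_five hq.nat_prime).1
      (Nat.prime_five.dvd_of_dvd_pow (n := k) (by rw [e]; norm_num))
    omega) (by
    intro m hm h7
    have : m ≤ 35 := Nat.le_of_dvd (by norm_num) hm
    interval_cases m <;> simp_all)
  exact simple_case h2


end Cfsg.Agent.S4236
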