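import Cfsg.Statements.S4245
import Cfsg.Agent.Lib.SolvStruct.Kegel
import Cfsg.Agent.Lib.Core.SolvCriteria
import Cfsg.Agent.S4037
import Cfsg.Agent.Lib.Fgs.ClassSize
import Cfsg.Agent.Lib.FT.OddOrder
import Cfsg.Agent.Lib.Invol.SylowElem

set_option autoImplicit false
open Cfsg

namespace Cfsg.Agent.S4245

universe u

theorem solv_of_normal {G : Type*} [Group G] (N : Subgroup G) [N.Normal] (h1 : Group.IsSolvable N)
    (h2 : Group.IsSolvable (G ⧸ N)) : Group.IsSolvable G :=
  Group.isSolvable_of_ker_le_range N.subtype (QuotientGroup.mk' N) (by simp)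

theorem aux (p : ℕ) (hp : p.Prime) (n : ℕ) : ∀ (G : Type u) [Group G] [Finite G], Nat.card G = n →
    ∀ (A : Subgroup G) (s : ℕ), A.index = p ^ s → ∀ (B : Subgroup A) [B.Normal], IsCyclic B →
      IsCyclic (A ⧸ B) → IsPGroup 2 (A ⧸ B) → Group.IsSolvable G := by
  induction n using Nat.strong_induction_on with
  | _ n ih =>
  intro G _ _ hn A s hA B _ hB hAB h2
  obtain ⟨S⟩ : Nonempty (Sylow 2 G) := inferInstance
  obtain ⟨r, hr⟩ := h2.exists_card_eq
  by_cases hp2 : p = 2
  · subst hp2
    have hi : (B.map A.subtype).index = 2 ^ (r + s) := by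
      rw [Subgroup.index_map_subtype, hA, pow_add, ← hr]
      rfl
    have hc : (B.map A.subtype).index.Coprime (S : Subgroup G).index := by
      rw [hi]
      exact Nat.Coprime.pow_left _ ((Nat.Prime.coprime_iff_not_dvd Nat.prime_two).2 S.not_dvd_index)
    have : IsCyclic (B.map A.subtype) :=
      isCyclic_of_surjective _ (B.equivMapOfInjective A.subtype A.subtype_injective).surjective
    exact (CfsgLib.Core.isFactor_of_coprime_index hc).isSolvable_of_isNilpotent
      (by letI := IsCyclic.commGroup (α := B.map A.subtype); exact CommGroup.isNilpotent)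
      S.2.isNilpotent
  have hAodd : ¬ 2 ∣ A.index := by
    rw [hA]
    intro h
    exact hp2 ((Nat.prime_dvd_prime_iff_eq Nat.prime_two hp).1
      (Nat.prime_two.dvd_of_dvd_pow h)).symm
  by_cases hBe : 2 ∣ Nat.card B
  · obtain ⟨t, ht⟩ := exists_prime_orderOf_dvd_card' (G := B) 2 hBe
    -- `t` is the unique involution of `B`, so it is central in `A`
    have huniq : ∀ y : B, orderOf y = 2 → y = t := by
      intro y hy
      classical
      have := Fintype.ofFinite B
      have h1 := IsCyclic.card_orderOf_eq_totient (α := B) (d := 2)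
        (by rwa [← Nat.card_eq_fintype_card])
      rw [Nat.totient_two, Finset.card_eq_one] at h1
      obtain ⟨z, hz⟩ := h1
      have hy' : y ∈ ({z} : Finset B) := by rw [← hz]; simp [hy]
      have ht' : t ∈ ({z} : Finset B) := by rw [← hz]; simp [ht]
      rw [Finset.mem_singleton] at hy' ht'
      rw [hy', ht']
    set x : G := ((t : A) : G) with hx
    have hle : A ≤ Subgroup.centralizer {x} := by
      intro g hg
      rw [Subgroup.mem_centralizer_singleton_iff]
      have hm : (⟨g, hg⟩ : A) * (t : A) * (⟨g, hg⟩ : A)⁻¹ ∈ B :=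
        (inferInstance : B.Normal).conj_mem _ t.2 _
      have ho : orderOf (⟨_, hm⟩ : B) = 2 := by
        rw [← Subgroup.orderOf_coe, ← ht, ← Subgroup.orderOf_coe t]
        exact MulEquiv.orderOf_eq (MulAut.conj (⟨g, hg⟩ : A)) (t : A)
      have := congrArg (fun z : B => ((z : A) : G)) (huniq _ ho)
      simp only [Subgroup.coe_mul, Subgroup.coe_inv] at this
      rw [← hx] at this
      rw [mul_inv_eq_iff_eq_mul] at this
      exact this
    have hd : (Subgroup.centralizer {x}).index ∣ p ^ s := hA ▸ Subgroup.index_dvd_of_le hle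
    obtain ⟨k, -, hk⟩ := (Nat.dvd_prime_pow hp).1 hd
    have hN := Cfsg.Agent.S4037.result x hp k (by rw [CfsgLib.Fgs.ncard_carrier_eq_index, hk])
    set N := Subgroup.normalClosure ({x} : Set G) with hNdef
    have hN1 : N ≠ ⊥ := by
      intro h
      have hxN : x ∈ N := Subgroup.subset_normalClosure rfl
      rw [h, Subgroup.mem_bot] at hxN
      have : t = 1 := Subtype.ext (Subtype.ext hxN)
      rw [this, orderOf_one] at ht
      omega
    refine solv_of_normal N hN ?_
    let π := QuotientGroup.mk' N
    let f : A →* A.map π := π.subgroupMap A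
    have hf : Function.Surjective f := π.subgroupMap_surjective A
    have hBn : (B.map f).Normal := Subgroup.Normal.map inferInstance f hf
    have hd' : (A.map π).index ∣ p ^ s := hA ▸ A.index_map_dvd (QuotientGroup.mk'_surjective N)
    obtain ⟨s', -, hs'⟩ := (Nat.dvd_prime_pow hp).1 hd'
    have hq : Function.Surjective (QuotientGroup.map B (B.map f) f (Subgroup.le_comap_map f B)) :=
      QuotientGroup.map_surjective_of_surjective _ _ _ (QuotientGroup.mk_surjective.comp hf) _
    exact ih _ (hn ▸ CfsgLib.Core.card_quotient_lt_of_ne_bot hN1) (G ⧸ N) rfl (A.map π) s' hs'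
      (B.map f) (isCyclic_of_surjective _ (f.subgroupMap_surjective B))
      (isCyclic_of_surjective _ hq) (h2.of_surjective _ hq)
  · -- the Sylow `2`-subgroups are cyclic
    obtain ⟨T⟩ : Nonempty (Sylow 2 A) := inferInstance
    have hT : IsCyclic (T : Subgroup A) := by
      apply isCyclic_of_injective ((QuotientGroup.mk' B).comp (T : Subgroup A).subtype)
      rw [injective_iff_map_eq_one]
      intro y hy
      have hyB : (y : A) ∈ B := (QuotientGroup.eq_one_iff _).1 hy
      have : (T : Subgroup A) ⊓ B = ⊥ := CfsgLib.Core.isPGroup_inf_eq_bot_of_coprime T.2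
        ((Nat.Prime.coprime_iff_not_dvd Nat.prime_two).2 hBe).symm
      have h1 : (y : A) ∈ (T : Subgroup A) ⊓ B := ⟨y.2, hyB⟩
      rw [this, Subgroup.mem_bot] at h1
      exact Subtype.ext h1
    have hTp : IsPGroup 2 ((T : Subgroup A).map A.subtype) := T.2.map _
    have hTi : ¬ 2 ∣ ((T : Subgroup A).map A.subtype).index := by
      rw [Subgroup.index_map_subtype]
      intro h
      rcases (Nat.Prime.dvd_mul Nat.prime_two).1 h with h | h
      · exact T.not_dvd_index h
      · exact hAodd h
    let Q : Sylow 2 G := hTp.toSylow hTi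
    have hQ : IsCyclic (Q : Subgroup G) :=
      isCyclic_of_surjective _ ((T : Subgroup A).equivMapOfInjective A.subtype
        A.subtype_injective).surjective
    obtain ⟨N, hNn, hNc⟩ := CfsgLib.Invol.exists_normal_complement_of_isCyclic Q hQ
    refine solv_of_normal N (CfsgLib.FT.odd_subgroup_solvable ?_) ?_
    · rw [← hNc.index_eq_card, ← Nat.not_even_iff_odd, even_iff_two_dvd]
      exact Q.not_dvd_index
    · obtain ⟨j, hj⟩ := Q.2.exists_card_eq
      have hP : IsPGroup 2 (G ⧸ N) := IsPGroup.of_card (n := j) (by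
        rw [← hj, ← hNc.symm.index_eq_card]; rfl)
      have := hP.isNilpotent
      exact IsNilpotent.to_isSolvable

/-- Let G be a finite group with a subgroup A of prime-power index. Suppose A has a normal cyclic subgroup B such that A/B is cyclic of order a power of 2. Then G is solvable. -/
theorem result {G : Type*} [Group G] [Finite G] (A : Subgroup G) (p s : ℕ) (hp : p.Prime) (hA : A.index = p ^ s)
    (B : Subgroup A) [B.Normal] (hB : IsCyclic B) (hAB : IsCyclic (A ⧸ B)) (r : ℕ) (hr : Nat.card (A ⧸ B) = 2 ^ r) :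
    Group.IsSolvable G := by
  exact aux p hp _ G rfl A s hA B hB hAB (IsPGroup.of_card hr)

end Cfsg.Agent.S4245
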