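import Cfsg.Statements.S4304
import Cfsg.Agent.Lib.SylNum.Basic
import Cfsg.Agent.S4343

set_option autoImplicit false
open Cfsg

namespace Cfsg.Agent.S4304

open Subgroup MulAction CfsgLib.SylNum CfsgLib.PSL2Rec

theorem simple_case {S : Type*} [Group S] [Finite S] [IsSimpleGroup S] :
    Nat.card (Sylow 7 S) ≠ 15 := by
  intro h
  have : Fact (Nat.Prime 7) := ⟨by norm_num⟩
  have h1 : Nat.card (Sylow 7 S) ≠ 1 := by omega
  have hnc := not_comm_of_card_sylow h1
  have hnp := not_prime_of_not_comm hnc
  have h7 := dvd_card_of_card_sylow h1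
  obtain ⟨P⟩ : Nonempty (Sylow 7 S) := inferInstance
  have hP := Cfsg.Agent.S4343.result hnc 7 h7 (by omega) P
  have hc : IsMulCommutative (P : Subgroup S) := (isCyclic_of_prime_card hP).isMulCommutative
  have hPC : (P : Subgroup S) ≤ centralizer ((P : Subgroup S) : Set S) := le_centralizer _
  have hC : Nat.card (centralizer ((P : Subgroup S) : Set S)) = 7 := by
    rw [← CfsgLib.SmallSimple.card_mul_relIndex hPC, hP]
    suffices (P : Subgroup S).relIndex (centralizer ((P : Subgroup S) : Set S)) = 1 by rw [this]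
    by_contra hne
    obtain ⟨r, hr, hd⟩ := Nat.exists_prime_and_dvd hne
    have hr7 : r ≠ 7 := by
      rintro rfl
      exact P.not_dvd_index (hd.trans (relIndex_dvd_index_of_le hPC))
    obtain ⟨c, hc, hcr⟩ := exists_mem_orderOf_eq_prime _ hr (hd.trans (relIndex_dvd_card _ _))
    have := Fact.mk hr
    have f1 := card_fixedBy_mod_of_mem_centralizer P hc
    have f2 := card_fixedBy_sylow_lt h1 (ne_one_of_orderOf_prime hr hcr)
    have f3 := card_fixedBy_modEq (X := Sylow 7 S) (p := r) (k := 1) (x := c)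
      (by rw [pow_one, ← hcr, pow_orderOf_eq_one])
    rw [h] at f2 f3
    have f4 := (Nat.modEq_iff_dvd' f2.le).1 f3.symm
    have f5 : Nat.card (fixedBy (Sylow 7 S) c) = 1 ∨ Nat.card (fixedBy (Sylow 7 S) c) = 8 := by
      omega
    rcases f5 with f5 | f5
    · rw [f5] at f4
      have : r = 2 := by
        rcases (Nat.Prime.dvd_mul hr).1 (show r ∣ 2 * 7 from f4) with h | h
        · exact (Nat.prime_dvd_prime_iff_eq hr Nat.prime_two).1 h
        · exact absurd ((Nat.prime_dvd_prime_iff_eq hr (by norm_num)).1 h) hr7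
      subst this
      have := simple_involution_moved hnp (Sylow 7 S) (x := c) (by rw [← hcr, pow_orderOf_eq_one])
      rw [h, f5] at this
      exact absurd this (by decide)
    · rw [f5] at f4
      exact hr7 ((Nat.prime_dvd_prime_iff_eq hr (by norm_num)).1 f4)
  have e1 := card_centralizer_mul_relIndex (P : Subgroup S)
  have e2 := relIndex_centralizer_dvd_of_prime (P : Subgroup S) hP
  have e3 := CfsgLib.SmallSimple.one_lt_relIndex_centralizer hnc P h7
  have e4 := card_sylow_mul_card_normalizer P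
  rw [h, ← e1, hC] at e4
  generalize (centralizer ((P : Subgroup S) : Set S)).relIndex
    (normalizer ((P : Subgroup S) : Set S)) = t at e2 e3 e4
  have ht : t ≤ 6 := Nat.le_of_dvd (by norm_num) e2
  have h4 := four_dvd_of_two_dvd hnc
  rw [← e4] at h4
  have ht3 : t = 3 := by
    interval_cases t <;> simp_all
  subst ht3
  have : Fact (Nat.Prime 5) := ⟨by norm_num⟩
  obtain ⟨Q⟩ : Nonempty (Sylow 5 S) := inferInstance
  obtain ⟨-, a1, a2, a3, e, b1, b2, b3, -, b4⟩ :=
    sylow_prime_data (G := S) (p := 5) (m := 63) (by omega) (by norm_num) (by norm_num) Q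
  have h2 : 2 ∣ e := by
    have : e ≤ 4 := Nat.le_of_dvd (by norm_num) b1
    interval_cases e <;> simp_all
  have : 2 ∣ 5 * 63 := by
    rw [← b4, ← b3]
    exact (h2.mul_left _).mul_left _
  omega

/-- No finite group has exactly 15 Sylow 7-subgroups. -/
theorem result {G : Type*} [Group G] [Finite G] : Nat.card (Sylow 7 G) ≠ 15 := by
  intro h
  have : Fact (Nat.Prime 7) := ⟨by norm_num⟩
  obtain ⟨S, _, _, hS, h2⟩ := exists_simple_of_card_sylow h (by norm_num) (by
    rintro ⟨q, k, hq, hk, e⟩
    have h3 : (3 : ℕ) = q := (Nat.prime_dvd_prime_iff_eq Nat.prime_three hq.nat_prime).1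
      (Nat.prime_three.dvd_of_dvd_pow (n := k) (by rw [e]; norm_num))
    have h5 : (5 : ℕ) = q := (Nat.prime_dvd_prime_iff_eq Nat.prime_five hq.nat_prime).1
      (Nat.prime_five.dvd_of_dvd_pow (n := k) (by rw [e]; norm_num))
    omega) (by
    intro m hm h7
    have : m ≤ 15 := Nat.le_of_dvd (by norm_num) hm
    interval_cases m <;> simp_all)
  exact simple_case h2

end Cfsg.Agent.S4304
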