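import Cfsg.Statements.S4319
import Cfsg.Agent.Lib.CNil.Main

set_option autoImplicit false
open Cfsg

namespace Cfsg.Agent.S4319

/-- Let `A` be a finite group acting by automorphisms on a finite group `G` of order prime to the order of `A`. If the subgroup of common fixed points `C_G(A)` is nilpotent or has odd order, then `G` is solvable. The known proof uses the classification of finite simple groups. -/
theorem result {A G : Type*} [Group A] [Finite A]
    [Group G] [Finite G] [MulDistribMulAction A G] (hcop : (Nat.card G).Coprime (Nat.card A))
    (h : Group.IsNilpotent ↥(FixedPoints.subgroup A G) ∨ Odd (Nat.card ↥(FixedPoints.subgroup A G))) :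
    Group.IsSolvable G :=
  CfsgLib.CNil.coreM.s4319 CfsgLib.FPD.box hcop h

end Cfsg.Agent.S4319
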