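import Cfsg.Statements.S4346
import Cfsg.Agent.Lib.SylNum.Basic
import Cfsg.Agent.Lib.PGroup.Basic

set_option autoImplicit false
open Cfsg

namespace Cfsg.Agent.S4346

open Subgroup MulAction Pointwise CfsgLib.SylNum CfsgLib.PSL2Rec

instance fact11 : Fact (Nat.Prime 11) := ⟨by norm_num⟩

set_option linter.unusedSectionVars false

section small

variable {S : Type*} [Group S] [Finite S] [IsSimpleGroup S]

theorem fix_data (h : Nat.card (Sylow 3 S) = 22) (P : Sylow 3 S) {c : S}
    (hc : c ∈ centralizer ((P : Subgroup S) : Set S)) (hc1 : c ≠ 1) :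
    Nat.card (fixedBy (Sylow 3 S) c) % 3 = 1 ∧ Nat.card (fixedBy (Sylow 3 S) c) < 22 :=
  ⟨card_fixedBy_mod_of_mem_centralizer P hc, h ▸ card_fixedBy_sylow_lt (by omega) hc1⟩

theorem fix_pow (h : Nat.card (Sylow 3 S) = 22) {c : S} {r k : ℕ} (hr : r.Prime)
    (hc : c ^ r ^ k = 1) : Nat.card (fixedBy (Sylow 3 S) c) % r = 22 % r := by
  have := Fact.mk hr
  have := card_fixedBy_modEq (X := Sylow 3 S) hc
  rw [h] at this
  exact this.symm

theorem fix_invol (h : Nat.card (Sylow 3 S) = 22) {c : S} (hc : c ^ 2 = 1) :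
    Nat.card (fixedBy (Sylow 3 S) c) % 4 = 2 := by
  have := simple_involution_moved (not_prime_of_not_comm
    (not_comm_of_card_sylow (p := 3) (by omega))) (Sylow 3 S) hc
  rw [h] at this
  exact this.symm

theorem not_sq_dvd (h : Nat.card (Sylow 3 S) = 22) (P : Sylow 3 S) {r f : ℕ} (hr : r.Prime)
    (hf : ∀ n : ℕ, n % 3 = 1 → n < 22 → n % r = 22 % r → n = f)
    (hn : ¬ r ^ 2 ∣ 22 + (r ^ 2 - 1) * f) :
    ¬ r ^ 2 ∣ Nat.card (centralizer ((P : Subgroup S) : Set S)) := by
  intro hd
  obtain ⟨R, hR, hRc⟩ := exists_subgroup_le_card_pow _ hr hd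
  have := card_orbits_mul_of_const (H := R) (X := Sylow 3 S) (f := f) (by
    intro u hu
    have hu1 : (u : S) ≠ 1 := fun e => hu (Subtype.ext e)
    obtain ⟨a, b⟩ := fix_data h P (hR u.2) hu1
    rw [fixedBy_subgroup_coe]
    exact hf _ a b (fix_pow h hr (k := 2) (hRc ▸ pow_card_eq_one_of_mem u.2)))
  rw [hRc, h] at this
  exact hn (this ▸ dvd_mul_left _ _)

theorem fix_two_le (h : Nat.card (Sylow 3 S) = 22) (P : Sylow 3 S) {c : S}
    (hc : c ∈ centralizer ((P : Subgroup S) : Set S)) (hc1 : c ≠ 1) {k : ℕ} (hk : c ^ 2 ^ k = 1) :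
    Nat.card (fixedBy (Sylow 3 S) c) ≤ 10 := by
  obtain ⟨j, -, hj⟩ := (Nat.dvd_prime_pow Nat.prime_two).1 (orderOf_dvd_of_pow_eq_one hk)
  obtain ⟨i, rfl⟩ : ∃ i, j = i + 1 := by
    rcases j with _ | i
    · exact absurd (orderOf_eq_one_iff.1 hj) hc1
    · exact ⟨i, rfl⟩
  have h1 : c ^ 2 ^ i ≠ 1 := pow_ne_one_of_lt_orderOf (by positivity)
    (by rw [hj]; exact Nat.pow_lt_pow_right (by norm_num) (by omega))
  have h2 : (c ^ 2 ^ i) ^ 2 = 1 := by rw [← pow_mul, ← pow_succ, ← hj, pow_orderOf_eq_one]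
  obtain ⟨a, b⟩ := fix_data h P (pow_mem hc _) h1
  have := fix_invol h h2
  have := card_fixedBy_le_pow (X := Sylow 3 S) c (2 ^ i)
  omega

theorem fixedPoints_data (h : Nat.card (Sylow 3 S) = 22) (P : Sylow 3 S) {R : Subgroup S}
    (hR : R ≤ centralizer ((P : Subgroup S) : Set S)) {k : ℕ} (hk : Nat.card R = 2 ^ (k + 3)) :
    (fixedPoints R (Sylow 3 S)).ncard = 4 := by
  have h1 : (fixedPoints R (Sylow 3 S)).ncard % 3 = 1 := by
    apply ncard_modEq_one P
    · intro c
      exact Sylow.smul_eq_iff_mem_normalizer.2 (centralizer_le_normalizer _ (hR c.2))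
    · intro g hg a ha c
      have := ha c
      rw [Subgroup.smul_def] at this ⊢
      rw [← mul_smul, ← hR c.2 g hg, mul_smul, this]
  have h2 := (IsPGroup.of_card hk).card_modEq_card_fixedPoints (Sylow 3 S)
  rw [h, Nat.card_coe_set_eq] at h2
  have h3 : ∀ u : R, u ≠ 1 → (fixedPoints R (Sylow 3 S)).ncard ≤
      Nat.card (fixedBy (Sylow 3 S) u) ∧ Nat.card (fixedBy (Sylow 3 S) u) ≤ 10 := by
    intro u hu
    refine ⟨Set.ncard_le_ncard fun a ha => ha u, ?_⟩
    rw [fixedBy_subgroup_coe]
    exact fix_two_le h P (hR u.2) (fun e => hu (Subtype.ext e)) (hk ▸ pow_card_eq_one_of_mem u.2)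
  have : Nontrivial R := by
    rw [← Finite.one_lt_card_iff_nontrivial, hk]
    exact Nat.one_lt_two_pow (by omega)
  obtain ⟨u, hu⟩ := exists_ne (1 : R)
  have h4 := h3 u hu
  have h5 : (fixedPoints R (Sylow 3 S)).ncard ≠ 10 := by
    intro e
    have := card_orbits_mul_of_const (H := R) (X := Sylow 3 S) (f := 10) fun u hu => by
      have := h3 u hu
      omega
    rw [h, hk, pow_add] at this
    have h6 : 0 < 2 ^ k := by positivity
    generalize 2 ^ k = m at this h6
    rw [← mul_assoc] at this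
    omega
  unfold Nat.ModEq at h2
  omega

theorem not_sixteen_dvd (h : Nat.card (Sylow 3 S) = 22) (P : Sylow 3 S) :
    ¬ 2 ^ 4 ∣ Nat.card (centralizer ((P : Subgroup S) : Set S)) := by
  intro hd
  obtain ⟨R, hR, hRc⟩ := exists_subgroup_le_card_pow _ Nat.prime_two hd
  have h1 := fixedPoints_data h P hR (k := 1) hRc
  have h2 : ¬ 4 ∣ (fixedPoints R (Sylow 3 S))ᶜ.ncard := by
    have := Set.ncard_add_ncard_compl (fixedPoints R (Sylow 3 S))
    omega
  apply h2
  apply dvd_ncard_of_orbits (H := R)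
  · intro g a ha hga
    apply ha
    have := hga g⁻¹
    rw [inv_smul_smul] at this
    rw [this]; exact hga
  · intro a ha
    have h3 := card_orbit_mul_card_stabilizer (H := R) a
    rw [hRc] at h3
    obtain ⟨j, hj, h4⟩ := (Nat.dvd_prime_pow Nat.prime_two).1 (Dvd.intro _ h3)
    by_contra h5
    have hj1 : j = 0 ∨ j = 1 := by
      interval_cases j <;> simp_all
    rcases hj1 with rfl | rfl
    · apply ha
      intro u
      have := Nat.card_eq_one_iff_unique.1 h4
      exact congrArg Subtype.val (this.1.elim (⟨u • a, mem_orbit a u⟩ : orbit R a)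
        ⟨a, mem_orbit_self a⟩)
    · have h6 : Nat.card ((stabilizer R a).map R.subtype) = 2 ^ (0 + 3) := by
        rw [CfsgLib.Core.card_map_subtype]; rw [h4] at h3; omega
      have h7 := fixedPoints_data h P ((map_subtype_le _).trans hR) h6
      have h8 : insert a (fixedPoints R (Sylow 3 S)) ⊆
          fixedPoints ((stabilizer R a).map R.subtype) (Sylow 3 S) := by
        rintro b (rfl | hb) ⟨_, u, hu, rfl⟩
        · exact hu
        · exact hb u
      have := Set.ncard_le_ncard h8
      rw [Set.ncard_insert_of_notMem ha] at this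
      omega

theorem small_case (h : Nat.card (Sylow 3 S) = 22) (P : Sylow 3 S) (hP : Nat.card P = 3) :
    False := by
  have h1 : Nat.card (Sylow 3 S) ≠ 1 := by omega
  have hnc := not_comm_of_card_sylow h1
  have hnp := not_prime_of_not_comm hnc
  have h3 := dvd_card_of_card_sylow h1
  have hall : ∀ R : Sylow 3 S, Nat.card R = 3 := card_sylow_eq_of_one hP
  set C := centralizer ((P : Subgroup S) : Set S) with hC
  have hc : IsMulCommutative (P : Subgroup S) := (isCyclic_of_prime_card hP).isMulCommutative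
  have hPC : (P : Subgroup S) ≤ C := le_centralizer _
  have e1 := card_centralizer_mul_relIndex (P : Subgroup S)
  have e2 := relIndex_centralizer_dvd_of_prime (P : Subgroup S) hP
  have e3 := CfsgLib.SmallSimple.one_lt_relIndex_centralizer hnc P h3
  have e4 := card_sylow_mul_card_normalizer P
  have e5 := (Nat.dvd_prime Nat.prime_two).1 e2
  rw [h, ← e1, e5.resolve_left e3.ne', ← hC] at e4
  -- the order of `C`
  have hd : Nat.card C ∣ 2 ^ 3 * 3 * 5 * 7 := by
    rw [← Nat.factorization_prime_le_iff_dvd Nat.card_pos.ne' (by norm_num)]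
    intro r hr
    by_contra hlt
    rw [not_le, ← Nat.succ_le_iff, ← hr.pow_dvd_iff_le_factorization Nat.card_pos.ne'] at hlt
    have hrd : r ∣ Nat.card C := (dvd_pow_self r (Nat.succ_ne_zero _)).trans hlt
    obtain ⟨c, hc, hcr⟩ := exists_mem_orderOf_eq_prime _ hr hrd
    obtain ⟨a, b⟩ := fix_data h P hc (ne_one_of_orderOf_prime hr hcr)
    have f := fix_pow h hr (k := 1) (c := c) (by rw [pow_one, ← hcr, pow_orderOf_eq_one])
    have f2 := (Nat.modEq_iff_dvd' b.le).1 f
    have hr7 : r ≤ 21 := (Nat.le_of_dvd (by omega) f2).trans (by omega)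
    have hcases : r = 2 ∨ r = 3 ∨ r = 5 ∨ r = 7 := by
      generalize Nat.card (fixedBy (Sylow 3 S) c) = n at a b f
      interval_cases r <;> first | omega | (exfalso; revert hr; norm_num)
    rcases hcases with rfl | rfl | rfl | rfl
    · have : (2 ^ 3 * 3 * 5 * 7).factorization 2 = 3 := by
        rw [Nat.factorization_def _ Nat.prime_two]; decide +kernel
      rw [this] at hlt
      exact not_sixteen_dvd h P hlt
    · have : (2 ^ 3 * 3 * 5 * 7).factorization 3 = 1 := by
        rw [Nat.factorization_def _ Nat.prime_three]; decide +kernel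
      rw [this, ← CfsgLib.SmallSimple.card_mul_relIndex hPC, hP, pow_succ, pow_one] at hlt
      exact P.not_dvd_index ((Nat.dvd_of_mul_dvd_mul_left (by norm_num) hlt).trans
        (relIndex_dvd_index_of_le hPC))
    · have : (2 ^ 3 * 3 * 5 * 7).factorization 5 = 1 := by
        rw [Nat.factorization_def _ hr]; decide +kernel
      rw [this] at hlt
      exact not_sq_dvd h P hr (f := 7) (by omega) (by norm_num) hlt
    · have : (2 ^ 3 * 3 * 5 * 7).factorization 7 = 1 := by
        rw [Nat.factorization_def _ hr]; decide +kernel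
      rw [this] at hlt
      exact not_sq_dvd h P hr (f := 1) (by omega) (by norm_num) hlt
  have h11 : ¬ 11 ∣ Nat.card C := fun h' => absurd (h'.trans hd) (by norm_num)
  have h3C : 3 ∣ Nat.card C := hP ▸ card_dvd_of_le hPC
  obtain ⟨Q⟩ : Nonempty (Sylow 11 S) := inferInstance
  obtain ⟨hQ, a1, a2, a3, t, b1, b2, b3, -, b4⟩ :=
    sylow_prime_data (G := S) (p := 11) (m := 4 * Nat.card C) (by omega)
      (fun h' => h11 ((Nat.Coprime.dvd_mul_left (by norm_num)).1 h')) (by omega) Q
  obtain ⟨y, hy, hQy⟩ := CfsgLib.SmallSimple.exists_zpowers_of_card_prime _ hQ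
  -- odd-order elements fixing a point centralise it
  have hodd : ∀ (c : S) (R : Sylow 3 S), c • R = R → Odd (orderOf c) →
      c ∈ centralizer ((R : Subgroup S) : Set S) := by
    intro c R hc ho
    have hN : c ∈ normalizer ((R : Subgroup S) : Set S) := Sylow.smul_eq_iff_mem_normalizer.1 hc
    have h2 : c ^ 2 ∈ centralizer ((R : Subgroup S) : Set S) := by
      have hn : ((centralizer ((R : Subgroup S) : Set S)).subgroupOf
        (normalizer ((R : Subgroup S) : Set S))).Normal := inferInstance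
      obtain ⟨j, hj⟩ := relIndex_centralizer_dvd_of_prime (R : Subgroup S) (hall R)
      have := pow_mem (pow_index_mem (H := (centralizer ((R : Subgroup S) : Set S)).subgroupOf
        (normalizer ((R : Subgroup S) : Set S))) ⟨c, hN⟩) j
      rw [← pow_mul] at this
      exact (show 2 = _ from hj) ▸ this
    exact CfsgLib.SolvStruct.mem_of_pow_mem_of_coprime h2
      (by rw [pow_orderOf_eq_one]; exact one_mem _) (Nat.coprime_two_left.2 ho)
  have hy0 : ∀ u : S, orderOf u = 11 → ∀ R : Sylow 3 S, u • R ≠ R := by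
    intro u hu R hR
    obtain ⟨a, b⟩ := fix_data h R (hodd u R hR (by rw [hu]; decide))
      (ne_one_of_orderOf_prime fact11.out hu)
    have := fix_pow h fact11.out (k := 1) (c := u) (by rw [pow_one, ← hu, pow_orderOf_eq_one])
    omega
  have horb : Nat.card (orbitRel.Quotient (Q : Subgroup S) (Sylow 3 S)) = 2 := by
    have := card_orbits_mul_of_const (H := (Q : Subgroup S)) (X := Sylow 3 S) (f := 0) (by
      intro u hu
      rw [fixedBy_subgroup_coe, Nat.card_coe_set_eq, Set.ncard_eq_zero, Set.eq_empty_iff_forall_notMem]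
      exact hy0 u (orderOf_eq_of_prime_card hQ u.2 fun e => hu (Subtype.ext e)))
    rw [hQ, h] at this
    omega
  have hcQ : IsMulCommutative (Q : Subgroup S) := (isCyclic_of_prime_card hQ).isMulCommutative
  have hQC : (Q : Subgroup S) ≤ centralizer ((Q : Subgroup S) : Set S) := le_centralizer _
  have hCQ : Nat.card (centralizer ((Q : Subgroup S) : Set S)) = 11 := by
    rw [← CfsgLib.SmallSimple.card_mul_relIndex hQC, hQ]
    suffices (Q : Subgroup S).relIndex (centralizer ((Q : Subgroup S) : Set S)) = 1 by rw [this]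
    by_contra hne
    obtain ⟨r, hr, hd⟩ := Nat.exists_prime_and_dvd hne
    have hr11 : r ≠ 11 := by
      rintro rfl
      exact Q.not_dvd_index (hd.trans (relIndex_dvd_index_of_le hQC))
    obtain ⟨c, hc, hcr⟩ := exists_mem_orderOf_eq_prime _ hr (hd.trans (relIndex_dvd_card _ _))
    have f1 := card_fixedBy_modEq_of_commute (X := Sylow 3 S) (p := 11) (k := 1) (x := c) (z := y)
      (by rw [pow_one, ← hy, pow_orderOf_eq_one]) (hc y (hQy ▸ mem_zpowers y)).symm
    have : IsEmpty {a : Sylow 3 S // c • a = a ∧ y • a = a} := ⟨fun a => hy0 y hy a.1 a.2.2⟩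
    rw [Nat.card_of_isEmpty (α := {a : Sylow 3 S // c • a = a ∧ y • a = a})] at f1
    have f2 := card_fixedBy_sylow_lt h1 (ne_one_of_orderOf_prime hr hcr)
    have f3 := fix_pow h hr (k := 1) (c := c) (by rw [pow_one, ← hcr, pow_orderOf_eq_one])
    rw [h] at f2
    have f4 := (Nat.modEq_iff_dvd' f2.le).1 f3
    unfold Nat.ModEq at f1
    have f5 : Nat.card (fixedBy (Sylow 3 S) c) = 0 ∨ Nat.card (fixedBy (Sylow 3 S) c) = 11 := by
      omega
    rcases f5 with f5 | f5
    · rw [f5] at f4
      have : r = 2 := by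
        rcases (Nat.Prime.dvd_mul hr).1 (show r ∣ 2 * 11 from f4) with h | h
        · exact (Nat.prime_dvd_prime_iff_eq hr Nat.prime_two).1 h
        · exact absurd ((Nat.prime_dvd_prime_iff_eq hr (by norm_num)).1 h) hr11
      subst this
      have := fix_invol h (c := c) (by rw [← hcr, pow_orderOf_eq_one])
      omega
    · rw [f5] at f4
      exact hr11 ((Nat.prime_dvd_prime_iff_eq hr (by norm_num)).1 f4)
  have hnotC : ∀ (c : S) (r : ℕ), r.Prime → r ≠ 11 → orderOf c = r →
      c ∉ centralizer ((Q : Subgroup S) : Set S) := by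
    intro c r hr hr11 hc hcC
    have := orderOf_dvd_natCard _ hcC
    rw [hCQ, hc] at this
    exact hr11 ((Nat.prime_dvd_prime_iff_eq hr (by norm_num)).1 this)
  have ht5 : ¬ 5 ∣ t := by
    intro h5
    obtain ⟨c, hc, hc5⟩ := exists_mem_orderOf_eq_prime _ Nat.prime_five (b3 ▸ h5.mul_left _)
    have f1 := card_fixedBy_le_card_orbits (X := Sylow 3 S) hQ hc
      (hnotC c 5 Nat.prime_five (by norm_num) hc5)
    have f2 := fix_pow h Nat.prime_five (k := 1) (c := c)
      (by rw [pow_one, ← hc5, pow_orderOf_eq_one])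
    obtain ⟨R, hR⟩ : (fixedBy (Sylow 3 S) c).Nonempty := by
      rw [← Set.ncard_pos, ← Nat.card_coe_set_eq]; omega
    have := (fix_data h R (hodd c R hR (by rw [hc5]; decide))
      (ne_one_of_orderOf_prime Nat.prime_five hc5)).1
    omega
  have ht2 : t = 2 := by
    have : t ≤ 10 := Nat.le_of_dvd (by norm_num) b1
    interval_cases t <;> simp_all
  subst ht2
  rw [hCQ] at b3
  rw [← b3] at b4
  have hCv : Nat.card C = 6 ∨ Nat.card C = 105 := by
    have h6 : Nat.card C % 11 = 6 := by omega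
    have h7 : Nat.card C ∈ (Nat.divisors 840).filter (fun n => n % 11 = 6 ∧ 3 ∣ n) :=
      Finset.mem_filter.2 ⟨Nat.mem_divisors.2 ⟨hd, by norm_num⟩, h6, h3C⟩
    have h8 : (Nat.divisors 840).filter (fun n => n % 11 = 6 ∧ 3 ∣ n) = {6, 105} := by
      decide +kernel
    rw [h8] at h7
    simpa using h7
  rcases hCv with hCv | hCv
  · obtain ⟨v, hv, hv2⟩ := exists_mem_orderOf_eq_prime _ Nat.prime_two
      (b3 ▸ (show 2 ∣ 11 * 2 by norm_num))
    have f1 := card_fixedBy_sylow_mul_le Q hQ hv (hnotC v 2 Nat.prime_two (by norm_num) hv2)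
    have f2 := simple_involution_moved hnp (Sylow 11 S) (x := v)
      (by rw [← hv2, pow_orderOf_eq_one])
    have f3 : 0 < Nat.card (fixedBy (Sylow 11 S) v) :=
      Nat.card_pos_iff.2 ⟨⟨Q, Sylow.smul_eq_iff_mem_normalizer.2 hv⟩, inferInstance⟩
    unfold Nat.ModEq at f2
    omega
  · have : Fact (Nat.Prime 7) := ⟨by norm_num⟩
    obtain ⟨R⟩ : Nonempty (Sylow 7 C) := inferInstance
    have hR : Nat.card R = 7 := by
      simpa using card_sylow_of_eq (k := 1) (m := 15) (by rw [hCv]; norm_num) (by norm_num) R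
    have hRn : (R : Subgroup C).Normal := by
      apply sylow_normal_of_card_eq_one
      have g1 := card_sylow_mul_card_normalizer R
      have g2 : 3 ∣ Nat.card (normalizer ((R : Subgroup C) : Set C)) := by
        rw [← hP, ← CfsgLib.Core.card_subgroupOf_of_le hPC]
        apply card_dvd_of_le
        refine le_trans ?_ (centralizer_le_normalizer _)
        intro x hx y _
        exact Subtype.ext (y.2 x hx).symm
      have g3 : 7 ∣ Nat.card (normalizer ((R : Subgroup C) : Set C)) :=
        (dvd_of_eq hR.symm).trans (card_dvd_of_le le_normalizer)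
      have g4 := card_sylow_mod (G := C) (p := 7)
      obtain ⟨j, hj⟩ := Nat.Coprime.mul_dvd_of_dvd_of_dvd (by norm_num) g2 g3
      rw [hCv, hj] at g1
      have g5 : Nat.card (Sylow 7 C) ∣ 5 := ⟨j, by linarith⟩
      rcases (Nat.dvd_prime Nat.prime_five).1 g5 with e | e <;> omega
    obtain ⟨w, hw⟩ := exists_prime_orderOf_dvd_card' (G := C) 5 (hp := ⟨Nat.prime_five⟩)
      (by rw [hCv]; norm_num)
    obtain ⟨c, hc, hRc⟩ := CfsgLib.SmallSimple.exists_zpowers_of_card_prime _ hR
    have g1 : w ∈ centralizer ((R : Subgroup C) : Set C) :=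
      CfsgLib.SolvStruct.mem_of_pow_mem_of_coprime
        (CfsgLib.SolvStruct.pow_mem_centralizer_of_prime _ (by norm_num) hR w)
        (by rw [pow_orderOf_eq_one]; exact one_mem _) (by rw [hw]; norm_num)
    have g2 : Commute (w : S) (c : S) :=
      congrArg Subtype.val (g1 c (hRc ▸ mem_zpowers c)).symm
    have hw' : orderOf (w : S) = 5 := by rw [Subgroup.orderOf_coe, hw]
    have hc' : orderOf (c : S) = 7 := by rw [Subgroup.orderOf_coe, hc]
    have hc7 : (c : S) ^ 7 ^ 1 = 1 := by rw [pow_one, ← hc', pow_orderOf_eq_one]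
    have f1 := card_fixedBy_modEq_of_commute (X := Sylow 3 S) hc7 g2
    obtain ⟨f2, f3⟩ := fix_data h P w.2 (ne_one_of_orderOf_prime Nat.prime_five hw')
    have f4 := fix_pow h Nat.prime_five (k := 1) (c := (w : S))
      (by rw [pow_one, ← hw', pow_orderOf_eq_one])
    obtain ⟨f5, f6⟩ := fix_data h P c.2 (ne_one_of_orderOf_prime (by norm_num) hc')
    have f7 := fix_pow h (by norm_num) hc7
    have f8 : Nat.card {a : Sylow 3 S // (w : S) • a = a ∧ (c : S) • a = a} ≤
        Nat.card (fixedBy (Sylow 3 S) (c : S)) :=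
      Nat.card_le_card_of_injective (fun a => ⟨a.1, a.2.2⟩) fun a b e =>
        Subtype.ext (Subtype.mk.inj e)
    have f9 : 0 < Nat.card {a : Sylow 3 S // (w : S) • a = a ∧ (c : S) • a = a} :=
      Nat.card_pos_iff.2 ⟨⟨P, Sylow.smul_eq_iff_mem_normalizer.2 (centralizer_le_normalizer _ w.2),
        Sylow.smul_eq_iff_mem_normalizer.2 (centralizer_le_normalizer _ c.2)⟩, inferInstance⟩
    unfold Nat.ModEq at f1
    omega

end small

section big

variable {S : Type*} [Group S] [Finite S]

/-- adjacency of Sylow 3-subgroups -/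
def Adj (P R : Sylow 3 S) : Prop := (R : Subgroup S).relIndex P = 3

/-- the line of a subgroup -/
def line (D : Subgroup S) : Set (Sylow 3 S) := {R | D ≤ R}

theorem left_mem_line (P R : Sylow 3 S) : P ∈ line ((P : Subgroup S) ⊓ R) :=
  (inf_le_left : (P : Subgroup S) ⊓ R ≤ P)

theorem right_mem_line (P R : Sylow 3 S) : R ∈ line ((P : Subgroup S) ⊓ R) :=
  (inf_le_right : (P : Subgroup S) ⊓ R ≤ R)

theorem card_sylow_eq (P R : Sylow 3 S) : Nat.card P = Nat.card R :=
  (card_sylow_eq_of_one rfl R).symm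

theorem adj_iff {P R : Sylow 3 S} :
    Adj P R ↔ Nat.card ((P : Subgroup S) ⊓ R : Subgroup S) * 3 = Nat.card P := by
  have h := CfsgLib.Core.card_inf_mul_relIndex (R : Subgroup S) P
  rw [inf_comm] at h
  rw [Adj, ← h]
  exact ⟨fun e => by rw [e], fun e => (Nat.eq_of_mul_eq_mul_left Nat.card_pos e).symm⟩

theorem Adj.symm {P R : Sylow 3 S} (h : Adj P R) : Adj R P := by
  rw [adj_iff] at h ⊢
  rw [inf_comm, h, card_sylow_eq]

theorem Adj.ne {P R : Sylow 3 S} (h : Adj P R) : R ≠ P := by
  rintro rfl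
  rw [Adj, relIndex_self] at h
  omega

theorem inf_eq_of_line {D : Subgroup S} {P : Sylow 3 S} (hD : Nat.card D * 3 = Nat.card P)
    {R T : Sylow 3 S} (hR : R ∈ line D) (hT : T ∈ line D) (hne : T ≠ R) :
    (R : Subgroup S) ⊓ T = D := by
  symm
  apply CfsgLib.Core.eq_of_le_of_card_le (le_inf hR hT)
  have h := CfsgLib.Core.card_inf_mul_relIndex (T : Subgroup S) R
  rw [inf_comm, card_sylow_eq R P, ← hD] at h
  obtain ⟨k, hk⟩ := dvd_relIndex_sylow hne
  have hk0 : k ≠ 0 := by
    rintro rfl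
    exact index_ne_zero_of_finite hk
  rw [hk, mul_comm 3, ← mul_assoc] at h
  rw [← Nat.eq_of_mul_eq_mul_right (by norm_num) h]
  exact Nat.le_mul_of_pos_right _ (Nat.pos_of_ne_zero hk0)

theorem le_normalizer_of_line {D : Subgroup S} {P : Sylow 3 S} (hD : Nat.card D * 3 = Nat.card P)
    {R : Sylow 3 S} (hR : R ∈ line D) : (R : Subgroup S) ≤ normalizer (D : Set S) := by
  rw [← normal_subgroupOf_iff_le_normalizer hR]
  apply CfsgLib.PGroup.normal_of_index_eq_prime R.isPGroup'
  have h := CfsgLib.SmallSimple.card_mul_relIndex hR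
  rw [card_sylow_eq R P, ← hD] at h
  exact Nat.eq_of_mul_eq_mul_left Nat.card_pos h

theorem smul_mem_line {D : Subgroup S} {R : Sylow 3 S} (hR : R ∈ line D) {g : S}
    (hg : g ∈ normalizer (D : Set S)) : g • R ∈ line D := by
  change D ≤ MulAut.conj g • (R : Subgroup S)
  rw [← CfsgLib.SolvStruct.conj_smul_eq_of_mem_normalizer hg]
  exact CfsgLib.SolvStruct.conj_smul_mono g hR

theorem line_eq_orbit {D : Subgroup S} {P : Sylow 3 S} (hD : Nat.card D * 3 = Nat.card P)
    (hP : P ∈ line D) : line D = orbit (normalizer (D : Set S)) P := by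
  ext R
  constructor
  · intro hR
    obtain ⟨k, hk, e⟩ := CfsgLib.Coprime.exists_conj_smul_eq_sylow (le_normalizer_of_line hD hP)
      P.isPGroup' (fun h => P.not_dvd_index (h.trans
        (relIndex_dvd_index_of_le (le_normalizer_of_line hD hP))))
      (le_normalizer_of_line hD hR) R.isPGroup' (fun h => R.not_dvd_index (h.trans
        (relIndex_dvd_index_of_le (le_normalizer_of_line hD hR))))
    exact ⟨⟨k, hk⟩, Sylow.ext e⟩
  · rintro ⟨g, rfl⟩
    exact smul_mem_line hP g.2

theorem line_data (h : Nat.card (Sylow 3 S) = 22) (hO : pCore 3 S = ⊥) {P : Sylow 3 S}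
    (hP3 : Nat.card P ≠ 3) {R : Sylow 3 S} (hR : Adj P R) :
    (line ((P : Subgroup S) ⊓ R)).ncard = 4 ∧
      2 ∣ (normalizer (((P : Subgroup S) ⊓ R : Subgroup S) : Set S)).relIndex
        (normalizer ((P : Subgroup S) : Set S)) := by
  set D : Subgroup S := (P : Subgroup S) ⊓ R with hDdef
  have hD : Nat.card D * 3 = Nat.card P := adj_iff.1 hR
  have hPl : P ∈ line D := left_mem_line P R
  have hRl : R ∈ line D := right_mem_line P R
  set NP := normalizer ((P : Subgroup S) : Set S) with hNP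
  set ND := normalizer (D : Set S) with hND
  have h1 : (line D).ncard % 3 = 1 :=
    ncard_modEq_one P _ hPl fun g hg a ha => smul_mem_line ha (le_normalizer_of_line hD hPl hg)
  have h2 : (line D).ncard < 22 := by
    rw [← h]
    apply Set.ncard_lt_card
    intro e
    have : D ≤ pCore 3 S := by
      rw [CfsgLib.Core.pCore_eq_iInf_sylow]
      exact le_iInf fun T => (e ▸ Set.mem_univ T : T ∈ line D)
    rw [hO, le_bot_iff] at this
    rw [this, card_bot] at hD
    omega
  have h3 : 1 < (line D).ncard := (Set.one_lt_ncard (Set.toFinite _)).2 ⟨R, hRl, P, hPl, hR.ne⟩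
  have h4 : (line D).ncard ∣ ND.relIndex NP * 22 := by
    have e1 : NP.index = 22 := h ▸ P.card_eq_index_normalizer.symm
    rw [← e1, ← inf_relIndex_right, relIndex_mul_index inf_le_right, inf_comm,
      ← relIndex_mul_index (inf_le_right : NP ⊓ ND ≤ ND), inf_relIndex_right,
      line_eq_orbit hD hPl, ← Nat.card_coe_set_eq, card_orbit_sylow]
    exact dvd_mul_right _ _
  have h5 : ND.relIndex NP * ((line D).ncard - 1) ≤ 21 := by
    have e1 : ({P}ᶜ : Set (Sylow 3 S)).ncard = 21 := by
      have := Set.ncard_add_ncard_compl ({P} : Set (Sylow 3 S))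
      rw [Set.ncard_singleton] at this
      omega
    have hfix : ∀ n : NP, (n : S) • P = P := fun n => Sylow.smul_eq_iff_mem_normalizer.2 n.2
    have hinf : ∀ (n : NP) (T : Sylow 3 S), T ∈ line D \ {P} →
        (P : Subgroup S) ⊓ ((n : S) • T : Sylow 3 S) = MulAut.conj (n : S) • D := by
      intro n T hT
      rw [← inf_eq_of_line hD hPl hT.1 hT.2, Subgroup.smul_inf,
        CfsgLib.SolvStruct.conj_smul_eq_of_mem_normalizer n.2]
      rfl
    rw [← Set.ncard_sdiff_singleton_of_mem hPl, ← e1, relIndex, index, ← Nat.card_coe_set_eq,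
      ← Nat.card_coe_set_eq, ← Nat.card_prod]
    refine Nat.card_le_card_of_injective (fun x => ⟨(x.1.out : S) • x.2.1, fun e => x.2.2.2 ?_⟩) ?_
    · exact smul_left_cancel _ ((Set.mem_singleton_iff.1 e).trans (hfix _).symm)
    · rintro ⟨q1, T1⟩ ⟨q2, T2⟩ e
      have e' : (q1.out : S) • T1.1 = (q2.out : S) • T2.1 := Subtype.mk.inj e
      have e2 := hinf q1.out _ T1.2
      rw [e', hinf q2.out _ T2.2] at e2
      have e3 : q1 = q2 := by
        rw [← q1.out_eq', ← q2.out_eq', QuotientGroup.eq, mem_subgroupOf,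
          CfsgLib.SolvStruct.mem_normalizer_iff_conj_smul_eq, coe_mul, coe_inv,
          ← CfsgLib.SolvStruct.conj_smul_smul, e2, CfsgLib.SolvStruct.conj_smul_smul]
        simp
      subst e3
      rw [Subtype.ext (smul_left_cancel _ e')]
  have h6 : ND.relIndex NP ≠ 0 := index_ne_zero_of_finite
  generalize (line D).ncard = l at h1 h2 h3 h4 h5
  generalize ND.relIndex NP = r at h4 h5 h6
  interval_cases l <;> omega

theorem card_adj (h : Nat.card (Sylow 3 S) = 22) (hO : pCore 3 S = ⊥) {P : Sylow 3 S}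
    (hP3 : Nat.card P ≠ 3) :
    {R | Adj P R}.ncard = 12 ∧ ({R | Adj P R}ᶜ \ {P}).ncard = 9 := by
  have hsm : ∀ n ∈ normalizer ((P : Subgroup S) : Set S), ∀ R : Sylow 3 S,
      Adj P (n • R) ↔ Adj P R := by
    intro n hn R
    rw [Adj, Adj]
    change (MulAut.conj n • (R : Subgroup S)).relIndex P = 3 ↔ _
    rw [CfsgLib.Coprime.relIndex_conj_smul hn]
  have h1 : 2 ∣ {R | Adj P R}.ncard := by
    apply dvd_ncard_of_orbits (H := normalizer ((P : Subgroup S) : Set S))
    · intro g a ha
      exact (hsm g g.2 a).2 ha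
    · intro R hR
      rw [card_orbit_sylow, ← inf_relIndex_right]
      refine (line_data h hO hP3 hR).2.trans (relIndex_dvd_of_le_left _ ?_)
      exact CfsgLib.SolvStruct.le_normalizer_inf inf_le_right inf_le_left
  have h2 : 9 ∣ ({R | Adj P R}ᶜ \ {P}).ncard := by
    apply dvd_ncard_of_orbits (H := (P : Subgroup S))
    · rintro g a ⟨ha, ha'⟩
      refine ⟨fun h' => ha ((hsm g (le_normalizer g.2) a).1 h'), fun e => ha' ?_⟩
      have h2 : (g : S) • P = P := Sylow.smul_eq_iff_mem_normalizer.2 (le_normalizer g.2)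
      have h3 : (g : S) • a = P := e
      exact (smul_left_cancel (g : S) (h3.trans h2.symm) :)
    · rintro R ⟨hR, hR'⟩
      rw [card_orbit_sylow_of_isPGroup P.isPGroup']
      obtain ⟨n, hn⟩ := P.isPGroup'.exists_card_eq
      obtain ⟨k, -, hk⟩ := (Nat.dvd_prime_pow Nat.prime_three).1
        (hn ▸ relIndex_dvd_card (R : Subgroup S) P)
      have a1 := relIndex_sylow_ne_one hR'
      have a2 : (R : Subgroup S).relIndex P ≠ 3 := hR
      rw [hk] at a1 a2 ⊢
      rcases k with _ | _ | k
      · simp at a1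
      · simp at a2
      · exact pow_dvd_pow 3 (show 2 ≤ k + 1 + 1 by omega)
  have h3 := Set.ncard_add_ncard_compl {R | Adj P R}
  have h4 := Set.ncard_sdiff_singleton_add_one
    (show P ∈ {R | Adj P R}ᶜ from fun h' => Adj.ne h' rfl)
  omega

theorem common_mem_line {P T R : Sylow 3 S} (hPT : Adj P T) (hPR : Adj P R) (hTR : Adj T R) :
    R ∈ line ((P : Subgroup S) ⊓ T) := by
  by_contra hR
  obtain ⟨d, hd, hdR⟩ := SetLike.not_le_iff_exists.1 (show ¬ (P : Subgroup S) ⊓ T ≤ R from hR)
  have hne : d • R ≠ R := by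
    intro e
    have h1 : d ∈ (P : Subgroup S) ⊓ normalizer (R : Set S) :=
      ⟨hd.1, Sylow.smul_eq_iff_mem_normalizer.1 e⟩
    rw [P.isPGroup'.inf_normalizer_sylow] at h1
    exact hdR h1.2
  have h1 := adj_iff.1 hPR
  have h2 := adj_iff.1 hTR
  have e1 := inf_eq_of_line h1 (right_mem_line P R)
    (smul_mem_line (right_mem_line P R) (le_normalizer_of_line h1 (left_mem_line P R) hd.1)) hne
  have e2 := inf_eq_of_line h2 (right_mem_line T R)
    (smul_mem_line (right_mem_line T R) (le_normalizer_of_line h2 (left_mem_line T R) hd.2)) hne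
  have e3 := inf_eq_of_line h1 (T := T) (left_mem_line P R)
    (by rw [← e1, e2]; exact left_mem_line T R) hPT.ne
  exact hR (by rw [e3]; exact right_mem_line P R)

theorem big_case (h : Nat.card (Sylow 3 S) = 22) (hO : pCore 3 S = ⊥) (P : Sylow 3 S)
    (hP3 : Nat.card P ≠ 3) : False := by
  have hall : ∀ R : Sylow 3 S, Nat.card R ≠ 3 := fun R => card_sylow_eq P R ▸ hP3
  have key : ∀ X T Y : Sylow 3 S, Adj X T → Y ∈ {R | Adj X R}ᶜ \ {X} → Adj T Y := by
    intro X T Y hXT
    have h1 : {R | Adj T R} \ line ((X : Subgroup S) ⊓ T) ⊆ {R | Adj X R}ᶜ \ {X} := by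
      rintro R ⟨hR, hR'⟩
      refine ⟨fun h' => hR' (common_mem_line hXT h' hR), fun e => hR' ?_⟩
      rw [Set.mem_singleton_iff.1 e]
      exact left_mem_line X T
    have h2 : {R | Adj T R} ⊆ ({R | Adj T R} \ line ((X : Subgroup S) ⊓ T)) ∪
        (line ((X : Subgroup S) ⊓ T) \ {T}) := by
      intro R hR
      by_cases e : R ∈ line ((X : Subgroup S) ⊓ T)
      · exact Or.inr ⟨e, Adj.ne hR⟩
      · exact Or.inl ⟨hR, e⟩
    have h3 := (Set.ncard_le_ncard h2).trans (Set.ncard_union_le _ _)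
    have h4 := Set.ncard_sdiff_singleton_add_one
      (right_mem_line X T)
    rw [(line_data h hO (hall X) hXT).1] at h4
    rw [(card_adj h hO (hall T)).1] at h3
    have h5 := Set.eq_of_subset_of_ncard_le h1 (by rw [(card_adj h hO (hall X)).2]; omega)
    intro hY
    rw [← h5] at hY
    exact hY.1
  obtain ⟨T, hT⟩ : {R | Adj P R}.Nonempty := by
    rw [← Set.ncard_pos, (card_adj h hO hP3).1]; norm_num
  have hl := (line_data h hO hP3 hT).1
  obtain ⟨X, hX, hX'⟩ : ∃ X ∈ line ((P : Subgroup S) ⊓ T), X ∉ ({P, T} : Set (Sylow 3 S)) := by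
    by_contra hc
    push Not at hc
    have := (Set.ncard_le_ncard hc).trans (Set.ncard_insert_le _ _)
    rw [Set.ncard_singleton] at this
    omega
  simp only [Set.mem_insert_iff, Set.mem_singleton_iff, not_or] at hX'
  have hD := adj_iff.1 hT
  have hXP : Adj X P := by
    rw [adj_iff, inf_eq_of_line hD hX (left_mem_line P T) (Ne.symm hX'.1), hD, card_sylow_eq]
  have hXT : Adj X T := by
    rw [adj_iff, inf_eq_of_line hD hX (right_mem_line P T) (Ne.symm hX'.2), hD, card_sylow_eq]
  have h1 : {R | Adj X R}ᶜ \ {X} ⊆ line ((P : Subgroup S) ⊓ T) := fun Y hY =>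
    common_mem_line hT (key X P Y hXP hY) (key X T Y hXT hY)
  have := Set.ncard_le_ncard h1
  rw [(card_adj h hO (hall X)).2] at this
  omega

end big

/-- No finite group has exactly 22 Sylow 3-subgroups. -/
theorem result {G : Type*} [Group G] [Finite G] : Nat.card (Sylow 3 G) ≠ 22 := by
  intro h
  obtain ⟨S, _, _, hS, h2⟩ := exists_simple_of_card_sylow h (by norm_num) (by
    rintro ⟨q, k, hq, hk, e⟩
    have h3 : (2 : ℕ) = q := (Nat.prime_dvd_prime_iff_eq Nat.prime_two hq.nat_prime).1
      (Nat.prime_two.dvd_of_dvd_pow (n := k) (by rw [e]; norm_num))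
    have h5 : (11 : ℕ) = q := (Nat.prime_dvd_prime_iff_eq fact11.out hq.nat_prime).1
      (fact11.out.dvd_of_dvd_pow (n := k) (by rw [e]; norm_num))
    omega) (by
    intro m hm h7
    have : m ≤ 22 := Nat.le_of_dvd (by norm_num) hm
    interval_cases m <;> simp_all)
  obtain ⟨P⟩ : Nonempty (Sylow 3 S) := inferInstance
  by_cases hP : Nat.card P = 3
  · exact small_case h2 P hP
  · refine big_case h2 ?_ P hP
    rcases (pCore_normal 3 S).eq_bot_or_eq_top with e | e
    · exact e
    · exact absurd (CfsgLib.Core.pCore_eq_top_iff.1 e)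
        (CfsgLib.SmallSimple.not_isPGroup (not_comm_of_card_sylow (p := 3) (by omega)))

end Cfsg.Agent.S4346
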