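import Cfsg.Statements.S4358
import Cfsg.Agent.Lib.WCor4.Red

set_option autoImplicit false
open Cfsg

namespace Cfsg.Agent.S4358

open CfsgLib CfsgLib.WCor4 CfsgLib.Tech Subgroup

section
variable {F : Type*} [Field F] {p : ℕ} [hp : Fact p.Prime]

theorem vand {p : ℕ} [NeZero p] {f v : ZMod p → F} (hf : Function.Injective f) (h : ∀ j, ∑ i, v i * f j ^ i.val = 0) :
    v = 0 := by
  cases p with
  | zero => exact absurd rfl (NeZero.ne 0)
  | succ n => exact Matrix.eq_zero_of_forall_index_sum_mul_pow_eq_zero hf h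

/-- monomial transformations -/
noncomputable def mon (d : ZMod p → Fˣ) (m : ZMod p) : (ZMod p → F) ≃ₗ[F] (ZMod p → F) :=
  (LinearEquiv.funCongrLeft F F (Equiv.subRight m)).trans (.piCongrRight fun i => .smulOfUnit (d i))

/-- the standard Sylow subgroup -/
def SS (ζ : Fˣ) : Subgroup ((ZMod p → F) ≃ₗ[F] (ZMod p → F)) where
  carrier := {g | ∃ (d : ZMod p → zpowers ζ) (m : ZMod p), ∀ v i, g v i = (d i).1 * v (i - m)}
  one_mem' := ⟨1, 0, by simp⟩
  mul_mem' := fun ⟨d, m, h⟩ ⟨d', m', h'⟩ => ⟨fun i => d i * d' (i - m), m + m', fun v i => by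
    rw [LinearEquiv.mul_apply, h, h', sub_sub]; simp [mul_assoc]⟩
  inv_mem' := fun {g} ⟨d, m, h⟩ => ⟨fun i => (d (i + m))⁻¹, -m, fun v i => by
    have := h (g⁻¹ v) (i + m)
    rw [← LinearEquiv.mul_apply, mul_inv_cancel, add_sub_cancel_right] at this
    simp [show v (i + m) = _ from this]⟩

theorem card_SS {ζ : Fˣ} (h : orderOf ζ = p) : Nat.card (SS (p := p) ζ) = p ^ (p + 1) := by
  rw [← Nat.card_congr (Equiv.ofBijective (fun x : (ZMod p → zpowers ζ) × ZMod p =>
    (⟨mon (fun i => x.1 i) x.2, x.1, x.2, fun _ _ => rfl⟩ : SS ζ)) ⟨fun x y e => ?_, fun ⟨g, d, m, hg⟩ =>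
      ⟨(d, m), Subtype.ext (LinearEquiv.ext fun v => funext fun i => (hg v i).symm)⟩⟩), Nat.card_prod, Nat.card_fun,
    Nat.card_zpowers, h, Nat.card_zmod, pow_succ]
  have h1 : ∀ (v : ZMod p → F) i, (x.1 i).1 * v (i - x.2) = (y.1 i).1 * v (i - y.2) := fun v i =>
    congrFun (DFunLike.congr_fun (congrArg Subtype.val e) v) i
  refine Prod.ext (funext fun i => Subtype.ext (Units.ext (by simpa using h1 1 i))) (by_contra fun h2 => ?_)
  simpa [sub_ne_zero.2 h2] using h1 (Pi.single 0 1) x.2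

theorem mono (h2 : p ≠ 2) {ζ : Fˣ} (h : ζ ≠ 1) {g : (ZMod p → F) ≃ₗ[F] (ZMod p → F)}
    (hg : g ∈ normalizer (SS (p := p) ζ : Set ((ZMod p → F) ≃ₗ[F] (ZMod p → F)))) {k i j : ZMod p}
    (hi : g (Pi.single k 1) i ≠ 0) (hj : j ≠ i) : g (Pi.single k 1) j = 0 := by
  obtain ⟨d, m, h1⟩ := conj_mem_of_mem_normalizer hg (x := mon (fun j => if j = k then ζ else 1) 0)
    ⟨fun j => if j = k then ⟨ζ, mem_zpowers ζ⟩ else 1, 0, fun v i => by
      change _ * v _ = _
      beta_reduce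
      split_ifs <;> rfl⟩
  have h3 : ∀ v i, (d i).1 * v (i - m) = v i + (ζ - 1) * g⁻¹ v k * g (Pi.single k 1) i := fun v i => by
    rw [← h1, LinearEquiv.mul_apply, LinearEquiv.mul_apply, show mon (fun j => if j = k then ζ else 1) 0 (g⁻¹ v) =
      g⁻¹ v + ((ζ - 1) * g⁻¹ v k) • Pi.single k 1 from funext fun j => ?_, map_add, map_smul, ← LinearEquiv.mul_apply,
      mul_inv_cancel]
    · rfl
    change _ * g⁻¹ v (j - 0) = _
    by_cases e : j = k
    · simp [e, sub_mul]
    · simp [e]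
  by_cases hm : m = 0
  · have h4 := h3 (g (Pi.single k 1)) i
    have h5 := h3 (Pi.single i 1) i
    have h6 := h3 (Pi.single i 1) j
    rw [← LinearEquiv.mul_apply g⁻¹, inv_mul_cancel] at h4
    simp only [hm, sub_zero, LinearEquiv.coe_one, id, Pi.single_eq_same, Pi.single_eq_of_ne hj, mul_one, mul_zero,
      zero_add] at h4 h5 h6
    refine (mul_eq_zero.1 h6.symm).resolve_left fun e => h (Units.ext (mul_right_cancel₀ hi ?_))
    rw [e, zero_mul, add_zero] at h5
    rw [h5] at h4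
    simpa [sub_mul] using h4.symm
  have h4 : m + m ≠ 0 := fun e => hm (by
    rw [← two_mul, mul_eq_zero] at e
    exact e.resolve_left fun e => h2 ((Nat.prime_dvd_prime_iff_eq hp.out Nat.prime_two).1
      ((ZMod.natCast_eq_zero_iff 2 p).1 e)))
  have h5 := h3 (Pi.single 0 1) 0
  have h6 := h3 (Pi.single 0 1) (m + m)
  have h7 := h3 (Pi.single m 1) (m + m)
  simp only [zero_sub, add_sub_cancel_right, Pi.single_eq_same, Pi.single_eq_of_ne hm, Pi.single_eq_of_ne h4,
    Pi.single_eq_of_ne (neg_ne_zero.2 hm), Pi.single_eq_of_ne (add_ne_left.2 hm), mul_zero, zero_add, mul_one] at h5 h6 h7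
  rcases mul_eq_zero.1 h6.symm with e | e
  · exact absurd (show (0 : F) = 1 + ((ζ : F) - 1) * g⁻¹ (Pi.single 0 1) k * _ from h5) (by simp only [e]; simp)
  · simp [e] at h7

theorem exists_two (h2 : p ≠ 2) {ζ : Fˣ} (h : orderOf ζ = p) {x : (ZMod p → F) ≃ₗ[F] (ZMod p → F)} (hx : x ∈ SS ζ)
    (hF : (p : F) ≠ 0) : ∃ g, g ∉ normalizer (SS (p := p) ζ : Set ((ZMod p → F) ≃ₗ[F] (ZMod p → F))) ∧
      g⁻¹ * x * g ∈ SS ζ := by
  have h1 : ζ ≠ 1 := fun e => hp.out.one_lt.ne' (by rw [← h, e, orderOf_one])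
  have key : ∀ f : (ZMod p → F) →ₗ[F] (ZMod p → F), (∀ v, f v = 0 → v = 0) → ∀ y ∈ SS ζ, (∀ v, x (f v) = f (y v)) →
      ∀ k i j, j ≠ i → f (Pi.single k 1) i ≠ 0 → f (Pi.single k 1) j ≠ 0 → ∃ g, g ∉ normalizer (SS (p := p) ζ :
        Set ((ZMod p → F) ≃ₗ[F] (ZMod p → F))) ∧ g⁻¹ * x * g ∈ SS ζ := fun f f1 y y1 y2 k i j e1 e2 e3 =>
    ⟨.ofInjectiveEndo f ((injective_iff_map_eq_zero f).2 f1), fun e => e3 (mono h2 h1 e e2 e1), by
      rwa [show _ * x * _ = y by rw [mul_assoc, inv_mul_eq_iff_eq_mul]; exact LinearEquiv.ext y2]⟩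
  have h12 : (1 : ZMod p) + 1 ≠ 0 := fun e => h2 ((Nat.prime_dvd_prime_iff_eq hp.out Nat.prime_two).1
    ((ZMod.natCast_eq_zero_iff 2 p).1 (by rw [← e]; norm_num)))
  obtain ⟨d, m, hd⟩ := id hx
  by_cases hm : m = 0
  · simp only [hm, sub_zero] at hd
    by_cases h3 : Function.Injective fun i => ((d i).1 : F)
    · refine key (Matrix.toLin' (Matrix.of fun i k => ((d i).1 : F) ^ k.val)) (fun v hv => vand h3 fun j => ?_)
        (mon 1 1) ⟨1, 1, fun _ _ => rfl⟩ (fun v => funext fun i => ?_) 0 0 1 one_ne_zero (by simp) (by simp)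
      · simpa [Matrix.mulVec, dotProduct, mul_comm] using congrFun hv j
      simp only [hd, Matrix.toLin'_apply, Matrix.mulVec, dotProduct, Matrix.of_apply, Finset.mul_sum]
      refine Fintype.sum_equiv (Equiv.addRight 1) _ _ fun k => ?_
      change _ = _ * (1 * v (k + 1 - 1))
      rw [Equiv.coe_addRight, ZMod.val_add, ← pow_eq_pow_mod _ (by
        rw [← Units.val_pow_eq_pow_val, ← h, ← Nat.card_zpowers, ← coe_pow, pow_card_eq_one']; rfl), ZMod.val_one,
        add_sub_cancel_right]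
      ring
    obtain ⟨i, j, h4, h5⟩ := Function.not_injective_iff.1 h3
    refine key (.id + (LinearMap.single F _ i).comp (.proj j)) (fun v hv => ?_) x hx (fun v => funext fun l => ?_)
      j j i h5 (by simp [h5.symm]) (by simp [h5])
    · have h6 : v j = 0 := by simpa [h5.symm] using congrFun hv j
      simpa [h6] using hv
    · by_cases e : l = i
      · simp [hd, e, h4, mul_add]
      · simp [hd, e]
  by_cases h3 : ∀ v, x v - v = 0 → v = 0
  · exact key (x.toLinearMap - .id) h3 x hx (by simp) 0 0 m hm (by simp [hd, hm]) (by simp [hd, hm])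
  push Not at h3
  obtain ⟨w, w1, w2⟩ := h3
  rw [sub_eq_zero] at w1
  have w3 : ∀ i, w i = (d i).1 * w (i - m) := fun i => by rw [← hd, w1]
  have w4 : ∀ i, w i ≠ 0 := fun i e => w2 (funext fun j => by
    have : ∀ n : ℕ, w (i + n * m) = 0 := fun n => by
      induction n with
      | zero => simpa using e
      | succ n ih => rw [w3, Nat.cast_succ, add_mul, one_mul, ← add_assoc, add_sub_cancel_right, ih, mul_zero]
    simpa [hm] using this ((j - i) / m).val)
  let φ : (ZMod p → F) →ₗ[F] F := ∑ i, (w i)⁻¹ • .proj i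
  have φ1 : ∀ v, φ v = ∑ i, (w i)⁻¹ * v i := fun v => by simp [φ]
  have h4 : ((ζ : F) - 1) / p ≠ 0 := div_ne_zero (sub_ne_zero.2 fun e => h1 (Units.ext e)) hF
  refine key (.id + (((ζ : F) - 1) / p) • φ.smulRight w) (fun v hv => ?_) x hx (fun v => ?_) 0 1 (1 + 1)
    (by simp) (by simp [φ1, Pi.single_apply, w4, hF, h1, sub_eq_zero]) (by simp [φ1, Pi.single_apply, w4, hF, h1, h12, sub_eq_zero])
  · have h5 : φ w = p := by simp [φ1, w4]
    have h6 := congrArg φ hv
    simp only [LinearMap.add_apply, LinearMap.id_apply, LinearMap.smul_apply, LinearMap.smulRight_apply, map_add,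
      map_smul, h5, smul_eq_mul, map_zero] at h6 hv
    have h7 : φ v = 0 := mul_left_cancel₀ ζ.ne_zero (by field_simp at h6; linear_combination h6)
    simpa [h7] using hv
  · have h5 : φ (x v) = φ v := by
      rw [φ1, φ1]
      exact Fintype.sum_equiv (Equiv.subRight m) _ _ fun i => by rw [hd, w3 i]; simp [mul_assoc]
    simp [h5, w1]

end

/-- Let p be an odd prime and F a finite field with q elements such that p divides q - 1 but p² does not. Then GL(p, F) has a Sylow p-subgroup Q such that every element of p-power order lies in some Sylow p-subgroup other than Q (a redundant Sylow p-subgroup). -/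
theorem result {F : Type*} [Field F] [Fintype F] (p : ℕ) [Fact p.Prime]
    (hp : p ≠ 2) (h1 : p ∣ Fintype.card F - 1) (h2 : ¬ p ^ 2 ∣ Fintype.card F - 1) :
    ∃ Q : Sylow p (Matrix.GeneralLinearGroup (Fin p) F), ∀ x : Matrix.GeneralLinearGroup (Fin p) F,
      (∃ k : ℕ, orderOf x = p ^ k) → ∃ P : Sylow p (Matrix.GeneralLinearGroup (Fin p) F), P ≠ Q ∧ x ∈ P := by
  have hq := Fintype.one_lt_card (α := F)
  have hp' : p.Prime := Fact.out
  let e : GL (Fin p) F ≃* ((ZMod p → F) ≃ₗ[F] (ZMod p → F)) := (Matrix.GeneralLinearGroup.toLin.trans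
    (LinearMap.GeneralLinearGroup.congrLinearEquiv (LinearEquiv.funCongrLeft F F (ZMod.finEquiv p).symm.toEquiv))).trans
    (LinearMap.GeneralLinearGroup.generalLinearEquiv F _)
  have := Finite.of_equiv _ e.toEquiv
  rw [red_iff, uq_iff (f := e.toMonoidHom) e.surjective (((MonoidHom.ker_eq_bot_iff _).2 e.injective).le.trans bot_le)]
  rintro ⟨x, h3, h4⟩
  obtain ⟨ζ, hζ⟩ := exists_prime_orderOf_dvd_card' (G := Fˣ) p (by rwa [Nat.card_units, Nat.card_eq_fintype_card])
  have h5 : ¬ p ∣ Fintype.card F := fun e => hp'.one_lt.ne' (Nat.dvd_one.1 (by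
    simpa [Nat.sub_sub_self hq.le] using Nat.dvd_sub e h1))
  have h6 : IsSylowIn p (SS (p := p) ζ) ⊤ := ⟨le_top, .of_card (card_SS hζ), fun h => by
    rw [relIndex_top_right] at h
    replace h := (mul_dvd_mul_left _ h).trans (SS (p := p) ζ).card_mul_index.dvd
    rw [card_SS hζ, ← pow_succ, ← Nat.card_congr e.toEquiv, Matrix.card_GL_field, pow_dvd_iff_le_emultiplicity,
      Finset.emultiplicity_prod hp'.prime, Finset.sum_congr rfl (g := fun i => 1 + if i = 0 then 1 else 0) fun i _ => ?_,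
      Finset.sum_add_distrib] at h
    · simp only [Finset.sum_const, Finset.card_univ, Fintype.card_fin, nsmul_eq_mul, mul_one, Finset.sum_ite_eq',
        Finset.mem_univ, if_true] at h
      norm_cast at h
      omega
    have k := Nat.emultiplicity_pow_sub_pow hp' (hp'.odd_of_ne_two hp) h1 h5 (p - i)
    rw [one_pow] at k
    rw [show Fintype.card F ^ p - Fintype.card F ^ i.1 = Fintype.card F ^ i.1 * (Fintype.card F ^ (p - i) - 1) by
      rw [mul_tsub, ← pow_add, Nat.add_sub_cancel' i.2.le, mul_one], emultiplicity_mul hp'.prime,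
      emultiplicity_eq_zero.2 fun e => h5 (hp'.dvd_of_dvd_pow e), zero_add, k,
      emultiplicity_eq_of_dvd_of_not_dvd (k := 1) (by rwa [pow_one]) h2]
    split_ifs with e
    · simp [e, hp'.emultiplicity_self]
    · rw [emultiplicity_eq_zero.2 (Nat.not_dvd_of_pos_of_lt (Nat.sub_pos_of_lt i.2) (Nat.sub_lt hp'.pos
        (Nat.pos_of_ne_zero fun h => e (Fin.ext h))))]
      rfl⟩
  obtain ⟨k, -, h7⟩ := h6.exists_conj_mem (mem_top x) h3
  obtain ⟨g, h8, h9⟩ := exists_two hp hζ h7 ((isUnit_iff_not_dvd_char F p).2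
    fun e => h5 ((prime_dvd_char_iff_dvd_card p).1 e)).ne_zero
  exact h8 (mem_normalizer_iff_cj.2 (cj_injective k⁻¹ (h4 _ _ ((h6.cj_of_mem (mem_top g)).cj_of_mem (mem_top _))
    (h6.cj_of_mem (mem_top _)) (mem_cj.2 (mem_cj.2 (by rwa [inv_inv]))) (mem_cj.2 (by rwa [inv_inv])))))

end Cfsg.Agent.S4358
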