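import Cfsg.Statements.S4363
import Cfsg.Agent.Lib.Tur.Main

set_option autoImplicit false
open Cfsg

namespace Cfsg.Agent.S4363

open CfsgLib CfsgLib.Coprime CfsgLib.FPF CfsgLib.Tur Subgroup SemidirectProduct in
/-- Let G be a finite solvable group and σ an automorphism of G of prime order r not dividing the order of G, with fixed-point subgroup C. Then the Fitting height of G exceeds that of C by at most 2: if C has a chain of normal subgroups 1 = C₀ ≤ ⋯ ≤ Cₙ = C with nilpotent factors, then G has such a chain of length n + 2. -/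
theorem result {G : Type*} [Group G] [Finite G]
    (hG : Group.IsSolvable G) (σ : MulAut G) (r : ℕ) (hr : r.Prime) (hσ : orderOf σ = r) (hcop : ¬ r ∣ Nat.card G)
    (C : Subgroup G) (hC : ∀ g : G, g ∈ C ↔ σ g = g) (n : ℕ) (hn : (∃ F : Fin (n + 1) → Subgroup ↥C, F 0 = ⊥ ∧ F (Fin.last n) = ⊤ ∧ Monotone F ∧ (∀ i, (F i).Normal) ∧ ∀ i : Fin n, ∃ k : ℕ, (F i.succ).lowerCentralSeries k ≤ F i.castSucc)) :
    (∃ F : Fin ((n + 2) + 1) → Subgroup G, F 0 = ⊥ ∧ F (Fin.last (n + 2)) = ⊤ ∧ Monotone F ∧ (∀ i, (F i).Normal) ∧ ∀ i : Fin (n + 2), ∃ k : ℕ, (F i.succ).lowerCentralSeries k ≤ F i.castSucc) := by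
  rw [chain_iff] at hn ⊢
  set φ := (zpowers σ).subtype
  have : Finite (G ⋊[φ] zpowers σ) := finite_sd
  rw [← fitSer_sdL φ]
  refine fitSer_add_two hr (σ := inr ⟨σ, mem_zpowers σ⟩) ?_ (isSolvable_sdL φ hG)
    (by rwa [card_sdL, card_top]) ((autInv_top (φ := φ)).sdR_le ⊤ (inr_mem_sdR.2 (mem_top _))) ?_
  · rw [← map_pow, show (⟨σ, mem_zpowers σ⟩ : zpowers σ) ^ r = 1 from
      Subtype.ext (hσ ▸ pow_orderOf_eq_one σ), map_one]
  · refine eq_bot_iff.2 ((fitSer_mono n ?_).trans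
      ((fitSer_sdL φ n C).2 (fitSer_top_eq_bot_iff.1 hn)).le)
    rintro _ ⟨⟨g, -, rfl⟩, h⟩
    exact inl_mem_sdL.2 ((hC g).2 (inr_mul_inl_comm_iff.1 (mem_cz.1 h)))

end Cfsg.Agent.S4363
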