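import Cfsg.Statements.S4367
import Cfsg.Agent.Lib.ClassGr.PPart

set_option autoImplicit false
open Cfsg

namespace Cfsg.Agent.S4367

open Subgroup CfsgLib CfsgLib.ClassGr in
/-- Let N be a non-solvable normal subgroup of a finite group G and m a natural number dividing the size of the conjugacy class in G of every element of N of prime-power order lying outside the center of N. Then m divides the order of the center of N. -/
theorem result {G : Type*} [Group G] [Finite G]
    (N : Subgroup G) [N.Normal] (hN : ¬ Group.IsSolvable N) (m : ℕ)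
    (h : ∀ x : G, x ∈ N → (∃ y ∈ N, x * y ≠ y * x) → IsPrimePow (orderOf x) → m ∣ (Subgroup.centralizer ({x} : Set G)).index) :
    m ∣ Nat.card (Subgroup.center N) := by
  have h' : ∀ x ∈ N, x ∉ centralizer (N : Set G) → IsPrimePow (orderOf x) →
      m ∣ (centralizer ({x} : Set G)).index := fun x hx e => h x hx (by
    by_contra h1
    push Not at h1
    exact e fun y hy => (h1 y hy).symm)
  refine (Nat.dvd_iff_prime_pow_dvd_dvd _ _).2 fun p a hp hm => ?_
  have := Fact.mk hp
  rcases Nat.eq_zero_or_pos a with rfl | ha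
  · simp
  obtain ⟨P⟩ : Nonempty (Sylow p G) := inferInstance
  by_cases hP : (P : Subgroup G) ⊓ N ≤ centralizer (N : Set G)
  · exact absurd (pp_central P (fun x hx e h1 =>
      ((dvd_pow_self p ha.ne').trans hm).trans (h' x hx e h1)) hP).1 hN
  have h1 := pp_dvd P (a := a) (fun x hx e => hm.trans (h' x hx.2 e ?_)) hP
  · refine h1.trans ((card_dvd_of_le (show (P : Subgroup G) ⊓ N ⊓ centralizer (N : Set G) ≤
      (center N).map N.subtype from fun x hx =>
      ⟨⟨x, hx.1.2⟩, mem_center_iff.2 fun g => Subtype.ext (hx.2 g g.2), rfl⟩)).trans ?_)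
    rw [card_map_of_injective (subtype_injective _)]
  · obtain ⟨k, hk⟩ := Fgs.orderOf_eq_pow_of_mem_isPGroup P.isPGroup' hx.1
    refine ⟨p, k, hp.prime, Nat.pos_of_ne_zero fun e' => e ?_, hk.symm⟩
    rw [e', pow_zero, orderOf_eq_one_iff] at hk
    rw [hk]
    exact one_mem _

end Cfsg.Agent.S4367
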