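import Cfsg.Statements.S4391
import Cfsg.Agent.S4124
import Cfsg.Agent.Lib.FpfS.Cls

set_option autoImplicit false
open Cfsg

namespace Cfsg.Agent.S4391

/-- Let the finite group A act faithfully on the finite group G by automorphisms, and suppose A is a Frobenius group with kernel F (a normal subgroup) and complement H such that F fixes only the identity of G; write C for the fixed-point subgroup C_G(H) (the orders of G and A need not be coprime). Then for every prime p, G and C have the same p-length: for each k, G has p-length at most k (O_{p′,p,p′,…,p,p′}(G) = G with k occurrences of p) exactly when C has p-length at most k. -/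
theorem result {G A : Type*} [Group G] [Finite G] [Group A] [Finite A] [MulDistribMulAction A G] [FaithfulSMul A G]
    (Fk Hc : Subgroup A) [Fk.Normal] (hHc : Cfsg.IsFrobeniusComplement Hc) (hker : Cfsg.frobeniusKernel Hc = (Fk : Set A))
    (hCF : ∀ g : G, (∀ f ∈ Fk, f • g = g) → g = 1)
    (C : Subgroup G) (hC : ∀ g : G, g ∈ C ↔ ∀ h ∈ Hc, h • g = g) (p : ℕ) [Fact p.Prime] (k : ℕ) :
    Cfsg.PLengthLE p k G ↔ Cfsg.PLengthLE p k ↥C := by
  obtain ⟨N, h1, -, -, -, h2, h3⟩ := CfsgLib.Frob.exists_nilpotent_kernel hHc
  obtain rfl : N = Fk := SetLike.coe_injective (h1.trans hker)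
  obtain rfl : C = CfsgLib.KMS.fix (MulDistribMulAction.toMulAut A G) Hc :=
    Subgroup.ext fun g => (hC g).trans (CfsgLib.KMS.mem_fix (φ := MulDistribMulAction.toMulAut A G)).symm
  have hs := Cfsg.Agent.S4124.result (G := G) h3 fun g hg => hCF g fun f hf => hg ⟨f, hf⟩
  have hP := (CfsgLib.KMS.fix_eq_bot_iff (φ := MulDistribMulAction.toMulAut A G)).2 hCF
  exact (CfsgLib.FpfS.cls_frob h3 h2).pLength_iff (CfsgLib.FpfS.triv_frob h3 h2) hs hP Fact.out k

end Cfsg.Agent.S4391
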