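import Cfsg.Statements.S4394
import Cfsg.Agent.S3736
import Cfsg.Agent.Lib.PLen.Basic
import Cfsg.Agent.Lib.SolvStruct.MinNonNilp
import Cfsg.Agent.Lib.Coprime.Generation
import Cfsg.Agent.Lib.PLocal.StableClosure
import Cfsg.Agent.Lib.Fgs.SylowNumber
import Cfsg.Agent.Lib.PLocal.QuadSep

set_option autoImplicit false
open Cfsg

namespace Cfsg.Agent.S4394

open Subgroup CfsgLib
open scoped commutatorElement

section
variable {G : Type*} [Group G]

/-- the properties of the Sylow subgroup that pass to images -/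
structure Good (p : ℕ) (S : Subgroup G) : Prop where
  c2 : ∀ a ∈ S, ∀ b ∈ S, ∀ c ∈ S, ⁅a, b⁆ * c = c * ⁅a, b⁆
  E : ∀ x ∈ S, ∀ y ∈ S, x * y ≠ y * x → ∀ a ∈ S, ∀ b ∈ S, ∃ g ∈ S, ⁅x, g⁆ = ⁅a, b⁆
  F : ∀ v ∈ S, ∀ a ∈ S, v * a ≠ a * v →
    (∀ g ∈ S, ∃ i j : ℕ, ∃ z ∈ S, (∀ s ∈ S, z * s = s * z) ∧ g = v ^ i * a ^ j * z) →
    p ≠ 3 ∧ (p = 2 → v ^ 2 = ⁅v, a⁆)

theorem Good.range {p : ℕ} {S : Subgroup G} (h : Good p S) {H : Type*} [Group H] (f : S →* H) :
    Good p f.range := by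
  refine ⟨?_, ?_, ?_⟩
  · rintro _ ⟨a, rfl⟩ _ ⟨b, rfl⟩ _ ⟨c, rfl⟩
    have : ⁅a, b⁆ * c = c * ⁅a, b⁆ := Subtype.ext (h.c2 a a.2 b b.2 c c.2)
    rw [← map_commutatorElement, ← map_mul, ← map_mul, this]
  · rintro _ ⟨x, rfl⟩ _ ⟨y, rfl⟩ hne _ ⟨a, rfl⟩ _ ⟨b, rfl⟩
    have h1 : (x : G) * y ≠ y * x := fun e => hne (by
      have : x * y = y * x := Subtype.ext e
      rw [← map_mul, ← map_mul, this])
    obtain ⟨g, hg, e⟩ := h.E x x.2 y y.2 h1 a a.2 b b.2
    have : ⁅x, (⟨g, hg⟩ : S)⁆ = ⁅a, b⁆ := Subtype.ext e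
    exact ⟨f ⟨g, hg⟩, ⟨_, rfl⟩, by rw [← map_commutatorElement, ← map_commutatorElement, this]⟩
  · rintro _ ⟨v, rfl⟩ _ ⟨a, rfl⟩ hne hgen
    have h1 : (v : G) * a ≠ a * v := fun e => hne (by
      have : v * a = a * v := Subtype.ext e
      rw [← map_mul, ← map_mul, this])
    have h2 := h.F v v.2 a a.2 h1 (fun g hg => by
      obtain ⟨i, j, z, -, hz, e⟩ := hgen (f ⟨g, hg⟩) ⟨_, rfl⟩
      set z0 : S := (v ^ i * a ^ j)⁻¹ * ⟨g, hg⟩ with hz0
      have hfz : f z0 = z := by rw [hz0, map_mul, map_inv, map_mul, map_pow, map_pow, e]; group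
      refine ⟨i, j, z0, z0.2, fun s hs => ?_, by simp only [hz0, coe_mul, coe_inv, coe_pow]; group⟩
      by_contra hc
      obtain ⟨g', hg', e'⟩ := h.E z0 z0.2 s hs hc v v.2 a a.2
      have e2 : ⁅z0, (⟨g', hg'⟩ : S)⁆ = ⁅v, a⁆ := Subtype.ext e'
      have e3 := congrArg f e2
      rw [map_commutatorElement, map_commutatorElement, hfz,
        commutatorElement_eq_one_iff_mul_comm.2 (hz _ ⟨_, rfl⟩)] at e3
      exact hne (commutatorElement_eq_one_iff_mul_comm.1 e3.symm))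
    refine ⟨h2.1, fun hp => ?_⟩
    have : v ^ 2 = ⁅v, a⁆ := Subtype.ext (h2.2 hp)
    rw [← map_pow, this, map_commutatorElement]

theorem comm_mul_right {S : Subgroup G}
    (c2 : ∀ a ∈ S, ∀ b ∈ S, ∀ c ∈ S, ⁅a, b⁆ * c = c * ⁅a, b⁆) {x g h : G} (hx : x ∈ S)
    (hg : g ∈ S) (hh : h ∈ S) : ⁅x, g * h⁆ = ⁅x, g⁆ * ⁅x, h⁆ := by
  have := c2 x hx h hh g hg
  calc ⁅x, g * h⁆ = ⁅x, g⁆ * (g * ⁅x, h⁆) * g⁻¹ := by simp only [commutatorElement_def]; group
    _ = _ := by rw [← this]; group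

theorem comm_mul_left {S : Subgroup G}
    (c2 : ∀ a ∈ S, ∀ b ∈ S, ∀ c ∈ S, ⁅a, b⁆ * c = c * ⁅a, b⁆) {x g h : G} (hx : x ∈ S)
    (hg : g ∈ S) (hh : h ∈ S) : ⁅g * h, x⁆ = ⁅h, x⁆ * ⁅g, x⁆ := by
  have := c2 h hh x hx g hg
  calc ⁅g * h, x⁆ = (g * ⁅h, x⁆) * g⁻¹ * ⁅g, x⁆ := by simp only [commutatorElement_def]; group
    _ = _ := by rw [← this]; group

theorem comm_pow_right {S : Subgroup G}
    (c2 : ∀ a ∈ S, ∀ b ∈ S, ∀ c ∈ S, ⁅a, b⁆ * c = c * ⁅a, b⁆) {x g : G} (hx : x ∈ S)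
    (hg : g ∈ S) (n : ℕ) : ⁅x, g ^ n⁆ = ⁅x, g⁆ ^ n := by
  induction n with
  | zero => simp
  | succ n ih => rw [pow_succ, comm_mul_right c2 hx (pow_mem hg n) hg, ih, pow_succ]

theorem comm_pow_left {S : Subgroup G}
    (c2 : ∀ a ∈ S, ∀ b ∈ S, ∀ c ∈ S, ⁅a, b⁆ * c = c * ⁅a, b⁆) {x g : G} (hx : x ∈ S)
    (hg : g ∈ S) (n : ℕ) : ⁅g ^ n, x⁆ = ⁅g, x⁆ ^ n := by
  induction n with
  | zero => simp
  | succ n ih => rw [pow_succ', comm_mul_left c2 hx hg (pow_mem hg n), ih, pow_succ]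

/-- `h` stabilises the chain `1 ≤ W ≤ V` -/
def St (V W : Subgroup G) (h : G) : Prop :=
  (∀ w ∈ W, h * w = w * h) ∧ ∀ v ∈ V, h * v * h⁻¹ * v⁻¹ ∈ W

theorem St.pow_conj {V W : Subgroup G} {h : G} (hh : St V W h) {v : G} (hv : v ∈ V) (m : ℕ) :
    h ^ m * v * (h ^ m)⁻¹ = (h * v * h⁻¹ * v⁻¹) ^ m * v := by
  induction m with
  | zero => simp
  | succ m ih =>
    set w := h * v * h⁻¹ * v⁻¹ with hw
    have hw' : Commute h w := hh.1 w (hh.2 v hv)
    have e1 : h * w ^ m = w ^ m * h := (hw'.pow_right m).eq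
    calc h ^ (m + 1) * v * (h ^ (m + 1))⁻¹ = h * (h ^ m * v * (h ^ m)⁻¹) * h⁻¹ := by
          rw [pow_succ']; group
      _ = (h * w ^ m) * v * h⁻¹ := by rw [ih]; group
      _ = w ^ m * (h * v * h⁻¹ * v⁻¹) * v := by rw [e1]; group
      _ = _ := by rw [← hw, pow_succ]

theorem St.comm {V W : Subgroup G} [V.Normal] {g s : G} (hs : St V W s) (hs' : St V W s⁻¹)
    (hg : g ∈ normalizer (W : Set G)) : St V W ⁅g, s⁆ := by
  have h1 : St V W (g * s * g⁻¹) := by
    refine ⟨fun w hw => ?_, fun v hv => ?_⟩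
    · have h2 : g⁻¹ * w * g ∈ W := by
        have := (mem_normalizer_iff.1 (inv_mem hg) w).1 hw
        rwa [inv_inv] at this
      have := hs.1 _ h2
      calc g * s * g⁻¹ * w = g * (s * (g⁻¹ * w * g)) * g⁻¹ := by group
        _ = _ := by rw [this]; group
    · have h2 : g⁻¹ * v * g ∈ V := by
        have := Normal.conj_mem inferInstance v hv g⁻¹
        rwa [inv_inv] at this
      have := (mem_normalizer_iff.1 hg _).1 (hs.2 _ h2)
      convert this using 1
      group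
  refine ⟨fun w hw => ?_, fun v hv => ?_⟩
  · have e1 := h1.1 w hw
    have e2 := hs'.1 w hw
    calc ⁅g, s⁆ * w = g * s * g⁻¹ * (s⁻¹ * w) := by simp only [commutatorElement_def]; group
      _ = (g * s * g⁻¹ * w) * s⁻¹ := by rw [e2]; group
      _ = _ := by rw [e1]; simp only [commutatorElement_def]; group
  · have e1 := hs'.2 v hv
    have e2 := h1.2 v hv
    have e3 := h1.1 _ e1
    have : ⁅g, s⁆ * v * ⁅g, s⁆⁻¹ * v⁻¹ = (g * s * g⁻¹ * (s⁻¹ * v * s⁻¹⁻¹ * v⁻¹)) *
        (g * s * g⁻¹)⁻¹ * (g * s * g⁻¹ * v * (g * s * g⁻¹)⁻¹ * v⁻¹) := by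
      simp only [commutatorElement_def]; group
    rw [this, e3, mul_inv_cancel_right]
    exact mul_mem e1 e2

theorem main [Finite G] {p : ℕ} [hp : Fact p.Prime] (hG : IsPSolvable p G)
    (hV : IsElementaryAbelian p (pCore p G))
    (hc : centralizer (pCore p G : Set G) ≤ pCore p G) {S : Subgroup G} (hS : IsPGroup p S)
    (hVS : pCore p G ≤ S) (h : Good p S) : S ≤ pCore p G := by
  classical
  set V := pCore p G with hVdef
  have hVc : ∀ u ∈ V, ∀ v ∈ V, u * v = v * u := fun u hu v hv => by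
    have := hV.1
    exact setLike_mul_comm hu hv
  have hcV : ∀ x : G, (∀ v ∈ V, x * v = v * x) → x ∈ V := fun x hx =>
    hc (mem_centralizer_iff.2 fun v hv => (hx v hv).symm)
  by_cases h5 : 5 ≤ p
  · intro s hs
    have hst := PLocal.StableW.isPStableOn_of_isPSolvable h5 hG V hV s (by
      rw [eq_bot_iff]
      refine commutator_le.2 fun x hx y hy => ?_
      rw [mem_bot, commutatorElement_eq_one_iff_mul_comm]
      have hx' : x ∈ centralizer (S : Set G) := by
        refine (commutator_le.2 fun a ha b hb => ?_ : ⁅V, zpowers s⁆ ≤ centralizer (S : Set G)) hx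
        exact mem_centralizer_iff.2 fun c hc =>
          (h.c2 a (hVS ha) b (zpowers_le.2 hs hb) c hc).symm
      exact (mem_centralizer_iff.1 hx' y (zpowers_le.2 hs hy)).symm)
    have hk : IsPGroup p (QuotientGroup.mk' (centralizer (V : Set G))).ker := by
      rw [QuotientGroup.ker_mk']
      exact (Core.isPGroup_pCore p G).to_le hc
    have := PLocal.PSolv.comap_pCore_of_isPGroup_ker (QuotientGroup.mk'_surjective _) hk
    rw [hVdef, ← this]
    exact hst
  by_contra hSV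
  have hcommV : ∀ a ∈ S, ∀ b ∈ S, ⁅a, b⁆ ∈ V := fun a ha b hb =>
    hcV _ fun v hv => h.c2 a ha b hb v (hVS hv)
  have hpowV : ∀ a ∈ S, a ^ p ∈ V := fun a ha => hcV _ fun v hv => by
    rw [← commutatorElement_eq_one_iff_mul_comm, comm_pow_left h.c2 (hVS hv) ha]
    exact hV.2 _ (hcommV a ha v (hVS hv))
  set π := QuotientGroup.mk' V with hπ
  have hπ1 : ∀ x, π x = 1 ↔ x ∈ V := fun x => QuotientGroup.eq_one_iff x
  have hπs : Function.Surjective π := QuotientGroup.mk'_surjective V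
  set A := S.map π with hA
  set Q := pPrimeCore p (G ⧸ V) with hQ
  have hAp : IsPGroup p A := hS.map π
  have hAc : IsMulCommutative A := ⟨⟨by
    rintro ⟨_, a, ha, rfl⟩ ⟨_, b, hb, rfl⟩
    refine Subtype.ext ?_
    change π a * π b = π b * π a
    rw [← commutatorElement_eq_one_iff_mul_comm, ← map_commutatorElement, hπ1]
    exact hcommV a ha b hb⟩⟩
  have hQc : (Nat.card Q).Coprime p := PLocal.PSolv.coprime_card_pPrimeCore
  have hAQ : (Nat.card A).Coprime (Nat.card Q) :=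
    (Coprime.coprime_card_of_isPGroup hAp hQc).symm
  have hCQ : centralizer (Q : Set (G ⧸ V)) ≤ Q :=
    PLocal.centralizer_pPrimeCore_le (PLocal.PSolv.quotient hG V)
      PLocal.PSolv.pCore_quotient
  have hnot : ¬ Q ≤ centralizer (A : Set (G ⧸ V)) := fun hle => by
    have h1 : A ≤ Q := (le_centralizer_iff.1 hle).trans hCQ
    have h2 := PLocal.PSolv.disjoint_of_isPGroup_of_coprime hAp hQc
    apply hSV
    intro s hs
    rw [← hπ1]
    exact (Subgroup.disjoint_def.1 h2) (mem_map_of_mem π hs) (h1 (mem_map_of_mem π hs))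
  obtain ⟨B, hBA, ⟨_, ⟨a, haS, rfl⟩, hBa⟩, hB⟩ : ∃ B : Subgroup (G ⧸ V), B ≤ A ∧
      (∃ a ∈ A, B ⊔ zpowers a = A) ∧
      ¬ Q ⊓ centralizer (B : Set (G ⧸ V)) ≤ centralizer (A : Set (G ⧸ V)) := by
    by_contra hcon
    push Not at hcon
    exact hnot (Coprime.le_of_forall_cyclic_quotient le_normalizer_of_normal hAQ hcon)
  obtain ⟨g', ⟨hgQ, hgB⟩, hgA⟩ := SetLike.not_le_iff_exists.1 hB
  obtain ⟨g, rfl⟩ := hπs g'
  -- the stabiliser argument
  have star : ∀ W : Subgroup G, W ≤ V → (∀ s ∈ S, St V W s) → g ∈ normalizer (W : Set G) →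
      False := by
    intro W hWV hW hg
    apply hgA
    rw [mem_centralizer_iff]
    rintro _ ⟨s, hs, rfl⟩
    have h1 := (hW s hs).comm (hW _ (inv_mem hs)) hg
    have h2 : π ⁅g, s⁆ ∈ Q := by
      rw [map_commutatorElement, commutatorElement_def, mul_assoc, mul_assoc]
      refine mul_mem hgQ ?_
      rw [← mul_assoc]
      exact Normal.conj_mem inferInstance _ (inv_mem hgQ) _
    have h3 : ⁅g, s⁆ ^ Nat.card Q ∈ V := by
      rw [← hπ1, map_pow]
      have := pow_card_eq_one' (x := (⟨_, h2⟩ : Q))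
      exact congrArg Subtype.val this
    have h4 : ⁅g, s⁆ ∈ V := hcV _ fun v hv => by
      have e1 := h1.pow_conj hv (Nat.card Q)
      rw [hVc _ h3 v hv, mul_inv_cancel_right] at e1
      have e2 : (⁅g, s⁆ * v * ⁅g, s⁆⁻¹ * v⁻¹) ^ Nat.card Q = 1 := by
        have := e1.symm
        rwa [mul_eq_right] at this
      have e3 := hV.2 _ (hWV (h1.2 v hv))
      have e4 : ⁅g, s⁆ * v * ⁅g, s⁆⁻¹ * v⁻¹ = 1 := by
        rw [← orderOf_eq_one_iff]
        exact Nat.eq_one_of_dvd_coprimes hQc (orderOf_dvd_of_pow_eq_one e2)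
          (orderOf_dvd_of_pow_eq_one e3)
      exact commutatorElement_eq_one_iff_mul_comm.1 e4
    rw [← hπ1, map_commutatorElement, commutatorElement_eq_one_iff_mul_comm] at h4
    exact h4.symm
  have hgb : ∀ b, π b ∈ B → ∃ v ∈ V, g⁻¹ * b * g = b * v ∧ ∃ v' ∈ V, g * b * g⁻¹ = b * v' := by
    intro b hb
    have e := mem_centralizer_iff.1 hgB _ hb
    refine ⟨b⁻¹ * (g⁻¹ * b * g), ?_, by group, b⁻¹ * (g * b * g⁻¹), ?_, by group⟩
    · rw [← hπ1]
      simp only [map_mul, map_inv]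
      rw [mul_assoc (π g)⁻¹, e]; group
    · rw [← hπ1]
      simp only [map_mul, map_inv]
      rw [← e]; group
  have hdec : ∀ s ∈ S, ∃ i : ℕ, ∃ b ∈ S, π b ∈ B ∧ s = b * a ^ i := by
    intro s hs
    have h1 : π s ∈ B ⊔ zpowers (π a) := by rw [hBa]; exact mem_map_of_mem π hs
    have h2 : ∀ y ∈ B ⊔ zpowers (π a), ∃ i : ℕ, y * ((π a) ^ i)⁻¹ ∈ B := by
      intro y hy
      rw [sup_eq_closure] at hy
      induction hy using closure_induction'' with
      | one => exact ⟨0, by simp⟩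
      | mem x hx =>
        rcases hx with hx | hx
        · exact ⟨0, by simpa using hx⟩
        · obtain ⟨i, rfl⟩ := (mem_powers_iff_mem_zpowers.2 hx)
          exact ⟨i, by simp⟩
      | inv_mem x hx =>
        rcases hx with hx | hx
        · exact ⟨0, by simpa using B.inv_mem hx⟩
        · obtain ⟨i, hi⟩ := (mem_powers_iff_mem_zpowers.2 (inv_mem hx))
          exact ⟨i, by rw [← hi]; simp⟩
      | mul x y hx hy ihx ihy =>
        obtain ⟨i, hi⟩ := ihx
        obtain ⟨j, hj⟩ := ihy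
        refine ⟨i + j, ?_⟩
        have e : (π a) ^ i * (y * ((π a) ^ j)⁻¹) = (y * ((π a) ^ j)⁻¹) * (π a) ^ i :=
          setLike_mul_comm (pow_mem (mem_map_of_mem π haS) i) (hBA hj)
        have : x * y * ((π a) ^ (i + j))⁻¹ =
            (x * ((π a) ^ i)⁻¹) * ((π a) ^ i * (y * ((π a) ^ j)⁻¹)) * ((π a) ^ i)⁻¹ := by
          rw [pow_add]; group
        rw [this, e, mul_assoc, mul_inv_cancel_right]
        exact mul_mem hi hj
    obtain ⟨i, hi⟩ := h2 _ h1
    exact ⟨i, s * (a ^ i)⁻¹, mul_mem hs (inv_mem (pow_mem haS i)),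
      by simpa only [map_mul, map_inv, map_pow] using hi, by group⟩
  -- step 1
  obtain ⟨v, hv, hvB, hva⟩ : ∃ v ∈ V, (∀ b ∈ S, π b ∈ B → v * b = b * v) ∧ v * a ≠ a * v := by
    by_contra hcon
    push Not at hcon
    have hZ : ∀ v ∈ V, (∀ b ∈ S, π b ∈ B → v * b = b * v) → ∀ s ∈ S, s * v = v * s := by
      intro v hv hvB s hs
      obtain ⟨i, b, hb, hbB, rfl⟩ := hdec s hs
      have e1 : Commute v a := hcon v hv hvB
      have e2 : Commute v b := hvB b hb hbB
      exact (e2.mul_right (e1.pow_right i)).eq.symm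
    refine star (V ⊓ centralizer (S : Set G)) inf_le_left (fun s hs => ⟨fun w hw =>
      mem_centralizer_iff.1 hw.2 s hs, fun u hu => ⟨hcommV s hs u (hVS hu),
        mem_centralizer_iff.2 fun c hc => (h.c2 s hs u (hVS hu) c hc).symm⟩⟩) ?_
    refine Core.mem_normalizer_of_forall_conj_mem fun w hw => ⟨Normal.conj_mem inferInstance _ hw.1 _,
      mem_centralizer_iff.2 fun s hs => hZ _ (Normal.conj_mem inferInstance _ hw.1 _)
        (fun b hb hbB => ?_) s hs⟩
    obtain ⟨u, hu, e, -⟩ := hgb b hbB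
    have e1 : Commute w (b * u) :=
      Commute.mul_right (mem_centralizer_iff.1 hw.2 b hb).symm (hVc w hw.1 u hu)
    rw [← e] at e1
    calc g * w * g⁻¹ * b = g * (w * (g⁻¹ * b * g)) * g⁻¹ := by group
      _ = _ := by rw [e1.eq]; group
  set d := ⁅v, a⁆ with hd
  have hd1 : d ≠ 1 := fun e => hva (commutatorElement_eq_one_iff_mul_comm.1 e)
  have hdV : d ∈ V := hcommV v (hVS hv) a haS
  have hdo : orderOf d = p := orderOf_eq_prime (hV.2 d hdV) hd1
  have hall : ∀ x ∈ S, ∀ y ∈ S, ∃ i : ℕ, ⁅x, y⁆ = d ^ i := by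
    intro x hx y hy
    obtain ⟨s, hs, e⟩ := h.E v (hVS hv) a haS hva x hx y hy
    obtain ⟨i, b, hb, hbB, rfl⟩ := hdec s hs
    refine ⟨i, ?_⟩
    rw [← e, comm_mul_right h.c2 (hVS hv) hb (pow_mem haS i),
      commutatorElement_eq_one_iff_mul_comm.2 (hvB b hb hbB), one_mul,
      comm_pow_right h.c2 (hVS hv) haS]
  -- step 2
  have hB1 : ∀ b ∈ S, π b ∈ B → b ∈ V := by
    intro b hb hbB
    by_contra hbV
    obtain ⟨u, hu, hub⟩ : ∃ u ∈ V, b * u ≠ u * b := by
      by_contra hcon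
      push Not at hcon
      exact hbV (hcV b hcon)
    have he1 : ⁅u, b⁆ ≠ 1 := fun e => hub (commutatorElement_eq_one_iff_mul_comm.1 e).symm
    have heD : ⁅u, b⁆ ∈ zpowers d := by
      obtain ⟨i, hi⟩ := hall u (hVS hu) b hb
      rw [hi]; exact pow_mem (mem_zpowers d) i
    have hDe : zpowers d ≤ zpowers ⁅u, b⁆ := by
      have hcard : Nat.card (zpowers d) = p := by rw [Nat.card_zpowers, hdo]
      have h1 : zpowers ⁅u, b⁆ ≤ zpowers d := zpowers_le.2 heD
      have h2 : orderOf ⁅u, b⁆ = p := orderOf_eq_prime (hV.2 _ (hcommV u (hVS hu) b hb)) he1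
      exact (eq_of_le_of_card_ge h1 (by rw [Nat.card_zpowers, Nat.card_zpowers, hdo, h2])).ge
    refine star (zpowers d) (zpowers_le.2 hdV) (fun s hs => ⟨fun w hw => ?_, fun w hw => ?_⟩) ?_
    · obtain ⟨i, rfl⟩ := hw
      have : Commute s d := (h.c2 v (hVS hv) a haS s hs).symm
      exact (this.zpow_right i).eq
    · obtain ⟨i, hi⟩ := hall s hs w (hVS hw)
      rw [← commutatorElement_def, hi]
      exact pow_mem (mem_zpowers d) i
    · refine Core.mem_normalizer_of_forall_conj_mem fun w hw => ?_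
      obtain ⟨k, rfl⟩ := hDe hw
      obtain ⟨-, -, -, u', hu', e⟩ := hgb b hbB
      have hu2 : g * u * g⁻¹ ∈ V := Normal.conj_mem inferInstance _ hu _
      obtain ⟨i, hi⟩ := hall _ (hVS hu2) (b * u') (mul_mem hb (hVS hu'))
      have : g * ⁅u, b⁆ * g⁻¹ = d ^ i := by
        rw [← hi, ← e]; simp only [commutatorElement_def]; group
      change g * ⁅u, b⁆ ^ k * g⁻¹ ∈ _
      rw [← conj_zpow, this]
      exact zpow_mem (pow_mem (mem_zpowers d) i) k
  -- step 3
  have hF := h.F v (hVS hv) a haS hva (fun s hs => by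
    obtain ⟨j, u, huS, huB, rfl⟩ := hdec s hs
    have hu := hB1 u huS huB
    obtain ⟨i, hi⟩ := hall u huS a haS
    have hz : (v ^ i)⁻¹ * u ∈ V := mul_mem (inv_mem (pow_mem hv i)) hu
    have hza : Commute ((v ^ i)⁻¹ * u) a := by
      have e1 := comm_mul_left h.c2 haS (pow_mem (hVS hv) i) (hVS hz)
      rw [mul_inv_cancel_left, hi, comm_pow_left h.c2 haS (hVS hv)] at e1
      exact commutatorElement_eq_one_iff_mul_comm.1 (mul_eq_right.1 e1.symm)
    refine ⟨i, j, (v ^ i)⁻¹ * u, hVS hz, fun s hs => ?_, ?_⟩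
    · obtain ⟨k, w, hwS, hwB, rfl⟩ := hdec s hs
      have e1 : Commute ((v ^ i)⁻¹ * u) w := hVc _ hz w (hB1 w hwS hwB)
      exact (e1.mul_right (hza.pow_right k)).eq
    · rw [mul_assoc, ← (hza.pow_right j).eq]; group)
  have hp2 : p = 2 := by
    have h1 := hp.out.two_le
    have h2 := hF.1
    have h3 : p ≠ 4 := by rintro rfl; exact absurd hp.out (by decide)
    omega
  have := hF.2 hp2
  rw [← hp2, hV.2 v hv] at this
  exact hd1 this.symm

theorem comm_inv_right {S : Subgroup G}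
    (c2 : ∀ a ∈ S, ∀ b ∈ S, ∀ c ∈ S, ⁅a, b⁆ * c = c * ⁅a, b⁆) {x g : G} (hx : x ∈ S)
    (hg : g ∈ S) : ⁅x, g⁻¹⁆ = ⁅x, g⁆⁻¹ := by
  have := comm_mul_right c2 hx hg (inv_mem hg)
  rw [mul_inv_cancel, commutatorElement_one_right] at this
  exact (eq_inv_of_mul_eq_one_right this.symm)

theorem comm_inv_left {S : Subgroup G}
    (c2 : ∀ a ∈ S, ∀ b ∈ S, ∀ c ∈ S, ⁅a, b⁆ * c = c * ⁅a, b⁆) {x g : G} (hx : x ∈ S)
    (hg : g ∈ S) : ⁅g⁻¹, x⁆ = ⁅g, x⁆⁻¹ := by
  have := comm_mul_left c2 hx hg (inv_mem hg)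
  rw [mul_inv_cancel, commutatorElement_one_left] at this
  exact (eq_inv_of_mul_eq_one_left this.symm)

theorem good_of [Finite G] {p r : ℕ} [hp : Fact p.Prime] [hr : Fact r.Prime] (hrp : r ≠ p)
    {P Z : Subgroup G} (hP : IsPGroup p P) {y : G} (hy : IsPGroup r (zpowers y))
    (hyP : y ∈ normalizer (P : Set G)) (hyr : ∀ u ∈ P, y ^ r * u = u * y ^ r)
    (hZ : ∀ z, z ∈ Z ↔ z ∈ P ∧ ∀ u ∈ P, z * u = u * z)
    (hcZ : ∀ a ∈ P, ∀ b ∈ P, ⁅a, b⁆ ∈ Z) (hpZ : ∀ a ∈ P, a ^ p ∈ Z) (hZc : Z ≤ ⁅P, P⁆)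
    (hyZ : ∀ z ∈ Z, y * z = z * y)
    (hirr : ∀ U : Subgroup G, Z ≤ U → U ≤ P → y ∈ normalizer (U : Set G) → U = Z ∨ U = P) :
    Good p P := by
  have c2 : ∀ a ∈ P, ∀ b ∈ P, ∀ c ∈ P, ⁅a, b⁆ * c = c * ⁅a, b⁆ := fun a ha b hb c hc =>
    ((hZ _).1 (hcZ a ha b hb)).2 c hc
  have hZP : Z ≤ P := fun z hz => ((hZ z).1 hz).1
  have hyc : ∀ u ∈ P, y * u * y⁻¹ ∈ P := fun u hu => (mem_normalizer_iff.1 hyP u).1 hu
  have hyc' : ∀ u ∈ P, y⁻¹ * u * y ∈ P := fun u hu => by
    have := (mem_normalizer_iff.1 (inv_mem hyP) u).1 hu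
    rwa [inv_inv] at this
  refine ⟨c2, fun x hx w hw hne a ha b hb => ?_, fun v hv a ha hne hgen => ?_⟩
  · let K : Subgroup G :=
      { carrier := {k | ∃ g ∈ P, ⁅x, g⁆ = k}
        one_mem' := ⟨1, one_mem _, by simp⟩
        mul_mem' := by
          rintro _ _ ⟨g, hg, rfl⟩ ⟨h, hh, rfl⟩
          exact ⟨g * h, mul_mem hg hh, comm_mul_right c2 hx hg hh⟩
        inv_mem' := by
          rintro _ ⟨g, hg, rfl⟩
          exact ⟨g⁻¹, inv_mem hg, comm_inv_right c2 hx hg⟩ }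
    let U : Subgroup G :=
      { carrier := {u | u ∈ P ∧ ∀ g ∈ P, ⁅u, g⁆ ∈ K}
        one_mem' := ⟨one_mem _, fun g _ => by simp⟩
        mul_mem' := by
          rintro u u' ⟨hu, h1⟩ ⟨hu', h2⟩
          refine ⟨mul_mem hu hu', fun g hg => ?_⟩
          rw [comm_mul_left c2 hg hu hu']
          exact mul_mem (h2 g hg) (h1 g hg)
        inv_mem' := by
          rintro u ⟨hu, h1⟩
          refine ⟨inv_mem hu, fun g hg => ?_⟩
          rw [comm_inv_left c2 hg hu]
          exact inv_mem (h1 g hg) }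
    have hU := hirr U (fun z hz => ⟨hZP hz, fun g hg => by
        rw [commutatorElement_eq_one_iff_mul_comm.2 (((hZ z).1 hz).2 g hg)]; exact one_mem _⟩)
      (fun u hu => hu.1) (Core.mem_normalizer_of_forall_conj_mem fun u hu =>
        ⟨hyc u hu.1, fun g hg => by
          have e1 := hyZ _ (hcZ u hu.1 _ (hyc' g hg))
          have : ⁅y * u * y⁻¹, g⁆ = y * ⁅u, y⁻¹ * g * y⁆ * y⁻¹ := by
            simp only [commutatorElement_def]; group
          rw [this, e1, mul_inv_cancel_right]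
          exact hu.2 _ (hyc' g hg)⟩)
    have hxU : x ∈ U := ⟨hx, fun g hg => ⟨g, hg, rfl⟩⟩
    rcases hU with hU | hU
    · rw [hU] at hxU
      exact absurd (((hZ x).1 hxU).2 w hw) hne
    · have haU : a ∈ U := by rw [hU]; exact ha
      exact haU.2 b hb
  have noFix : ∀ u ∈ P, u ∉ Z → ∀ k : ℤ, ∀ z ∈ Z, y * u * y⁻¹ ≠ u ^ k * z := by
    intro u hu huZ k z hz e
    have hcu : ∀ z ∈ Z, Commute z u := fun z hz => ((hZ z).1 hz).2 u hu
    let U : Subgroup G :=
      { carrier := {w | ∃ i : ℤ, ∃ z ∈ Z, w = u ^ i * z}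
        one_mem' := ⟨0, 1, one_mem _, by simp⟩
        mul_mem' := by
          rintro _ _ ⟨i, z1, h1, rfl⟩ ⟨j, z2, h2, rfl⟩
          refine ⟨i + j, z1 * z2, mul_mem h1 h2, ?_⟩
          rw [mul_assoc, ← mul_assoc z1, ((hcu z1 h1).zpow_right j).eq, zpow_add]; group
        inv_mem' := by
          rintro _ ⟨i, z1, h1, rfl⟩
          refine ⟨-i, z1⁻¹, inv_mem h1, ?_⟩
          rw [← ((hcu _ (inv_mem h1)).zpow_right (-i)).eq]; group }
    have hU := hirr U (fun z hz => ⟨0, z, hz, by simp⟩)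
      (by rintro _ ⟨i, z1, h1, rfl⟩; exact mul_mem (zpow_mem hu i) (hZP h1))
      (Core.mem_normalizer_of_forall_conj_mem (by
        rintro _ ⟨i, z1, h1, rfl⟩
        have e1 : y * (u ^ i * z1) * y⁻¹ = (y * u * y⁻¹) ^ i * z1 := by
          rw [conj_zpow, mul_assoc (y * u ^ i), ← mul_assoc y, mul_assoc (y * u ^ i)]
          congr 1
          have := hyZ z1 h1
          calc z1 * y⁻¹ = y⁻¹ * (y * z1) * y⁻¹ := by group
            _ = _ := by rw [this]; group
        rw [e1, e]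
        exact mul_mem (zpow_mem (show u ^ k * z ∈ U from ⟨k, z, hz, rfl⟩) i)
          (show z1 ∈ U from ⟨0, z1, h1, by simp⟩)))
    rcases hU with hU | hU
    · exact huZ (by rw [← hU]; exact ⟨1, 1, one_mem _, by simp⟩)
    · obtain ⟨i, z1, h1, e1⟩ : v ∈ U := by rw [hU]; exact hv
      obtain ⟨j, z2, h2, e2⟩ : a ∈ U := by rw [hU]; exact ha
      apply hne
      rw [e1, e2]
      have c1 : Commute (u ^ i) (u ^ j * z2) :=
        (Commute.zpow_zpow_self u i j).mul_right ((hcu z2 h2).zpow_right i).symm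
      have c2 : Commute z1 (u ^ j * z2) := ((hZ z1).1 h1).2 _ (mul_mem (zpow_mem hu j) (hZP h2))
      exact (c1.mul_left c2).eq
  have hred : ∀ g ∈ P, ∃ i < p, ∃ j < p, ∃ z ∈ Z, g = v ^ i * a ^ j * z := by
    intro g hg
    obtain ⟨i, j, z, hz, hz', rfl⟩ := hgen g hg
    have hz2 : z ∈ Z := (hZ z).2 ⟨hz, hz'⟩
    have h1 : (v ^ p) ^ (i / p) ∈ Z := pow_mem (hpZ v hv) _
    have h2 : (a ^ p) ^ (j / p) ∈ Z := pow_mem (hpZ a ha) _
    refine ⟨i % p, Nat.mod_lt _ hp.out.pos, j % p, Nat.mod_lt _ hp.out.pos,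
      (v ^ p) ^ (i / p) * (a ^ p) ^ (j / p) * z, mul_mem (mul_mem h1 h2) hz2, ?_⟩
    have e1 := ((hZ _).1 h1).2 _ (pow_mem ha (j % p))
    calc v ^ i * a ^ j * z = v ^ (i % p) * ((v ^ p) ^ (i / p) * a ^ (j % p)) *
          (a ^ p) ^ (j / p) * z := by
          conv_lhs => rw [← Nat.mod_add_div i p, ← Nat.mod_add_div j p]
          simp only [pow_add, pow_mul, mul_assoc]
      _ = _ := by rw [e1]; simp only [mul_assoc]
  have hvZ : v ∉ Z := fun h => hne (((hZ v).1 h).2 a ha)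
  have haZ : a ∉ Z := fun h => hne (((hZ a).1 h).2 v hv).symm
  have hvaZ : v * a ∉ Z := fun h => hne (by
    have := ((hZ _).1 h).2 v hv
    rw [mul_assoc] at this
    have h2 := mul_left_cancel this
    rw [h2])
  constructor
  · rintro rfl
    have hCZ : P ⊓ centralizer (zpowers y : Set G) = Z := by
      rcases hirr (P ⊓ centralizer (zpowers y : Set G))
        (fun z hz => ⟨hZP hz, mem_centralizer_iff.2 fun w hw => by
          obtain ⟨k, rfl⟩ := hw
          exact (Commute.zpow_left (hyZ z hz) k).eq⟩) inf_le_left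
        (Core.mem_normalizer_of_forall_conj_mem fun u hu => by
          rw [mem_centralizer_iff.1 hu.2 y (mem_zpowers y), mul_inv_cancel_right]; exact hu)
        with h | h
      · exact h
      · exfalso
        have hv' : v ∈ P ⊓ centralizer (zpowers y : Set G) := by rw [h]; exact hv
        refine noFix v hv hvZ 1 1 (one_mem _) ?_
        rw [mem_centralizer_iff.1 hv'.2 y (mem_zpowers y)]; simp
    obtain ⟨n, hn⟩ := IsPGroup.iff_card.1 hP
    have h1 := Fgs.relIndex_centralizer_modEq_one hy (zpowers_le.2 hyP) (by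
      rw [hn]
      exact fun h => hrp ((Nat.prime_dvd_prime_iff_eq hr.out hp.out).1 (hr.out.dvd_of_dvd_pow h)))
    rw [← inf_relIndex_right, inf_comm, hCZ] at h1
    have h2 : Z.relIndex P ≤ 9 := by
      have := Nat.card_le_card_of_surjective
        (fun ij : Fin 3 × Fin 3 => (QuotientGroup.mk
          ⟨v ^ (ij.1 : ℕ) * a ^ (ij.2 : ℕ), mul_mem (pow_mem hv _) (pow_mem ha _)⟩ :
          P ⧸ Z.subgroupOf P)) (fun q => by
          obtain ⟨⟨g, hg⟩, rfl⟩ := QuotientGroup.mk_surjective q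
          obtain ⟨i, hi, j, hj, z, hz, rfl⟩ := hred g hg
          refine ⟨(⟨i, hi⟩, ⟨j, hj⟩), QuotientGroup.eq.2 ?_⟩
          rw [mem_subgroupOf]
          simpa [mul_assoc] using hz)
      simpa [relIndex, index] using this
    have h3 : Z.relIndex P ∣ 3 ^ n := hn ▸ relIndex_dvd_card Z P
    have h4 : Z.relIndex P ≠ 1 := fun h => hvZ (relIndex_eq_one.1 h hv)
    obtain ⟨m, -, hm⟩ := (Nat.dvd_prime_pow hp.out).1 h3
    have hr2 : r = 2 := by
      have hm2 : m ≤ 2 := by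
        by_contra hc
        have : 3 ^ 3 ≤ 3 ^ m := Nat.pow_le_pow_right (by norm_num) (by omega)
        omega
      rw [hm] at h1 h4
      have h8 : r ∣ 2 ^ 3 := by
        interval_cases m
        · simp at h4
        · exact ((Nat.modEq_iff_dvd' (by norm_num)).1 h1.symm).trans (by norm_num)
        · exact ((Nat.modEq_iff_dvd' (by norm_num)).1 h1.symm).trans (by norm_num)
      exact (Nat.prime_dvd_prime_iff_eq hr.out Nat.prime_two).1 (hr.out.dvd_of_dvd_pow h8)
    subst hr2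
    have hw : v * (y * v * y⁻¹) ∈ Z := by
      by_contra hw
      refine noFix _ (mul_mem hv (hyc v hv)) hw 1 ⁅(y * v * y⁻¹)⁻¹, v⁻¹⁆⁻¹⁻¹
        (inv_mem (inv_mem (hcZ _ (inv_mem (hyc v hv)) _ (inv_mem hv)))) ?_
      have e := hyr v hv
      calc y * (v * (y * v * y⁻¹)) * y⁻¹ = y * v * y⁻¹ * (y ^ 2 * v) * (y ^ 2)⁻¹ := by
            simp only [pow_two]; group
        _ = y * v * y⁻¹ * v := by rw [e]; group
        _ = _ := by simp only [commutatorElement_def]; group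
    exact noFix v hv hvZ (-1) _ hw (by group)
  · rintro rfl
    have hZ2 : ∀ z ∈ Z, z ^ 2 = 1 := by
      let T : Subgroup G :=
        { carrier := {z | z ∈ Z ∧ z ^ 2 = 1}
          one_mem' := ⟨one_mem _, by simp⟩
          mul_mem' := by
            rintro z1 z2 ⟨h1, e1⟩ ⟨h2, e2⟩
            refine ⟨mul_mem h1 h2, ?_⟩
            rw [Commute.mul_pow (((hZ z1).1 h1).2 z2 (hZP h2)), e1, e2, one_mul]
          inv_mem' := by
            rintro z1 ⟨h1, e1⟩
            exact ⟨inv_mem h1, by rw [inv_pow, e1, inv_one]⟩ }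
      have : ⁅P, P⁆ ≤ T := commutator_le.2 fun b hb c hc => ⟨hcZ b hb c hc, by
        rw [← comm_pow_left c2 hc hb, commutatorElement_eq_one_iff_mul_comm]
        exact ((hZ _).1 (hpZ b hb)).2 c hc⟩
      exact fun z hz => (this (hZc hz)).2
    have key : ∀ u ∈ P, u ∉ Z → ∃ w, (w = v ∨ w = a ∨ w = v * a) ∧ w ≠ u ∧ u ^ 2 = w ^ 2 := by
      intro u hu huZ
      obtain ⟨i, hi, j, hj, z, hz, e⟩ := hred _ (hyc u hu)
      have hwP : v ^ i * a ^ j ∈ P := mul_mem (pow_mem hv i) (pow_mem ha j)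
      refine ⟨v ^ i * a ^ j, ?_, fun h => noFix u hu huZ 1 z hz (by rw [e, h, zpow_one]), ?_⟩
      · interval_cases i <;> interval_cases j <;> simp only [pow_zero, pow_one, one_mul, mul_one,
          true_or, or_true]
        exfalso
        apply huZ
        have e2 := hyZ z hz
        simp only [pow_zero, one_mul] at e
        have : u = z := by
          calc u = y⁻¹ * (y * u * y⁻¹ * y) := by group
            _ = _ := by rw [e, ← e2]; group
        rw [this]; exact hz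
      · have e1 : (y * u * y⁻¹) ^ 2 = u ^ 2 := by
          rw [conj_pow, hyZ _ (hpZ u hu), mul_inv_cancel_right]
        have c1 : Commute (v ^ i * a ^ j) z := (((hZ z).1 hz).2 _ hwP).symm
        rw [← e1, e, c1.mul_pow, hZ2 z hz, mul_one]
    have hall : v ^ 2 = a ^ 2 ∧ v ^ 2 = (v * a) ^ 2 := by
      obtain ⟨w1, h1, n1, e1⟩ := key v hv hvZ
      obtain ⟨w2, h2, n2, e2⟩ := key a ha haZ
      obtain ⟨w3, h3, n3, e3⟩ := key _ (mul_mem hv ha) hvaZ
      have f1 : v ^ 2 = a ^ 2 ∨ v ^ 2 = (v * a) ^ 2 := by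
        rcases h1 with h | h | h
        · exact absurd h n1
        · exact Or.inl (h ▸ e1)
        · exact Or.inr (h ▸ e1)
      have f2 : a ^ 2 = v ^ 2 ∨ a ^ 2 = (v * a) ^ 2 := by
        rcases h2 with h | h | h
        · exact Or.inl (h ▸ e2)
        · exact absurd h n2
        · exact Or.inr (h ▸ e2)
      have f3 : (v * a) ^ 2 = v ^ 2 ∨ (v * a) ^ 2 = a ^ 2 := by
        rcases h3 with h | h | h
        · exact Or.inl (h ▸ e3)
        · exact Or.inr (h ▸ e3)
        · exact absurd h n3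
      clear e1 e2 e3
      generalize v ^ 2 = s1 at *
      generalize a ^ 2 = s2 at *
      generalize (v * a) ^ 2 = s3 at *
      rcases f1 with f1 | f1 <;> rcases f2 with f2 | f2 <;> rcases f3 with f3 | f3 <;>
        subst_vars <;> exact ⟨rfl, rfl⟩
    have e1 : (v * a) ^ 2 = v ^ 2 * ⁅v⁻¹, a⁆ * a ^ 2 := by
      simp only [commutatorElement_def, pow_two]; group
    rw [comm_inv_left c2 ha hv, ← hall.1, ← hall.2, mul_assoc, left_eq_mul] at e1
    exact (inv_mul_eq_one.1 e1).symm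

theorem good_schmidt [Finite G] {p : ℕ} [hp : Fact p.Prime] (hX : IsMinimalNonNilpotent G)
    (P : Sylow p G) (hPn : (P : Subgroup G).Normal) (hP1 : (P : Subgroup G) ≠ ⊥) :
    Good p (P : Subgroup G) := by
  by_cases hab : ∀ a ∈ (P : Subgroup G), ∀ b ∈ (P : Subgroup G), a * b = b * a
  · refine ⟨fun a ha b hb c hc => ?_, fun x hx y hy hne => absurd (hab x hx y hy) hne,
      fun v hv a ha hne => absurd (hab v hv a ha) hne⟩
    rw [commutatorElement_eq_one_iff_mul_comm.2 (hab a ha b hb), one_mul, mul_one]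
  have hd : p ∣ Nat.card G := by
    obtain ⟨n, hn⟩ := IsPGroup.iff_card.1 P.isPGroup'
    have h0 : n ≠ 0 := by
      rintro rfl
      exact hP1 (card_eq_one.1 (by simpa using hn))
    exact (dvd_pow_self p h0).trans (hn ▸ card_subgroup_dvd_card _)
  obtain ⟨r, hr, hrp, R, hR, htop⟩ := SolvStruct.minNonNilp_of_normal_sylow hX hd P hPn
  have := Fact.mk hr
  obtain ⟨⟨y, hyR⟩, hy⟩ := IsCyclic.exists_generator (α := (R : Subgroup G))
  have hRy : (R : Subgroup G) = zpowers y := by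
    refine le_antisymm (fun x hx => ?_) (zpowers_le.2 hyR)
    obtain ⟨k, hk⟩ := hy ⟨x, hx⟩
    exact ⟨k, congrArg Subtype.val hk⟩
  have hcop : ∀ {U T : Subgroup G}, U ≤ P → T ≤ R → (Nat.card T).Coprime (Nat.card U) :=
    fun hU hT => IsPGroup.coprime_card_of_ne r p hrp _ _ (R.isPGroup'.to_le hT)
      (P.isPGroup'.to_le hU)
  have hdis : Disjoint (P : Subgroup G) R :=
    IsPGroup.disjoint_of_ne p r hrp.symm _ _ P.isPGroup' R.isPGroup'
  have hcent : ∀ {U T : Subgroup G}, U ≤ P → T ≤ R → U ⊔ T ≠ ⊤ → T ≤ centralizer (U : Set G) :=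
    fun {U T} hU hT hne => by
      have := hX.2 _ hne
      exact Core.le_centralizer_of_coprime_of_le_isNilpotent (N := U ⊔ T) le_sup_right le_sup_left
        (hcop hU hT)
  have hmin : ∀ U : Subgroup G, U < P → (R : Subgroup G) ≤ normalizer (U : Set G) →
      (R : Subgroup G) ≤ centralizer (U : Set G) := by
    intro U hU hn
    refine hcent hU.le le_rfl fun h => hU.not_ge fun x hx => ?_
    have hx' : x ∈ U ⊔ (R : Subgroup G) := by rw [h]; trivial
    rw [← SetLike.mem_coe, coe_mul_of_right_le_normalizer_left _ _ hn] at hx'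
    obtain ⟨u, hu, t, ht, rfl⟩ := hx'
    have : t ∈ (P : Subgroup G) := by
      have := mul_mem (inv_mem (hU.le hu)) hx
      simpa using this
    rw [Subgroup.disjoint_def.1 hdis this ht]
    simpa using hu
  have hnt : ⁅(P : Subgroup G), (R : Subgroup G)⁆ ≠ ⊥ := by
    intro h
    have h1 := commutator_eq_bot_iff_le_centralizer.1 h
    have h2 : (R : Subgroup G).Normal := by
      rw [← normalizer_eq_top_iff, eq_top_iff, ← htop]
      exact sup_le le_normalizer (h1.trans (centralizer_le_normalizer _))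
    have := P.isPGroup'.isNilpotent
    have := R.isPGroup'.isNilpotent
    have h3 := Core.isNilpotent_sup_of_normal (R : Subgroup G) (P : Subgroup G)
    rw [htop] at h3
    exact hX.1 (Group.nilpotent_of_mulEquiv topEquiv)
  have hRp : (Nat.card (R : Subgroup G)).Coprime p := by
    obtain ⟨n, hn⟩ := IsPGroup.iff_card.1 R.isPGroup'
    rw [hn]
    exact Nat.Coprime.pow_left _ ((Nat.coprime_primes hr hp.out).2 hrp)
  obtain ⟨-, h2, h3, -⟩ := S3736.result (R : Subgroup G) R P P.isPGroup' le_normalizer_of_normal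
    le_rfl le_normalizer hRp hnt (fun U hU hn => by
      rw [commutator_comm]
      exact commutator_eq_bot_iff_le_centralizer.2 (hmin U hU hn))
  have hsp : IsSpecial p (P : Subgroup G) := h2.resolve_left fun h => hab fun a ha b hb => by
    have := h.1
    exact setLike_mul_comm ha hb
  set Z := (frattini (P : Subgroup G)).map (P : Subgroup G).subtype with hZdef
  have hZ : ∀ z, z ∈ Z ↔ z ∈ (P : Subgroup G) ∧ ∀ u ∈ (P : Subgroup G), z * u = u * z := by
    intro z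
    rw [hZdef, hsp.2.1]
    constructor
    · rintro ⟨z, hz, rfl⟩
      exact ⟨z.2, fun u hu => (congrArg Subtype.val (mem_center_iff.1 hz ⟨u, hu⟩)).symm⟩
    · rintro ⟨h1, h2⟩
      exact ⟨⟨z, h1⟩, mem_center_iff.2 fun u => Subtype.ext (h2 u u.2).symm, rfl⟩
  have hy1 : y ≠ 1 := by
    rintro rfl
    apply hnt
    rw [hRy, zpowers_one_eq_bot, commutator_bot_right]
  have hZlt : Z < P := Core.map_frattini_lt hP1
  refine good_of (r := r) hrp P.isPGroup' (y := y) (hRy ▸ R.isPGroup')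
    (by rw [normalizer_eq_top]; trivial) (fun u hu => ?_) hZ
    (fun a ha b hb => Core.commutator_le_map_frattini P.isPGroup' (commutator_mem_commutator ha hb))
    (fun a ha => Core.pow_mem_map_frattini P.isPGroup' ha) ?_ (fun z hz => ?_)
    (fun U h1 h2 h4 => h3 U h1 h2 (by rw [hRy]; exact zpowers_le.2 h4))
  · have h1 := hcent (U := P) (T := zpowers (y ^ r)) le_rfl
      (zpowers_le.2 (pow_mem hyR r)) (fun h => by
        have hy' : y ∈ (P : Subgroup G) ⊔ zpowers (y ^ r) := by rw [h]; trivial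
        rw [← SetLike.mem_coe, normal_mul] at hy'
        obtain ⟨u, hu, _, ⟨k, rfl⟩, e⟩ := hy'
        change u * (y ^ r) ^ k = y at e
        have huR : u ∈ (R : Subgroup G) := by
          have : u = y * ((y ^ r) ^ k)⁻¹ := eq_mul_inv_of_mul_eq e
          rw [this]
          exact mul_mem hyR (inv_mem (zpow_mem (pow_mem hyR r) k))
        rw [Subgroup.disjoint_def.1 hdis hu huR, one_mul] at e
        have e2 : y ^ ((r : ℤ) * k - 1) = 1 := by
          rw [zpow_sub, zpow_mul, zpow_natCast, zpow_one]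
          exact mul_inv_eq_one.2 e
        obtain ⟨n, hn⟩ := R.isPGroup' ⟨y, hyR⟩
        have h1 : orderOf y ∣ r ^ n := orderOf_dvd_of_pow_eq_one (congrArg Subtype.val hn)
        obtain ⟨m, -, hm⟩ := (Nat.dvd_prime_pow hr).1 h1
        have hm0 : m ≠ 0 := by
          rintro rfl
          exact hy1 (orderOf_eq_one_iff.1 (by simpa using hm))
        have h2 := orderOf_dvd_iff_zpow_eq_one.2 e2
        have h3 : (r : ℤ) ∣ (r : ℤ) * k - 1 :=
          (Int.natCast_dvd_natCast.2 (hm ▸ dvd_pow_self r hm0)).trans h2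
        have h4 : (r : ℤ) ∣ 1 := (dvd_sub_right (dvd_mul_right _ _)).1 h3
        exact hr.one_lt.ne' (by exact_mod_cast Int.eq_one_of_dvd_one (by positivity) h4))
    exact (mem_centralizer_iff.1 (h1 (mem_zpowers _)) u hu).symm
  · rw [hZdef, hsp.2.1, ← hsp.2.2, _root_.commutator_def, map_commutator, ← MonoidHom.range_eq_map,
      range_subtype]
  · have h1 := hmin Z hZlt (le_normalizer_of_normal.trans
      (Core.normalizer_le_normalizer_map_frattini _))
    exact (mem_centralizer_iff.1 (h1 hyR) z hz).symm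

end

/-- Let X be a finite minimal non-nilpotent group (not nilpotent, every proper subgroup nilpotent) with a nontrivial normal Sylow p-subgroup P. If G is a finite p-solvable group whose Sylow p-subgroups are isomorphic to P, then G has p-length at most 1. -/
theorem result {G X : Type*} [Group G] [Finite G] [Group X] [Finite X] (p : ℕ) [Fact p.Prime]
    (hX : Cfsg.IsMinimalNonNilpotent X) (P : Sylow p X) (hPn : (P : Subgroup X).Normal) (hP1 : (P : Subgroup X) ≠ ⊥)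
    (hG : Cfsg.IsPSolvable p G) (Q : Sylow p G) (hQ : Nonempty (↥(Q : Subgroup G) ≃* ↥(P : Subgroup X))) : Cfsg.PLengthLE p 1 G := by
  obtain ⟨e⟩ := hQ
  obtain ⟨Y, _, _, f, hf, hY, hV, hc, hcomap⟩ := PLen.exists_reduction hG
  have h1 := (good_schmidt hX P hPn hP1).range
    (f.comp ((Q : Subgroup G).subtype.comp e.symm.toMonoidHom))
  have h2 : (f.comp ((Q : Subgroup G).subtype.comp e.symm.toMonoidHom)).range =
      (Q : Subgroup G).map f := by
    ext y
    constructor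
    · rintro ⟨x, rfl⟩
      exact ⟨e.symm x, (e.symm x).2, rfl⟩
    · rintro ⟨x, hx, rfl⟩
      exact ⟨e ⟨x, hx⟩, by simp⟩
  rw [h2] at h1
  have h3 := main hY hV hc (Q.isPGroup'.map f)
    (IsPGroup.le_sylow_of_normal (Core.isPGroup_pCore p Y) (Q.mapSurjective hf)) h1
  refine PLen.plen_one_of_sylow_le Q ?_
  rw [← hcomap]
  exact map_le_iff_le_comap.1 h3

end Cfsg.Agent.S4394
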