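import Cfsg.Statements.S4395
import Cfsg.Agent.Lib.Transfer.Frobenius
import Cfsg.Agent.Lib.Coprime.Abelian
import Cfsg.Agent.Lib.Coprime.Glauberman
import Cfsg.Agent.Lib.Core.Fitting
import Cfsg.Agent.Lib.Core.Commutator
import Cfsg.Agent.Lib.Core.Frattini

set_option autoImplicit false
universe u
open Cfsg

namespace Cfsg.Agent.S4395

set_option linter.unusedSectionVars false
set_option linter.style.haveILetI false

open Subgroup CfsgLib CfsgLib.Core Polynomial
open scoped commutatorElement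

section field
variable {F : Type*} [Field F] [Finite F] {p q : ℕ} [hp : Fact p.Prime] [hq : Fact q.Prime]

/-- irreducibility of multiplication by `ζ` -/
def Irr (ζ : F) : Prop := ∀ S : AddSubgroup F, (∀ s ∈ S, ζ * s ∈ S) → S = ⊥ ∨ S = ⊤

theorem inv_eq_pow {c : F} (hc : c ≠ 0) : ∃ n : ℕ, c⁻¹ = c ^ n := by
  letI := Fintype.ofFinite F
  refine ⟨Fintype.card F - 2, (eq_inv_of_mul_eq_one_left ?_).symm⟩
  have := Fintype.one_lt_card (α := F)
  rw [← pow_succ, ← FiniteField.pow_card_sub_one_eq_one c hc]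
  congr 1
  omega

theorem irr_of {a : ℕ} (ha : a = orderOf (p : ZMod q)) (hF : Nat.card F = p ^ a) {ζ : F}
    (hζ : IsPrimitiveRoot ζ q) : Irr ζ := by
  intro S hS
  let R : Subfield F :=
    { carrier := {c | ∀ s ∈ S, c * s ∈ S}
      mul_mem' := fun {c d} hc hd s hs => by rw [mul_assoc]; exact hc _ (hd s hs)
      one_mem' := fun s hs => by rwa [one_mul]
      add_mem' := fun {c d} hc hd s hs => by rw [add_mul]; exact S.add_mem (hc s hs) (hd s hs)
      zero_mem' := fun s _ => by rw [zero_mul]; exact S.zero_mem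
      neg_mem' := fun {c} hc s hs => by rw [neg_mul]; exact S.neg_mem (hc s hs)
      inv_mem' := fun c hc s hs => by
        by_cases h0 : c = 0
        · rw [h0, inv_zero, zero_mul]; exact S.zero_mem
        obtain ⟨n, hn⟩ := inv_eq_pow h0
        rw [hn]
        clear hn
        induction n with
        | zero => rwa [pow_zero, one_mul]
        | succ n ih => rw [pow_succ', mul_assoc]; exact hc _ ih }
  have hR : R = ⊤ := by
    obtain ⟨e, -, he⟩ := (Nat.dvd_prime_pow hp.out).1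
      (hF ▸ AddSubgroup.card_addSubgroup_dvd_card R.toSubring.toAddSubgroup)
    have he' : Nat.card R = p ^ e := he
    letI := Fintype.ofFinite R
    have h0 : (⟨ζ, hS⟩ : R) ≠ 0 := fun h => hζ.ne_zero hq.out.ne_zero (congrArg Subtype.val h)
    have h1 : ζ ^ (p ^ e - 1) = 1 := by
      have := congrArg Subtype.val (FiniteField.pow_card_sub_one_eq_one _ h0)
      rwa [← Nat.card_eq_fintype_card, he'] at this
    have h2 : (p : ZMod q) ^ e = 1 := by
      have h3 := (ZMod.natCast_eq_zero_iff _ q).2 (hζ.dvd_of_pow_eq_one _ h1)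
      rw [Nat.cast_sub (Nat.one_le_pow _ _ hp.out.pos)] at h3
      push_cast at h3
      exact sub_eq_zero.1 h3
    have h3 : e ≠ 0 := by
      rintro rfl
      have := Finite.one_lt_card (α := R)
      rw [he'] at this
      simp at this
    have h4 : a ≤ e := Nat.le_of_dvd (Nat.pos_of_ne_zero h3) (ha ▸ orderOf_dvd_of_pow_eq_one h2)
    have h5 : R.toSubring.toAddSubgroup = ⊤ := AddSubgroup.eq_top_of_le_card _ (by
      rw [hF, he]; exact Nat.pow_le_pow_right hp.out.pos h4)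
    exact eq_top_iff.2 fun x _ => (h5.ge (AddSubgroup.mem_top x) : x ∈ R.toSubring.toAddSubgroup)
  refine or_iff_not_imp_left.2 fun h => eq_top_iff.2 fun x _ => ?_
  obtain ⟨⟨s, hs⟩, h0⟩ := AddSubgroup.ne_bot_iff_exists_ne_zero.1 h
  have h0' : s ≠ 0 := fun h => h0 (Subtype.ext h)
  have : x * s⁻¹ ∈ R := hR ▸ Subfield.mem_top _
  have := this s hs
  rwa [inv_mul_cancel_right₀ h0'] at this

theorem exists_pow {ζ β : F} (hζ : IsPrimitiveRoot ζ q) (h1 : β ≠ 1) (h2 : β ^ q = 1) :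
    ∃ i, i.Coprime q ∧ β ^ i = ζ := by
  have hβ : IsPrimitiveRoot β q := orderOf_eq_prime h2 h1 ▸ IsPrimitiveRoot.orderOf β
  have : NeZero q := ⟨hq.out.ne_zero⟩
  obtain ⟨i, hi, h⟩ := hβ.eq_pow_of_pow_eq_one hζ.pow_eq_one
  refine ⟨i, (Nat.coprime_of_lt_prime ?_ hi hq.out).symm, h⟩
  rintro rfl
  exact hζ.ne_one hq.out.one_lt (by rw [← h, pow_zero])

theorem Irr.of_pow {ζ β : F} (h : Irr ζ) (hζ : IsPrimitiveRoot ζ q) (h1 : β ≠ 1) (h2 : β ^ q = 1) :
    Irr β := by
  intro S hS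
  obtain ⟨i, -, rfl⟩ := exists_pow hζ h1 h2
  refine h S fun s hs => ?_
  clear h hζ
  induction i with
  | zero => rwa [pow_zero, one_mul]
  | succ n ih => rw [pow_succ', mul_assoc]; exact hS _ ih

theorem exists_theta_add [CharP F p] {ζ : F} (hζ : IsPrimitiveRoot ζ q) (hirr : Irr ζ)
    {V : Type*} [AddCommGroup V] [Finite V] [Module (ZMod p) V] (σ : V →+ V)
    (hσ : ∀ a, σ^[q] a = a) (hne : ∃ a, σ a ≠ a)
    (hW : ∀ S : AddSubgroup V, (∀ a ∈ S, σ a ∈ S) → S = ⊥ ∨ S = ⊤) :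
    ∃ (β : F) (θ : V →+ F), β ≠ 1 ∧ β ^ q = 1 ∧
      (∀ a, θ a = 0 → a = 0) ∧ Function.Surjective θ ∧ ∀ a, θ (σ a) = β * θ a := by
  letI := ZMod.algebra F p
  let T : Module.End (ZMod p) V := σ.toZModLinearMap p
  have hTq : T ^ q = 1 := by
    ext x
    rw [Module.End.pow_apply]
    exact hσ x
  obtain ⟨a, ha⟩ := hne
  have ha1 : a ≠ 0 := by rintro rfl; exact ha (map_zero σ)
  have : Nontrivial V := ⟨a, 0, ha1⟩
  have : Module.Finite (ZMod p) V := Module.Finite.of_finite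
  have hint : IsIntegral (ZMod p) T := Algebra.IsIntegral.isIntegral T
  have hdvd : minpoly (ZMod p) T ∣ X ^ q - 1 := minpoly.dvd _ _ (by simp [hTq])
  have hsp : Splits ((minpoly (ZMod p) T).map (algebraMap (ZMod p) F)) := by
    refine Splits.of_dvd (g := X ^ q - 1) ?_ (X_pow_sub_C_ne_zero hq.out.pos 1) ?_
    · rw [X_pow_sub_one_eq_prod hq.out.pos hζ]
      exact Splits.prod fun _ _ => Splits.X_sub_C _
    · simpa using Polynomial.map_dvd (algebraMap (ZMod p) F) hdvd
  obtain ⟨β, hβ⟩ := hsp.exists_eval_eq_zero (by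
    rw [degree_map]; exact (minpoly.degree_pos hint).ne')
  rw [eval_map_algebraMap] at hβ
  let ev : (ZMod p)[X] →+ V :=
    { toFun := fun h => aeval T h a
      map_zero' := by simp
      map_add' := fun _ _ => by simp }
  have hev : ∀ h, ev (X * h) = σ (ev h) := fun h => by
    change aeval T (X * h) a = T (aeval T h a)
    simp
  have hsurj : Function.Surjective ev := by
    rcases hW ev.range (by
      rintro b ⟨h, hh⟩
      exact ⟨X * h, by rw [hev, hh]⟩) with h | h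
    · have : a ∈ ev.range := ⟨1, by simp [ev]⟩
      rw [h] at this
      exact absurd this ha1
    · exact fun x => h.ge (AddSubgroup.mem_top x)
  have hker : ev.ker ≤ (aeval β : (ZMod p)[X] →ₐ[ZMod p] F).toRingHom.toAddMonoidHom.ker := by
    intro h hh
    have h1 : aeval T h = 0 := by
      ext x
      obtain ⟨k, rfl⟩ := hsurj x
      change aeval T h (aeval T k _) = 0
      rw [← Module.End.mul_apply, ← map_mul, mul_comm, map_mul, Module.End.mul_apply]
      exact (congrArg _ hh).trans (map_zero _)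
    obtain ⟨k, rfl⟩ := minpoly.dvd _ _ h1
    change aeval β _ = 0
    rw [map_mul, hβ, zero_mul]
  let θ : V →+ F := ev.liftOfSurjective hsurj ⟨_, hker⟩
  have hθ : ∀ h, θ (ev h) = aeval β h := fun h =>
    ev.liftOfRightInverse_comp_apply _ (Function.rightInverse_surjInv hsurj) ⟨_, hker⟩ h
  have hθT : ∀ x, θ (σ x) = β * θ x := by
    intro x
    obtain ⟨h, rfl⟩ := hsurj x
    rw [← hev, hθ, hθ, map_mul, aeval_X]
  have hθ1 : θ a = 1 := by
    have := hθ 1
    simpa [ev] using this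
  have hinj : ∀ b : V, θ b = 0 → b = 0 := by
    rcases hW θ.ker (fun b hb => by
      rw [AddMonoidHom.mem_ker] at hb ⊢
      rw [hθT, hb, mul_zero]) with h | h
    · exact fun b hb => AddSubgroup.mem_bot.1 (h ▸ (hb : b ∈ θ.ker))
    · have : θ a = 0 := (h.ge (AddSubgroup.mem_top a) : a ∈ θ.ker)
      rw [hθ1] at this
      exact absurd this one_ne_zero
  have hβ1 : β ≠ 1 := by
    rintro rfl
    refine ha (sub_eq_zero.1 (hinj _ ?_))
    rw [map_sub, hθT, one_mul, sub_self]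
  have hβq : β ^ q = 1 := by
    obtain ⟨k, hk⟩ := hdvd
    have := congrArg (aeval β) hk
    rw [map_mul, hβ, zero_mul] at this
    simpa [sub_eq_zero] using this
  refine ⟨β, θ, hβ1, hβq, hinj, ?_, hθT⟩
  rcases hirr.of_pow hζ hβ1 hβq θ.range (by
    rintro _ ⟨x, rfl⟩
    exact ⟨σ x, hθT x⟩) with h | h
  · have : θ a ∈ θ.range := ⟨_, rfl⟩
    rw [h, hθ1] at this
    exact absurd this one_ne_zero
  · exact fun s => h.ge (AddSubgroup.mem_top s)

theorem exists_theta [CharP F p] {ζ : F} (hζ : IsPrimitiveRoot ζ q) (hirr : Irr ζ) {W : Type*}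
    [Group W] [Finite W] (hc : ∀ a b : W, a * b = b * a) (he : ∀ a : W, a ^ p = 1) (σ : W →* W)
    (hσ : ∀ a, σ^[q] a = a) (hne : ∃ a, σ a ≠ a)
    (hW : ∀ S : Subgroup W, (∀ a ∈ S, σ a ∈ S) → S = ⊥ ∨ S = ⊤) :
    ∃ (β : F) (θ : W → F), β ≠ 1 ∧ β ^ q = 1 ∧ (∀ a b, θ (a * b) = θ a + θ b) ∧
      (∀ a, θ a = 0 → a = 1) ∧ Function.Surjective θ ∧ ∀ a, θ (σ a) = β * θ a := by
  letI : CommGroup W := { (inferInstance : Group W) with mul_comm := hc }
  letI : Module (ZMod p) (Additive W) := AddCommGroup.zmodModule fun x => he x.toMul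
  obtain ⟨β, θ, h1, h2, h3, h4, h5⟩ := exists_theta_add (p := p) hζ hirr (V := Additive W)
    (MonoidHom.toAdditive σ) hσ hne (fun S hS => by
      rcases hW (AddSubgroup.toSubgroup' S) hS with h | h
      · exact Or.inl (eq_bot_iff.2 fun x hx => h.le hx)
      · exact Or.inr (eq_top_iff.2 fun x hx => h.ge hx))
  exact ⟨β, fun b => θ (Additive.ofMul b), h1, h2, fun b c => map_add θ _ _, h3, h4, h5⟩

end field

section model
variable {F : Type*} [Field F] [Finite F] {p q r : ℕ} [hp : Fact p.Prime] [hq : Fact q.Prime]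
  {G : Type*} [Group G] [Finite G] {ζ : F} {P : Subgroup G} {y : G} {π : G → F}

/-- a model -/
structure Md (p q r : ℕ) (ζ : F) (P : Subgroup G) (y : G) (π : G → F) : Prop where
  ne : p ≠ q
  pg : IsPGroup p P
  nor : y ∈ normalizer (P : Set G)
  ord : orderOf y = q ^ r
  cq : ∀ u ∈ P, y ^ q * u = u * y ^ q
  add : ∀ u ∈ P, ∀ w ∈ P, π (u * w) = π u + π w
  act : ∀ u ∈ P, π (y * u * y⁻¹) = ζ * π u
  sur : ∀ s, ∃ u ∈ P, π u = s
  cP : ∀ z ∈ P, π z = 0 → ∀ u ∈ P, z * u = u * z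
  cy : ∀ z ∈ P, π z = 0 → z * y = y * z

theorem nilp_zpowers (x : G) : Group.IsNilpotent (zpowers x) := by
  refine isNilpotent_of_commutator_commutator_eq_bot ?_
  rw [commutator_self_eq_bot_iff.2 inferInstance, commutator_bot_left]

namespace Md
variable (h : Md p q r ζ P y π)
include h

theorem one : π 1 = 0 := by simpa using h.add 1 P.one_mem 1 P.one_mem

theorem inv {u : G} (hu : u ∈ P) : π u⁻¹ = -π u := by
  have := h.add u hu u⁻¹ (P.inv_mem hu)
  rw [mul_inv_cancel, h.one] at this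
  exact eq_neg_of_add_eq_zero_right this.symm

theorem znor : zpowers y ≤ normalizer (P : Set G) := zpowers_le.2 h.nor

theorem conj_mem {x u : G} (hx : x ∈ zpowers y) (hu : u ∈ P) : x * u * x⁻¹ ∈ P :=
  (mem_normalizer_iff.1 (h.znor hx) u).1 hu

theorem act_pow {u : G} (hu : u ∈ P) (k : ℕ) : π (y ^ k * u * (y ^ k)⁻¹) = ζ ^ k * π u := by
  induction k with
  | zero => simp
  | succ k ih =>
    have : y ^ (k + 1) * u * (y ^ (k + 1))⁻¹ = y * (y ^ k * u * (y ^ k)⁻¹) * y⁻¹ := by group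
    rw [this, h.act _ (h.conj_mem (npow_mem_zpowers y k) hu), ih]
    ring

theorem conj {w u : G} (hw : w ∈ P) (hu : u ∈ P) : π (w * u * w⁻¹) = π u := by
  rw [h.add _ (P.mul_mem hw hu) _ (P.inv_mem hw), h.add _ hw _ hu, h.inv hw]
  ring

theorem comm {w u : G} (hw : w ∈ P) (hu : u ∈ P) : π ⁅w, u⁆ = 0 := by
  rw [commutatorElement_def, h.add _ (P.mul_mem (P.mul_mem hw hu) (P.inv_mem hw)) _ (P.inv_mem hu),
    h.conj hw hu, h.inv hu, add_neg_cancel]

theorem mem_sup {x : G} (hx : x ∈ P ⊔ zpowers y) : ∃ u ∈ P, ∃ k : ℕ, u * y ^ k = x := by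
  obtain ⟨u, hu, c, hc, rfl⟩ := (mem_sup_of_le_normalizer_left h.znor).1 hx
  obtain ⟨k, rfl⟩ := (mem_powers_iff_mem_zpowers.2 hc)
  exact ⟨u, hu, k, rfl⟩

theorem cop {U : Subgroup G} (hU : U ≤ P) : (Nat.card (zpowers y)).Coprime (Nat.card U) := by
  obtain ⟨n, hn⟩ := IsPGroup.iff_card.1 (h.pg.to_le hU)
  rw [Nat.card_zpowers, h.ord, hn]
  exact Nat.Coprime.pow _ _ ((Nat.coprime_primes hq.out hp.out).2 h.ne.symm)

theorem eq_one {x : G} (h1 : x ∈ P) (h2 : x ∈ zpowers y) : x = 1 := by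
  have := inf_eq_bot_of_coprime (h.cop le_rfl)
  exact mem_bot.1 (this ▸ ⟨h2, h1⟩)

/-- image of a subgroup -/
def img (H : Subgroup G) : AddSubgroup F where
  carrier := {s | ∃ u ∈ H ⊓ P, π u = s}
  zero_mem' := ⟨1, one_mem _, h.one⟩
  add_mem' := by
    rintro _ _ ⟨u, hu, rfl⟩ ⟨w, hw, rfl⟩
    exact ⟨u * w, mul_mem hu hw, h.add u hu.2 w hw.2⟩
  neg_mem' := by
    rintro _ ⟨u, hu, rfl⟩
    exact ⟨u⁻¹, inv_mem hu, h.inv hu.2⟩

/-- kernel -/
def ker : Subgroup G where
  carrier := {z | z ∈ P ∧ π z = 0}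
  one_mem' := ⟨one_mem _, h.one⟩
  mul_mem' := fun {u w} hu hw => ⟨mul_mem hu.1 hw.1, by rw [h.add u hu.1 w hw.1, hu.2, hw.2, add_zero]⟩
  inv_mem' := fun {u} hu => ⟨inv_mem hu.1, by rw [h.inv hu.1, hu.2, neg_zero]⟩

theorem ker_cent : h.ker ≤ centralizer ((P ⊔ zpowers y : Subgroup G) : Set G) := by
  rw [le_centralizer_iff]
  refine sup_le (fun u hu z hz => h.cP z hz.1 hz.2 u hu) (zpowers_le.2 fun z hz => h.cy z hz.1 hz.2)

theorem card_P : Nat.card P = Nat.card h.ker * Nat.card F := by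
  let f : P →* Multiplicative F := MonoidHom.mk' (fun u => Multiplicative.ofAdd (π u))
    fun u w => congrArg Multiplicative.ofAdd (h.add u u.2 w w.2)
  have h1 : f.range = ⊤ := MonoidHom.range_eq_top.2 fun s => by
    obtain ⟨u, hu, hs⟩ := h.sur s.toAdd
    exact ⟨⟨u, hu⟩, congrArg Multiplicative.ofAdd hs⟩
  have h2 : f.ker = h.ker.subgroupOf P := by
    ext u
    exact ⟨fun hu => ⟨u.2, hu⟩, fun hu => hu.2⟩
  rw [← card_mul_index f.ker, index_ker, h1, card_top, h2,
    card_subgroupOf_of_le (fun z hz => hz.1 : h.ker ≤ P)]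
  rfl

theorem card_X : Nat.card (P ⊔ zpowers y : Subgroup G) = Nat.card P * q ^ r := by
  have := card_sup_mul_card_inf_of_le_normalizer h.znor
  have h2 : zpowers y ⊓ P = ⊥ := inf_eq_bot_of_coprime (h.cop le_rfl)
  rw [h2, card_bot, mul_one, Nat.card_zpowers, h.ord] at this
  rw [sup_comm, this, mul_comm]

theorem decomp {H : Subgroup G} (hH : h.img H = ⊤) {u : G} (hu : u ∈ P) :
    ∃ v ∈ H ⊓ P, ∃ z ∈ h.ker, v * z = u := by
  obtain ⟨v, hv, h1⟩ : π u ∈ h.img H := hH ▸ AddSubgroup.mem_top _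
  refine ⟨v, hv, v⁻¹ * u, ⟨mul_mem (inv_mem hv.2) hu, ?_⟩, by group⟩
  rw [h.add _ (inv_mem hv.2) _ hu, h.inv hv.2, h1, neg_add_cancel]

theorem core (hζ : IsPrimitiveRoot ζ q) (hirr : Irr ζ) : Md p q r ζ ⁅P, zpowers y⁆ y π ∧
    ⁅⁅P, zpowers y⁆, zpowers y⁆ = ⁅P, zpowers y⁆ := by
  have hle : ⁅P, zpowers y⁆ ≤ P := Coprime.commutator_le_of_le_normalizer h.znor
  have hn : y ∈ normalizer ((⁅P, zpowers y⁆ : Subgroup G) : Set G) :=
    Coprime.le_normalizer_commutator h.znor le_normalizer (mem_zpowers y)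
  refine ⟨⟨h.ne, h.pg.to_le hle, hn, h.ord, fun u hu => h.cq u (hle hu),
    fun u hu w hw => h.add u (hle hu) w (hle hw), fun u hu => h.act u (hle hu), ?_,
    fun z hz h0 u hu => h.cP z (hle hz) h0 u (hle hu), fun z hz => h.cy z (hle hz)⟩,
    Coprime.commutator_commutator_eq h.znor (h.cop le_rfl)⟩
  rcases hirr (h.img ⁅P, zpowers y⁆) (by
    rintro _ ⟨u, hu, rfl⟩
    exact ⟨_, ⟨(mem_normalizer_iff.1 hn u).1 hu.1, h.conj_mem (mem_zpowers y) hu.2⟩,
      h.act u hu.2⟩) with h1 | h1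
  · exfalso
    obtain ⟨u, hu, h2⟩ := h.sur 1
    have h3 := commutator_mem_commutator hu (mem_zpowers y)
    have h4 : π ⁅u, y⁆ ∈ h.img ⁅P, zpowers y⁆ := ⟨_, ⟨h3, hle h3⟩, rfl⟩
    have h5 : ⁅u, y⁆ = u * (y * u⁻¹ * y⁻¹) := by rw [commutatorElement_def]; group
    rw [h1, AddSubgroup.mem_bot, h5, h.add _ hu _ (h.conj_mem (mem_zpowers y) (inv_mem hu)),
      h.act _ (inv_mem hu), h.inv hu, h2] at h4
    exact hζ.ne_one hq.out.one_lt (by linear_combination -h4)
  · intro s
    obtain ⟨u, hu, h2⟩ : s ∈ h.img ⁅P, zpowers y⁆ := h1 ▸ AddSubgroup.mem_top _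
    exact ⟨u, hu.1, h2⟩

theorem not_npc (hperf : ⁅P, zpowers y⁆ = P) :
    ¬ HasNormalPComplement p (P ⊔ zpowers y : Subgroup G) := by
  intro h1
  have h2 := Transfer.mem_centralizer_of_hasNormalPComplement h1 h.pg le_sup_left
    (mem_sup_right (mem_zpowers y)) h.nor (by
      rw [h.ord]; exact Nat.Coprime.pow_left _ ((Nat.coprime_primes hq.out hp.out).2 h.ne.symm))
  have h3 : P = ⊥ := by
    rw [← hperf, commutator_comm, commutator_eq_bot_iff_le_centralizer]
    exact zpowers_le.2 h2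
  obtain ⟨u, hu, h4⟩ := h.sur 1
  rw [h3, mem_bot] at hu
  rw [hu, h.one] at h4
  exact zero_ne_one h4

theorem nilp (hζ : IsPrimitiveRoot ζ q) (hirr : Irr ζ) (hperf : ⁅P, zpowers y⁆ = P)
    {H : Subgroup G} (hH : H < P ⊔ zpowers y) : Group.IsNilpotent H := by
  by_cases h1 : ∃ u ∈ P, ∃ k : ℕ, u * y ^ k ∈ H ∧ ¬ q ∣ k
  · obtain ⟨u, hu, k, hx, hk⟩ := h1
    have hXP : P ⊔ zpowers y ≤ normalizer (P : Set G) := sup_le le_normalizer h.znor
    have hyk : zpowers (y ^ k) = zpowers y := by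
      refine eq_of_le_of_card_ge (zpowers_le.2 (npow_mem_zpowers y k)) ?_
      rw [Nat.card_zpowers, Nat.card_zpowers, Nat.Coprime.orderOf_pow]
      rw [h.ord]
      exact Nat.Coprime.pow_left _ ((Nat.Prime.coprime_iff_not_dvd hq.out).2 hk)
    -- every element of `X` is `w * x ^ n`
    have hgen : ∀ g ∈ P ⊔ zpowers y, ∃ w ∈ P, ∃ c ∈ zpowers (u * y ^ k), w * c = g := by
      intro g hg
      refine (mem_sup_of_le_normalizer_left (zpowers_le.2 (hXP (hH.le hx)))).1
        ((sup_le le_sup_left ?_ : P ⊔ zpowers y ≤ P ⊔ zpowers (u * y ^ k)) hg)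
      rw [← hyk, zpowers_le]
      have := mul_mem (mem_sup_left (inv_mem hu) : u⁻¹ ∈ P ⊔ zpowers (u * y ^ k))
        (mem_sup_right (mem_zpowers _))
      rwa [inv_mul_cancel_left] at this
    rcases (hirr.of_pow hζ (β := ζ ^ k) (fun h2 => hk (hζ.dvd_of_pow_eq_one _ h2))
      (by rw [← pow_mul, mul_comm, pow_mul, hζ.pow_eq_one, one_pow])) (h.img H) (by
        rintro _ ⟨v, hv, rfl⟩
        refine ⟨u * y ^ k * v * (u * y ^ k)⁻¹, ⟨H.mul_mem (H.mul_mem hx hv.1) (H.inv_mem hx),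
          (mem_normalizer_iff.1 (hXP (hH.le hx)) v).1 hv.2⟩, ?_⟩
        have : u * y ^ k * v * (u * y ^ k)⁻¹ = u * (y ^ k * v * (y ^ k)⁻¹) * u⁻¹ := by group
        rw [this, h.conj hu (h.conj_mem (npow_mem_zpowers y k) hv.2), h.act_pow hv.2]) with h2 | h2
    · have h3 : H ≤ h.ker ⊔ zpowers (u * y ^ k) := by
        intro g hg
        obtain ⟨w, hw, c, hc, rfl⟩ := hgen g (hH.le hg)
        have hwH : w ∈ H := by simpa using mul_mem hg (inv_mem (zpowers_le.2 hx hc))
        have : π w ∈ h.img H := ⟨w, ⟨hwH, hw⟩, rfl⟩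
        rw [h2] at this
        exact mul_mem (mem_sup_left ⟨hw, this⟩) (mem_sup_right hc)
      have h4 : h.ker ≤ centralizer (zpowers (u * y ^ k) : Set G) :=
        h.ker_cent.trans (centralizer_le (zpowers_le.2 (hH.le hx)))
      have := (h.pg.to_le (fun z hz => hz.1 : h.ker ≤ P)).isNilpotent
      have := nilp_zpowers (u * y ^ k)
      have := isNilpotent_sup_of_le_normalizer (h4.trans (centralizer_le_normalizer _))
        ((le_centralizer_iff.1 h4).trans (centralizer_le_normalizer _))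
      exact isNilpotent_of_le h3
    · exfalso
      have h3 : ∀ g ∈ P ⊔ zpowers y, ∃ v ∈ H, ∃ z ∈ h.ker, v * z = g := by
        intro g hg
        obtain ⟨w, hw, c, hc, rfl⟩ := hgen g hg
        obtain ⟨v, hv, z, hz, rfl⟩ := h.decomp h2 hw
        refine ⟨v * c, mul_mem hv.1 (zpowers_le.2 hx hc), z, hz, ?_⟩
        rw [mul_assoc, mul_assoc, h.ker_cent hz c (hH.le (zpowers_le.2 hx hc))]
      have h4 : P ≤ H := by
        rw [← hperf, commutator_le]
        intro a ha b hb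
        obtain ⟨v, hv, z, hz, rfl⟩ := h3 a (mem_sup_left ha)
        obtain ⟨v', hv', z', hz', rfl⟩ := h3 b (mem_sup_right hb)
        have e1 := h.ker_cent hz _ (mem_sup_right hb)
        have e2 := h.ker_cent hz' _ (hH.le hv)
        have : ⁅v * z, v' * z'⁆ = ⁅v, v'⁆ := by
          calc ⁅v * z, v' * z'⁆ = v * (z * (v' * z')) * z⁻¹ * v⁻¹ * (v' * z')⁻¹ := by
                rw [commutatorElement_def]; group
            _ = v * v' * (z' * v⁻¹ * z'⁻¹) * v'⁻¹ := by rw [← e1]; group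
            _ = _ := by
              rw [commutatorElement_def, show z' * v⁻¹ * z'⁻¹ = v⁻¹ * (v * z') * v⁻¹ * z'⁻¹ by group,
                e2]
              group
        rw [this, commutatorElement_def]
        exact mul_mem (mul_mem (mul_mem hv hv') (inv_mem hv)) (inv_mem hv')
      refine hH.not_ge fun g hg => ?_
      obtain ⟨w, hw, c, hc, rfl⟩ := hgen g hg
      exact mul_mem (h4 hw) (zpowers_le.2 hx hc)
  · push Not at h1
    have h3 : H ≤ P ⊔ zpowers (y ^ q) := by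
      intro g hg
      obtain ⟨u, hu, k, rfl⟩ := h.mem_sup (hH.le hg)
      obtain ⟨m, rfl⟩ := h1 u hu k hg
      rw [pow_mul]
      exact mul_mem (mem_sup_left hu) (mem_sup_right (npow_mem_zpowers _ m))
    have h4 : zpowers (y ^ q) ≤ centralizer (P : Set G) :=
      zpowers_le.2 fun u hu => (h.cq u hu).symm
    have := h.pg.isNilpotent
    have := nilp_zpowers (y ^ q)
    have := isNilpotent_sup_of_le_normalizer
      ((le_centralizer_iff.1 h4).trans (centralizer_le_normalizer _))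
      (h4.trans (centralizer_le_normalizer _))
    exact isNilpotent_of_le h3

theorem minimal (hζ : IsPrimitiveRoot ζ q) (hirr : Irr ζ) (hperf : ⁅P, zpowers y⁆ = P)
    (K : Subgroup (P ⊔ zpowers y : Subgroup G)) (hK : K ≠ ⊤) : HasNormalPComplement p K := by
  have h1 : K.map (P ⊔ zpowers y).subtype < P ⊔ zpowers y := by
    refine lt_of_le_of_ne (map_subtype_le K) fun e => hK (eq_top_iff.2 fun x _ => ?_)
    obtain ⟨z, hz, h2⟩ : (x : G) ∈ K.map (P ⊔ zpowers y).subtype := e.symm ▸ x.2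
    exact Subtype.ext h2 ▸ hz
  have := h.nilp hζ hirr hperf h1
  exact Transfer.hasNormalPComplement_of_mulEquiv Transfer.hasNormalPComplement_of_isNilpotent
    (K.equivMapOfInjective _ (P ⊔ zpowers y).subtype_injective).symm

end Md
end model

section bound
variable {F : Type*} [Field F] [Finite F] {p q r : ℕ} [hp : Fact p.Prime] [hq : Fact q.Prime]
  {G : Type*} [Group G] [Finite G] {ζ : F} {P : Subgroup G} {y : G} {π : G → F}

theorem Md.exists_form (h : Md p q r ζ P y π) : ∃ B : F → F → G,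
    (∀ u ∈ P, ∀ w ∈ P, ⁅u, w⁆ = B (π u) (π w)) := by
  choose l hl hl' using h.sur
  refine ⟨fun s t => ⁅l s, l t⁆, fun u hu w hw => ?_⟩
  have key : ∀ u ∈ P, ∃ z, (∀ v ∈ P, z * v = v * z) ∧ u = l (π u) * z := fun u hu =>
    ⟨(l (π u))⁻¹ * u, h.cP _ (mul_mem (inv_mem (hl _)) hu) (by
      rw [h.add _ (inv_mem (hl _)) _ hu, h.inv (hl _), hl', neg_add_cancel]), by group⟩
  obtain ⟨z, hz, e⟩ := key u hu
  obtain ⟨z', hz', e'⟩ := key w hw
  have e1 := hz w hw
  have e2 := hz' _ (hl (π u))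
  set v := l (π u)
  set v' := l (π w)
  calc ⁅u, w⁆ = v * (z * w) * z⁻¹ * v⁻¹ * w⁻¹ := by
        rw [commutatorElement_def]; conv_lhs => rw [e]
        group
    _ = v * v' * (v⁻¹ * (v * z') * v⁻¹ * z'⁻¹) * v'⁻¹ := by
        rw [e1]; conv_lhs => rw [e']
        group
    _ = ⁅v, v'⁆ := by rw [← e2, commutatorElement_def]; group

theorem Md.card_ker_le [CharP F p] (h : Md p q r ζ P y π) (hζ : IsPrimitiveRoot ζ q) (hirr : Irr ζ)
    (hperf : ⁅P, zpowers y⁆ = P) {a : ℕ} (hF : Nat.card F = p ^ a) :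
    Nat.card h.ker ≤ p ^ (if a % 2 = 1 then 0 else a / 2) := by
  obtain ⟨B, hB⟩ := h.exists_form
  have hζ0 : ζ ≠ 0 := hζ.ne_zero hq.out.ne_zero
  have hcP : ∀ u ∈ P, ∀ w ∈ P, ⁅u, w⁆ ∈ P := fun u hu w hw =>
    commutator_le_of_le le_rfl le_rfl (commutator_mem_commutator hu hw)
  have hc : ∀ u ∈ P, ∀ w ∈ P, ∀ v ∈ P, Commute v ⁅u, w⁆ := fun u hu w hw v hv =>
    (h.cP _ (hcP u hu w hw) (h.comm hu hw) v hv).symm
  have hr : ∀ s t t', B s (t + t') = B s t * B s t' := by
    intro s t t'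
    obtain ⟨u, hu, rfl⟩ := h.sur s
    obtain ⟨w, hw, rfl⟩ := h.sur t
    obtain ⟨w', hw', rfl⟩ := h.sur t'
    rw [← h.add w hw w' hw', ← hB u hu _ (mul_mem hw hw'), ← hB u hu w hw, ← hB u hu w' hw',
      commutatorElement_mul_right_of_commute (hc u hu w' hw' w hw)]
  have hs : ∀ s t, B t s = (B s t)⁻¹ := by
    intro s t
    obtain ⟨u, hu, rfl⟩ := h.sur s
    obtain ⟨w, hw, rfl⟩ := h.sur t
    rw [← hB u hu w hw, ← hB w hw u hu, commutatorElement_inv]
  have hl : ∀ s s' t, B (s + s') t = B s t * B s' t := by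
    intro s s' t
    rw [hs, add_comm, hr, mul_inv_rev, ← hs, ← hs]
  have h0 : ∀ s, B s s = 1 := by
    intro s
    obtain ⟨u, hu, rfl⟩ := h.sur s
    rw [← hB u hu u hu, commutatorElement_self]
  have hz : ∀ s t, B (ζ * s) (ζ * t) = B s t := by
    intro s t
    obtain ⟨u, hu, rfl⟩ := h.sur s
    obtain ⟨w, hw, rfl⟩ := h.sur t
    rw [← h.act u hu, ← h.act w hw, ← hB _ (h.conj_mem (mem_zpowers y) hu) _
      (h.conj_mem (mem_zpowers y) hw), ← hB u hu w hw, ← conjugate_commutatorElement,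
      ← h.cy _ (hcP u hu w hw) (h.comm hu hw), mul_inv_cancel_right]
  let lam : F → (Multiplicative F →* G) := fun s => MonoidHom.mk' (fun t => B s t.toAdd) (hr s)
  have hr0 : ∀ s, B s 0 = 1 := fun s => map_one (lam s)
  have hrn : ∀ s t, B s (-t) = (B s t)⁻¹ := fun s t => map_inv (lam s) (Multiplicative.ofAdd t)
  let A : Subfield F :=
    { carrier := {c | ∀ s t, B (c * s) t = B s (c * t)}
      mul_mem' := fun {c d} hc hd s t => by rw [mul_assoc, hc, hd, mul_left_comm, mul_assoc]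
      one_mem' := fun s t => by rw [one_mul, one_mul]
      add_mem' := fun {c d} hc hd s t => by rw [add_mul, add_mul, hl, hr, hc, hd]
      zero_mem' := fun s t => by rw [zero_mul, zero_mul, hs, hr0, hr0, inv_one]
      neg_mem' := fun {c} hc s t => by 
        rw [neg_mul, neg_mul, hs, hrn, hrn, ← hc s t, hs (c * s) t, inv_inv]
      inv_mem' := fun c hc s t => by
        by_cases h0 : c = 0
        · rw [h0, inv_zero, zero_mul, zero_mul, hs, hr0, hr0, inv_one]
        have := hc (c⁻¹ * s) (c⁻¹ * t)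
        rw [mul_inv_cancel_left₀ h0, mul_inv_cancel_left₀ h0] at this
        exact this.symm }
  have hA : ∀ c ∈ A, B 1 c = 1 := by
    intro c hc
    by_cases h2 : p = 2
    · subst h2
      letI := Fintype.ofFinite A
      obtain ⟨d, hd⟩ := FiniteField.isSquare_of_char_two (ringChar.eq A 2) (⟨c, hc⟩ : A)
      have h3 : c = d * d := congrArg Subtype.val hd
      rw [h3, ← d.2, mul_one, h0]
    · have h3 : B 1 c ^ 2 = 1 := by
        have := hc 1 1
        rw [mul_one, hs] at this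
        rw [pow_two]
        nth_rw 1 [← this]
        exact inv_mul_cancel _
      have h4 : B 1 c ^ p = 1 := by
        have := map_pow (lam 1) (Multiplicative.ofAdd c) p
        refine this.symm.trans ?_
        change B 1 (p • c) = 1
        rw [nsmul_eq_mul, CharP.cast_eq_zero, zero_mul, hr0]
      have h5 := pow_gcd_eq_one.2 ⟨h3, h4⟩
      rwa [(Nat.coprime_primes Nat.prime_two hp.out).2 (Ne.symm h2), pow_one] at h5
  have hζA : ζ + ζ⁻¹ ∈ A := fun s t => by
    have e1 := hz s (ζ⁻¹ * t)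
    have e2 := hz (ζ⁻¹ * s) t
    rw [mul_inv_cancel_left₀ hζ0] at e1 e2
    rw [add_comm ζ, add_mul, hl, add_comm ζ⁻¹, add_mul, hr, e1, e2]
  have hFA : Nat.card F ≤ Nat.card A * Nat.card A := by
    let f : A × A →+ F := AddMonoidHom.mk' (fun x => x.1 + x.2 * ζ) fun x x' => by
      simp only [Prod.fst_add, Prod.snd_add, Subfield.coe_add]; ring
    rw [← Nat.card_prod]
    rcases hirr f.range (by
      rintro _ ⟨⟨c, d⟩, rfl⟩
      refine ⟨(-d, c + d * ⟨_, hζA⟩), ?_⟩
      change -(d : F) + (c + d * (ζ + ζ⁻¹)) * ζ = ζ * (c + d * ζ)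
      field_simp
      ring) with h1 | h1
    · have : (1 : F) ∈ f.range := ⟨(1, 0), by simp [f]⟩
      rw [h1] at this
      exact absurd this one_ne_zero
    · exact Nat.card_le_card_of_surjective f (AddMonoidHom.range_eq_top.1 h1)
  have hZ : h.ker ≤ (lam 1).range := by
    have h1 : h.ker ≤ ⁅P, P⁆ := le_trans (le_inf (h.ker_cent.trans (centralizer_le (le_sup_right : zpowers y ≤ P ⊔ zpowers y)))
      (fun z hz => hperf.symm ▸ hz.1)) (Coprime.centralizer_inf_commutator_le h.znor (h.cop le_rfl))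
    refine h1.trans (commutator_le.2 fun u hu w hw => ?_)
    let S : AddSubgroup F :=
      { carrier := {s | ∀ t, B s t ∈ (lam 1).range}
        zero_mem' := fun t => by rw [hs, hr0, inv_one]; exact one_mem _
        add_mem' := fun {s s'} h2 h3 t => by rw [hl]; exact mul_mem (h2 t) (h3 t)
        neg_mem' := fun {s} h2 t => by rw [hs, hrn, inv_inv, hs]; exact inv_mem (h2 t) }
    have hS1 : (1 : F) ∈ S := fun t => ⟨Multiplicative.ofAdd t, rfl⟩
    rcases hirr S (fun s h2 t => by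
      rw [← mul_inv_cancel_left₀ hζ0 t, hz]; exact h2 _) with h2 | h2
    · rw [h2] at hS1
      exact absurd hS1 one_ne_zero
    · rw [hB u hu w hw]
      exact (h2.ge (AddSubgroup.mem_top _) : π u ∈ S) _
  have hcard : Nat.card h.ker * Nat.card A ≤ p ^ a := by
    have h1 := card_mul_index (lam 1).ker
    rw [index_ker] at h1
    have h2 : Nat.card A ≤ Nat.card (lam 1).ker :=
      Nat.card_le_card_of_injective (fun c => ⟨Multiplicative.ofAdd c.1, hA c.1 c.2⟩)
        fun c d e => Subtype.ext (congrArg (fun x : (lam 1).ker => x.1.toAdd) e)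
    calc _ ≤ Nat.card (lam 1).range * Nat.card (lam 1).ker := Nat.mul_le_mul (card_le_of_le hZ) h2
      _ = _ := by rw [mul_comm, h1, ← hF]; rfl
  obtain ⟨e, -, he⟩ := (Nat.dvd_prime_pow hp.out).1
    (hF ▸ AddSubgroup.card_addSubgroup_dvd_card A.toSubring.toAddSubgroup)
  have he' : Nat.card A = p ^ e := he
  have h1 : a = e * Module.finrank A F := Nat.pow_right_injective hp.out.two_le (by
    have := Module.natCard_eq_pow_finrank (K := A) (V := F)
    rwa [hF, he', ← pow_mul] at this)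
  rw [hF, he', ← pow_add, Nat.pow_le_pow_iff_right hp.out.one_lt] at hFA
  have h2 : (if a % 2 = 1 then 0 else a / 2) + e ≥ a := by
    split_ifs with h3
    · have h4 : Module.finrank A F ≠ 2 := by rintro h4; rw [h4] at h1; omega
      have h5 : Module.finrank A F ≤ 1 := by
        by_contra h5
        have : e * 3 ≤ e * Module.finrank A F := Nat.mul_le_mul_left _ (by omega)
        omega
      have := Nat.mul_le_mul_left e h5
      omega
    · omega
  rw [he'] at hcard
  refine Nat.le_of_mul_le_mul_right (hcard.trans ?_) (Nat.pow_pos hp.out.pos)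
  rw [← pow_add]
  exact Nat.pow_le_pow_right hp.out.pos h2

end bound

section struct
variable {F : Type*} [Field F] [Finite F] {p q r : ℕ} [hp : Fact p.Prime] [hq : Fact q.Prime]
  {ζ : F}

theorem exists_md [CharP F p] (hpq : p ≠ q) (hr : 1 ≤ r) (hζ : IsPrimitiveRoot ζ q) (hirr : Irr ζ)
    {X : Type*} [Group X] [Finite X] (h1 : ¬ HasNormalPComplement p X)
    (h2 : ∀ K : Subgroup X, K ≠ ⊤ → HasNormalPComplement p K) {t : ℕ}
    (hc : Nat.card X = p ^ t * q ^ r) :
    ∃ (P : Subgroup X) (y : X) (π : X → F), Md p q r ζ P y π ∧ ⁅P, zpowers y⁆ = P ∧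
      P ⊔ zpowers y = ⊤ := by
  obtain ⟨S⟩ := (inferInstance : Nonempty (Sylow p X))
  obtain ⟨hPn, q', hq', hqp, g, ⟨k, hk⟩, hg, htop⟩ :=
    Transfer.minimal_not_hasNormalPComplement h1 h2 S
  have hS := S.card_eq_multiplicity
  have hPp := S.isPGroup'
  set P := (S : Subgroup X) with hP
  have hcP : Nat.card P = p ^ t := by
    rw [hS, hc, Nat.factorization_mul (pow_ne_zero _ hp.out.ne_zero) (pow_ne_zero _ hq.out.ne_zero),
      hp.out.factorization_pow, hq.out.factorization_pow]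
    simp [hpq]
  obtain ⟨j, -, hj⟩ := (Nat.dvd_prime_pow hq').1 (orderOf_dvd_of_pow_eq_one hk)
  have hcop : (Nat.card (zpowers g)).Coprime (Nat.card P) := by
    rw [Nat.card_zpowers, hj, hcP]
    exact Nat.Coprime.pow _ _ ((Nat.coprime_primes hq' hp.out).2 hqp)
  have hord : orderOf g = q ^ r := by
    have := card_sup_mul_card_inf_of_normal (zpowers g) P
    rw [sup_comm, htop, inf_eq_bot_of_coprime hcop, card_bot, card_top, mul_one, hc, hcP,
      Nat.card_zpowers, mul_comm] at this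
    exact (Nat.eq_of_mul_eq_mul_right (Nat.pow_pos hp.out.pos) this).symm
  have hcopp : ∀ n : ℕ, (orderOf (g ^ n)).Coprime p := fun n =>
    Nat.Coprime.coprime_dvd_left (orderOf_pow_dvd n) (by
      rw [hord]; exact Nat.Coprime.pow_left _ ((Nat.coprime_primes hq.out hp.out).2 hpq.symm))
  have hcent : ∀ (U : Subgroup X) (n : ℕ), U ≤ P → g ^ n ∈ normalizer (U : Set X) →
      U ⊔ zpowers (g ^ n) ≠ ⊤ → g ^ n ∈ centralizer (U : Set X) := fun U n hU hn hne =>
    Transfer.mem_centralizer_of_hasNormalPComplement (h2 _ hne) (hPp.to_le hU) le_sup_left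
      (mem_sup_right (mem_zpowers _)) hn (hcopp n)
  have hcard : ∀ (U : Subgroup X) (x : X), x ∈ normalizer (U : Set X) →
      Nat.card (U ⊔ zpowers x : Subgroup X) ≤ orderOf x * Nat.card U := by
    intro U x hx
    have := card_sup_mul_card_inf_of_le_normalizer (zpowers_le.2 hx)
    rw [Nat.card_zpowers, sup_comm] at this
    rw [← this]
    exact Nat.le_mul_of_pos_right _ Nat.card_pos
  have hmin : ∀ U : Subgroup X, U < P → g ∈ normalizer (U : Set X) →
      g ∈ centralizer (U : Set X) := by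
    intro U hU hn
    have := hcent U 1 hU.le (by rwa [pow_one]) (fun e => by
      have h3 := hcard U g hn
      have h4 := card_lt_of_lt hU
      rw [pow_one] at e
      rw [e, card_top, hc, hord, ← hcP, mul_comm] at h3
      exact absurd (Nat.le_of_mul_le_mul_left h3 (Nat.pow_pos hq.out.pos)) h4.not_ge)
    rwa [pow_one] at this
  have hgq : g ^ q ∈ centralizer (P : Set X) := by
    refine hcent P q le_rfl (by rw [normalizer_eq_top]; trivial) fun e => ?_
    have h3 := hcard P (g ^ q) (by rw [normalizer_eq_top]; trivial)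
    have h4 : orderOf (g ^ q) ≤ q ^ (r - 1) := Nat.le_of_dvd (Nat.pow_pos hq.out.pos)
      (orderOf_dvd_of_pow_eq_one (by
        rw [← pow_mul, ← pow_succ', Nat.sub_add_cancel hr, ← hord, pow_orderOf_eq_one]))
    have h5 : q ^ (r - 1) < q ^ r := Nat.pow_lt_pow_right hq.out.one_lt (by omega)
    rw [e, card_top, hc, ← hcP, mul_comm] at h3
    have := Nat.le_of_mul_le_mul_right h3 Nat.card_pos
    omega
  have hgP : zpowers g ≤ normalizer (P : Set X) := le_normalizer_of_normal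
  have hperf : ⁅P, zpowers g⁆ = P := by
    by_contra hne
    have h3 := hmin _ (lt_of_le_of_ne (Coprime.commutator_le_of_le_normalizer hgP) hne)
      (Coprime.le_normalizer_commutator hgP le_normalizer (mem_zpowers g))
    have h4 := Coprime.commutator_eq_bot_of_commutator_commutator_eq_bot hgP hcop (by
      rw [commutator_comm, commutator_eq_bot_iff_le_centralizer]; exact zpowers_le.2 h3)
    rw [commutator_comm, commutator_eq_bot_iff_le_centralizer] at h4
    exact hg (h4 (mem_zpowers g))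
  have hP0 : P ≠ ⊥ := fun e => hg (by rw [e]; intro x hx; rw [mem_bot.1 hx, one_mul, mul_one])
  obtain ⟨U, ⟨hUn, hUP⟩, hmax⟩ := (wellFounded_gt (α := Subgroup X)).has_min
    {U | U.Normal ∧ U < P} ⟨⊥, inferInstance, bot_lt_iff_ne_bot.2 hP0⟩
  have hgU : g ∈ centralizer (U : Set X) := hmin U hUP (by rw [normalizer_eq_top]; trivial)
  have hPU : P ≤ centralizer (U : Set X) := by
    rw [← hperf]
    exact (commutator_mono le_rfl (zpowers_le.2 hgU)).trans (commutator_le_right _ _)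
  have hΦ : (frattini P).map P.subtype ≤ U := by
    by_contra hne
    refine hmax (U ⊔ (frattini P).map P.subtype) ⟨inferInstance, lt_of_le_of_ne
      (sup_le hUP.le (map_subtype_le _)) fun e => hUP.ne (eq_of_le_sup_map_frattini hUP.le e.ge)⟩
      (left_lt_sup.2 hne)
  have hPP : ⁅P, P⁆ ≤ U := (commutator_le_map_frattini hPp).trans hΦ
  set f := QuotientGroup.mk' U with hf
  haveI : (P.map f).Normal := hPn.map f (QuotientGroup.mk'_surjective U)
  let σ : P.map f →* P.map f := (MulAut.conjNormal (f g)).toMonoidHom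
  have hσ : ∀ x : P.map f, (σ x : X ⧸ U) = f g * x * (f g)⁻¹ := fun x => rfl
  have hσn : ∀ (n : ℕ) (x : P.map f), (σ^[n] x : X ⧸ U) = f (g ^ n) * x * (f (g ^ n))⁻¹ := by
    intro n x
    induction n with
    | zero => simp
    | succ n ih => rw [Function.iterate_succ_apply', hσ, ih, pow_succ', map_mul]; group
  obtain ⟨β, θ, hβ1, hβq, hθ, hθ0, hθs, hθσ⟩ := exists_theta (p := p) hζ hirr (W := P.map f)
    (by
      rintro ⟨_, a, ha, rfl⟩ ⟨_, b, hb, rfl⟩
      refine Subtype.ext (commutatorElement_eq_one_iff_mul_comm.1 ?_)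
      exact (map_commutatorElement f a b).symm.trans
        ((QuotientGroup.eq_one_iff _).2 (hPP (commutator_mem_commutator ha hb))))
    (by
      rintro ⟨_, a, ha, rfl⟩
      exact Subtype.ext ((map_pow f a p).symm.trans
        ((QuotientGroup.eq_one_iff _).2 (hΦ (pow_mem_map_frattini hPp ha))))) σ
    (by
      rintro ⟨_, a, ha, rfl⟩
      refine Subtype.ext ?_
      rw [hσn, ← map_mul, ← hgq a ha, map_mul, mul_inv_cancel_right])
    (by
      by_contra hne
      push Not at hne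
      refine hUP.not_ge (hperf.ge.trans (commutator_zpowers_right_le
        (by rw [normalizer_eq_top]; trivial) fun c hc => (QuotientGroup.eq_one_iff _).1 ?_))
      have := congrArg Subtype.val (hne ⟨f c, c, hc, rfl⟩)
      rw [hσ] at this
      exact (map_commutatorElement f c g).trans (commutatorElement_eq_one_iff_mul_comm.2
        (mul_inv_eq_iff_eq_mul.1 this).symm))
    (by
      intro T hT
      set V := (T.map (P.map f).subtype).comap f ⊓ P with hV
      have hUV : U ≤ V := fun x hx => ⟨by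
        change f x ∈ T.map _
        rw [show f x = 1 from (QuotientGroup.eq_one_iff _).2 hx]
        exact one_mem _, hUP.le hx⟩
      have hVn : V.Normal := by
        rw [← normalizer_eq_top_iff, eq_top_iff, ← htop]
        refine sup_le (le_normalizer_of_commutator_le ((commutator_mono inf_le_right le_rfl).trans
          (hPP.trans hUV))) (zpowers_le.2 (mem_normalizer_fintype ?_))
        rintro x ⟨⟨w, hw, e⟩, hx⟩
        refine ⟨⟨σ w, hT w hw, ?_⟩, hPn.conj_mem x hx g⟩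
        rw [map_mul, map_mul, map_inv, ← e]
        rfl
      by_cases e : V = P
      · refine Or.inr (eq_top_iff.2 ?_)
        rintro ⟨_, a, ha, rfl⟩ -
        obtain ⟨w, hw, e⟩ := (e.ge ha).1
        have e' : w = ⟨f a, a, ha, rfl⟩ := Subtype.ext e
        exact e' ▸ hw
      · refine Or.inl (eq_bot_iff.2 ?_)
        rintro ⟨_, a, ha, rfl⟩ hw
        have h3 : V ≤ U := by
          by_contra h3
          exact hmax V ⟨hVn, lt_of_le_of_ne inf_le_right e⟩ (lt_of_le_of_ne hUV fun e => h3 e.ge)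
        exact Subtype.ext ((QuotientGroup.eq_one_iff _).2 (h3 ⟨⟨_, hw, rfl⟩, ha⟩)))
  obtain ⟨i, hi, hβ⟩ := exists_pow hζ hβ1 hβq
  have hoi : orderOf (g ^ i) = q ^ r := by
    rw [Nat.Coprime.orderOf_pow, hord]
    rw [hord]
    exact Nat.Coprime.pow_left _ hi.symm
  have hzi : zpowers (g ^ i) = zpowers g :=
    eq_of_le_of_card_ge (zpowers_le.2 (npow_mem_zpowers g i)) (by
      rw [Nat.card_zpowers, Nat.card_zpowers, hoi, hord])
  classical
  let π : X → F := fun x => if h : x ∈ P then θ ⟨f x, x, h, rfl⟩ else 0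
  have hπ : ∀ x (h : x ∈ P), π x = θ ⟨f x, x, h, rfl⟩ := fun x h => dif_pos h
  have hker : ∀ z ∈ P, π z = 0 → z ∈ U := fun z hz h0 =>
    (QuotientGroup.eq_one_iff _).1 (congrArg Subtype.val (hθ0 _ ((hπ z hz).symm.trans h0)))
  have hθn : ∀ (n : ℕ) x, θ (σ^[n] x) = β ^ n * θ x := by
    intro n x
    induction n with
    | zero => simp
    | succ n ih => rw [Function.iterate_succ_apply', hθσ, ih]; ring
  refine ⟨P, g ^ i, π, ⟨hpq, hPp, by rw [normalizer_eq_top]; trivial, hoi, fun u hu => ?_,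
    fun u hu w hw => ?_, fun u hu => ?_, fun s => ?_, fun z hz h0 u hu => ?_, fun z hz h0 => ?_⟩,
    hzi ▸ hperf, hzi ▸ htop⟩
  · rw [← pow_mul, mul_comm i, pow_mul]
    exact (pow_mem hgq i u hu).symm
  · rw [hπ u hu, hπ w hw, hπ _ (mul_mem hu hw), ← hθ]
    congr 1
  · rw [hπ u hu, hπ _ (hPn.conj_mem u hu _), ← hβ, ← hθn]
    congr 1
    refine Subtype.ext ?_
    rw [hσn]
    change f _ = f _ * f _ * _
    rw [map_mul, map_mul, map_inv]
  · obtain ⟨⟨_, a, ha, rfl⟩, rfl⟩ := hθs s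
    exact ⟨a, ha, hπ a ha⟩
  · exact hPU hu z (hker z hz h0)
  · exact pow_mem hgU i z (hker z hz h0)

theorem Md.prod {G H : Type*} [Group G] [Finite G] [Group H] [Finite H] {P : Subgroup G} {y : G}
    {π : G → F} {P' : Subgroup H} {y' : H} {π' : H → F} (h : Md p q r ζ P y π)
    (h' : Md p q r ζ P' y' π') : ∃ Q : Subgroup (G × H), Md p q r ζ Q (y, y') (fun x => π x.1) ∧
      Q.map (MonoidHom.fst G H) = P ∧ Q.map (MonoidHom.snd G H) = P' ∧
      ∀ x ∈ Q, π x.1 = π' x.2 := by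
  let Q : Subgroup (G × H) :=
    { carrier := {x | x.1 ∈ P ∧ x.2 ∈ P' ∧ π x.1 = π' x.2}
      one_mem' := ⟨one_mem _, one_mem _, h.one.trans h'.one.symm⟩
      mul_mem' := fun {a b} ha hb => ⟨mul_mem ha.1 hb.1, mul_mem ha.2.1 hb.2.1, by
        rw [Prod.fst_mul, Prod.snd_mul, h.add _ ha.1 _ hb.1, h'.add _ ha.2.1 _ hb.2.1, ha.2.2,
          hb.2.2]⟩
      inv_mem' := fun {a} ha => ⟨inv_mem ha.1, inv_mem ha.2.1, by
        rw [Prod.fst_inv, Prod.snd_inv, h.inv ha.1, h'.inv ha.2.1, ha.2.2]⟩ }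
  refine ⟨Q, ⟨h.ne, fun x => ?_, mem_normalizer_fintype fun x hx =>
    ⟨h.conj_mem (mem_zpowers y) hx.1, h'.conj_mem (mem_zpowers y') hx.2.1,
      (h.act _ hx.1).trans ((congrArg _ hx.2.2).trans (h'.act _ hx.2.1).symm)⟩,
    by rw [Prod.orderOf_mk, h.ord, h'.ord, Nat.lcm_self],
    fun u hu => Prod.ext (h.cq _ hu.1) (h'.cq _ hu.2.1), fun u hu w hw => h.add _ hu.1 _ hw.1,
    fun u hu => h.act _ hu.1, fun s => ?_,
    fun z hz h0 u hu => Prod.ext (h.cP _ hz.1 h0 _ hu.1)
      (h'.cP _ hz.2.1 (hz.2.2.symm.trans h0) _ hu.2.1),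
    fun z hz h0 => Prod.ext (h.cy _ hz.1 h0) (h'.cy _ hz.2.1 (hz.2.2.symm.trans h0))⟩, ?_, ?_,
    fun x hx => hx.2.2⟩
  · obtain ⟨m, hm⟩ := h.pg ⟨x.1.1, x.2.1⟩
    obtain ⟨n, hn⟩ := h'.pg ⟨x.1.2, x.2.2.1⟩
    have hm' : x.1.1 ^ p ^ m = 1 := congrArg Subtype.val hm
    have hn' : x.1.2 ^ p ^ n = 1 := congrArg Subtype.val hn
    refine ⟨m + n, Subtype.ext (Prod.ext ?_ ?_)⟩
    · change x.1.1 ^ p ^ (m + n) = 1
      rw [pow_add, pow_mul, hm', one_pow]
    · change x.1.2 ^ p ^ (m + n) = 1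
      rw [pow_add, mul_comm, pow_mul, hn', one_pow]
  · obtain ⟨u, hu, e⟩ := h.sur s
    obtain ⟨w, hw, e'⟩ := h'.sur s
    exact ⟨(u, w), ⟨hu, hw, e.trans e'.symm⟩, e⟩
  · refine le_antisymm (by rintro _ ⟨x, hx, rfl⟩; exact hx.1) fun u hu => ?_
    obtain ⟨w, hw, e⟩ := h'.sur (π u)
    exact ⟨(u, w), ⟨hu, hw, e.symm⟩, rfl⟩
  · refine le_antisymm (by rintro _ ⟨x, hx, rfl⟩; exact hx.2.1) fun u hu => ?_
    obtain ⟨w, hw, e⟩ := h.sur (π' u)
    exact ⟨(w, u), ⟨hw, hu, e⟩, rfl⟩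

theorem Md.univ [CharP F p] {G H : Type*} [Group G] [Finite G] [Group H] [Finite H] {P : Subgroup G}
    {y : G} {π : G → F} {P' : Subgroup H} {y' : H} {π' : H → F} (h : Md p q r ζ P y π)
    (h' : Md p q r ζ P' y' π') (hζ : IsPrimitiveRoot ζ q) (hirr : Irr ζ)
    (hperf : ⁅P, zpowers y⁆ = P) (hperf' : ⁅P', zpowers y'⁆ = P') (htop : P' ⊔ zpowers y' = ⊤)
    {a : ℕ} (hF : Nat.card F = p ^ a)
    (hk : Nat.card h.ker = p ^ (if a % 2 = 1 then 0 else a / 2)) :
    ∃ φ : (P ⊔ zpowers y : Subgroup G) →* H, Function.Surjective φ ∧ φ.ker ≤ center _ := by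
  obtain ⟨Q, hQ, h1, h2, h3⟩ := h.prod h'
  obtain ⟨hW, hWp⟩ := hQ.core hζ hirr
  set Q₀ := ⁅Q, zpowers (y, y')⁆ with hQ₀
  have hle : Q₀ ≤ Q := Coprime.commutator_le_of_le_normalizer hQ.znor
  have h4 : (Q₀ ⊔ zpowers (y, y')).map (MonoidHom.fst G H) = P ⊔ zpowers y := by
    rw [Subgroup.map_sup, hQ₀, map_commutator, h1, MonoidHom.map_zpowers]
    exact congrArg (· ⊔ _) hperf
  have h5 : (Q₀ ⊔ zpowers (y, y')).map (MonoidHom.snd G H) = ⊤ := by
    rw [Subgroup.map_sup, hQ₀, map_commutator, h2, MonoidHom.map_zpowers, ← htop]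
    exact congrArg (· ⊔ _) hperf'
  let f : (Q₀ ⊔ zpowers (y, y') : Subgroup (G × H)) →* (P ⊔ zpowers y : Subgroup G) :=
    ((MonoidHom.fst G H).comp (Subgroup.subtype _)).codRestrict _ fun x => h4 ▸ ⟨x, x.2, rfl⟩
  have hfs : Function.Surjective f := by
    rintro ⟨x, hx⟩
    obtain ⟨w, hw, rfl⟩ := h4.ge hx
    exact ⟨⟨w, hw⟩, rfl⟩
  have hfb : Function.Bijective f := hfs.bijective_of_nat_card_le (by
    rw [hW.card_X, h.card_X, hW.card_P, h.card_P, hk]
    exact Nat.mul_le_mul_right _ (Nat.mul_le_mul_right _ (hW.card_ker_le hζ hirr hWp hF)))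
  let e := MulEquiv.ofBijective f hfb
  refine ⟨((MonoidHom.snd G H).comp (Subgroup.subtype _)).comp e.symm.toMonoidHom, fun x => ?_,
    fun x hx => ?_⟩
  · obtain ⟨w, hw, rfl⟩ := h5.ge (mem_top x)
    exact ⟨e ⟨w, hw⟩, by simp⟩
  · obtain ⟨w, rfl⟩ := e.surjective x
    have h6 : w.1.2 = 1 := by simpa using hx
    obtain ⟨u, hu, k, e1⟩ := hW.mem_sup w.2
    have hu2 : u.2 ∈ P' := h2 ▸ ⟨u, hle hu, rfl⟩
    have hu1 : u.1 ∈ P := h1 ▸ ⟨u, hle hu, rfl⟩
    have e2 : u.2 * y' ^ k = 1 := (congrArg Prod.snd e1).trans h6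
    have e3 : y' ^ k = 1 := h'.eq_one (by
      rw [eq_inv_of_mul_eq_one_right e2]; exact inv_mem hu2) (npow_mem_zpowers y' k)
    have e4 : y ^ k = 1 := orderOf_dvd_iff_pow_eq_one.1 (by
      rw [h.ord, ← h'.ord]; exact orderOf_dvd_of_pow_eq_one e3)
    rw [e3, mul_one] at e2
    have e5 : w.1.1 = u.1 := by
      rw [← e1]
      change u.1 * y ^ k = _
      rw [e4, mul_one]
    have e6 : u.1 ∈ h.ker := ⟨hu1, by rw [h3 u (hle hu), e2, h'.one]⟩
    refine mem_center_iff.2 fun g => Subtype.ext ?_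
    change g.1 * w.1.1 = w.1.1 * g.1
    rw [e5]
    exact h.ker_cent e6 g.1 g.2

end struct

section ex

/-- data for the example -/
structure Dt (F C : Type*) [Field F] [Group C] where
  κ : F →+ F
  χ : C →* Fˣ
  h : ∀ c u, (χ c : F) * κ (χ c * u) = κ u

/-- the example group -/
@[ext] structure Hs {F C : Type*} [Field F] [Group C] (D : Dt F C) where
  u : F
  z : F
  c : C

variable {F C : Type*} [Field F] [Group C] {D : Dt F C}

instance instMul : Mul (Hs D) :=
  ⟨fun a b => ⟨a.u + D.χ a.c * b.u, a.z + b.z + a.u * D.κ (D.χ a.c * b.u), a.c * b.c⟩⟩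
instance instOne : One (Hs D) := ⟨⟨0, 0, 1⟩⟩
instance instInv : Inv (Hs D) := ⟨fun a => ⟨-(D.χ a.c⁻¹ * a.u), -a.z + a.u * D.κ a.u, a.c⁻¹⟩⟩

theorem mul_u (a b : Hs D) : (a * b).u = a.u + D.χ a.c * b.u := rfl
theorem mul_z (a b : Hs D) : (a * b).z = a.z + b.z + a.u * D.κ (D.χ a.c * b.u) := rfl
theorem mul_c (a b : Hs D) : (a * b).c = a.c * b.c := rfl
theorem one_u : (1 : Hs D).u = 0 := rfl
theorem one_z : (1 : Hs D).z = 0 := rfl
theorem one_c : (1 : Hs D).c = 1 := rfl
theorem inv_u (a : Hs D) : a⁻¹.u = -(D.χ a.c⁻¹ * a.u) := rfl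
theorem inv_z (a : Hs D) : a⁻¹.z = -a.z + a.u * D.κ a.u := rfl
theorem inv_c (a : Hs D) : a⁻¹.c = a.c⁻¹ := rfl

instance instGroup : Group (Hs D) := Group.ofLeftAxioms
  (fun a b c => by
    ext
    · simp only [mul_u, mul_c, map_mul, Units.val_mul]; ring
    · simp only [mul_u, mul_z, mul_c, map_mul, Units.val_mul, mul_add, map_add, mul_assoc]
      linear_combination b.u * D.h a.c (D.χ b.c * c.u)
    · exact mul_assoc _ _ _)
  (fun a => by ext <;> simp [mul_u, mul_z, mul_c, one_u, one_z, one_c])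
  (fun a => by
    ext
    · simp [mul_u, inv_u, inv_c, one_u]
    · simp only [mul_z, inv_u, inv_z, inv_c, one_z]
      linear_combination -a.u * D.h a.c⁻¹ a.u
    · exact inv_mul_cancel _)

instance instFinite [Finite F] [Finite C] : Finite (Hs D) :=
  Finite.of_injective (fun a : Hs D => (a.u, a.z, a.c)) fun a b h => by
    simp only [Prod.mk.injEq] at h
    exact Hs.ext h.1 h.2.1 h.2.2

/-- the normal subgroup -/
def PP (D : Dt F C) : Subgroup (Hs D) where
  carrier := {a | a.c = 1}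
  one_mem' := rfl
  mul_mem' := fun {a b} ha hb => by
    change a.c * b.c = 1
    rw [show a.c = 1 from ha, show b.c = 1 from hb, one_mul]
  inv_mem' := fun {a} ha => inv_eq_one.2 ha

theorem y_pow (c : C) (n : ℕ) : (⟨0, 0, c⟩ : Hs D) ^ n = ⟨0, 0, c ^ n⟩ := by
  induction n with
  | zero => rw [pow_zero, pow_zero]; rfl
  | succ n ih => rw [pow_succ, ih, pow_succ]; ext <;> simp [mul_u, mul_z, mul_c]

theorem md_ex [Finite F] [Finite C] {p q r a : ℕ} [Fact p.Prime] [hq : Fact q.Prime] (hpq : p ≠ q)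
    (hF : Nat.card F = p ^ a) {c : C} (hc : orderOf c = q ^ r) (hζ : (D.χ c : F) ^ q = 1) :
    Md p q r (D.χ c : F) (PP D) ⟨0, 0, c⟩ Hs.u := by
  refine ⟨hpq, IsPGroup.of_card (n := a + a) ?_, mem_normalizer_fintype fun x hx => ?_, ?_,
    fun u hu => ?_, fun u hu w _ => ?_, fun u hu => ?_, fun s => ⟨⟨s, 0, 1⟩, rfl, rfl⟩,
    fun z hz h0 u hu => ?_, fun z hz h0 => ?_⟩
  · rw [pow_add, ← hF, ← Nat.card_prod]
    exact Nat.card_congr ⟨fun x => (x.1.u, x.1.z), fun x => ⟨⟨x.1, x.2, 1⟩, rfl⟩,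
      fun x => Subtype.ext (Hs.ext rfl rfl x.2.symm), fun _ => rfl⟩
  · change c * x.c * c⁻¹ = 1
    rw [show x.c = 1 from hx, mul_one, mul_inv_cancel]
  · rw [← hc, orderOf_eq_orderOf_iff]
    intro n
    rw [y_pow]
    exact ⟨fun h => congrArg Hs.c h, fun h => Hs.ext rfl rfl h⟩
  · rw [y_pow]
    ext <;> simp [mul_u, mul_z, mul_c, show u.c = 1 from hu, hζ]
  · simp [mul_u, show u.c = 1 from hu]
  · simp [mul_u, inv_u]
  · ext <;> simp [mul_u, mul_z, mul_c, show u.c = 1 from hu, show z.c = 1 from hz, h0, add_comm]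
  · ext <;> simp [mul_u, mul_z, mul_c, show z.c = 1 from hz, h0]

theorem comm_z {v w : Hs D} (hv : v ∈ PP D) (hw : w ∈ PP D) :
    (⁅v, w⁆ : Hs D).z = v.u * D.κ w.u - w.u * D.κ v.u := by
  simp [commutatorElement_def, mul_u, mul_z, mul_c, inv_u, inv_z, inv_c, show v.c = 1 from hv,
    show w.c = 1 from hw]
  ring

end ex

theorem card_fix_le {F : Type*} [Field F] [Finite F] {n : ℕ} (hn : 1 < n) :
    Nat.card {x : F // x ^ n = x} ≤ n := by
  classical
  have h0 := FiniteField.X_pow_card_sub_X_ne_zero F hn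
  have h1 := FiniteField.X_pow_card_sub_X_natDegree_eq F hn
  calc Nat.card {x : F // x ^ n = x} ≤ Nat.card ((X ^ n - X : F[X]).roots.toFinset) :=
        Nat.card_le_card_of_injective (fun x => ⟨x.1, by
          rw [Multiset.mem_toFinset, mem_roots h0]
          simp [x.2]⟩) fun x y e => Subtype.ext (congrArg (fun t => t.1) e)
    _ ≤ n := by
      rw [Nat.card_eq_fintype_card, Fintype.card_coe]
      exact (Multiset.toFinset_card_le _).trans ((card_roots' _).trans h1.le)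

theorem exists_big {F : Type u} [Field F] [Finite F] {p q r a : ℕ} [hp : Fact p.Prime]
    [hq : Fact q.Prime] [CharP F p] (hpq : p ≠ q) (hr : 1 ≤ r) (ha : a = orderOf (p : ZMod q))
    (ha0 : a ≠ 0) (hF : Nat.card F = p ^ a) {ζ : Fˣ} (hζ : orderOf ζ = q) :
    ∃ (G : Type u) (_ : Group G) (_ : Finite G) (P : Subgroup G) (y : G) (π : G → F)
      (h : Md p q r (ζ : F) P y π), ⁅P, zpowers y⁆ = P ∧
      Nat.card h.ker = p ^ (if a % 2 = 1 then 0 else a / 2) := by
  have hζ' : IsPrimitiveRoot (ζ : F) q := IsPrimitiveRoot.coe_units_iff.2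
    (hζ ▸ IsPrimitiveRoot.orderOf ζ)
  have hirr := irr_of ha hF hζ'
  have : NeZero (q ^ r) := ⟨pow_ne_zero _ hq.out.ne_zero⟩
  obtain ⟨c, hc⟩ := IsCyclic.exists_generator (α := Multiplicative (ZMod (q ^ r)))
  have hco : orderOf c = q ^ r := by rw [orderOf_eq_card_of_forall_mem_zpowers hc]; simp
  let χ := monoidHomOfForallMemZpowers hc (g' := ζ) (by
    rw [hζ, hco]; exact dvd_pow_self q (by omega))
  have hχ : χ c = ζ := monoidHomOfForallMemZpowers_apply_gen _ _
  have main : ∀ D : Dt F (Multiplicative (ZMod (q ^ r))), D.χ = χ →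
      p ^ (if a % 2 = 1 then 0 else a / 2) ≤ Nat.card (Set.range fun s => D.κ s - s * D.κ 1) →
      ∃ (G : Type u) (_ : Group G) (_ : Finite G) (P : Subgroup G) (y : G) (π : G → F)
      (h : Md p q r (ζ : F) P y π), ⁅P, zpowers y⁆ = P ∧
      Nat.card h.ker = p ^ (if a % 2 = 1 then 0 else a / 2) := by
    intro D hD hcard
    have h0 := md_ex (D := D) hpq hF hco (by rw [hD, hχ]; exact hζ'.pow_eq_one)
    rw [hD, hχ] at h0
    obtain ⟨h1, h2⟩ := h0.core hζ' hirr
    have hle := Coprime.commutator_le_of_le_normalizer h0.znor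
    refine ⟨_, _, inferInstance, _, _, _, h1, h2,
      le_antisymm (h1.card_ker_le hζ' hirr h2 hF) (hcard.trans ?_)⟩
    have key : ∀ t : Set.range fun s => D.κ s - s * D.κ 1, ∃ x : h1.ker, x.1.z = t := by
      rintro ⟨_, s, rfl⟩
      obtain ⟨v, hv, e1⟩ := h1.sur 1
      obtain ⟨w, hw, e2⟩ := h1.sur s
      refine ⟨⟨⁅v, w⁆, commutator_le_of_le le_rfl le_rfl (commutator_mem_commutator hv hw),
        h1.comm hv hw⟩, ?_⟩
      rw [comm_z (hle hv) (hle hw), e1, e2, one_mul]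
    choose f hf using key
    exact Nat.card_le_card_of_injective f fun t t' e => Subtype.ext (by rw [← hf, ← hf, e])
  by_cases h2 : a % 2 = 1
  · refine main ⟨0, χ, fun _ _ => by simp⟩ rfl ?_
    rw [if_pos h2, pow_zero]
    exact Nat.card_pos
  · set b := a / 2 with hb
    have hab : a = b + b := by omega
    have h3 : ((p : ZMod q) ^ b) * (p : ZMod q) ^ b = 1 := by
      rw [← pow_add, ← hab, ha, pow_orderOf_eq_one]
    have h4 : (p : ZMod q) ^ b = -1 := (mul_self_eq_one_iff.1 h3).resolve_left fun h => by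
      have := Nat.le_of_dvd (by omega) (ha ▸ orderOf_dvd_of_pow_eq_one h)
      omega
    have h5 : ζ ^ (p ^ b + 1) = 1 := orderOf_dvd_iff_pow_eq_one.1 (by
      rw [hζ, ← ZMod.natCast_eq_zero_iff]
      push_cast
      rw [h4, neg_add_cancel])
    let κ := (iterateFrobenius F p b).toAddMonoidHom
    have hκ : ∀ s, κ s = s ^ p ^ b := fun s => rfl
    refine main ⟨κ, χ, fun x u => ?_⟩ rfl ?_
    · obtain ⟨n, rfl⟩ := hc x
      have : (χ (c ^ n)) ^ (p ^ b + 1) = 1 := by
        rw [map_zpow, hχ, ← zpow_natCast, ← zpow_mul, mul_comm, zpow_mul, zpow_natCast, h5, one_zpow]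
      have h6 := congrArg Units.val this
      rw [hκ, hκ, mul_pow, ← mul_assoc, ← pow_succ', ← Units.val_pow_eq_pow_val, this]
      simp
    · rw [if_neg h2]
      let g : F →+ F := κ - AddMonoidHom.id F
      have h6 : (Set.range fun s => κ s - s * κ 1) = g.range := by
        ext t
        simp [g, hκ]
      have h7 := AddSubgroup.card_mul_index g.ker
      rw [AddSubgroup.index_ker, hF, hab, pow_add] at h7
      have h8 : Nat.card g.ker ≤ p ^ b := le_trans
        (Nat.card_le_card_of_injective (fun x : g.ker => (⟨x.1, sub_eq_zero.1 x.2⟩ :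
          {x : F // x ^ p ^ b = x})) fun x y e => Subtype.ext (congrArg (fun t => t.1) e))
        (card_fix_le (Nat.one_lt_pow (by omega) hp.out.one_lt))
      change p ^ b ≤ Nat.card (Set.range fun s => κ s - s * κ 1)
      rw [h6]
      refine Nat.le_of_mul_le_mul_left (h7.ge.trans (Nat.mul_le_mul_right _ h8)) (Nat.pow_pos hp.out.pos)

/-- Let p ≠ q be primes, r ≥ 1, a the multiplicative order of p modulo q, and a₀ = a when a is odd, a₀ = 3a/2 when a is even. Call a finite group minimal non-p-nilpotent when it has no normal p-complement but every proper subgroup has one. Then there is a minimal non-p-nilpotent group G₀ of order p^a₀ · q^r such that every minimal non-p-nilpotent group of order p^t · q^r (any t) is a quotient of G₀ by a central subgroup. -/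
theorem result (p q r : ℕ) [Fact p.Prime] [Fact q.Prime] (hpq : p ≠ q) (hr : 1 ≤ r) (a a₀ : ℕ)
    (ha : a = orderOf (p : ZMod q)) (ha₀ : a₀ = if a % 2 = 1 then a else 3 * a / 2) :
    ∃ (G₀ : Type u) (_ : Group G₀) (_ : Finite G₀),
      (¬ Cfsg.HasNormalPComplement p G₀ ∧ ∀ K : Subgroup G₀, K ≠ ⊤ → Cfsg.HasNormalPComplement p ↥K) ∧ Nat.card G₀ = p ^ a₀ * q ^ r ∧
      ∀ (X : Type u) [Group X] [Finite X], (¬ Cfsg.HasNormalPComplement p X ∧ ∀ K : Subgroup X, K ≠ ⊤ → Cfsg.HasNormalPComplement p ↥K) →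
        (∃ t : ℕ, Nat.card X = p ^ t * q ^ r) → ∃ φ : G₀ →* X, Function.Surjective φ ∧ φ.ker ≤ Subgroup.center G₀ := by
  have hp : p.Prime := Fact.out
  have hq : q.Prime := Fact.out
  have hp0 : (p : ZMod q) ≠ 0 := fun h =>
    hpq ((Nat.prime_dvd_prime_iff_eq hq hp).1 ((ZMod.natCast_eq_zero_iff p q).1 h)).symm
  have ha0 : a ≠ 0 := fun h => by
    have := orderOf_dvd_of_pow_eq_one (ZMod.pow_card_sub_one_eq_one hp0)
    rw [← ha, h, zero_dvd_iff] at this
    have := hq.two_le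
    omega
  let F := ULift.{u} (GaloisField p a)
  have hF : Nat.card F = p ^ a := by rw [Nat.card_ulift, GaloisField.card p a ha0]
  obtain ⟨ζ, hζ⟩ := exists_prime_orderOf_dvd_card' (G := Fˣ) q (by
    rw [Nat.card_units, hF, ← ZMod.natCast_eq_zero_iff, Nat.cast_sub (Nat.one_le_pow _ _ hp.pos)]
    push_cast
    rw [ha, pow_orderOf_eq_one, sub_self])
  have hζ' : IsPrimitiveRoot (ζ : F) q := IsPrimitiveRoot.coe_units_iff.2
    (hζ ▸ IsPrimitiveRoot.orderOf ζ)
  have hirr := irr_of ha hF hζ'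
  obtain ⟨G, _, _, P, y, π, h, hperf, hk⟩ := exists_big hpq hr ha ha0 hF hζ
  refine ⟨(P ⊔ zpowers y : Subgroup G), inferInstance, inferInstance,
    ⟨h.not_npc hperf, h.minimal hζ' hirr hperf⟩, ?_, fun X _ _ hX ⟨t, ht⟩ => ?_⟩
  · rw [h.card_X, h.card_P, hk, hF, ← pow_add, ha₀]
    congr 2
    split_ifs <;> omega
  · obtain ⟨P', y', π', h', hperf', htop⟩ := exists_md hpq hr hζ' hirr hX.1 hX.2 ht
    exact h.univ h' hζ' hirr hperf hperf' htop hF hk

end Cfsg.Agent.S4395
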