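import Cfsg.Statements.S4402
import Cfsg.Agent.Lib.GHM.Tools
import Cfsg.Agent.Lib.GHM.W8

set_option autoImplicit false
set_option maxRecDepth 20000
open Cfsg

namespace Cfsg.Agent.S4402

open Subgroup CfsgLib.Sect CfsgLib.W2 CfsgLib.Tech CfsgLib.GHM CfsgLib.GHM.W8

variable {S : Type*} [Group S] [Finite S] {φ : M →* S} (hφ : Function.Injective φ)
  (hr : SR 16 (⊤ : Subgroup S))
include hφ

omit [Finite S] in
theorem exists_aut {x : S} (hx : x ∈ normalizer (φ.range : Set S)) :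
    ∃ α : M →* M, Function.Injective α ∧ ∀ g, φ (α g) = x * φ g * x⁻¹ :=
  ⟨(((MonoidHom.ofInjective hφ).trans (normalizerMonoidHom _ ⟨x, hx⟩)).trans
    (MonoidHom.ofInjective hφ).symm).toMonoidHom, MulEquiv.injective _,
    fun _ => MonoidHom.apply_ofInjective_symm hφ _⟩

include hr

theorem key {x : S} (hx : x ∈ normalizer (φ.range : Set S)) (h1 : x ∉ φ.range) (h2 : x * x ∈ φ.range) :
    x * φ a1 * x⁻¹ ∉ A0.map φ ∧ x * φ b1 * x⁻¹ ∉ B0.map φ ∧
      ∃ y ∈ normalizer (φ.range : Set S), y ∉ φ.range ∧ ∃ c t e k, y * y = φ c ∧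
        y * φ s0 * y⁻¹ = φ t ∧ y * φ a1 * y⁻¹ = φ e ∧ y * φ (a1 * e) * y⁻¹ = φ k ∧ Sw c t e k := by
  obtain ⟨α, hα, h⟩ := exists_aut hφ hx
  obtain ⟨c, hc⟩ := h2
  have k1 : ∀ g, g * g = 1 → Iv (α g) := fun g e => iv_of _ (by rw [← map_mul, e, map_one])
  have k2 : ∀ g, α (α g) * c = c * g := fun g => hφ (by rw [map_mul, map_mul, h, h, hc]; group)
  have k3 : ∀ m g, φ m * x * φ g * (φ m * x)⁻¹ = φ (m * α g * m⁻¹) := fun m g => by
    rw [map_mul, map_mul, map_inv, h]; group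
  have k4 : ∀ m, φ m * x * (φ m * x) = φ (m * α m * c) := fun m => by
    rw [map_mul, map_mul, h, hc]; group
  have k5 : ∀ m, φ m * x ∉ φ.range := fun m e => h1 ((φ.range.mul_mem_cancel_left ⟨m, rfl⟩).1 e)
  have k6 : ∀ {a b : M}, a = b → α a = α b := congrArg α
  have h3 := aut_cases _ (k1 a1 (by decide +kernel)) _ (k1 s0 (by decide +kernel))
    (fun e => absurd (hα (by rwa [map_mul, map_mul]) : s0 * a1 = a1 * s0) (by decide +kernel))
    (by simp only [← map_mul]; exact k6 (by decide +kernel)) _ (k1 b1 (by decide +kernel))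
    (fun e => absurd (hα (by rwa [map_mul, map_mul]) : a1 * b1 = b1 * a1) (by decide +kernel))
    (by simp only [← map_mul]; exact k6 (by decide +kernel))
    (by simp only [← map_mul]; exact k6 (by decide +kernel))
    (by rw [al_eq, Ne, map_eq_one_iff α hα]; decide +kernel) c (by rw [al_eq, k2]) (by rw [al_eq, k2])
    (by rw [al_eq, k2]) (by rw [al_eq]; exact hφ (by rw [h, hc]; group))
  simp only [al_eq] at h3
  rcases h3 with ⟨h4, h5, m, -, h6⟩ | ⟨m, -, h4, h5⟩
  · rw [← h, ← h, mem_map_iff_mem hφ, mem_map_iff_mem hφ]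
    exact ⟨h4, h5, φ m * x, mul_mem (le_normalizer ⟨m, rfl⟩) hx, k5 m, _, _, _, _, k4 m, k3 m _, k3 m _,
      k3 m _, h6⟩
  refine absurd ((El.of_card (K := Z0.map φ) (A := J0.map φ) (n := 16)
    (map_mono (show ∀ a ∈ Z0, a ∈ J0 by decide +kernel)) ?_ ?_).step (x := φ m * x)
    (fun e => k5 m (map_le_range _ _ e)) (k4 m ▸ mem_map_of_mem φ h4) ?_) fun e => e.false (by norm_num) hr
  · rintro _ ⟨a, ha, rfl⟩
    exact map_mul φ a a ▸ mem_map_of_mem φ ((by decide +kernel : ∀ a ∈ J0, a * a ∈ Z0) a ha)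
  · rw [card_map_of_injective hφ, card_map_of_injective hφ, cards.2.2.1, cards.2.2.2]
  · rintro _ ⟨a, ha, rfl⟩
    rw [k3, ← map_inv, ← map_mul]
    refine mem_map_of_mem φ (TG.sp_ind (gs := [a1, b1, TG.o 8, TG.o 16]) (D := 8)
      (P := fun a => m * α a * m⁻¹ * a⁻¹ ∈ Z0) (by simp) (fun g hg b hb => ?_)
      ((by decide +kernel : ∀ a ∈ J0, bit (TG.sp [a1, b1, TG.o 8, TG.o 16] 8) a.v = true) a ha))
    convert mul_mem hg ((by decide +kernel : ∀ g : M, ∀ a ∈ Z0, g * a * g⁻¹ ∈ Z0) g _ (h5 b hb)) using 1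
    rw [map_mul]; group

omit hr in
theorem cls {V : Subgroup S} (hV : V ≤ φ.range) (hn : ∀ g ∈ φ.range, ∀ v ∈ V, g * v * g⁻¹ ∈ V)
    (h2 : ∀ v ∈ V, v * v = 1) (h16 : Nat.card V = 16) : V = A0.map φ ∨ V = B0.map φ := by
  refine (le_or_le fun v hv => ?_).imp
    (fun h => eq_of_le_of_card_ge h (by rw [card_map_of_injective hφ, cards.1, h16]))
    fun h => eq_of_le_of_card_ge h (by rw [card_map_of_injective hφ, cards.2.1, h16])
  obtain ⟨v, rfl⟩ := hV hv
  refine ((by decide +kernel : ∀ v : M, v * v = 1 → (∀ g, v * (g * v * g⁻¹) = g * v * g⁻¹ * v) →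
    v ∈ A0 ∨ v ∈ B0) v (hφ (by rw [map_mul, h2 _ hv, map_one])) fun g => hφ ?_).imp
    (mem_map_of_mem φ) (mem_map_of_mem φ)
  simp only [map_mul, map_inv]
  exact comm_of_sq h2 hv (hn _ ⟨g, rfl⟩ _ hv)

theorem norm_eq (hS : IsPGroup 2 S) {V : Subgroup S} (hV : V = A0.map φ ∨ V = B0.map φ) :
    normalizer (V : Set S) = φ.range := by
  have h1 : φ.range ≤ normalizer (V : Set S) := by
    have k : ∀ K : Subgroup M, (∀ g : M, ∀ a ∈ K, g * a * g⁻¹ ∈ K) →
        φ.range ≤ normalizer (K.map φ : Set S) := by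
      rintro K hK _ ⟨g, rfl⟩
      exact le_normalizer_map φ (mem_map_of_mem φ (mem_normalizer_of_forall (hK g)))
    rcases hV with rfl | rfl <;> exact k _ (by decide +kernel)
  refine le_antisymm (by_contra fun h => ?_) h1
  obtain ⟨n, h2, h3, h4, h5⟩ := exists_norm_sq (hS.to_subgroup _) h1 h
  obtain ⟨h6, h7, -⟩ := key hφ hr (mem_normalizer_of_forall h5) h3 h4
  rcases hV with rfl | rfl
  · exact h6 (conj_mem_of_mem_normalizer h2 (mem_map_of_mem φ (by decide +kernel)))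
  · exact h7 (conj_mem_of_mem_normalizer h2 (mem_map_of_mem φ (by decide +kernel)))

theorem idx (hS : IsPGroup 2 S) : φ.range.relIndex (normalizer (φ.range : Set S)) ≤ 2 := by
  have hA := norm_eq hφ hr hS (Or.inl rfl)
  have k : ∀ x ∈ normalizer (φ.range : Set S), x ∉ φ.range → cj x (A0.map φ) = B0.map φ := fun x hx h =>
    (cls hφ (cj_le_iff.2 fun a ha => conj_mem_of_mem_normalizer hx (map_le_range _ _ ha))
      (fun g hg v hv => mem_cj.2 (by
        convert conj_mem_of_mem_normalizer (hA.ge (conj_mem_of_mem_normalizer' hx hg)) (mem_cj.1 hv)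
          using 1
        group))
      (by
        rintro _ ⟨_, ⟨a, ha, rfl⟩, rfl⟩
        rw [← map_mul, ← map_mul, (by decide +kernel : ∀ a ∈ A0, a * a = 1) a ha, map_one, map_one])
      (by rw [card_cj, card_map_of_injective hφ, cards.1])).resolve_left
      fun e => h (hA.le (mem_normalizer_iff_cj.2 e))
  refine relIndex_le_two fun x hx y hy h1 h2 => hA.le (mem_normalizer_iff_cj.2 (cj_injective x ?_))
  rw [← cj_mul, mul_inv_cancel_left, k x hx h1, k y hy h2]

omit hφ hr in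
/-- Let S be a finite 2-group of sectional 2-rank at most 4 and P a proper subgroup isomorphic to the wreath product of the dihedral group of order 8 by a group of order 2 (equivalently, to a Sylow 2-subgroup of the symmetric group of degree 8; order 128). Then Z(S) = Z(P) has order 2, P has index 2 in its normalizer N_S(P), N_S(P)/Z(S) is again isomorphic to that wreath product, and every elementary abelian subgroup V of order 16 that is normal in P satisfies N_S(V) = P. -/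
theorem result {S : Type*} [Group S] [Finite S] (h2 : IsPGroup 2 S) (hr : Cfsg.SectionalPRankLE 2 4 S)
    (P : Subgroup S) (hPlt : P ≠ ⊤) (hP : ∃ T : Sylow 2 (Equiv.Perm (Fin 8)), Nonempty (↥P ≃* ↥(T : Subgroup (Equiv.Perm (Fin 8))))) :
    Subgroup.center S = (Subgroup.center ↥P).map P.subtype ∧ Nat.card ↥(Subgroup.center S) = 2 ∧
    P.relIndex (Subgroup.normalizer (P : Set S)) = 2 ∧
    (∃ (_ : ((Subgroup.center S).subgroupOf (Subgroup.normalizer (P : Set S))).Normal) (T : Sylow 2 (Equiv.Perm (Fin 8))),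
      Nonempty (↥(Subgroup.normalizer (P : Set S)) ⧸ (Subgroup.center S).subgroupOf (Subgroup.normalizer (P : Set S)) ≃*
        ↥(T : Subgroup (Equiv.Perm (Fin 8))))) ∧
    ∀ V : Subgroup S, V ≤ P → (∀ g ∈ P, ∀ v ∈ V, g * v * g⁻¹ ∈ V) → Cfsg.IsElementaryAbelian 2 V → Nat.card ↥V = 16 →
      Subgroup.normalizer (V : Set S) = P := by
  obtain ⟨T, ⟨eP⟩⟩ := hP
  obtain ⟨eM⟩ := nonempty_equiv T
  obtain ⟨φ, hφ, rfl⟩ : ∃ φ : M →* S, Function.Injective φ ∧ φ.range = P :=
    ⟨P.subtype.comp (eM.trans eP.symm).toMonoidHom, P.subtype_injective.comp (MulEquiv.injective _), by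
      rw [MonoidHom.range_comp, MonoidHom.range_eq_top.2 (MulEquiv.surjective _), ← MonoidHom.range_eq_map,
        range_subtype]⟩
  replace hr : SR 16 (⊤ : Subgroup S) := sr_top_iff.1 hr
  have z1 : φ z0 ≠ 1 := by rw [Ne, map_eq_one_iff φ hφ]; decide +kernel
  have k1 : ∀ x ∈ φ.range, (∀ y ∈ φ.range, y * x = x * y) → x = 1 ∨ x = φ z0 := by
    rintro _ ⟨c, rfl⟩ h
    have l : ∀ g, c * g = g * c := fun g => hφ (by rw [map_mul, map_mul, h _ ⟨g, rfl⟩])
    exact (cent_cases c (l _) (l _) (l _)).imp (fun e => by rw [e, map_one]) (congrArg φ)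
  have k2 : center S ≤ φ.range := (center_le_normalizer _).trans (norm_eq hφ hr h2 (Or.inl rfl)).le
  have k3 : ∀ x ∈ center S, x = 1 ∨ x = φ z0 := fun x hx => k1 x (k2 hx) fun y _ => mem_center_iff.1 hx y
  have hz : φ z0 ∈ center S := by
    obtain ⟨x, -, x1, hx⟩ := exists_cent_of_norm (h2.to_subgroup ⊤) le_rfl (fun _ _ _ _ => mem_top _)
      (ne_bot_iff_exists_ne_one.2 ⟨⟨_, mem_top (φ z0)⟩, fun e => z1 (congrArg Subtype.val e)⟩)
    have := mem_center_iff.2 fun y => hx y (mem_top y)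
    exact (k3 x this).resolve_left x1 ▸ this
  have c2 : Nat.card (center S) = 2 := le_antisymm (card_le_two k3) (two_le_card hz z1)
  have hlt := lt_inf_normalizer_of_lt (h2.to_subgroup ⊤) hPlt.lt_top
  rw [top_inf_eq] at hlt
  have hi := idx hφ hr h2
  have hi2 := le_antisymm hi (two_le_relIndex hlt.not_ge)
  refine ⟨le_antisymm (fun x hx => mem_center_map.2 ⟨k2 hx, fun y _ => mem_center_iff.1 hx y⟩)
    fun x hx => ?_, c2, hi2, ⟨inferInstance, T, ?_⟩, fun V h1 h3 h4 h5 =>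
      norm_eq hφ hr h2 (cls hφ h1 h3 (fun v hv => (pow_two v).symm.trans (h4.2 v hv)) h5)⟩
  · rcases k1 x (mem_center_map.1 hx).1 (mem_center_map.1 hx).2 with rfl | rfl
    exacts [one_mem _, hz]
  obtain ⟨x, hx, h1⟩ := SetLike.exists_of_lt hlt
  obtain ⟨-, -, y, hy, h3, c, t, e, k, e1, e2, e3, e4, s1, s2, s3, s4, s5⟩ :=
    key hφ hr hx h1 (mul_mem_of_le_two hi hx hx h1 h1)
  set N := normalizer (φ.range : Set S)
  let π := QuotientGroup.mk' ((center S).subgroupOf N)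
  let ψ : M →* N := φ.codRestrict N fun g => le_normalizer ⟨g, rfl⟩
  have r1 : ∀ {a b : M}, Ez a b → π (ψ a) = π (ψ b) := by
    rintro a b (rfl | rfl)
    · rfl
    · rw [map_mul, map_mul, show π (ψ z0) = 1 from (QuotientGroup.eq_one_iff _).2 hz, mul_one]
  have r2 : ∀ {a b : M}, y * φ a * y⁻¹ = φ b → π ⟨y, hy⟩ * π (ψ a) = π (ψ b) * π ⟨y, hy⟩ := fun e => by
    rw [← map_mul, ← map_mul]
    exact congrArg π (Subtype.ext (mul_inv_eq_iff_eq_mul.1 e))
  have r3 : π ⟨y, hy⟩ * π ⟨y, hy⟩ = π (ψ c) := by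
    rw [← map_mul]; exact congrArg π (Subtype.ext e1)
  replace e2 := r2 e2
  replace e3 := r2 e3
  replace e4 := r2 e4
  generalize hY : π ⟨y, hy⟩ = Y at e2 e3 e4 r3
  have r4 : ∀ {a b : M}, a = b → π (ψ a) = π (ψ b) := fun e => by rw [e]
  have r5 : π (ψ a1) * Y * π (ψ a1) = π (ψ (a1 * e)) * Y := by
    rw [mul_assoc, e3, ← mul_assoc, map_mul, map_mul]
  obtain ⟨θ, t1, t2, t3⟩ := exists_hom (a := π (ψ s0)) (b := Y) (s := π (ψ a1)) ⟨by
      simpa only [map_mul, map_one] using r4 (show s0 * s0 = 1 by decide +kernel), by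
      simpa only [map_mul, map_one] using r4 (show a1 * a1 = 1 by decide +kernel), by
      simpa only [map_mul] using r4 (show s0 * (a1 * s0 * a1) = a1 * s0 * a1 * s0 by decide +kernel), by
      rw [r3, r1 s2, map_one, map_one], by
      rw [r5, mul_assoc, e2, ← mul_assoc, ← mul_assoc, ← map_mul, ← map_mul, r1 s4, ← map_mul,
        ← map_mul], by
      rw [r5, ← mul_assoc, e4, r1 s5], by
      have : π (ψ s0) * Y * (π (ψ s0) * Y) = π (ψ (s0 * t * c)) := by
        rw [mul_assoc, ← mul_assoc Y, e2, mul_assoc, r3, map_mul, map_mul, map_mul, map_mul, mul_assoc]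
      rw [this, ← map_mul, ← map_mul, r1 s3, map_one, map_one]⟩
  have r6 : ∀ g, π (ψ g) ∈ θ.range := fun g => (TG.eq_top_of_genB (gs := [s0, a1, e]) (D := 13)
    ((by decide +kernel : ∀ e : M, e * TG.o 16 ∈ Z0 → TG.genB [s0, a1, e] 13 = true) e s1)
    (S := θ.range.comap (π.comp ψ)) (by
      simp only [List.forall_mem_cons]
      refine ⟨⟨_, t1⟩, ⟨_, t3⟩, ⟨b1 * s0 * b1⁻¹, ?_⟩, by simp⟩
      rw [map_mul, map_mul, map_inv, t2, t3, e3, mul_inv_cancel_right]
      rfl)).ge (mem_top g)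
  refine ⟨(MulEquiv.ofBijective θ ((Nat.bijective_iff_surjective_and_card _).2
    ⟨fun q => ?_, ?_⟩)).symm.trans eM⟩
  · obtain ⟨⟨n, hn⟩, rfl⟩ := QuotientGroup.mk'_surjective _ q
    by_cases h4 : n ∈ φ.range
    · obtain ⟨g, rfl⟩ := h4
      exact r6 g
    · obtain ⟨g, hg⟩ := mul_mem_of_le_two hi hn hy h4 h3
      refine (θ.range.mul_mem_cancel_right ⟨_, t2⟩).1 ?_
      rw [← hY, ← map_mul, ← show ψ g = ⟨n, hn⟩ * ⟨y, hy⟩ from Subtype.ext hg]
      exact r6 g
  · have c3 := card_mul_relIndex' hlt.le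
    have c4 := card_eq_card_quotient_mul_card_subgroup ((center S).subgroupOf N)
    rw [Nat.card_congr (subgroupOfEquivOfLe (center_le_normalizer _)).toEquiv, c2] at c4
    rw [hi2, ← Nat.card_congr (MonoidHom.ofInjective hφ).toEquiv] at c3
    omega

end Cfsg.Agent.S4402
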