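import Cfsg.Statements.S4409
import Cfsg.Agent.S3224
import Cfsg.Agent.S3116
import Cfsg.Agent.Lib.FrobCompl.Struct
import Cfsg.Agent.Lib.TwoGrp.OddAut
import Cfsg.Agent.Lib.TwoGrp.Pres
import Cfsg.Agent.Lib.PGroup.Basic
import Cfsg.Agent.Lib.PGroup.Extraspecial
import Cfsg.Agent.Lib.Coprime.Abelian
import Cfsg.Agent.Lib.Coprime.Hall
import Cfsg.Agent.Lib.PLocal.PSolvable
import Cfsg.Agent.Lib.PSL2Rec.Basic
import Cfsg.Agent.Lib.Fgs.AutBound

set_option autoImplicit false
open Cfsg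

namespace Cfsg.Agent.S4409

open Subgroup CfsgLib CfsgLib.Core CfsgLib.FrobCompl
open scoped commutatorElement IsMulCommutative

set_option linter.unusedSectionVars false
set_option linter.style.haveILetI false

variable {G : Type*} [Group G] [Finite G]

/-- no non-cyclic abelian subgroup of order eight -/
def N8 (Y : Subgroup G) : Prop :=
  ¬ ∃ A : Subgroup G, A ≤ Y ∧ IsMulCommutative A ∧ ¬ IsCyclic A ∧ Nat.card A = 8

/-- a four-group -/
def Four (V : Subgroup G) : Prop := Nat.card V = 4 ∧ ∀ x ∈ V, x * x = 1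

theorem N8.mono {Y W : Subgroup G} (h : N8 Y) (hle : W ≤ Y) : N8 W :=
  fun ⟨A, h1, h2⟩ => h ⟨A, h1.trans hle, h2⟩

theorem cent4 {V : Subgroup G} (h : Nat.card V = 4) : V ≤ centralizer (V : Set G) := by
  haveI : Fact (Nat.Prime 2) := ⟨Nat.prime_two⟩
  have := IsPGroup.isMulCommutative_of_card_eq_prime_sq (p := 2) (G := V) (by rw [h]; norm_num)
  exact le_centralizer_iff_isMulCommutative.2 this

theorem ext8 {V : Subgroup G} (h : Nat.card V = 4) {c : G} (hc : c ∈ centralizer (V : Set G))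
    (h1 : c ∉ V) (h2 : c * c ∈ V) (h4 : c ^ 4 = 1) :
    IsMulCommutative (V ⊔ zpowers c : Subgroup G) ∧ ¬ IsCyclic (V ⊔ zpowers c : Subgroup G) ∧
      Nat.card (V ⊔ zpowers c : Subgroup G) = 8 := by
  have hcomm := PGroup.isMulCommutative_sup_zpowers
    (le_centralizer_iff_isMulCommutative.1 (cent4 h)) hc
  have hcard := TwoGrp.card_sup_zpowers (centralizer_le_normalizer _ hc) h2 h1
  rw [h] at hcard
  refine ⟨hcomm, fun hcyc => ?_, hcard⟩
  have : (⊤ : Subgroup (V ⊔ zpowers c : Subgroup G)) ≤ (powMonoidHom 4).ker := by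
    rw [← subgroupOf_self, subgroupOf_sup le_sup_left le_sup_right]
    refine sup_le (fun x hx => Subtype.ext ?_) fun x hx => Subtype.ext ?_
    · have := pow_card_eq_one' (x := (⟨x, hx⟩ : V))
      rw [h] at this
      exact (congrArg Subtype.val this :)
    · obtain ⟨k, hk⟩ := mem_zpowers_iff.1 (mem_subgroupOf.1 hx)
      change (x : G) ^ 4 = 1
      rw [← hk, ← zpow_natCast, ← zpow_mul, mul_comm, zpow_mul, zpow_natCast, h4, one_zpow]
  have h5 := Monoid.exponent_dvd_of_forall_pow_eq_one fun x => this (mem_top x)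
  rw [IsCyclic.exponent_eq_card, hcard] at h5
  exact absurd h5 (by norm_num)

theorem exists_step {V D : Subgroup G} (hD : IsPGroup 2 D) (h : ¬ D ≤ V) :
    ∃ c ∈ D, c ∉ V ∧ c * c ∈ V := by
  obtain ⟨x, hx, hn⟩ := SetLike.not_le_iff_exists.1 h
  obtain ⟨k, hk⟩ := hD ⟨x, hx⟩
  obtain ⟨j, h1, h2⟩ := PGroup.exists_pow_not_mem_pow_mem (p := 2) (k := k) (N := V)
    (by rw [show x ^ 2 ^ k = 1 from congrArg Subtype.val hk]; exact one_mem _) hn
  exact ⟨_, D.pow_mem hx _, h1, by rwa [← pow_two]⟩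

theorem Four.cent_le {V Y : Subgroup G} (h : Four V) (hY : IsPGroup 2 Y) (h8 : N8 Y) (hle : V ≤ Y) :
    Y ⊓ centralizer (V : Set G) ≤ V := by
  by_contra hn
  obtain ⟨c, hc, h1, h2⟩ := exists_step (hY.to_le inf_le_left) hn
  exact h8 ⟨_, sup_le hle (zpowers_le.2 hc.1), ext8 h.1 hc.2 h1 h2
    (by rw [show c ^ 4 = (c * c) * (c * c) by simp only [pow_succ, pow_zero, one_mul, mul_assoc], h.2 _ h2])⟩

theorem four_of {a b : G} (ha : orderOf a = 2) (hb : b * b = 1) (hn : b ∉ zpowers a)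
    (hc : a * b = b * a) : Four (zpowers a ⊔ zpowers b) := by
  have h1 : b ∈ centralizer (zpowers a : Set G) := by
    rw [← zpowers_le, le_centralizer_iff, zpowers_le]
    exact fun x hx => by
      obtain ⟨k, rfl⟩ := mem_zpowers_iff.1 hx
      exact ((show Commute a b from hc).zpow_right k).symm.eq
  have hcomm := PGroup.isMulCommutative_sup_zpowers (inferInstance : IsMulCommutative (zpowers a)) h1
  refine ⟨by rw [TwoGrp.card_sup_zpowers (centralizer_le_normalizer _ h1) (hb ▸ one_mem _) hn,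
    Nat.card_zpowers, ha], fun x hx => ?_⟩
  have : (⊤ : Subgroup (zpowers a ⊔ zpowers b : Subgroup G)) ≤ (powMonoidHom 2).ker := by
    rw [← subgroupOf_self, subgroupOf_sup le_sup_left le_sup_right]
    refine sup_le (fun x hx => Subtype.ext ?_) fun x hx => Subtype.ext ?_ <;>
      obtain ⟨k, hk⟩ := mem_zpowers_iff.1 (mem_subgroupOf.1 hx) <;> change (x : G) ^ 2 = 1 <;>
      rw [← hk, ← zpow_natCast, ← zpow_mul, mul_comm, zpow_mul, zpow_natCast]
    · rw [← ha, pow_orderOf_eq_one, one_zpow]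
    · rw [pow_two, hb, one_zpow]
  rw [← pow_two]
  exact congrArg Subtype.val (this (mem_top ⟨x, hx⟩))

theorem F1 (hG : IsPGroup 2 G) (h8 : N8 (⊤ : Subgroup G)) :
    IsPGroup 2 (MulAut G) ∨ Four (⊤ : Subgroup G) ∨ Nonempty (G ≃* Q8) := by
  haveI : Fact (Nat.Prime 2) := ⟨Nat.prime_two⟩
  by_cases hPQ : Frob.PQCond G
  · exact (isPGroup_mulAut_or_Q8 hPQ hG).imp_right Or.inr
  have h2 : ∀ x : G, (orderOf x).Prime → orderOf x = 2 := fun x hx => by
    obtain ⟨k, hk⟩ := IsPGroup.iff_orderOf.1 hG x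
    exact (Nat.prime_dvd_prime_iff_eq hx Nat.prime_two).1 (hx.dvd_of_dvd_pow hk.dvd)
  obtain ⟨V, hV⟩ : ∃ V : Subgroup G, Four V := by
    by_contra hn
    refine hPQ fun x y hx hy h => ?_
    have hx2 := h2 x hx
    have e : y * x = x * y := by
      have h1 : y * x * y⁻¹ ≠ 1 := fun e => by
        have : x = 1 := by simpa using e
        rw [this, orderOf_one] at hx2; omega
      have h3 := PSL2Rec.eq_zpowers_of_prime_card (p := 2) (by rw [Nat.card_zpowers, hx2]) h h1
      obtain ⟨k, hk⟩ := mem_zpowers_iff.1 h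
      have hxx : x ^ (2 : ℤ) = 1 := by rw [← pow_orderOf_eq_one x, hx2]; exact zpow_natCast x 2
      rcases Int.emod_two_eq_zero_or_one k with e | e <;>
        rw [zpow_eq_zpow_emod k hxx, e] at hk
      · exact absurd hk.symm (by simpa using h1)
      · rw [zpow_one] at hk; exact mul_inv_eq_iff_eq_mul.1 hk.symm
    refine ⟨e, fun _ => by_contra fun hm => hn ⟨_, four_of hx2 ?_ hm e.symm⟩⟩
    rw [← pow_two, ← h2 y hy, pow_orderOf_eq_one]
  have hT : IsPGroup 2 (⊤ : Subgroup G) := hG.to_subgroup _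
  by_cases hVT : V = ⊤
  · exact Or.inr (Or.inl (hVT ▸ hV))
  left
  have hc : centralizer (V : Set G) ≤ V := by simpa using hV.cent_le hT h8 le_top
  haveI : Nontrivial G := by
    by_contra hn
    haveI := not_nontrivial_iff_subsingleton.1 hn
    exact hVT (Subsingleton.elim _ _)
  haveI := hG.center_nontrivial
  obtain ⟨⟨z, hz⟩, hz1⟩ := exists_ne (1 : center G)
  have hz1 : z ≠ 1 := fun e => hz1 (Subtype.ext e)
  have hzV : z ∈ V := hc (center_le_centralizer _ hz)
  obtain ⟨t, ht, htz⟩ : ∃ t ∈ V, t ∉ center G := SetLike.not_le_iff_exists.1 fun h =>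
    hVT (top_le_iff.1 fun g _ => hc fun v hv => (mem_center_iff.1 (h hv) g).symm)
  have ho : ∀ x ∈ V, x ≠ 1 → orderOf x = 2 := fun x hx h1 =>
    orderOf_eq_prime (by rw [pow_two, hV.2 x hx]) h1
  have hF := four_of (ho z hzV hz1) (hV.2 t ht) (fun h => htz (zpowers_le.2 hz h))
    (mem_center_iff.1 hz t).symm
  have hE : zpowers z ⊔ zpowers t = V := eq_of_le_of_card_ge
    (sup_le (zpowers_le.2 hzV) (zpowers_le.2 ht)) (by rw [hF.1, hV.1])
  have hC : centralizer ({t} : Set G) = V := by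
    refine le_antisymm (le_trans ?_ hc) ((cent4 hV.1).trans (centralizer_le (by simpa using ht)))
    rw [le_centralizer_iff, ← hE]
    refine sup_le (zpowers_le.2 (center_le_centralizer _ hz)) (zpowers_le.2 fun g hg => ?_)
    exact mem_centralizer_singleton_iff.1 hg
  have hlt := card_lt_of_lt (lt_top_iff_ne_top.2 hVT)
  rw [hV.1, card_top] at hlt
  rcases S3224.result hG t (ho t ht fun e => htz (e ▸ one_mem _)) (by rw [hC, hV.1]) with
    ⟨n, ⟨e⟩⟩ | h | h
  · refine S3116.result hG (Or.inl ⟨n, ?_, ⟨e⟩⟩)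
    have h1 := Nat.card_congr e.toEquiv
    rw [DihedralGroup.nat_card] at h1
    obtain ⟨k, hk⟩ := hG.exists_card_eq
    by_contra hn
    have : n = 3 := by omega
    have h3 : 3 ∣ 2 ^ k := by rw [← hk, h1, this]; norm_num
    exact absurd (Nat.prime_three.dvd_of_dvd_pow h3) (by norm_num)
  · exact S3116.result hG (Or.inr h)
  · omega

theorem G1 {Y H : Subgroup G} (hH : Odd (Nat.card H)) (hN : H ≤ normalizer (Y : Set G))
    (h : IsPGroup 2 (MulAut Y)) : H ≤ centralizer (Y : Set G) := fun x hx => by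
  obtain ⟨k, hk⟩ := h (Y.normalizerMonoidHom ⟨x, hN hx⟩)
  have h1 : Y.normalizerMonoidHom ⟨x, hN hx⟩ ^ Nat.card H = 1 := by
    rw [← map_pow, show (⟨x, hN hx⟩ : normalizer (Y : Set G)) ^ Nat.card H = 1 from
      Subtype.ext (congrArg Subtype.val (pow_card_eq_one' (x := (⟨x, hx⟩ : H))) :), map_one]
  have h2 := pow_gcd_eq_one.2 ⟨hk, h1⟩
  rw [((Nat.coprime_two_left.2 hH).pow_left k).gcd_eq_one, pow_one] at h2
  have := (MonoidHom.mem_ker).2 h2
  rwa [normalizerMonoidHom_ker] at this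

theorem F2 {Y H : Subgroup G} (hH : Odd (Nat.card H)) (hN : H ≤ normalizer (Y : Set G))
    (hY : IsPGroup 2 Y) (h8 : N8 Y) :
    H ≤ centralizer (Y : Set G) ∨ Four Y ∨ Nonempty (Y ≃* Q8) := by
  refine (F1 hY fun ⟨A, _, h1, h2, h3⟩ => h8 ⟨A.map Y.subtype, map_subtype_le _, inferInstance,
    fun h => h2 ((A.equivMapOfInjective _ Y.subtype_injective).isCyclic.2 h),
    by rw [card_map_of_injective Y.subtype_injective, h3]⟩).imp (G1 hH hN) (Or.imp_left fun h =>
      ⟨by rw [← h.1, card_top], fun x hx => congrArg Subtype.val (h.2 ⟨x, hx⟩ (mem_top _))⟩)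

theorem cop {Y H : Subgroup G} (hH : Odd (Nat.card H)) (hY : IsPGroup 2 Y) :
    (Nat.card H).Coprime (Nat.card Y) := by
  haveI : Fact (Nat.Prime 2) := ⟨Nat.prime_two⟩
  obtain ⟨k, hk⟩ := hY.exists_card_eq
  rw [hk]
  exact (Nat.coprime_two_right.2 hH).pow_right k

theorem Four.cent {V U H : Subgroup G} (h : Four V) (hH : Odd (Nat.card H))
    (hN : H ≤ normalizer (V : Set G)) (hlt : U < V) (h0 : U ≠ ⊥) (hU : H ≤ normalizer (U : Set G)) :
    H ≤ centralizer (V : Set G) := by
  haveI : Fact (Nat.Prime 2) := ⟨Nat.prime_two⟩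
  have h1 := card_dvd_of_le hlt.le
  have h2 := card_lt_of_lt hlt
  have h3 : Nat.card U ≠ 1 := fun e => h0 (card_eq_one.1 e)
  rw [h.1] at h1 h2
  have h4 : Nat.card U = 2 := by
    generalize Nat.card U = n at *
    interval_cases n <;> omega
  have hU2 : IsPGroup 2 U := IsPGroup.of_card (n := 1) h4
  haveI := isCyclic_of_prime_card h4
  refine Coprime.le_centralizer_of_commutator_le hlt.le (commutator_le.2 fun v hv x hx => ?_)
    (cop hH hU2) (G1 hH hU (TwoGrp.isPGroup_mulAut_of_isCyclic hU2))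
  have h5 := (U.subgroupOf V).card_mul_index
  rw [Nat.card_congr (subgroupOfEquivOfLe hlt.le).toEquiv, h4, h.1] at h5
  have h6 := (mul_mem_iff_of_index_two (H := U.subgroupOf V) (by omega) (a := ⟨v, hv⟩)
    (b := ⟨x * v⁻¹ * x⁻¹, (mem_normalizer_iff.1 (hN hx) _).1 (inv_mem hv)⟩)).2 (by
      simp only [mem_subgroupOf]
      rw [← mem_normalizer_iff.1 (hU hx), inv_mem_iff])
  rw [mem_subgroupOf] at h6
  simpa [commutatorElement_def, mul_assoc] using h6

section Q8

variable {Y : Subgroup G} (e : Y ≃* Q8)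
include e

theorem q_card : Nat.card Y = 8 := by
  rw [Nat.card_congr e.toEquiv, Nat.card_eq_fintype_card]; rfl

theorem q_inv {a b : G} (ha : a ∈ Y) (hb : b ∈ Y) (h1 : a * a = 1) (h2 : b * b = 1) :
    a = 1 ∨ b = 1 ∨ a = b := by
  have : ∀ x y : Q8, x * x = 1 → y * y = 1 → x = 1 ∨ y = 1 ∨ x = y := by decide
  have := this (e ⟨a, ha⟩) (e ⟨b, hb⟩) (by rw [← map_mul, ← map_one e]; congr 1; exact Subtype.ext h1)
    (by rw [← map_mul, ← map_one e]; congr 1; exact Subtype.ext h2)
  simpa [Subtype.ext_iff] using this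

theorem q_four {a : G} (ha : a ∈ Y) : a ^ 4 = 1 := by
  have : ∀ x : Q8, x ^ 4 = 1 := by decide
  have := this (e ⟨a, ha⟩)
  rw [← map_pow, EmbeddingLike.map_eq_one_iff] at this
  exact congrArg Subtype.val this

theorem q_cent {a : G} (ha : a ∈ Y) (h : a ∈ centralizer (Y : Set G)) : a * a = 1 := by
  have : ∀ x : Q8, (∀ y, y * x = x * y) → x * x = 1 := by decide
  have := this (e ⟨a, ha⟩) fun y => by
    obtain ⟨y, rfl⟩ := e.surjective y
    rw [← map_mul, ← map_mul]; congr 1; exact Subtype.ext (h y y.2)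
  rw [← map_mul, EmbeddingLike.map_eq_one_iff] at this
  exact congrArg Subtype.val this

theorem q_big {W : Subgroup G} (hle : W ≤ Y) (h : 2 < Nat.card W) : ∃ i ∈ W, i * i ≠ 1 := by
  by_contra hn
  push Not at hn
  haveI := Fintype.ofFinite W
  rw [Nat.card_eq_fintype_card] at h
  obtain ⟨⟨a, ha⟩, ⟨b, hb⟩, ⟨c, hc⟩, h1, h2, h3⟩ := Fintype.two_lt_card_iff.1 h
  simp only [ne_eq, Subtype.mk.injEq] at h1 h2 h3
  have a1 := q_inv e (hle ha) (hle hb) (hn a ha) (hn b hb)
  have a2 := q_inv e (hle ha) (hle hc) (hn a ha) (hn c hc)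
  have a3 := q_inv e (hle hb) (hle hc) (hn b hb) (hn c hc)
  grind

theorem q_ncomm : ¬ Y ≤ centralizer (Y : Set G) := fun h => by
  obtain ⟨i, hi, h1⟩ := q_big e le_rfl (by rw [q_card e]; norm_num)
  exact h1 (q_cent e hi (h hi))

theorem q_lt {W H : Subgroup G} (hH : Odd (Nat.card H)) (h8 : N8 Y) (hlt : W < Y)
    (hN : H ≤ normalizer (W : Set G)) : H ≤ centralizer (W : Set G) := by
  have hY : IsPGroup 2 Y := IsPGroup.of_card (n := 3) (q_card e)
  rcases F2 hH hN (hY.to_le hlt.le) (h8.mono hlt.le) with h | h | ⟨⟨e'⟩⟩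
  · exact h
  · obtain ⟨i, hi, h1⟩ := q_big e hlt.le (by rw [h.1]; norm_num)
    exact absurd (h.2 i hi) h1
  · have := card_lt_of_lt hlt
    rw [q_card e, q_card e'] at this
    omega

end Q8

/-- inner automorphisms of `Q8` read on the generators -/
def Inn (u v : Q8) : Prop :=
  ∃ w : Q8, u = w * QuaternionGroup.a 1 * w⁻¹ ∧ v = w * QuaternionGroup.xa 0 * w⁻¹

instance (u v : Q8) : Decidable (Inn u v) := by unfold Inn; infer_instance

theorem inn_of {α : MulAut Q8} (h : Inn (α (QuaternionGroup.a 1)) (α (QuaternionGroup.xa 0))) :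
    ∃ w, α = MulAut.conj w := by
  obtain ⟨w, h1, h2⟩ := h
  refine ⟨w, MulEquiv.ext fun x => ?_⟩
  rw [mulAut_Q8_eq α, mulAut_Q8_eq (MulAut.conj w), h1, h2]; rfl

set_option synthInstance.maxSize 1000 in
theorem K1 {α β : MulAut Q8} (hc : α * β = β * α) (ha : α ^ 4 = 1) (hb : β ^ 4 = 1) :
    (∃ w, α = MulAut.conj w) ∨ (∃ w, β = MulAut.conj w) ∨ ∃ w, α * β = MulAut.conj w := by
  have h : ∀ u v : Q8, u * v ≠ v * u → q8fn u v (q8fn u v (q8fn u v u)) = QuaternionGroup.a 1 →
      ∀ u' v' : Q8, u' * v' ≠ v' * u' →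
      q8fn u' v' (q8fn u' v' (q8fn u' v' u')) = QuaternionGroup.a 1 →
      q8fn u v u' = q8fn u' v' u → q8fn u v v' = q8fn u' v' v →
      Inn u v ∨ Inn u' v' ∨ Inn (q8fn u v u') (q8fn u v v') := by decide +kernel
  have h4 : ∀ γ : MulAut Q8, γ ^ 4 = 1 → γ (γ (γ (γ (QuaternionGroup.a 1)))) = QuaternionGroup.a 1 :=
    fun γ hγ => by
      simpa only [pow_succ, pow_zero, one_mul, MulAut.mul_apply, MulAut.one_apply] using
        DFunLike.congr_fun hγ (QuaternionGroup.a 1)
  refine (h _ _ (mulAut_Q8_valid α) ?_ _ _ (mulAut_Q8_valid β) ?_ ?_ ?_).imp inn_of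
    (Or.imp inn_of fun h => inn_of ?_)
  · simpa only [← mulAut_Q8_eq] using h4 α ha
  · simpa only [← mulAut_Q8_eq] using h4 β hb
  · simpa only [← mulAut_Q8_eq, MulAut.mul_apply] using DFunLike.congr_fun hc (QuaternionGroup.a 1)
  · simpa only [← mulAut_Q8_eq, MulAut.mul_apply] using DFunLike.congr_fun hc (QuaternionGroup.xa 0)
  · simpa only [← mulAut_Q8_eq, MulAut.mul_apply] using h

theorem K2 {α : MulAut Q8} {x : Q8} (hx : x * x ≠ 1) (h : α x = x) :
    (∃ w, α = MulAut.conj w) ∨ α * α = MulAut.conj x := by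
  have h' : ∀ u v : Q8, u * v ≠ v * u → ∀ x : Q8, x * x ≠ 1 → q8fn u v x = x →
      Inn u v ∨ ∀ y, q8fn u v (q8fn u v y) = x * y * x⁻¹ := by decide +kernel
  refine (h' _ _ (mulAut_Q8_valid α) x hx (by rw [← mulAut_Q8_eq, h])).imp inn_of fun e =>
    MulEquiv.ext fun y => ?_
  simpa only [← mulAut_Q8_eq, MulAut.mul_apply, MulAut.conj_apply] using e y

theorem pow4 {A : Subgroup G} (h1 : ¬ IsCyclic A) (h2 : Nat.card A = 8) {a : G} (ha : a ∈ A) :
    a ^ 4 = 1 := by
  have h3 := orderOf_dvd_natCard A ha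
  have h4 : orderOf a ≠ 8 := fun e => h1 (isCyclic_of_orderOf_eq_card ⟨a, ha⟩
    (by rw [h2, ← e, orderOf_mk]))
  rw [h2] at h3
  refine orderOf_dvd_iff_pow_eq_one.1 ?_
  have := Nat.le_of_dvd (by norm_num) h3
  generalize orderOf a = n at *
  interval_cases n <;> omega

theorem not_q8 {Q A : Subgroup G} [Q.Normal] (hC : centralizer (Q : Set G) ≤ Q) (e : Q ≃* Q8)
    (h0 : IsMulCommutative A) (h1 : ¬ IsCyclic A) (h2 : Nat.card A = 8) : False := by
  let φ : G →* MulAut Q8 := (MulAut.congr e).toMonoidHom.comp MulAut.conjNormal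
  have hφ : ∀ (s : G) (q : Q), φ s (e q) = e (MulAut.conjNormal s q) := fun s q => by simp [φ]
  have hk : ∀ s, φ s = 1 → s ∈ centralizer (Q : Set G) := fun s hs q hq => by
    have := hφ s ⟨q, hq⟩
    rw [hs, MulAut.one_apply] at this
    have := congrArg Subtype.val (e.injective this)
    simp only [MulAut.conjNormal_apply] at this
    exact (mul_inv_eq_iff_eq_mul.1 this.symm).symm
  have hq : ∀ q : Q, φ q = MulAut.conj (e q) := fun q => MulEquiv.ext fun y => by
    obtain ⟨y, rfl⟩ := e.surjective y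
    rw [hφ, MulAut.conj_apply, ← map_inv, ← map_mul, ← map_mul]
    congr 1
  have hin : ∀ s, (∃ w, φ s = MulAut.conj w) → s ∈ Q := fun s ⟨w, hw⟩ => by
    obtain ⟨q, rfl⟩ := e.surjective w
    have := hC (hk ((q : G)⁻¹ * s) (by rw [map_mul, map_inv, hq, hw, inv_mul_cancel]))
    exact (Q.mul_mem_cancel_left (inv_mem q.2)).1 this
  have hA := le_centralizer_iff_isMulCommutative.2 h0
  obtain ⟨a, ha, haQ⟩ : ∃ a ∈ A, a ∉ Q := SetLike.not_le_iff_exists.1 fun h => q_ncomm e (by
    rwa [eq_of_le_of_card_ge h (by rw [q_card e, h2])] at hA)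
  have hi : Q.relIndex A = 2 := relIndex_eq_two_iff_exists_notMem_and.2 ⟨a, ha, haQ, fun b hb => by
    rcases K1 (α := φ b) (β := φ a) (by rw [← map_mul, ← map_mul, hA ha b hb])
      (by rw [← map_pow, pow4 h1 h2 hb, map_one]) (by rw [← map_pow, pow4 h1 h2 ha, map_one]) with
      h | h | h
    · exact Or.inr (hin _ h)
    · exact absurd (hin _ h) haQ
    · exact Or.inl (hin _ (by rwa [map_mul]))⟩
  have h3 := (Q.subgroupOf A).card_mul_index
  rw [← relIndex, hi, h2, ← inf_subgroupOf_right,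
    Nat.card_congr (subgroupOfEquivOfLe inf_le_right).toEquiv] at h3
  obtain ⟨i, hi, h4⟩ := q_big e (inf_le_left : Q ⊓ A ≤ Q) (by omega)
  rcases K2 (α := φ a) (x := e ⟨i, hi.1⟩) (fun h => h4 (by
    rw [← map_mul, EmbeddingLike.map_eq_one_iff] at h; exact congrArg Subtype.val h)) (by
      rw [hφ]; congr 1; apply Subtype.ext
      simp only [MulAut.conjNormal_apply]
      rw [← hA ha i hi.2, mul_inv_cancel_right]) with h | h
  · exact haQ (hin _ h)
  · have h5 := hk (i⁻¹ * (a * a)) (by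
      rw [map_mul, map_mul, h, map_inv, ← hq, inv_mul_cancel])
    have h6 := q_cent e (hC h5) h5
    have h7 : Commute i a := hA ha i hi.2
    have h8 := pow4 h1 h2 ha
    refine h4 (inv_injective ?_)
    rw [inv_one, ← h6, ← pow_two (i⁻¹ * _), (h7.inv_left.mul_right h7.inv_left).mul_pow, ← pow_two,
      ← pow_two, ← pow_mul, h8, mul_one, inv_pow]

theorem not_four {Q A : Subgroup G} [Q.Normal] (hC : centralizer (Q : Set G) ≤ Q) (h : Four Q)
    (h0 : IsMulCommutative A) (h2 : Nat.card A = 8) : False := by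
  haveI : Fact (Nat.Prime 2) := ⟨Nat.prime_two⟩
  haveI := le_centralizer_iff_isMulCommutative.1 (cent4 h.1)
  have h1 := (PSL2Rec.relIndex_centralizer_dvd_card_mulAut Q).trans
    (Fgs.card_mulAut_dvd_of_elementary (p := 2) (r := 2)
      (fun x => Subtype.ext (by rw [pow_two]; exact h.2 x x.2)) h.1)
  rw [normalizer_eq_top, relIndex_top_right] at h1
  have h3 := (relIndex_dvd_index_of_normal (centralizer (Q : Set G)) A).trans h1
  have h4 := ((centralizer (Q : Set G)).subgroupOf A).card_mul_index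
  rw [← relIndex, h2, ← inf_subgroupOf_right,
    Nat.card_congr (subgroupOfEquivOfLe inf_le_right).toEquiv] at h4
  have h5 : centralizer (Q : Set G) ⊓ A = Q := by
    refine eq_of_le_of_card_ge (inf_le_left.trans hC) ?_
    have h6 : (centralizer (Q : Set G)).relIndex A ∣ 2 := by
      have := Nat.dvd_gcd h3 (Dvd.intro_left _ h4)
      simpa [Finset.prod_range_succ] using this
    have := Nat.le_of_dvd two_pos h6
    rw [h.1]; nlinarith
  have h6 := card_le_of_le (((le_centralizer_iff_isMulCommutative.2 h0).trans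
    (centralizer_le (h5.ge.trans inf_le_right))).trans hC)
  rw [h2, h.1] at h6
  omega

section Main

variable {X H : Subgroup G} [X.Normal] (hX : IsPGroup 2 X) (hH : Odd (Nat.card H))
  (hC : centralizer (X : Set G) ≤ X) (hT : X ⊔ H = ⊤)
  (h8 : ∀ Y : Subgroup G, Y < X → H ≤ normalizer (Y : Set G) → N8 Y) (hA : ¬ N8 X)
  (hn : ¬ X ≤ centralizer (X : Set G))
include hX hH hC hT h8 hA hn

theorem eq_of {B : Subgroup G} (h1 : B ≤ X) (h2 : H ≤ normalizer (B : Set G)) (h3 : ¬ N8 B) :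
    B = X := by_contra fun h => h3 (h8 B (lt_of_le_of_ne h1 h) h2)

theorem not_cent : ¬ H ≤ centralizer (X : Set G) := fun h => hA fun ⟨A, h1, h2, h3⟩ => hn (by
  have := eq_of hX hH hC hT h8 hA hn h1 ((h.trans (centralizer_le h1)).trans
    (centralizer_le_normalizer _)) fun h => h ⟨A, le_rfl, h2, h3⟩
  exact le_centralizer_iff_isMulCommutative.2 (this ▸ h2))

theorem not_cent' : ¬ H ≤ centralizer ((⁅X, H⁆ : Subgroup G) : Set G) := fun h =>
  not_cent hX hH hC hT h8 hA hn (by
    rw [le_centralizer_iff, ← commutator_eq_bot_iff_le_centralizer,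
      ← Coprime.commutator_commutator_eq le_normalizer_of_normal (cop hH hX),
      commutator_eq_bot_iff_le_centralizer, le_centralizer_iff]
    exact h)

theorem case_lt (hY : ⁅X, H⁆ ≠ X) : ∃ (X₀ : Subgroup G) (k : ℕ), X₀ ≤ X ∧ X₀.relIndex X = 2 ∧
    Nonempty (X₀ ≃* QuaternionGroup (2 ^ (k + 1))) ∧ X₀ ⊔ (X ⊓ centralizer (X₀ : Set G)) = X := by
  haveI : Fact (Nat.Prime 2) := ⟨Nat.prime_two⟩
  have hle : ⁅X, H⁆ ≤ X := commutator_le_left X H
  have hYH := Coprime.commutator_commutator_eq (K := X) le_normalizer_of_normal (cop hH hX)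
  have hnc := not_cent' hX hH hC hT h8 hA hn
  have hsup := Coprime.commutator_sup_centralizer (K := X) (A := H) le_normalizer_of_normal
    (cop hH hX) (Or.inr (haveI := hX.isNilpotent; inferInstance))
  have hXN := normalizer_commutator_ge_left (H₁ := X) (H₂ := H)
  have hHN := normalizer_commutator_ge_right (H₁ := X) (H₂ := H)
  generalize ⁅X, H⁆ = Y at *
  have hY8 := h8 Y (lt_of_le_of_ne hle hY) hHN
  have hY2 := hX.to_le hle
  obtain ⟨c, hc, h1, h2⟩ := exists_step (V := Y) (D := X ⊓ centralizer (H : Set G))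
    (hX.to_le inf_le_left) fun h => hY (by rwa [sup_eq_left.2 h] at hsup)
  have hB : H ≤ normalizer ((Y ⊔ zpowers c : Subgroup G) : Set G) :=
    (le_inf hHN ((le_centralizer_iff.1 (zpowers_le.2 hc.2)).trans
      (centralizer_le_normalizer _))).trans (normalizer_inf_normalizer_le_normalizer_sup _ _)
  have hB1 : Y ⊔ zpowers c ≤ X := sup_le hle (zpowers_le.2 hc.1)
  rcases F2 hH hHN hY2 hY8 with h | h | ⟨⟨e⟩⟩
  · exact absurd h hnc
  · exfalso
    have hYC : Y ≤ centralizer (X : Set G) := by_contra fun hn' => hnc (h.cent hH hHN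
      (inf_lt_left.2 hn') (inf_centralizer_ne_bot_of_isPGroup hY2 hX hXN fun e => by
        have := h.1; rw [e, card_bot] at this; omega)
      ((le_inf hHN le_normalizer_of_normal).trans (inf_normalizer_le_normalizer_inf)))
    have h3 := ext8 h.1 (le_centralizer_iff.1 hYC hc.1) h1 h2
      (by rw [show c ^ 4 = (c * c) * (c * c) by
        simp only [pow_succ, pow_zero, one_mul, mul_assoc], h.2 _ h2])
    have := eq_of hX hH hC hT h8 hA hn hB1 hB fun h => h ⟨_, le_rfl, h3⟩
    exact hn (le_centralizer_iff_isMulCommutative.2 (this ▸ h3.1))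
  · have hcH : H ≤ centralizer (zpowers c : Set G) := le_centralizer_iff.1 (zpowers_le.2 hc.2)
    have hlt : ⁅Y, zpowers c⁆ < Y := Coprime.commutator_lt_of_isPGroup hY2
      (hX.to_le (zpowers_le.2 hc.1)) ((zpowers_le.2 hc.1).trans hXN) fun e' => by
        have := q_card e; rw [e', card_bot] at this; omega
    have h3 := q_lt e hH hY8 hlt ((le_inf hHN (hcH.trans (centralizer_le_normalizer _))).trans
      (normalizer_inf_le_normalizer_commutator _ _))
    have h4 : ⁅⁅Y, H⁆, zpowers c⁆ = ⊥ := by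
      rw [commutator_comm Y H]
      refine commutator_commutator_eq_bot_of_rotate
        (commutator_eq_bot_iff_le_centralizer.2 (le_centralizer_iff.1 h3)) ?_
      rw [commutator_eq_bot_iff_le_centralizer.2 (le_centralizer_iff.1 hcH), commutator_bot_left]
    rw [hYH, commutator_eq_bot_iff_le_centralizer, le_centralizer_iff, zpowers_le] at h4
    obtain ⟨i, hi, hi2⟩ := q_big e le_rfl (by rw [q_card e]; norm_num)
    have hi4 : orderOf i = 2 ^ 2 := orderOf_eq_prime_pow (n := 1) (by rwa [pow_one, pow_two])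
      (q_four e hi)
    have hcc := q_cent e h2 (mul_mem h4 h4)
    have h5 := ext8 (V := zpowers i) (by rw [Nat.card_zpowers, hi4]; rfl)
      (centralizer_le (zpowers_le.2 hi) h4) (fun h => h1 (zpowers_le.2 hi h)) (by
        rcases q_inv e h2 (mul_mem hi hi) hcc (by
          rw [← q_four e hi]; simp only [pow_succ, pow_zero, one_mul, mul_assoc]) with h | h | h
        · rw [h]; exact one_mem _
        · exact absurd h hi2
        · rw [h]; exact mul_mem (mem_zpowers i) (mem_zpowers i))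
      (by rw [← hcc]; simp only [pow_succ, pow_zero, one_mul, mul_assoc])
    have h6 := eq_of hX hH hC hT h8 hA hn hB1 hB fun h =>
      h ⟨_, sup_le_sup_right (zpowers_le.2 hi) _, h5⟩
    refine ⟨Y, 0, hle, ?_, ⟨e⟩, le_antisymm (sup_le hle inf_le_left)
      (h6.ge.trans (sup_le_sup_left (zpowers_le.2 (mem_inf.2 ⟨hc.1, h4⟩)) _))⟩
    have h7 := TwoGrp.card_sup_zpowers (centralizer_le_normalizer _ h4) h2 h1
    have h9 := (Y.subgroupOf X).card_mul_index
    rw [← relIndex, Nat.card_congr (subgroupOfEquivOfLe hle).toEquiv, ← h6, h7, h6, q_card e] at h9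
    omega

variable (hY : ⁅X, H⁆ = X)
include hY

theorem three {W : Subgroup G} [W.Normal] (h : H ≤ centralizer (W : Set G)) :
    W ≤ centralizer (X : Set G) := by
  have h1 : ⁅W, H⁆ = ⊥ := commutator_eq_bot_iff_le_centralizer.2 (le_centralizer_iff.1 h)
  have h2 : ⁅⁅H, X⁆, W⁆ = ⊥ := commutator_commutator_eq_bot_of_rotate
    (eq_bot_iff.2 ((commutator_mono (commutator_le_right X W) le_rfl).trans h1.le))
    (by rw [h1, commutator_bot_left])
  rwa [commutator_comm H X, hY, commutator_eq_bot_iff_le_centralizer, le_centralizer_iff] at h2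

theorem frat_le : (frattini X).map X.subtype ≤ centralizer (X : Set G) := by
  haveI : Fact (Nat.Prime 2) := ⟨Nat.prime_two⟩
  have hlt := map_frattini_lt (K := X) fun e => hn (e.le.trans bot_le)
  have hiff := fun N => map_frattini_le_iff_of_isPGroup (N := N) hX
  haveI : ((frattini X).map X.subtype).Normal := inferInstance
  generalize (frattini X).map X.subtype = W at *
  have hW8 := h8 W hlt le_normalizer_of_normal
  have hW2 := hX.to_le hlt.le
  rcases F2 hH le_normalizer_of_normal hW2 hW8 with h | h | ⟨⟨e⟩⟩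
  · exact three hX hH hC hT h8 hA hn hY h
  · by_contra hn'
    exact hn' (three hX hH hC hT h8 hA hn hY (h.cent hH le_normalizer_of_normal
      (inf_lt_left.2 hn') (inf_centralizer_ne_bot_of_isPGroup hW2 hX le_normalizer_of_normal
        fun e => by have := h.1; rw [e, card_bot] at this; omega) le_normalizer_of_normal))
  · exfalso
    have h1 : ⁅W, X⁆ < W := Coprime.commutator_lt_of_isPGroup hW2 hX le_normalizer_of_normal
      fun e' => by have := q_card e; rw [e', card_bot] at this; omega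
    have h2 := three hX hH hC hT h8 hA hn hY (q_lt e hH hW8 h1 le_normalizer_of_normal)
    refine q_ncomm e ((hiff _).2 ⟨?_, fun x hx i hi => ?_⟩)
    · rw [le_centralizer_iff, ← commutator_eq_bot_iff_le_centralizer, eq_bot_iff]
      exact commutator_commutator_self_le (commutator_eq_bot_iff_le_centralizer.2 h2).le
    · have h3 : ⁅i, x⁆ ∈ ⁅W, X⁆ := commutator_mem_commutator hi hx
      have h4 := commutatorElement_pow_right_of_commute (a := i) (b := x) (h2 h3 x hx) 2
      rw [pow_two ⁅i, x⁆, q_cent e (h1.le h3) (centralizer_le hlt.le (h2 h3))] at h4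
      exact commutatorElement_eq_one_iff_mul_comm.1 h4

theorem case_eq : (IsExtraspecial 2 X ∧ 32 ≤ Nat.card X) ∨
    (IsSpecial 2 X ∧ Nat.card (center X) = 4) := by
  haveI : Fact (Nat.Prime 2) := ⟨Nat.prime_two⟩
  have hF := frat_le hX hH hC hT h8 hA hn hY
  have hD := commutator_le_map_frattini hX
  have hlt : centralizer (X : Set G) < X := lt_of_le_of_ne hC fun e => hn e.ge
  have hZ8 := h8 _ hlt le_normalizer_of_normal
  have hZ2 := hX.to_le hC
  have hZc : centralizer (X : Set G) ≤ centralizer (centralizer (X : Set G) : Set G) :=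
    centralizer_le hC
  have h0 : ⁅X, X⁆ ≠ ⊥ := fun e => hn (commutator_eq_bot_iff_le_centralizer.1 e)
  have hZ : centralizer (X : Set G) ≤ ⁅X, X⁆ := by
    have key : H ≤ centralizer (centralizer (X : Set G) : Set G) →
        centralizer (X : Set G) ≤ ⁅X, X⁆ := fun h =>
      (le_inf (le_centralizer_iff.1 h) (hC.trans hY.ge)).trans
        (Coprime.centralizer_inf_commutator_le le_normalizer_of_normal (cop hH hX))
    rcases F2 hH le_normalizer_of_normal hZ2 hZ8 with h | h | ⟨⟨e⟩⟩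
    · exact key h
    · by_contra hn'
      exact hn' (key (h.cent hH le_normalizer_of_normal
        (lt_of_le_of_ne (hD.trans hF) fun e => hn' e.ge) h0 le_normalizer_of_normal))
    · exact absurd hZc (q_ncomm e)
  have hc : (center X).map X.subtype = centralizer (X : Set G) := by
    rw [map_subtype_center, inf_eq_right.2 hC]
  have hS : IsSpecial 2 X := ⟨hX, map_injective X.subtype_injective
    (by rw [hc]; exact le_antisymm hF (hZ.trans hD)), map_injective X.subtype_injective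
    (by rw [hc, map_subtype_commutator]; exact le_antisymm (hD.trans hF) hZ)⟩
  have hcard : Nat.card (center X) = Nat.card (centralizer (X : Set G)) := by
    rw [← hc, card_map_of_injective X.subtype_injective]
  have hsq : ∀ z ∈ centralizer (X : Set G), z ^ 2 = 1 := by
    let Ω : Subgroup G :=
      { carrier := {z | z ∈ centralizer (X : Set G) ∧ z ^ 2 = 1}
        mul_mem' := fun {a b} ha hb => ⟨mul_mem ha.1 hb.1, by
          rw [Commute.mul_pow (hb.1 a (hC ha.1)), ha.2, hb.2, one_mul]⟩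
        one_mem' := ⟨one_mem _, one_pow _⟩
        inv_mem' := fun {a} ha => ⟨inv_mem ha.1, by rw [inv_pow, ha.2, inv_one]⟩ }
    have : ⁅X, X⁆ ≤ Ω := commutator_le.2 fun x hx y hy => by
      have h1 := hF (hD (commutator_mem_commutator hx hy))
      refine ⟨h1, ?_⟩
      rw [← commutatorElement_pow_right_of_commute (h1 y hy)]
      exact commutatorElement_eq_one_iff_mul_comm.2 (hF (pow_mem_map_frattini hX hy) x hx)
    exact fun z hz => (this (hZ hz)).2
  obtain ⟨k, hk⟩ := hZ2.exists_card_eq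
  have hk0 : k ≠ 0 := by
    rintro rfl
    exact h0 (eq_bot_iff.2 ((hD.trans hF).trans (card_eq_one.1 hk).le))
  have hk3 : k < 3 := by
    by_contra hk3
    obtain ⟨B, hB⟩ := Sylow.exists_subgroup_card_pow_prime (G := centralizer (X : Set G)) 2 (n := 3)
      (hk ▸ pow_dvd_pow 2 (by omega))
    haveI := le_centralizer_iff_isMulCommutative.1 hZc
    have hB' : Nat.card (B.map (centralizer (X : Set G)).subtype) = 8 := by
      rw [card_map_of_injective (subtype_injective _), hB]; rfl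
    refine hZ8 ⟨B.map (centralizer (X : Set G)).subtype, map_subtype_le _, inferInstance, fun h => ?_, hB'⟩
    have h5 := Monoid.exponent_dvd_of_forall_pow_eq_one
      (G := B.map (centralizer (X : Set G)).subtype) fun x =>
        Subtype.ext (hsq x (map_subtype_le _ x.2))
    rw [IsCyclic.exponent_eq_card, hB'] at h5
    exact absurd h5 (by norm_num)
  rw [← hcard] at hk
  obtain rfl | rfl : k = 1 ∨ k = 2 := by omega
  · refine Or.inl ⟨⟨hS, hk⟩, ?_⟩
    obtain ⟨n, h1, h2⟩ := PGroup.IsExtraspecial.exists_card_eq (p := 2) ⟨hS, hk⟩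
    have : n ≠ 1 := by
      rintro rfl
      exact hA fun ⟨A, a1, a2, _, a4⟩ => hn (le_centralizer_iff_isMulCommutative.2
        (eq_of_le_of_card_ge a1 (by rw [h2, a4]; rfl) ▸ a2))
    rw [h2]
    exact Nat.pow_le_pow_right two_pos (by omega : 5 ≤ 2 * n + 1)
  · exact Or.inr ⟨hS, hk⟩

end Main

/-- Let S be a finite solvable group with O_{2'}(S) = 1 that contains a non-cyclic abelian subgroup of order 8, while no proper subgroup of S of 2-power index contains one. Then a Sylow 2-subgroup X of S is normal in S, and one of the following holds: X is abelian; X is extraspecial of order at least 32; X has a generalized quaternion subgroup X₀ of index 2 with X = X₀·C_X(X₀); or X is special with centre of order 4. -/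
theorem result {S : Type*} [Group S] [Finite S]
    [Group.IsSolvable S] (hO : Cfsg.pPrimeCore 2 S = ⊥)
    (h8 : ∃ A : Subgroup S, IsMulCommutative ↥A ∧ ¬ IsCyclic ↥A ∧ Nat.card ↥A = 8)
    (hmin : ∀ R : Subgroup S, R ≠ ⊤ → (∃ k : ℕ, R.index = 2 ^ k) →
      ¬ ∃ A : Subgroup S, A ≤ R ∧ IsMulCommutative ↥A ∧ ¬ IsCyclic ↥A ∧ Nat.card ↥A = 8)
    (X : Sylow 2 S) :
    (X : Subgroup S).Normal ∧
      (IsMulCommutative ↥X ∨
        (Cfsg.IsExtraspecial 2 ↥X ∧ 32 ≤ Nat.card ↥X) ∨
        (∃ (X₀ : Subgroup S) (k : ℕ), X₀ ≤ (X : Subgroup S) ∧ X₀.relIndex (X : Subgroup S) = 2 ∧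
          Nonempty (↥X₀ ≃* QuaternionGroup (2 ^ (k + 1))) ∧ X₀ ⊔ ((X : Subgroup S) ⊓ Subgroup.centralizer (X₀ : Set S)) = (X : Subgroup S)) ∨
        (Cfsg.IsSpecial 2 ↥X ∧ Nat.card ↥(Subgroup.center ↥X) = 4)) := by
  haveI : Fact (Nat.Prime 2) := ⟨Nat.prime_two⟩
  obtain ⟨H, hH, -⟩ := Coprime.exists_isPiHall_ge (G := S) (π := {2}ᶜ) (U := ⊥)
    fun p hp h => by rw [card_bot] at h; exact absurd (Nat.dvd_one.1 h) hp.ne_one
  obtain ⟨h1, h2⟩ := Coprime.isPiHall_iff.1 hH
  have hodd : Odd (Nat.card H) := Nat.not_even_iff_odd.1 fun h =>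
    h1 2 Nat.prime_two h.two_dvd rfl
  obtain ⟨k, hk⟩ : ∃ k, H.index = 2 ^ k := ⟨_, Nat.eq_prime_pow_of_unique_prime_dvd
    index_ne_zero_of_finite fun hp h => by simpa using h2 _ hp h⟩
  have hN : ∀ Y : Subgroup S, Y ⊔ H ≠ ⊤ → N8 Y := fun Y h => N8.mono (hmin _ h (by
    obtain ⟨j, -, hj⟩ := (Nat.dvd_prime_pow Nat.prime_two).1
      (hk ▸ index_dvd_of_le (le_sup_right : H ≤ Y ⊔ H))
    exact ⟨j, hj⟩)) le_sup_left
  have hC := PLocal.PSolv.centralizer_pCore_le (p := 2) PLocal.PSolv.of_isSolvable hO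
  have hQ := isPGroup_pCore (G := S) (p := 2)
  obtain ⟨A, a1, a2, a3⟩ := h8
  have hT : pCore 2 S ⊔ H = ⊤ := by
    by_contra hn
    rcases F2 hodd le_normalizer_of_normal hQ (hN _ hn) with h | h | ⟨⟨e⟩⟩
    · have h3 : H = ⊥ := card_eq_one.1 ((cop hodd hQ).eq_one_of_dvd (card_dvd_of_le (h.trans hC)))
      rw [h3, index_bot] at hk
      exact hn (top_le_iff.1 ((le_pCore ((IsPGroup.of_card hk).to_subgroup ⊤)).trans le_sup_left))
    · exact not_four hC h a1 a3
    · exact not_q8 hC e a1 a2 a3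
  have hi : ¬ 2 ∣ (pCore 2 S).index := fun h => by
    rw [← relIndex_top_right, ← hT, relIndex_sup_left] at h
    exact hodd.not_two_dvd_nat (h.trans (relIndex_dvd_card _ _))
  have hXQ : (X : Subgroup S) = pCore 2 S :=
    (hQ.toSylow hi).3 X.2 (hQ.le_sylow_of_normal X)
  rw [← hXQ] at hC hT
  haveI hXN : (X : Subgroup S).Normal := hXQ ▸ inferInstance
  refine ⟨hXN, ?_⟩
  by_cases hn : (X : Subgroup S) ≤ centralizer ((X : Subgroup S) : Set S)
  · exact Or.inl (le_centralizer_iff_isMulCommutative.1 hn)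
  have hA : ¬ N8 (X : Subgroup S) := fun h => h ⟨A, by
    obtain ⟨P, hP⟩ := (IsPGroup.of_card (p := 2) (n := 3) a3).exists_le_sylow
    haveI := Sylow.unique_of_normal X hXN
    rwa [Subsingleton.elim P X] at hP, a1, a2, a3⟩
  have h8 : ∀ Y : Subgroup S, Y < X → H ≤ normalizer (Y : Set S) → N8 Y := fun Y hY h =>
    hN Y fun e => by
      have b1 := card_sup_mul_card_inf_of_le_normalizer h
      have b2 := card_sup_mul_card_inf_of_normal H (X : Subgroup S)
      have b3 : H ⊓ (X : Subgroup S) = ⊥ := (disjoint_of_coprime_natCard (cop hodd X.2)).eq_bot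
      have b4 : H ⊓ Y = ⊥ := eq_bot_iff.2 ((inf_le_inf_left _ hY.le).trans b3.le)
      rw [sup_comm, e, b4] at b1
      rw [sup_comm, hT, b3, b1] at b2
      exact (card_lt_of_lt hY).ne (Nat.eq_of_mul_eq_mul_left Nat.card_pos b2)
  by_cases hY : ⁅(X : Subgroup S), H⁆ = X
  · exact Or.inr ((case_eq X.2 hodd hC hT h8 hA hn hY).imp_right Or.inr)
  · exact Or.inr (Or.inr (Or.inl (case_lt X.2 hodd hC hT h8 hA hn hY)))

end Cfsg.Agent.S4409
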