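import Cfsg.Statements.S4418
import Cfsg.Agent.Lib.TwoGrp.FusModel
import Cfsg.Agent.Lib.Fusion.Resist
import Cfsg.Agent.Lib.Fusion.Control
import Cfsg.Agent.Lib.Block.FrobSyl3
import Cfsg.Agent.Lib.FT.OddOrder

set_option autoImplicit false
open Cfsg

namespace Cfsg.Agent.S4418

open Subgroup CfsgLib CfsgLib.TwoGrp CfsgLib.Fusion

theorem sq_eq_one {G C : Type*} [Group G] [CommGroup C] {S : Subgroup G} (f : S →* C) {a b : G}
    (hm : ∀ g, g ∈ S ↔ ∃ i : ℤ, g = a ^ i ∨ g = a ^ i * b) {e k : ℤ} (h1 : b * a * b⁻¹ = a ^ e)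
    (h2 : b * b = a ^ (2 * k)) (h3 : ∀ c : C, c ^ (e - 1) = 1 → c ^ orderOf a = 1 → c * c = 1)
    (g : S) : f g * f g = 1 := by
  have ha : a ∈ S := (hm a).2 ⟨1, by simp⟩
  have hb : b ∈ S := (hm b).2 ⟨0, by simp⟩
  have e1 := congrArg f (Subtype.ext h1 : (⟨b, hb⟩ * ⟨a, ha⟩ * ⟨b, hb⟩⁻¹ : S) = ⟨a, ha⟩ ^ e)
  have e2 := congrArg f (Subtype.ext h2 : (⟨b, hb⟩ * ⟨b, hb⟩ : S) = ⟨a, ha⟩ ^ (2 * k))
  rw [map_mul, map_mul, map_inv, map_zpow, mul_inv_cancel_comm] at e1
  have e3 := h3 (f ⟨a, ha⟩) (by rw [zpow_sub_one, ← e1, mul_inv_cancel])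
    (by rw [← map_pow, ← orderOf_mk a ha, pow_orderOf_eq_one, map_one])
  rw [map_mul, map_zpow, zpow_mul, zpow_two, e3, one_zpow] at e2
  obtain ⟨i, e | e⟩ := (hm g).1 g.2
  · rw [(Subtype.ext e : g = ⟨a, ha⟩ ^ i), map_zpow, ← mul_zpow, e3, one_zpow]
  · rw [(Subtype.ext e : g = ⟨a, ha⟩ ^ i * ⟨b, hb⟩), map_mul, map_zpow, mul_mul_mul_comm,
      ← mul_zpow, e3, one_zpow, e2, one_mul]

theorem hp {H : Type*} [Group H] [Finite H] (h : IsPGroup 2 H) : Group.IsSolvable H :=
  have := h.isNilpotent; inferInstance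

theorem hsol {H : Type*} [Group H] (M : Subgroup H) [M.Normal] (_ : Group.IsSolvable M)
    (_ : Group.IsSolvable (H ⧸ M)) : Group.IsSolvable H :=
  Group.isSolvable_of_ker_le_range M.subtype (QuotientGroup.mk' M) (by simp)

/-- Let G be a finite group whose Sylow 2-subgroup S is metacyclic via a cyclic normal subgroup N of S with S/N cyclic of order greater than 2. Then G is soluble. -/
theorem result {G : Type*} [Group G] [Finite G] (S : Sylow 2 G) (N : Subgroup ↥(S : Subgroup G)) [hN : N.Normal] (hNc : IsCyclic N) (hQc : IsCyclic (↥(S : Subgroup G) ⧸ N)) (hQ : 2 < Nat.card (↥(S : Subgroup G) ⧸ N)) : Group.IsSolvable G := by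
  have key : ¬ ∀ g, QuotientGroup.mk' N g * QuotientGroup.mk' N g = 1 := fun h => by
    have := Nat.le_of_dvd two_pos (IsCyclic.exponent_eq_card (α := (S : Subgroup G) ⧸ N) ▸
      Monoid.exponent_dvd_of_forall_pow_eq_one fun g => by
        obtain ⟨g, rfl⟩ := QuotientGroup.mk'_surjective N g
        exact (pow_two _).trans (h g))
    omega
  let _ := hQc.commGroup
  have inv : ∀ (n : ℕ) (c : (S : Subgroup G) ⧸ N), c ^ (-1 - 1 : ℤ) = 1 → c ^ n = 1 → c * c = 1 :=
    fun _ c e _ => by rwa [show (-1 - 1 : ℤ) = -2 by rfl, zpow_neg, inv_eq_one, zpow_two] at e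
  have hq : ¬ ∃ k, Nonempty ((S : Subgroup G) ≃* QuaternionGroup (2 ^ (k + 1))) := fun ⟨k, ⟨e⟩⟩ => by
    obtain ⟨a, b, h⟩ := exists_isQuat e
    exact key (sq_eq_one _ h.mem (e := -1) (k := 2 ^ k) (by simpa using h.conj)
      (by rw [h.bb, ← zpow_natCast]; congr 1; push_cast; ring) (inv _))
  have hm : IsMetacyclic (S : Subgroup G) := ⟨N, hN, hNc, hQc⟩
  have hF := groupFusion_saturated S
  have hn := isNormal_of_isMetacyclic_two S.isPGroup' hF (stronglyClosed_top _) hm
    (fun ⟨k, ⟨e⟩⟩ => by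
      obtain ⟨r, s, h⟩ := DihSyl.exists_isDih e
      exact key (sq_eq_one _ h.mem (e := -1) (k := 0) (by simpa using h.conj) (by simpa using h.ss)
        (inv _))) hq fun e => by
      obtain ⟨k, x, y, h⟩ := exists_isQD e
      refine key (sq_eq_one _ h.mem (k := 0) h.conj (by simpa using h.yy) fun c e1 e2 => ?_)
      rw [h.ord, ← zpow_natCast] at e2
      have e3 : c ^ (4 : ℤ) = 1 := by
        rw [show (4 : ℤ) = (8 * k : ℕ) + -((4 * k - 1 - 1) * 2) by push_cast; ring, zpow_add, e2,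
          zpow_neg, zpow_mul, e1]; simp
      rw [← zpow_two, show (2 : ℤ) = 4 * k + -(4 * k - 1 - 1) by ring, zpow_add, zpow_neg, e1,
        zpow_mul, e3]; simp
  rcases autDiag_of_isMetacyclic S.isPGroup' hm with ⟨n, h0, ⟨e⟩⟩ | ⟨-, h⟩ | h
  · obtain ⟨e'⟩ := QDFus.nonempty_sylow_equiv_quotient_oddCore S
    have := (Block.fourOmega_of_homocyclic _ h0 ((e'.symm.trans e).trans
      (MulEquiv.prodMultiplicative _ _).symm)).normal _ (by
        rw [← Nat.card_congr e'.toEquiv, Nat.card_congr e.toEquiv]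
        obtain rfl | h1 := (show 1 ≤ n from h0).eq_or_lt
        · exact absurd (fun g => by
            rw [← map_mul, show g * g = 1 from e.injective (by
              rw [map_mul, map_one]; generalize e g = x; revert x; decide), map_one]) key
        · have := Nat.pow_le_pow_right two_pos h1
          simp only [Nat.card_eq_fintype_card, Fintype.card_prod, Fintype.card_multiplicative,
            ZMod.card]
          nlinarith) (Core.pPrimeCore_quotient_pPrimeCore 2 G)
    exact hsol _ (FT.odd_order_solvable (Nat.odd_iff.2 (Nat.two_dvd_ne_zero.1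
      (Core.not_dvd_card_pPrimeCore Nat.prime_two G)))) (@hsol _ _ _ this (hp (Sylow.isPGroup' _))
        (FT.odd_order_solvable (Nat.odd_iff.2 (Nat.two_dvd_ne_zero.1
          (S.mapSurjective _).not_dvd_index))))
  · exact absurd ⟨0, h⟩ hq
  · obtain ⟨P, M, _, hM⟩ := realized_npc_of_isNil (groupFusion_isRealizedBy _)
      (sylIn_range_subtype (sylIn_top S)) le_top (fun _ _ hf _ _ _ => hf)
      (isNil_of_isNormal_top S.isPGroup' hF hn h.isPGroup ▸ isNil_inner S.isPGroup')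
    have := hsol M (FT.odd_order_solvable (Nat.odd_iff.2 (Nat.two_dvd_ne_zero.1
      (hM.index_eq_card ▸ P.not_dvd_index))))
        (hp (P.isPGroup'.of_equiv hM.symm.QuotientMulEquiv.symm))
    exact Group.isSolvable_of_surjective (f := (⊤ : Subgroup G).subtype) fun g => ⟨⟨g, trivial⟩, rfl⟩

end Cfsg.Agent.S4418
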