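import Cfsg.Statements.S4419
import Cfsg.Agent.Lib.Transfer.Frobenius
import Cfsg.Agent.Lib.Fgs.AutBound
import Cfsg.Agent.Lib.Fusion.MetaAut

set_option autoImplicit false
open Cfsg

namespace Cfsg.Agent.S4419

open CfsgLib Subgroup in
open scoped commutatorElement in
/-- Let p be a prime and G a finite group whose Sylow p-subgroups are metacyclic (a cyclic normal subgroup with cyclic quotient). Then G has a normal p-complement if and only if the order of G/O_{p′,p}(G) is coprime to p² − 1. -/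
theorem result {G : Type*} [Group G] [Finite G] (p : ℕ) [Fact p.Prime] (S : Sylow p G) (hS : Cfsg.IsMetacyclic ↥(S : Subgroup G)) : Cfsg.HasNormalPComplement p G ↔ Nat.Coprime (Nat.card (G ⧸ Cfsg.pPrimePCore p G)) (p ^ 2 - 1) := by
  classical
  have hp : p.Prime := Fact.out
  refine ⟨fun h => ?_, fun h => by_contra fun hn => ?_⟩
  · obtain ⟨N, _, h1, h2⟩ := Transfer.hasNormalPComplement_iff_exists_normal.1 h
    have : pPrimePCore p G = ⊤ := by
      rw [pPrimePCore, Core.pCore_eq_top_iff.2 (h2.of_surjective (QuotientGroup.map N (pPrimeCore p G) (MonoidHom.id G)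
        (Core.le_pPrimeCore (p := p) h1)) (QuotientGroup.map_surjective_of_surjective _ _ _
          QuotientGroup.mk_surjective _)), comap_top]
    rw [← index_eq_card, this, index_top]
    exact Nat.coprime_one_left _
  obtain ⟨Q, h1, -, q, hq, hqp, -, g, hg, ⟨k, hk⟩, hc⟩ := Transfer.exists_of_not_hasNormalPComplement S hn
  have hQ := S.isPGroup'.to_le h1
  obtain ⟨n, hn⟩ := hQ.exists_card_eq
  obtain ⟨r, hr⟩ := hQ.index (frattini Q)
  obtain ⟨a, b, -, hab⟩ := Metacyc.exists_gen_of_isMetacyclic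
    (PGroup.isMetacyclic_of_equiv (subgroupOfEquivOfLe h1) (PGroup.isMetacyclic_subgroup hS _))
  have h2 := (Core.burnside_basis_le hQ hr {a, b} (by simpa using Fusion.closure_pair_eq_top_of_gen hab)).trans
    Finset.card_le_two
  have h3 : q ∣ Nat.card (MulAut Q) := by
    obtain ⟨i, -, hi⟩ := (Nat.dvd_prime_pow hq).1 (orderOf_dvd_of_pow_eq_one (x := Q.normalizerMonoidHom ⟨g, hg⟩) (n := q ^ k)
      (by rw [← map_pow, show (⟨g, hg⟩ : normalizer (Q : Set G)) ^ q ^ k = 1 from Subtype.ext hk, map_one]))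
    refine (dvd_pow_self q fun e => hc ?_).trans (hi ▸ _root_.orderOf_dvd_natCard _)
    rw [e, pow_zero, orderOf_eq_one_iff, ← MonoidHom.mem_ker, normalizerMonoidHom_ker] at hi
    exact hi
  have hqp' : ¬ q ∣ p := fun e => hqp ((Nat.prime_dvd_prime_iff_eq hq hp).1 e)
  have h4 := (hq.dvd_mul.1 (h3.trans (Fgs.card_mulAut_dvd hn hr))).resolve_left fun e => hqp' (hq.dvd_of_dvd_pow e)
  have h5 : p - 1 ∣ p ^ 2 - 1 := by simpa using Nat.sub_dvd_pow_sub_pow p 1 2
  have h6 : q ∣ p ^ 2 - 1 := by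
    interval_cases r
    · simp [hq.one_lt.ne'] at h4
    · exact Dvd.dvd.trans (by simpa using h4) h5
    · rw [Finset.prod_range_succ, Finset.prod_range_one, pow_zero, pow_one, pow_two, ← Nat.mul_sub_one, ← pow_two] at h4
      exact (hq.dvd_mul.1 h4).elim id fun e => ((hq.dvd_mul.1 e).resolve_left hqp').trans h5
  haveI : (pPrimePCore p G).Normal := Normal.comap inferInstance _
  have h7 : g ∈ pPrimePCore p G := (QuotientGroup.eq_one_iff g).1 (orderOf_eq_one_iff.1 (Nat.Coprime.eq_one_of_dvd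
    (Nat.Coprime.coprime_dvd_left (_root_.orderOf_dvd_natCard _) ((h.coprime_dvd_right h6).pow_right k))
    (orderOf_dvd_of_pow_eq_one (by rw [← QuotientGroup.mk_pow, hk, QuotientGroup.mk_one]))))
  obtain ⟨m, hm⟩ := (Core.isPGroup_pCore p (G ⧸ pPrimeCore p G)) ⟨_, h7⟩
  have h8 : g ∈ pPrimeCore p G := (QuotientGroup.eq_one_iff g).1 (orderOf_eq_one_iff.1 (Nat.eq_one_of_dvd_coprimes
    (((Nat.coprime_primes hq hp).2 hqp).pow k m)
    (orderOf_dvd_of_pow_eq_one (by rw [← QuotientGroup.mk_pow, hk, QuotientGroup.mk_one]))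
    (orderOf_dvd_of_pow_eq_one (congrArg Subtype.val hm))))
  refine hc fun x hx => commutatorElement_eq_one_iff_mul_comm.1 (mem_bot.1 (?_ : _ ∈ (⊥ : Subgroup G)))
  rw [← inf_eq_bot_of_coprime (H := Q) (K := pPrimeCore p G) (hn ▸ (Core.coprime_card_pPrimeCore p G).symm.pow_left n)]
  exact ⟨by simpa [commutatorElement_def, mul_assoc] using mul_mem hx ((mem_normalizer_iff.1 hg _).1 (inv_mem hx)),
    (pPrimeCore p G).mul_mem (Normal.conj_mem inferInstance g h8 x) (inv_mem h8)⟩

end Cfsg.Agent.S4419
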