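import Cfsg.Statements.S4466
import Cfsg.Agent.Lib.ChDeg.Blichfeldt
import Cfsg.Agent.Lib.ChDeg.Cliff
import Cfsg.Agent.Lib.Char.Burnside
import Cfsg.Agent.Lib.Tuan.Mult

set_option autoImplicit false
open Cfsg

namespace Cfsg.Agent.S4466


open CfsgLib.Char CfsgLib.ChDeg Subgroup

universe u

def PD (G : Type u) [Group G] : Prop :=
  ∀ χ, IsIrrCharacter G χ → charDegree χ ≠ 1 → (charDegree χ).Prime

theorem PD.sub {G : Type u} [Group G] [Finite G] (h : PD G) (N : Subgroup G) [N.Normal] :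
    PD N := by
  intro θ hθ h1
  have := Fintype.ofFinite N
  obtain ⟨χ, hχ, hi⟩ := exists_irr_over N hθ
  have hd := deg_dvd_of_over N hχ hθ hi
  have h2 : charDegree χ ≠ 1 := fun e => h1 (Nat.dvd_one.1 (e ▸ hd))
  rcases (h χ hχ h2).eq_one_or_self_of_dvd _ hd with e | e
  · exact absurd e h1
  · rw [e]; exact h χ hχ h2

theorem PD.quot {G : Type u} [Group G] [Finite G] (h : PD G) (N : Subgroup G) [N.Normal] :
    PD (G ⧸ N) := by
  intro θ hθ h1
  rw [← deg_infl N θ] at h1 ⊢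
  exact h _ (isIrr_infl N hθ) h1

theorem PD.simple {G : Type u} [Group G] [Finite G] [IsSimpleGroup G] (h : PD G) :
    Group.IsSolvable G := by
  classical
  by_contra hns
  have hperf : _root_.commutator G = ⊤ := by
    rcases (inferInstance : (_root_.commutator G).Normal).eq_bot_or_eq_top with e | e
    · exact absurd (Group.isSolvable_def G |>.2 ⟨1, by rw [derivedSeries_one]; exact e⟩) hns
    · exact e
  have hZ : center G = ⊥ := by
    rcases (inferInstance : (center G).Normal).eq_bot_or_eq_top with e | e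
    · exact e
    · refine absurd (Group.isSolvable_of_comm fun a b => ?_) hns
      exact mem_center_iff.1 (e ▸ mem_top b : b ∈ center G) a
  have hfaith : ∀ χ, IsIrrCharacter G χ → χ ≠ (fun _ => 1) → ∀ g, ‖χ g‖ = ‖χ 1‖ → g = 1 := by
    intro χ hχ h1 g hg
    have := charCenter_le_center_of_faithful (isClassFunction_of_isIrr hχ)
      (charKer_eq_bot_of_simple hχ h1) ((mem_charCenter (isCharacter_of_isIrr hχ)).2 hg)
    rwa [hZ, mem_bot] at this
  have hnl : ∀ χ, IsIrrCharacter G χ → χ ≠ (fun _ => 1) → charDegree χ ≠ 1 := by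
    intro χ hχ h1 e
    rw [deg_eq_one_iff_commutator_le hχ, hperf, top_le_iff] at e
    exact h1 (irr_eq_one_of_cker_eq_top hχ e)
  obtain ⟨g, hg⟩ := exists_ne (1 : G)
  have hex : ∃ n, ∃ χ, IsIrrCharacter G χ ∧ χ ≠ (fun _ => 1) ∧ charDegree χ = n := by
    obtain ⟨χ, n, h1, h2, -⟩ := exists_irr_ne_zero_not_dvd hg Nat.prime_two
    exact ⟨_, χ, h1, h2, rfl⟩
  obtain ⟨χ, hχ, hχ1, hp⟩ := Nat.find_spec hex
  set p := Nat.find hex
  have hpp : p.Prime := hp ▸ h χ hχ (hnl χ hχ hχ1)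
  have hc := isCharacter_of_isIrr hχ
  have hp2 : p ≠ 2 := by
    intro e
    have : Fact (Nat.Prime 2) := ⟨Nat.prime_two⟩
    obtain ⟨t, ht⟩ := exists_prime_orderOf_dvd_card' (G := G) 2 (e ▸ hp ▸ deg_dvd_card hχ)
    obtain ⟨m, hm⟩ := CfsgLib.Tuan.exists_eq_sub_four_mul hperf hc (j := t)
      (ht ▸ pow_orderOf_eq_one t)
    have h1 : χ 1 = 2 := by rw [← deg_cast hc, hp, e]; rfl
    have h2 := norm_char_le hc t
    have h3 : t = 1 := by
      apply hfaith χ hχ hχ1
      rw [hm, h1] at h2 ⊢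
      have e1 : (2 : ℂ) - 4 * m = ((2 - 4 * m : ℤ) : ℂ) := by push_cast; rfl
      rw [e1, Complex.norm_intCast] at h2 ⊢
      have e2 : ‖(2 : ℂ)‖ = ((2 : ℤ) : ℝ) := by simp
      rw [e2] at h2 ⊢
      rw [← Int.cast_abs] at h2 ⊢
      have h4 : |(2 - 4 * m : ℤ)| ≤ 2 := by exact_mod_cast h2
      have h5 : |(2 - 4 * m : ℤ)| = 2 := by
        rw [abs_le] at h4; rw [abs_eq (by norm_num)]; omega
      rw [h5]
    rw [h3, orderOf_one] at ht; omega
  have hF : HasFaithful G p := ⟨χ, hc, by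
    rw [cker_eq_charKer hc]; exact charKer_eq_bot_of_simple hχ hχ1, hp.le⟩
  obtain ⟨A, hA, hA1, hA2⟩ := hF.exists_abelian_hall
  have hx : ∃ x : G, x ≠ 1 ∧ ∀ q : ℕ, q.Prime → p + 1 < q →
      ¬ q ∣ (centralizer ({x} : Set G)).index := by
    by_cases hb : A = ⊥
    · refine ⟨g, hg, fun q hq hq' hd => hA2 q hq hq' ?_⟩
      rw [hb, index_bot]; exact hd.trans (index_dvd_card _)
    · obtain ⟨⟨x, hxA⟩, hx1⟩ := (ne_bot_iff_exists_ne_one).1 hb
      refine ⟨x, fun e => hx1 (Subtype.ext e), fun q hq hq' hd => hA2 q hq hq' ?_⟩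
      refine hd.trans (index_dvd_of_le fun y hy => ?_)
      rw [mem_centralizer_iff]; rintro z rfl; exact hA _ hxA _ hy
  obtain ⟨x, hx1, hx⟩ := hx
  obtain ⟨ψ, n, hψ, hψ1, hn, hpn, h0⟩ := exists_irr_ne_zero_not_dvd hx1 hpp
  have hn' : charDegree ψ = n := deg_eq_of_eq hn
  have hnp : n.Prime := hn' ▸ h ψ hψ (hnl ψ hψ hψ1)
  have hle : p ≤ n := Nat.find_min' hex ⟨ψ, hψ, hψ1, hn'⟩
  have hne : p ≠ n := fun e => hpn (e ▸ dvd_rfl)
  have hlt : p + 1 < n := by
    have h1 := hpp.odd_of_ne_two hp2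
    have h2 := hnp.odd_of_ne_two (by have := hpp.two_le; omega)
    obtain ⟨a, ha⟩ := h1; obtain ⟨b, hb⟩ := h2; omega
  rcases irr_eq_zero_or_norm_eq_of_coprime hψ x hn
    ((Nat.Prime.coprime_iff_not_dvd hnp).2 (hx n hnp hlt)) with e | e
  · exact h0 e
  · exact hx1 (hfaith ψ hψ hψ1 x e)

theorem PD.solv {G : Type u} [Group G] [Finite G] (h : PD G) : Group.IsSolvable G :=
  isSolvable_of_simple_case (fun G _ => PD G) (fun _ _ _ N _ h => h.sub N)
    (fun _ _ _ N _ h => h.quot N) (fun _ _ _ _ h => h.simple) G h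

/-- If every irreducible character of the finite group G of degree greater than one has prime degree, then G is solvable. -/
theorem result {G : Type*} [Group G] [Finite G] (h : ∀ χ : Cfsg.IrrCharacter G, Cfsg.charDegree (χ : G → ℂ) ≠ 1 → (Cfsg.charDegree (χ : G → ℂ)).Prime) : Group.IsSolvable G := by
  exact PD.solv fun χ hχ => h ⟨χ, hχ⟩

end Cfsg.Agent.S4466
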