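import Cfsg.Statements.S4514
import Cfsg.Agent.Lib.CDeg.Main

set_option autoImplicit false
open Cfsg

namespace Cfsg.Agent.S4514

open CfsgLib CfsgLib.CDeg CfsgLib.Char CfsgLib.Cover CfsgLib.Block

/-- Let G be a finite group, u an element of G, and fix a maximal ideal M of the algebraic integers containing 2 (defining the 2-blocks). There is a complex number k with χ(1) − χ(u) = k for every non-principal irreducible character χ in the principal 2-block if and only if one of the following holds: u lies in O(G); or G/O(G) has order 2 and u ∉ O(G); or G/O(G) ≅ PSL(2, 2ⁿ) for some n ≥ 2, u ∉ O(G) and u² ∈ O(G). -/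
theorem result {G : Type*} [Group G] [Finite G] (M : Ideal Cfsg.AlgInt) (hM : Cfsg.IsPModular 2 M) (u : G) :
    (∃ k : ℂ, ∀ χ : Cfsg.IrrCharacter G, χ ∈ Cfsg.principalBlock M G → (χ : G → ℂ) ≠ (fun _ => 1) →
        (χ : G → ℂ) 1 - (χ : G → ℂ) u = k) ↔
      (u ∈ Cfsg.oddCore G ∨ (Nat.card (G ⧸ Cfsg.oddCore G) = 2 ∧ u ∉ Cfsg.oddCore G) ∨
        (∃ (F : Type) (_ : Field F) (_ : Fintype F) (n : ℕ), 2 ≤ n ∧ Fintype.card F = 2 ^ n ∧
          Nonempty (G ⧸ Cfsg.oddCore G ≃* Matrix.ProjectiveSpecialLinearGroup (Fin 2) F) ∧ u ∉ Cfsg.oddCore G ∧ u ^ 2 ∈ Cfsg.oddCore G)) := by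
  have hs := QuotientGroup.mk'_surjective (pPrimeCore 2 G)
  have hk : ¬ 2 ∣ Nat.card (QuotientGroup.mk' (pPrimeCore 2 G)).ker := by
    rw [QuotientGroup.ker_mk']
    exact Core.not_dvd_card_pPrimeCore Nat.prime_two G
  have hB := WAb.image_infl_principal hM _ hs hk
  constructor
  · rintro ⟨k, h⟩
    refine or_iff_not_imp_left.2 fun hu => ?_
    have H : Hyp M (u : G ⧸ pPrimeCore 2 G) k := ⟨hM, Core.pPrimeCore_quotient_pPrimeCore 2 G,
      fun e => hu ((QuotientGroup.eq_one_iff u).1 e), fun ψ hψ =>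
        h (infl _ hs ψ) (hB.le ⟨ψ, (mem_bp.1 hψ).2, rfl⟩) fun e =>
          (mem_bp.1 hψ).1 (infl_injective _ hs (Subtype.ext e))⟩
    refine H.main.imp (fun e => ⟨e, hu⟩) fun ⟨e1, e2⟩ => ?_
    obtain ⟨a, ha, F, _, _, e3, e4⟩ := WCor.pslEven_pow e1
    exact ⟨F, _, _, a, ha, e3, e4, hu, (QuotientGroup.eq_one_iff _).1 e2⟩
  · rintro (hu | ⟨h2, hu⟩ | ⟨F, _, _, n, hn, hF, ⟨e⟩, hu, hu2⟩)
    · exact ⟨0, fun χ hχ _ => by
        rw [← principal_mul_of_mem_pPrimeCore hM hχ hu 1, one_mul, sub_self]⟩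
    · refine ⟨2, fun χ hχ h1 => ?_⟩
      obtain ⟨ψ, -, rfl⟩ := hB.ge hχ
      exact two_const h2 (fun e => hu ((QuotientGroup.eq_one_iff u).1 e))
        fun e => h1 (by rw [e]; rfl)
    · refine ⟨Fintype.card F, fun χ hχ h1 => ?_⟩
      obtain ⟨ψ, -, rfl⟩ := hB.ge hχ
      obtain ⟨ψ, rfl⟩ := exists_infl_eq e.toMonoidHom e.surjective (χ := ψ) fun g hg => by
        rw [(map_eq_one_iff e e.injective).1 hg]
      have := charP_of_card_eq_prime_pow hF
      have h4 : 4 ≤ Fintype.card F := hF ▸ Nat.pow_le_pow_right (n := 2) (i := 2) two_pos hn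
      have := psl_const h4 (t := e u) (χ := ψ) (orderOf_eq_prime
        (by rw [← map_pow, ← QuotientGroup.mk_pow, (QuotientGroup.eq_one_iff _).2 hu2, map_one])
        fun h => hu ((QuotientGroup.eq_one_iff u).1 ((map_eq_one_iff e e.injective).1 h)))
        fun e => h1 (by rw [e]; rfl)
      simpa [infl_apply] using this

end Cfsg.Agent.S4514
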