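import Cfsg.Statements.S4523
import Cfsg.Agent.Lib.WAb.RealEv

set_option autoImplicit false
open Cfsg

namespace Cfsg.Agent.S4523

open Subgroup CfsgLib CfsgLib.WAb CfsgLib.Abel2 CfsgLib.Block CfsgLib.Char

/-- Let S be a non-abelian finite simple group with commutative Sylow 2-subgroups and M a maximal ideal of the algebraic integers containing 2. Let k be a natural number with g ^ k = g for every 2-element g and g ^ k = g⁻¹ for every element g of odd order. Then S has an irreducible character χ₁ of even degree with χ₁ (g ^ k) = χ₁ g for all g, and its principal 2-block contains a character χ₂ other than the principal character with χ₂ (g ^ k) = χ₂ g for all g. -/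
theorem result {S : Type*} [Group S] [Finite S] [IsSimpleGroup S] (hna : ¬ IsMulCommutative S) (P : Sylow 2 S) (hP : IsMulCommutative P) (M : Ideal Cfsg.AlgInt) (hM : Cfsg.IsPModular 2 M) (k : ℕ) (hk₁ : ∀ g : S, (∃ j : ℕ, orderOf g = 2 ^ j) → g ^ k = g) (hk₂ : ∀ g : S, Odd (orderOf g) → g ^ k = g⁻¹) : (∃ χ₁ : Cfsg.IrrCharacter S, Even (Cfsg.charDegree (χ₁ : S → ℂ)) ∧ ∀ g : S, (χ₁ : S → ℂ) (g ^ k) = (χ₁ : S → ℂ) g) ∧ ∃ χ₂ ∈ Cfsg.principalBlock M S, (χ₂ : S → ℂ) ≠ (fun _ => 1) ∧ ∀ g : S, (χ₂ : S → ℂ) (g ^ k) = (χ₂ : S → ℂ) g := by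
  have hab : Ab2 S := abelian_sylow_of_one P hP
  have hg : Good S := (astar_of_ab2 WCor.inputs hab).2 ⊤ _ (⊤ : Subgroup S).subtype
    (fun x => ⟨⟨x, trivial⟩, rfl⟩) inferInstance hna
  have hk : ∀ g : S, g ^ k = g⁻¹ := fun g => by
    obtain ⟨x, y, rfl, hc, ⟨j, hj⟩, hy⟩ := exists_isPPart Nat.prime_two g
    obtain ⟨Q, hQ⟩ := (IsPGroup.of_card (p := 2) (n := j) (G := zpowers x)
      (by rw [Nat.card_zpowers, hj])).exists_le_sylow
    rw [hc.mul_pow, hk₁ x ⟨j, hj⟩, hk₂ y (Nat.odd_iff.2 (by omega)), hc.eq, mul_inv_rev,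
      inv_eq_of_mul_eq_one_right (hg.elem Q x (hQ (mem_zpowers x)))]
  simp only [hk]
  constructor
  · obtain ⟨m, hm, χ, h1, h2, h3⟩ := exists_realDeg_even inferInstance hna hab
    exact ⟨⟨χ, h1⟩, by rwa [charDegree_eq_of_eq h3], fun g =>
      (char_inv (isCharacter_of_isIrr h1) g).trans (h2 g)⟩
  · obtain ⟨t, ht⟩ := exists_prime_orderOf_dvd_card' (G := S) 2 ((show 2 ∣ Nat.card P by
      have := hg.four_le P
      rw [P.card_eq_multiplicity] at this ⊢
      exact dvd_pow_self 2 fun h => by simp [h] at this).trans (card_subgroup_dvd_card _))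
    obtain ⟨χ, h1, h2, h3, -⟩ := exists_real_odd_b0 hM ht
    exact ⟨χ, h1, fun e => h2 (Subtype.ext e), fun g => congrFun (congrArg Subtype.val h3) g⟩

end Cfsg.Agent.S4523
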