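import Cfsg.Statements.S4553
import Cfsg.Agent.S4888
import Cfsg.Agent.Lib.CharDeep.Gallagher
import Cfsg.Agent.Lib.ChDeg.Cliff

set_option autoImplicit false
open Cfsg

namespace Cfsg.Agent.S4553

open CfsgLib CfsgLib.Blk CfsgLib.Block CfsgLib.Char CfsgLib.Cover

theorem card_lam {C : Type*} [Group C] [Finite C] (hC : IsCyclic C) {p : ℕ}
    (h : p ∣ Nat.card C) : Nat.card {l : C →* ℂˣ // l ^ p = 1} = p := by
  letI := hC.commGroup
  have : NeZero (Nat.card C) := ⟨Nat.card_pos.ne'⟩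
  obtain ⟨e⟩ := IsCyclic.monoidHom_equiv_self C ℂ
  have h1 := IsCyclic.card_powMonoidHom_ker (G := C) p
  rw [Nat.gcd_eq_right h] at h1
  refine Eq.trans ?_ h1
  exact Nat.card_congr (e.toEquiv.subtypeEquiv fun l => by
    change _ ↔ e l ^ p = 1
    rw [← map_pow, MulEquiv.map_eq_one_iff])

/-- Let G be a finite group, p a prime, P a Sylow p-subgroup, N the p-residual of G (the subgroup generated by the elements of order prime to p, the smallest normal subgroup with G/N a p-group), and M a maximal ideal of the algebraic integers containing p; suppose G/N is cyclic and nontrivial. Let k be a natural number with g ^ k = g ^ (1 + p) for every p-element g and g ^ k = g for every element g of order prime to p (so that χ (g ^ k) is the image of χ g under the field automorphism that raises p-power roots of unity to the power 1 + p and fixes the roots of unity of order prime to p). Then the number of members χ of the principal block of G of degree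 prime to p with χ (g ^ k) = χ g for all g equals p times the number of members θ of the principal block of N of degree prime to p that are invariant under conjugation by P and satisfy θ (n ^ k) = θ n for all n. -/
theorem result {G : Type*} [Group G] [Finite G] (p : ℕ) [Fact p.Prime] (M : Ideal Cfsg.AlgInt) (hM : Cfsg.IsPModular p M) (P : Sylow p G) (N : Subgroup G) [hN : N.Normal] (hNres : N = Cfsg.pResidual p G) (hcyc : IsCyclic (G ⧸ N)) (hnt : N ≠ ⊤) (k : ℕ) (hk₁ : ∀ g : G, (∃ j : ℕ, orderOf g = p ^ j) → g ^ k = g ^ (1 + p)) (hk₂ : ∀ g : G, Nat.Coprime (orderOf g) p → g ^ k = g) : Nat.card {χ : Cfsg.IrrCharacter G // χ ∈ Cfsg.principalBlock M G ∧ ¬ p ∣ Cfsg.charDegree (χ : G → ℂ) ∧ ∀ g : G, (χ : G → ℂ) (g ^ k) = (χ : G → ℂ) g} = p * Nat.card {θ : Cfsg.IrrCharacter ↥N // θ ∈ Cfsg.principalBlock M ↥N ∧ ¬ p ∣ Cfsg.charDegree (θ : ↥N → ℂ) ∧ (∀ x ∈ (P : Subgroup G), ∀ n : ↥N, (θ : ↥N → ℂ) ⟨x * n * x⁻¹, hN.conj_mem n n.2 x⟩ = (θ : ↥N → ℂ)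 n) ∧ ∀ n : ↥N, (θ : ↥N → ℂ) (n ^ k) = (θ : ↥N → ℂ) n} := by
  classical
  have hp : p.Prime := Fact.out
  have := Fintype.ofFinite G
  have := Fintype.ofFinite N
  obtain ⟨a, ha⟩ : ∃ a, N.index = p ^ a := hNres ▸ Transfer.exists_index_pResidual
  have hpa : p ∣ Nat.card (G ⧸ N) := by
    rw [← N.index_eq_card, ha]
    exact dvd_pow_self p fun h => hnt (Subgroup.index_eq_one.1 (by rw [ha, h, pow_zero]))
  have hk : k.Coprime (Nat.card G) := by
    refine Nat.coprime_of_dvd fun r hr hrk hrG => ?_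
    have := Fact.mk hr
    obtain ⟨x, hx⟩ := exists_prime_orderOf_dvd_card' (G := G) r hrG
    have h1 : x ^ k = x := by
      by_cases h : r = p
      · rw [hk₁ x ⟨1, by rw [hx, h, pow_one]⟩, pow_add, ← h, ← hx, pow_orderOf_eq_one, pow_one,
          mul_one]
      · exact hk₂ x (hx ▸ (Nat.coprime_primes hr hp).2 h)
    rw [orderOf_dvd_iff_pow_eq_one.1 (hx ▸ hrk)] at h1
    rw [← h1, orderOf_one] at hx
    exact hr.one_lt.ne hx
  have hq : ∀ g : G, ((g ^ k : G) : G ⧸ N) = (g : G ⧸ N) ^ (1 + p) := fun g => by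
    obtain ⟨u, s, h1, h2, h3, h4⟩ := exists_isPPart hp g
    have h5 : (orderOf s).Coprime p := (hp.coprime_iff_not_dvd.2 h4).symm
    have h6 : (s : G ⧸ N) = 1 :=
      (QuotientGroup.eq_one_iff s).2 (hNres ▸ Transfer.mem_pResidual_of_coprime h5)
    rw [← h1, h2.mul_pow, hk₁ u h3, hk₂ s h5]
    simp [h6]
  have hdet : ∀ θ : IrrCharacter N, ¬ p ∣ detOrder (θ : N → ℂ) :=
    S4888.not_dvd_detOrder (by subst hNres; exact Transfer.pResidual_pResidual)
  have hcop : ∀ n, ¬ p ∣ n → N.index.Coprime n := fun n hn =>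
    ha ▸ (hp.coprime_iff_not_dvd.2 hn).pow_left a
  have hB : ∀ (χ : IrrCharacter G) (θ : IrrCharacter N), θ ∈ principalBlock M N →
      (∀ n : N, (χ : G → ℂ) n = (θ : N → ℂ) n) → χ ∈ principalBlock M G := fun χ θ hθ h => by
    have e := mem_principal_of_over_of_pow hM (H := ⊤) (N := N) le_top (top_le_Nz N)
      (fun t _ => hNres ▸ Transfer.exists_pow_mem_pResidual t)
      (η := ⟨fun g => (χ : G → ℂ) g, isIrr_comp_mulEquiv Subgroup.topEquiv χ.2⟩) hθ (by
        change classInner (fun n : N => (χ : G → ℂ) n) _ ≠ 0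
        rw [funext h, classInner_irr_self θ.2]
        exact one_ne_zero)
    exact irrMap_mem_principal hM Subgroup.topEquiv e
  set T := {θ : Cfsg.IrrCharacter ↥N // θ ∈ Cfsg.principalBlock M ↥N ∧
    ¬ p ∣ Cfsg.charDegree (θ : ↥N → ℂ) ∧ (∀ x ∈ (P : Subgroup G), ∀ n : ↥N,
      (θ : ↥N → ℂ) ⟨x * n * x⁻¹, hN.conj_mem n n.2 x⟩ = (θ : ↥N → ℂ) n) ∧
      ∀ n : ↥N, (θ : ↥N → ℂ) (n ^ k) = (θ : ↥N → ℂ) n} with hT
  have hext : ∀ θ : T, ∃ χ : G → ℂ, IsIrrCharacter G χ ∧ (∀ n : N, χ n = (θ.1 : N → ℂ) n) ∧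
      ∀ g, χ (g ^ k) = χ g := by
    rintro ⟨θ, hθB, hθd, hθP, hθk⟩
    have hθG : ∀ g : G, conjIrr N g θ = θ := fun g => by
      have hg : g ∈ N ⊔ (P : Subgroup G) := by
        rw [hNres, Transfer.pResidual_sup_sylow]; trivial
      obtain ⟨n, hn, y, hy, rfl⟩ := Subgroup.mem_sup_of_normal_left.1 hg
      rw [← conjIrr_conjIrr, conjIrr_of_mem N hn]
      exact Subtype.ext (funext (hθP y hy))
    obtain ⟨χ, ⟨hχ, hχθ, hχo⟩, huniq⟩ := CharDeep.exists_canonical_extension N θ.2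
      (fun g n => congrFun (congrArg Subtype.val (hθG g)) n) (ChDeg.irr_deg_cast θ).symm
      (hcop _ fun h => (hp.dvd_mul.1 h).elim (hdet θ) hθd)
    obtain ⟨τ, hτ⟩ := CharGal.exists_ringEquiv_pow (Nat.card_pos (α := G)).ne' hk
    have hτχ : ∀ g, τ (χ g) = χ (g ^ k) := fun g =>
      CharGal.gal_char_eq_char_pow (isCharacter_of_isIrr hχ) (τ : ℂ →+* ℂ) hτ pow_card_eq_one'
    have hfix := huniq (fun g => τ (χ g)) (CharGal.isIrr_gal τ hχ) (fun n => by
      rw [hτχ, ← Subgroup.coe_pow, hχθ]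
      exact hθk n) (hcop _ fun h => hdet θ (hχo ▸ h.trans (detOrder_gal_dvd τ hχ)))
    exact ⟨χ, hχ, hχθ, fun g => (hτχ g).symm.trans (congrFun hfix g)⟩
  choose E hE hEN hEk using hext
  have hEi : ∀ θ : T, IsIrrCharacter N (fun n : N => E θ n) := fun θ => by
    rw [funext (hEN θ)]; exact θ.1.2
  have hl : ∀ l : G ⧸ N →* ℂˣ, IsIrrCharacter G (fun g => (l g : ℂ)) := fun l =>
    isIrr_unitsHom (l.comp (QuotientGroup.mk' N))
  have hlN : ∀ (l : G ⧸ N →* ℂˣ), ∀ n ∈ N, (l n : ℂ) = l (1 : G) := fun l n hn => by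
    rw [(QuotientGroup.eq_one_iff n).2 hn]; rfl
  have hlE : ∀ (l : G ⧸ N →* ℂˣ) (θ : T) (n : N), (l (n : G) : ℂ) * E θ n = (θ.1 : N → ℂ) n :=
    fun l θ n => by rw [hlN l n n.2, hEN]; simp
  refine Eq.trans ?_ (congrArg (· * Nat.card T) (card_lam hcyc hpa))
  rw [← Nat.card_prod]
  symm
  refine Nat.card_congr (Equiv.ofBijective (fun x => ⟨⟨(fun g : G => (x.1.1 g : ℂ)) * E x.2,
    CharDeep.gallagher_isIrr N (isCharacter_of_isIrr (hE _)) (hEi _) (hl _) (hlN _)⟩,
    hB _ _ x.2.2.1 (hlE _ _), fun h => x.2.2.2.1 (by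
      rwa [ChDeg.deg_congr (ψ := (x.2.1 : N → ℂ)) (by exact hlE x.1.1 x.2 1)] at h), fun g => by
      change (x.1.1 _ : ℂ) * _ = (x.1.1 _ : ℂ) * _
      rw [hEk, hq, map_pow, pow_add, ← MonoidHom.pow_apply _ p, x.1.2]
      simp⟩) ⟨?_, ?_⟩)
  · rintro ⟨l, θ⟩ ⟨l', θ'⟩ h
    have h1 : (fun g : G => (l.1 g : ℂ)) * E θ = (fun g : G => (l'.1 g : ℂ)) * E θ' :=
      congrArg (fun z => z.1.1) h
    obtain rfl : θ = θ' := Subtype.ext (Subtype.ext (funext fun n => by
      rw [← hlE l.1, ← hlE l'.1]; exact congrFun h1 n))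
    have h2 := CharDeep.gallagher_inj N (isCharacter_of_isIrr (hE θ)) (hEi _) (hl _) (hlN _)
      (hl _) (hlN _) h1
    refine Prod.ext (Subtype.ext (MonoidHom.ext fun x => ?_)) rfl
    induction x using QuotientGroup.induction_on with
    | H g => exact Units.ext (congrFun h2 g)
  · rintro ⟨χ, hχB, hχd, hχk⟩
    have h1 := ChDeg.isIrr_res_of_coprime N χ.2 (hcop _ hχd).symm
    let θ : T := ⟨⟨_, h1⟩, mem_principal_of_under hM N hχB (by
        rw [classInner_irr_self h1]; exact one_ne_zero),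
      ChDeg.deg_congr (χ := fun n : N => (χ : G → ℂ) n) (ψ := (χ : G → ℂ)) rfl ▸ hχd,
      fun x _ n => irr_isClassFunction χ _ _, fun n => hχk n⟩
    obtain ⟨β, hβ, hβN, h2⟩ := CharDeep.gallagher_surj N (isCharacter_of_isIrr (hE θ)) (hEi θ)
      χ.2 (by rw [funext (hEN θ), classInner_irr_self h1]; exact one_ne_zero)
    have h3 : β 1 = 1 := by
      have e := congrFun h2 1
      rw [Pi.mul_apply, show E θ 1 = (χ : G → ℂ) 1 from hEN θ 1] at e
      exact (mul_eq_right₀ (irr_one_ne_zero χ.2)).1 e.symm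
    obtain ⟨μ, rfl⟩ := exists_unitsHom_of_one_eq_one (isCharacter_of_isIrr hβ) h3
    let l : G ⧸ N →* ℂˣ := QuotientGroup.lift N μ fun n hn => Units.ext ((hβN n hn).trans h3)
    have h4 := CharDeep.gallagher_inj N (isCharacter_of_isIrr (hE θ)) (hEi _) (hl (l ^ (1 + p)))
      (hlN _) (hl l) (hlN _) (funext fun g => by
        have e := hχk g
        rw [h2, Pi.mul_apply, hEk] at e
        change (l ((g ^ k : G) : G ⧸ N) : ℂ) * _ = _ at e
        rw [hq, map_pow] at e
        exact e)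
    refine ⟨(⟨l, MonoidHom.ext fun x => ?_⟩, θ), Subtype.ext (Subtype.ext h2.symm)⟩
    induction x using QuotientGroup.induction_on with
    | H g =>
      have e := Units.ext (congrFun h4 g)
      rw [MonoidHom.pow_apply, pow_add, pow_one, mul_eq_left] at e
      exact e

end Cfsg.Agent.S4553
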