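import Cfsg.Statements.S4569
import Cfsg.Agent.Lib.WAb.Nine

set_option autoImplicit false
open Cfsg

namespace Cfsg.Agent.S4569

/-- Let G be a finite group whose Sylow 2-subgroup P is elementary abelian of order 16, suppose the centralizer of P has index 9 in its normalizer, and let M be a maximal ideal of the algebraic integers containing 2. Then the principal 2-block contains exactly 16 irreducible characters and has 2-regular rank 9. -/
theorem result {G : Type*} [Group G] [Finite G] (M : Ideal Cfsg.AlgInt) (hM : Cfsg.IsPModular 2 M) (P : Sylow 2 G) (hcard : Nat.card P = 16) (hel : ∀ x : P, x ^ 2 = 1) (he : (Subgroup.centralizer ((P : Subgroup G) : Set G)).relIndex (Subgroup.normalizer ((P : Subgroup G) : Set G)) = 9) : Nat.card (Cfsg.principalBlock M G) = 16 ∧ Cfsg.blockRank 2 (Cfsg.principalBlock M G) = 9 := by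
  have hel' : ∀ x ∈ (P : Subgroup G), x * x = 1 := fun x hx => by
    simpa [sq] using congrArg Subtype.val (hel ⟨x, hx⟩)
  refine CfsgLib.WAb.nine_main hM P (CfsgLib.Core.isMulCommutative_iff_forall.2
    fun x hx y hy => ?_) hel' hcard he
  have e := hel' _ (mul_mem hx hy)
  calc x * y = x * (x * y * (x * y)) * y * (y * y)⁻¹ * (y * y) := by rw [e]; group
    _ = (x * x) * (y * x) * (y * y) := by
      simp only [mul_assoc, mul_inv_rev, inv_mul_cancel_left, mul_inv_cancel_left]
    _ = y * x := by rw [hel' x hx, hel' y hy]; group

end Cfsg.Agent.S4569
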