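import Cfsg.Statements.S4570
import Cfsg.Agent.Lib.WAb.Nine

set_option autoImplicit false
open Cfsg

namespace Cfsg.Agent.S4570

open Subgroup CfsgLib CfsgLib.WAb CfsgLib.Abel2 CfsgLib.Core CfsgLib.Tech
open CfsgLib.BrPair (Cz Nz Ce)

theorem kk_of_ee_one {G : Type*} [Group G] [Finite G] {M : Ideal Cfsg.AlgInt}
    (hM : Cfsg.IsPModular 2 M) (P : Sylow 2 G) (hab : IsMulCommutative P)
    (h : ee (P : Subgroup G) = 1) : kk M G = Nat.card P := by
  have := Fintype.ofFinite (P : Subgroup G)
  have h1 := ee_mul_kk hM P hab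
  have h2 := Transfer.burnside_normal_complement P (relIndex_eq_one.1 h)
  rw [h, one_mul, Finset.sum_congr rfl (g := fun _ => 1) fun u _ => by
    rw [(ll_eq_one_iff hM).2 (Transfer.hasNormalPComplement_subgroup h2 _),
      Nat.eq_one_of_mul_eq_one_right ((eu_mul u.2).trans h)]] at h1
  rw [h1, Finset.sum_const, smul_eq_mul, mul_one, Finset.card_univ, ← Nat.card_eq_fintype_card]

theorem arith {e a q k n : ℕ} (h1 : n = a * q) (h2 : 1 < q) (h3 : e * k + 1 = e ^ 2 + q)
    (he : e = 3 ∨ e = 5 ∨ e = 7 ∨ e = 11 ∨ e = 13) :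
    (n = 8 → a * k = 8) ∧ (n = 16 → a * k = 8 ∨ a * k = 16) := by
  constructor
  · rintro rfl
    have := Nat.le_of_dvd (by norm_num) (Dvd.intro_left _ h1.symm)
    rcases he with rfl | rfl | rfl | rfl | rfl <;> interval_cases q <;> (try omega) <;>
    · have hk : k = 4 ∨ k = 8 := by omega
      rcases hk with rfl | rfl <;> omega
  · rintro rfl
    have := Nat.le_of_dvd (by norm_num) (Dvd.intro_left _ h1.symm)
    rcases he with rfl | rfl | rfl | rfl | rfl <;> interval_cases q <;> (try omega) <;>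
    · have hk : k = 4 ∨ k = 8 := by omega
      rcases hk with rfl | rfl <;> omega

/-- Let G be a finite group with a commutative Sylow 2-subgroup P and M a maximal ideal of the algebraic integers containing 2, and suppose some involution x of G has the property that the principal 2-block of its centralizer has 2-regular rank one. If P has order 8 then the principal 2-block of G contains exactly 8 irreducible characters, and if P has order 16 it contains 8 or 16. -/
theorem result {G : Type*} [Group G] [Finite G] (M : Ideal Cfsg.AlgInt) (hM : Cfsg.IsPModular 2 M) (P : Sylow 2 G) (hab : IsMulCommutative P) (x : G) (hx : orderOf x = 2) (hl : Cfsg.blockRank 2 (Cfsg.principalBlock M ↥(Subgroup.centralizer ({x} : Set G))) = 1) : (Nat.card P = 8 → Nat.card (Cfsg.principalBlock M G) = 8) ∧ (Nat.card P = 16 → Nat.card (Cfsg.principalBlock M G) = 8 ∨ Nat.card (Cfsg.principalBlock M G) = 16) := by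
  obtain ⟨g, -, hu⟩ := exists_conj_mem_sylow P le_top (mem_top x)
    (by rw [← sq, ← hx, pow_orderOf_eq_one])
  have hc : IsConj x (g * x * g⁻¹) := isConj_iff.2 ⟨g, rfl⟩
  have hl' := (ll_Ce_of_isConj hM hc).symm.trans hl
  have hu2 : orderOf (g * x * g⁻¹) = 2 := by
    rw [← hx]; exact orderOf_injective (MulAut.conj g).toMonoidHom (MulAut.conj g).injective x
  generalize g * x * g⁻¹ = u at *
  have hu1 : u ≠ 1 := by rintro rfl; simp at hu2
  have hPC : (P : Subgroup G) ≤ Ce u := (le_Cz_of_comm hab).trans (Cz_le_Ce hu)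
  have h1 : eu (P : Subgroup G) u = 1 := by
    have e1 := (res_inf P hab hPC).1
    have e2 := congrArg (map (Ce u).subtype) ((Transfer.hasNormalPComplement_iff_inf_eq_bot
      (P.subtype hPC)).1 ((ll_eq_one_iff hM).1 hl'))
    rw [map_inf_eq _ _ _ (Ce u).subtype_injective, Sylow.coe_subtype, subgroupOf_map_subtype,
      inf_eq_left.2 hPC, e1, Subgroup.map_bot, commutator_eq_bot_iff_le_centralizer] at e2
    exact relIndex_eq_one.2 (le_centralizer_iff.1 e2)
  have h2 := eu_mul hu
  rw [h1, one_mul] at h2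
  have h3 := orb_subset _ hu hu1
  have h4 := ncard_diff_one (P : Subgroup G)
  have h5 := h2.ge.trans (Set.ncard_le_ncard h3)
  have h6 : ¬ 2 ∣ ee (P : Subgroup G) := fun h => P.not_dvd_index
    ((h.trans (relIndex_dvd_of_le_left _ (le_Cz_of_comm hab))).trans
      (relIndex_dvd_index_of_le le_normalizer))
  change (_ → kk M G = 8) ∧ (_ → kk M G = 8 ∨ kk M G = 16)
  by_cases e1 : ee (P : Subgroup G) = 1
  · rw [kk_of_ee_one hM P hab e1]
    exact ⟨id, Or.inr⟩
  by_cases e2 : ee (P : Subgroup G) = 3 ∨ ee (P : Subgroup G) = 5 ∨ ee (P : Subgroup G) = 7 ∨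
      ee (P : Subgroup G) = 11 ∨ ee (P : Subgroup G) = 13
  · obtain ⟨-, -, a, q, k, b1, b2, b3, b4⟩ := prime_main hM P hab (by
      rcases e2 with e | e | e | e | e <;> rw [e] <;> norm_num)
    rw [b3]
    exact arith b1 b2 b4 e2
  refine ⟨fun h => by omega, fun h => Or.inr ?_⟩
  obtain e3 | e3 : ee (P : Subgroup G) = 9 ∨ ee (P : Subgroup G) = 15 := by omega
  · refine (nine_main hM P hab ?_ h e3).1
    let O : Subgroup G :=
      { carrier := {y | y ∈ (P : Subgroup G) ∧ y * y = 1}
        mul_mem' := fun {a b} ha hb => ⟨mul_mem ha.1 hb.1, by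
          rw [mul_assoc, ← mul_assoc b, isMulCommutative_iff_forall.1 hab b hb.1 a ha.1,
            mul_assoc, hb.2, mul_one, ha.2]⟩
        one_mem' := ⟨one_mem _, mul_one _⟩
        inv_mem' := fun {a} ha => ⟨inv_mem ha.1, by rw [← mul_inv_rev, ha.2, inv_one]⟩ }
    have b1 : O ≤ P := fun y hy => hy.1
    have b2 : orb (Nz (P : Subgroup G)) u ⊆ O := by
      rintro _ ⟨n, hn, rfl⟩
      refine ⟨conj_mem_of_mem_normalizer hn hu, ?_⟩
      rw [conj_mul, ← sq, ← hu2, pow_orderOf_eq_one, mul_one, mul_inv_cancel]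
    have b3 : 9 ≤ Nat.card O := e3 ▸ h2 ▸ Set.ncard_le_ncard b2
    have b4 := card_dvd_of_le b1
    rw [h] at b4
    have b5 := Nat.le_of_dvd (by norm_num) b4
    have b6 : Nat.card O = 16 := by
      generalize Nat.card O = m at *
      interval_cases m <;> simp at b4 ⊢
    exact fun y hy => ((eq_of_le_of_card_le b1 (by rw [b6, h])).ge hy).2
  · have b1 := Set.eq_of_subset_of_ncard_le h3 (le_trans (by omega) h2.ge)
    have hF : Block.FrobSyl P := ⟨hab, fun y hy hy1 => by
      have b2 := eu_mul hy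
      rw [orb_eq_of_mem (b1.ge ⟨hy, hy1⟩), h2, mul_eq_right₀ (by omega), relIndex_eq_one] at b2
      exact le_antisymm (inf_comm (Ce y) _ ▸ b2)
        (le_inf (Cz_le_Ce hy) (centralizer_le_normalizer _))⟩
    have b3 := frob_formula hM hF
    rw [(frob_main hM hF (Or.inr e3)).1, e3, h] at b3
    omega

end Cfsg.Agent.S4570
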