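import Cfsg.Statements.S4573
import Cfsg.Agent.Lib.ChMisc.PiChar
import Cfsg.Agent.Lib.ChDeg.Cliff
import Cfsg.Agent.Lib.Char.Monomial
import Cfsg.Agent.Lib.CharDeep.Gallagher

set_option autoImplicit false
universe u
open Cfsg

namespace Cfsg.Agent.S4573

open Cfsg CfsgLib.Char CfsgLib.ChDeg CfsgLib.ChMisc RegularWreathProduct
open scoped ComplexConjugate

section

attribute [local instance] Classical.propDecidable

def Mon (M : Type*) [Group M] [Fintype M] : Prop := ∀ χ : M → ℂ, IsIrrCharacter M χ →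
  ∃ (H : Subgroup M) (lam : H →* ℂˣ), χ = indFun H (fun h => (lam h : ℂ))

theorem wreath {D Q : Type*} [Group D] [Fintype D] [Group Q] [Fintype Q] [Fintype (D ≀ᵣ Q)]
    (hQ : ∀ a b : Q, a * b = b * a) (hD : Mon D) : Mon (D ≀ᵣ Q) := fun χ hχ => by
  choose H lam hl using fun φ : IrrCharacter D => hD φ φ.2
  let L : IrrCharacter D → D → ℂ := fun φ => extendByZero (H φ) fun h => (lam φ h : ℂ)
  have hL : ∀ φ, ∀ a ∈ H φ, ∀ b ∈ H φ, L φ (a * b) = L φ a * L φ b := fun φ a ha b hb => by
    simp only [L, extendByZero_of_mem _ _ ha, extendByZero_of_mem _ _ hb,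
      extendByZero_of_mem _ _ (mul_mem ha hb), ← Units.val_mul, ← map_mul]
    rfl
  let B := (rightHom : D ≀ᵣ Q →* Q).ker
  let e : (Q → D) ≃* B :=
    { toFun := fun f => ⟨⟨f, 1⟩, rfl⟩
      invFun := fun b => b.1.left
      left_inv := fun _ => rfl
      right_inv := fun b => Subtype.ext (RegularWreathProduct.ext rfl b.2.symm)
      map_mul' := fun f g => Subtype.ext (RegularWreathProduct.ext (by simp) (by simp)) }
  have hc := isCharacter_of_isIrr hχ
  obtain ⟨θ, hθ, h0⟩ := exists_irr_constituent (isCharacter_restrict B hc) (irr_one_ne_zero hχ)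
  obtain ⟨φ, hφ⟩ := exists_eq_piFun (isIrr_comp_mulEquiv e hθ)
  let T : Subgroup Q :=
    { carrier := {q | ∀ i, φ (q * i) = φ i}
      one_mem' := by simp
      mul_mem' := fun h1 h2 i => by rw [mul_assoc, h1, h2]
      inv_mem' := fun {q} h i => by rw [← h, mul_inv_cancel_left] }
  let U : Subgroup (D ≀ᵣ Q) :=
    { carrier := {w | w.right ∈ T ∧ ∀ i, w.left i ∈ H (φ i)}
      one_mem' := ⟨one_mem T, fun _ => one_mem _⟩
      mul_mem' := fun {a b} h1 h2 => ⟨mul_mem h1.1 h2.1, fun i =>
        mul_mem (h1.2 i) (inv_mem h1.1 i ▸ h2.2 _)⟩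
      inv_mem' := fun {a} h => ⟨inv_mem h.1, fun i => inv_mem (h.1 i ▸ h.2 _)⟩ }
  let μ : U →* ℂ :=
    { toFun := fun w => ∏ i, L (φ i) (w.1.left i)
      map_one' := by simp [L, extendByZero_one]
      map_mul' := fun a b => by
        rw [← Fintype.prod_equiv (Equiv.mulLeft a.1.right⁻¹) (fun i => L (φ i) (b.1.left (a.1.right⁻¹ * i)))
          (fun i => L (φ i) (b.1.left i)) (fun i => by rw [← inv_mem a.2.1 i]; rfl), ← Finset.prod_mul_distrib]
        exact Finset.prod_congr rfl fun i _ => hL _ _ (a.2.2 i) _ (inv_mem a.2.1 i ▸ b.2.2 _) }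
  let a : (∀ i, H (φ i)) ≃* B.subgroupOf U :=
    { toFun := fun f => ⟨⟨⟨fun i => f i, 1⟩, one_mem T, fun i => (f i).2⟩, rfl⟩
      invFun := fun b i => ⟨b.1.1.left i, b.1.2.2 i⟩
      left_inv := fun _ => rfl
      right_inv := fun b => Subtype.ext (Subtype.ext (RegularWreathProduct.ext rfl b.2.symm))
      map_mul' := fun f g => Subtype.ext (Subtype.ext (RegularWreathProduct.ext
        (funext fun i => by
          change _ = (f i : D) * (fun i => (g i : D)) (1⁻¹ * i)
          rw [inv_one, one_mul]; rfl) (by simp))) }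
  have hlam := fun φ => isIrr_unitsHom (lam φ)
  have h1 : classInner (fun n : B.subgroupOf U => χ n) (fun n : B.subgroupOf U => μ n) ≠ 0 := by
    obtain ⟨Ξ, hΞ, e1⟩ := exists_eq_add_of_inner_ne_zero (isCharacter_restrict B hc) hθ h0
    let j : B.subgroupOf U →* B := (U.subtype.comp (Subgroup.subtype _)).codRestrict B fun x => x.2
    have hμ := isCharacter_restrict (B.subgroupOf U) (isCharacter_of_isIrr (isIrr_monoidHom μ))
    obtain ⟨m, hm⟩ := exists_classInner_eq_nat (isCharacter_comp j (isCharacter_of_isIrr hθ)) hμ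
    obtain ⟨k, hk⟩ := exists_classInner_eq_nat (isCharacter_comp j hΞ) hμ
    rw [show (fun n : B.subgroupOf U => χ n) = (fun n => θ (j n)) + fun n => Ξ (j n) from
      funext fun n => congrFun e1 (j n), classInner_add_left, hm, hk, ← Nat.cast_add, Nat.cast_ne_zero]
    refine fun h => ?_
    rw [(Nat.add_eq_zero_iff.1 h).1, ← classInner_comp_mulEquiv a] at hm
    have h2 := classInner_piFun (fun i (h : H (φ i)) => (φ i : D → ℂ) h) fun i h => (lam (φ i) h : ℂ)
    have h3 : (fun f => θ (j (a f))) = piFun fun i (h : H (φ i)) => (φ i : D → ℂ) h :=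
      funext fun f => congrFun hφ fun i => f i
    have h4 : (fun f => μ (a f)) = piFun fun i h => (lam (φ i) h : ℂ) :=
      funext fun f => Finset.prod_congr rfl fun i _ => extendByZero_coe _ _ (f i)
    rw [h3, h4, h2, Nat.cast_zero, Finset.prod_eq_zero_iff] at hm
    obtain ⟨i, -, hi⟩ := hm
    have := inner_res_indFun_self_ne_zero _ (hlam (φ i))
    rw [← hl] at this
    exact this hi
  obtain ⟨η, hη, h2, h3⟩ := exists_irr_between (B.subgroupOf U).subtype
    (isClassFunction_restrict U (isClassFunction_of_isIrr hχ)) h1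
  obtain ⟨β, hβ, h4, rfl⟩ := CfsgLib.CharDeep.gallagher_surj (B.subgroupOf U)
    (isCharacter_of_isIrr (isIrr_monoidHom μ)) (isIrr_monoidHom (μ.comp (Subgroup.subtype _))) hη h3
  have h5 : β 1 = 1 := irr_one_eq_one_of_commutator hβ fun a b => h4 _ (by
    change _ * _ * _ * _ = (1 : Q)
    simp [hQ a.1.right])
  obtain ⟨ν, hν⟩ := exists_unitsHom_of_one_eq_one (isCharacter_of_isIrr hη) (by simp [h5])
  refine ⟨U, ν, (eq_of_inner_ne_zero_of_deg_le (isCharacter_indFun U (isCharacter_of_isIrr (isIrr_unitsHom ν)))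
    hχ ?_ ?_).symm⟩
  · rw [classInner_indFun_left U _ (isClassFunction_of_isIrr hχ), ← hν]
    exact fun h => h2 (classInner_eq_zero_symm h)
  have h6 : inertia B θ ≤ T.comap rightHom := fun g hg i => by
    have h7 : inl g.right ∈ inertia B θ := by
      have : (inl g.right : D ≀ᵣ Q) = (inl g.right * g⁻¹) * g := by simp
      rw [this]
      exact mul_mem (le_inertia B (isClassFunction_of_isIrr hθ) (by simp [B])) hg
    refine Subtype.ext (piFun_inj (fun i => (φ (g.right * i)).2) (fun i => (φ i).2) (funext fun f => ?_) i)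
    refine Eq.trans ?_ (((mem_inertia' B).1 h7 (e f)).trans (congrFun hφ f))
    refine Eq.trans ?_ ((congrFun hφ fun i => f (g.right⁻¹ * i)).symm.trans (congrArg θ (Subtype.ext
      (RegularWreathProduct.ext (by ext; simp [e]) (by simp [e])))))
    exact Fintype.prod_equiv (Equiv.mulLeft g.right) _ _ fun i => by simp
  refine le_trans ?_ (Nat.le_of_dvd (deg_pos hχ) (index_inertia_mul_dvd B hχ hθ h0))
  have h7 : charDegree θ = ∏ i, (H (φ i)).index := by
    rw [← deg_comp e.toMonoidHom θ]
    refine (congrArg charDegree hφ).trans ((deg_piFun fun i => irr_isCharacter _).trans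
      (Finset.prod_congr rfl fun i _ => ?_))
    rw [hl, deg_ind _ (isCharacter_of_isIrr (hlam _)), deg_eq_of_eq (n := 1) (by simp), mul_one]
  have h8 : T.index ≤ (inertia B θ).index := by
    rw [← T.index_comap_of_surjective (f := (rightHom : D ≀ᵣ Q →* Q)) fun q => ⟨inl q, rfl⟩]
    exact Subgroup.index_antitone h6
  have h9 : Nat.card U = Nat.card T * ∏ i, Nat.card (H (φ i)) := by
    rw [← Nat.card_pi, ← Nat.card_prod]
    exact Nat.card_congr ⟨fun w => ⟨⟨_, w.2.1⟩, fun i => ⟨_, w.2.2 i⟩⟩,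
      fun t => ⟨⟨fun i => t.2 i, t.1⟩, t.1.2, fun i => (t.2 i).2⟩, fun _ => rfl, fun _ => rfl⟩
  rw [deg_ind _ (isCharacter_of_isIrr (isIrr_unitsHom ν)), deg_eq_of_eq (n := 1) (by simp), mul_one, h7]
  refine le_trans (le_of_eq (Nat.eq_of_mul_eq_mul_right (Nat.card_pos (α := U)) ?_)) (Nat.mul_le_mul_right _ h8)
  rw [U.index_mul_card, h9, mul_mul_mul_comm, ← Finset.prod_mul_distrib, T.index_mul_card, card]
  simp [Subgroup.index_mul_card, mul_comm, -Nat.card_eq_fintype_card, ← Nat.card_eq_fintype_card]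

theorem embed {G D : Type*} [Group G] [Group D] (N : Subgroup G) [N.Normal] (f : N →* D)
    (hf : Function.Injective f) : ∃ F : G →* D ≀ᵣ (G ⧸ N), Function.Injective F := by
  have h : ∀ (g : G) (x : G ⧸ N), x.out⁻¹ * g * ((g : G ⧸ N)⁻¹ * x).out ∈ N := fun g x =>
    (QuotientGroup.eq_one_iff _).1 (by simp)
  refine ⟨MonoidHom.mk' (fun g => ⟨fun x => f ⟨_, h g x⟩, g⟩) fun a b => RegularWreathProduct.ext
    (funext fun x => ?_) rfl, (injective_iff_map_eq_one _).2 fun g hg => ?_⟩
  · simp only [mul_left, Pi.mul_apply, ← map_mul]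
    exact congrArg f (Subtype.ext (by simp [mul_assoc]))
  · have h1 : (g : G ⧸ N) = 1 := congrArg RegularWreathProduct.right hg
    have h2 := congrArg Subtype.val (hf ((congrFun (congrArg RegularWreathProduct.left hg) 1).trans
      (map_one f).symm))
    simpa [h1, mul_assoc, inv_mul_eq_one] using h2

end

/-- Every finite solvable group is isomorphic to a subgroup of a finite M-group, a group each of whose irreducible characters is induced from a homomorphism of some subgroup into ℂˣ. -/
theorem result {G : Type u} [Group G] [Finite G] (hsolv : Group.IsSolvable G) : ∃ (M : Type u) (_ : Group M) (_ : Fintype M), (∀ χ : M → ℂ, Cfsg.IsIrrCharacter M χ → (∃ (H : Subgroup M) (lam : ↥H →* ℂˣ), χ = Cfsg.indFun H (fun h => (lam h : ℂ)))) ∧ ∃ f : G →* M, Function.Injective f := by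
  classical
  induction hn : Nat.card G using Nat.strong_induction_on generalizing G with
  | _ n ih =>
  have := Fintype.ofFinite G
  rcases subsingleton_or_nontrivial G with h | h
  · exact ⟨G, inferInstance, inferInstance, monomial_of_isNilpotent, MonoidHom.id G, fun _ _ h => h⟩
  have h1 := Group.IsSolvable.commutator_lt_top_of_nontrivial G
  obtain ⟨D, _, _, hD, f, hf⟩ := ih _ (hn ▸ lt_of_le_of_ne (Subgroup.card_le_card_group (commutator G))
    fun h => h1.ne (Subgroup.eq_top_of_card_eq _ h)) (G := commutator G) inferInstance rfl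
  have := Fintype.ofFinite (D ≀ᵣ (G ⧸ commutator G))
  exact ⟨D ≀ᵣ (G ⧸ commutator G), inferInstance, inferInstance,
    wreath (fun a b => mul_comm (G := Abelianization G) a b) hD, embed _ f hf⟩

end Cfsg.Agent.S4573
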