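import Cfsg.Statements.S4724
import Cfsg.Agent.Lib.Lab.Deg
import Cfsg.Agent.Lib.FewSyl.Four
import Cfsg.Agent.Lib.Core.Basic
import Cfsg.Agent.S4758

set_option autoImplicit false
open Cfsg

namespace Cfsg.Agent.S4724

open CfsgLib CfsgLib.Char CfsgLib.DefectOne CfsgLib.DefectOne.B43 CfsgLib.ChDeg CfsgLib.Sz
  CfsgLib.Perm CfsgLib.Lab Subgroup MulAction in
theorem main {G Ω : Type*} [Group G] [Finite G] [Fintype Ω] [MulAction G Ω] [FaithfulSMul G Ω]
    [IsPretransitive G Ω] {p : ℕ} [hp : Fact p.Prime] (hΩ : Nat.card Ω = p) {χ : G → ℂ}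
    (hχ : IsIrrCharacter G χ) (hd : χ 1 = p) (hu : ∀ ψ, IsIrrCharacter G ψ → ψ 1 = p → ψ = χ)
    (P : Sylow p G) (E : Subgroup G) (hPE : (P : Subgroup G) ⊔ E = normalizer ((P : Subgroup G) : Set G))
    (hPE' : (P : Subgroup G) ⊓ E = ⊥) (hNE : Nat.card (normalizer (E : Set G)) = 2 * Nat.card E)
    (hTI : ∀ g : G, ∀ a ∈ E, a ≠ 1 → g * a * g⁻¹ ∈ E → g ∈ normalizer (E : Set G)) :
    (p = 5 ∨ p = 7 ∨ p = 11) ∧ Nonempty (G ≃* Matrix.ProjectiveSpecialLinearGroup (Fin 2) (ZMod p)) := by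
  obtain ⟨x, c, x1, -, x2⟩ := exists_coord_sylow hΩ P
  have hs : Syl p x := ⟨hp.out, x1, fun e => by
    have h1 := P.card_eq_multiplicity
    rw [x2, Nat.card_zpowers, x1] at h1
    have h2 := (hp.out.pow_dvd_iff_le_factorization Nat.card_pos.ne').1 e
    have h3 := Nat.pow_le_pow_right hp.out.pos h2
    have := hp.out.two_le
    nlinarith⟩
  have h := sc_of_perm hs hΩ
  rw [x2] at hPE hPE'
  have hEN : E ≤ NN x := le_sup_right.trans hPE.le
  have hEC : ∀ a ∈ E, a ≠ 1 → a ∉ CC x := fun a ha h1 h2 =>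
    h1 (mem_bot.1 (hPE' ▸ mem_inf.2 ⟨h.cent ▸ h2, ha⟩))
  have hc : Nat.card E = ee x := by
    have h1 := Core.card_sup_mul_card_inf_of_le_normalizer hEN
    rw [sup_comm, hPE, inf_comm, hPE', card_bot, h.card_NN, Nat.card_zpowers, x1] at h1
    exact Nat.eq_of_mul_eq_mul_left hp.out.pos (by linarith)
  have hcomm : ∀ a b : E, a * b = b * a := fun a b => by
    by_contra hne
    refine hEC (a * b * (b * a)⁻¹ : E) (SetLike.coe_mem _) (fun e => hne
      (mul_inv_eq_one.1 (Subtype.ext e))) ((FewSyl.nuHom_eq_one hs (g := inclusion hEN (a * b * (b * a)⁻¹))).1 ?_)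
    simp only [map_mul, map_inv]
    rw [mul_comm (hs.nuHom _), mul_inv_cancel]
  have hi : nIdx E = 2 := by
    have := Core.card_mul_relIndex_of_le (le_normalizer : E ≤ _)
    exact Nat.eq_of_mul_eq_mul_left (Nat.card_pos (α := E)) (by rw [nIdx, this, hNE, mul_comm])
  have hr : ∀ g, χ g⁻¹ = χ g := fun g => congrFun (hu _ (isIrr_inv hχ) (by simpa using hd)) g
  have hO := eq_bot_of_notMem hs hΩ
  have he := Nat.le_of_dvd (by have := hp.out.two_le; omega) (ee_dvd hs)
  have hn : ¬ (zpowers x).Normal := fun hn => by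
    have h1 := deg_sq_le_card hχ
    have h2 := h.card_NN
    rw [deg_eq_of_eq hd] at h1
    rw [NN, normalizer_eq_top, card_top] at h2
    have := hp.out.two_le
    rw [h2, sq] at h1
    have := Nat.le_of_mul_le_mul_left h1 hp.out.pos
    omega
  have hperf : commutator G = ⊤ := by
    by_contra hne
    obtain ⟨g, hg⟩ : ∃ g, g ∉ commutator G := by simpa [eq_top_iff'] using hne
    haveI : NeZero (Monoid.exponent (Abelianization G) : ℂ) := ⟨Nat.cast_ne_zero.2 Monoid.exponent_ne_zero_of_finite⟩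
    obtain ⟨φ, hφ⟩ := CommGroup.exists_apply_ne_one_of_hasEnoughRootsOfUnity (Abelianization G) ℂ
      (a := Abelianization.of g) fun e => hg (Abelianization.ker_of G ▸ e)
    let β := φ.comp Abelianization.of
    have h1 := hu _ (CharDeep.isIrr_linear_mul β hχ) (by simpa using hd)
    have h2 : x ∈ β.ker := by
      by_contra e
      have h3 := hO _ inferInstance e
      have h4 : commutator G ≤ β.ker := Abelianization.commutator_subset_ker β
      rw [h3, le_bot_iff, commutator_eq_bot_iff_center_eq_top] at h4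
      exact hn ⟨fun n hn g => by
        rwa [mem_center_iff.1 (h4 ▸ mem_top n : n ∈ center G) g, mul_inv_cancel_right]⟩
    obtain ⟨n, hn1, s, hs1, rfl⟩ := B43.frattini hs β.ker h2 g
    have h5 : β n ≠ 1 := fun e => hφ (by
      change β (n * s) = 1
      rw [map_mul, e, hs1, one_mul])
    have h6 := val_ne_zero h hχ hd hn1 fun e => h5 (zpowers_le.2 h2 (h.cent ▸ e))
    have h7 : (β n : ℂ) * χ n = χ n := congrFun h1 n
    exact h5 (Units.val_eq_one.1 ((mul_eq_right₀ h6).1 h7))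
  haveI : Nontrivial G := ⟨⟨x, 1, hs.ne_one⟩⟩
  have he1 := ee_ne_one_of_perfect hs hperf
  have he0 := ee_pos x
  rcases Nat.even_or_odd (ee x) with hev | hodd
  · haveI : Fact (Nat.Prime 2) := ⟨Nat.prime_two⟩
    obtain ⟨u, hu2⟩ := exists_prime_orderOf_dvd_card' (G := E) 2 (hc ▸ hev.two_dvd)
    have u1 : (u : G) ≠ 1 := fun e => by
      rw [show u = 1 from Subtype.ext e, orderOf_one] at hu2; omega
    have u2 : (u : G) * u = 1 := by
      rw [← sq, ← hu2, ← coe_pow, pow_orderOf_eq_one, coe_one]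
    have h3 := three_transitive_of_even_normalizer hΩ (fun _ => by
      have := Group.IsSolvable.commutator_lt_top_of_nontrivial G
      exact this.ne hperf) P (by rw [x2, h.card_NN]; exact hev.mul_left p)
    obtain ⟨rfl, h60⟩ := five_of_even h hΩ hperf h3 u2 (hEN u.2) (hEC _ u.2 u1) (by
      rw [← hc, ← hNE]
      exact card_le_of_le fun g hg => hTI g u u.2 u1 (by
        rw [mem_centralizer_singleton_iff.1 hg, mul_inv_cancel_right]; exact u.2)) (by omega)
    haveI := S4758.simple_of_sixty hperf h60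
    obtain ⟨φ⟩ := S0494.result h60
    obtain ⟨ψ⟩ := S0253.result (F := ZMod 5) (ZMod.card 5)
    exact ⟨.inl rfl, ⟨φ.trans ψ.symm⟩⟩
  · obtain ⟨hE, hEr⟩ := selfCent_of_ti hperf (fun e => he1 (by rw [← hc, e, card_bot]))
      (hc ▸ hodd) hcomm hi hTI
    obtain ⟨φ⟩ := psl_of_selfCent h hodd hO hn hE hi hc hEr hχ hd hr fun a ha h1 => by
      obtain ⟨k, hk⟩ := hodd
      have h2 : a ^ (k + 1) * a ^ (k + 1) = a := by
        have h3 : a ^ Nat.card E = 1 := congrArg Subtype.val (pow_card_eq_one' (x := (⟨a, ha⟩ : E)))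
        rw [← pow_add, show k + 1 + (k + 1) = Nat.card E + 1 by omega, pow_succ, h3, one_mul]
      have := val_eq_one h hχ hd hr (v := a ^ (k + 1)) (hEN (pow_mem ha _))
        (by rw [h2]; exact hEC a ha h1)
      rwa [h2] at this
    obtain ⟨a, -⟩ := exists_smul_ne_of_ne_one (Ω := Ω) hs.ne_one
    refine ⟨.inr (galois_index ?_ hs hperf φ (H := stabilizer G a)
      ((index_stabilizer_of_transitive G a).trans hΩ)), ⟨φ⟩⟩
    obtain ⟨t, ht⟩ := ee_dvd hs
    obtain ⟨k, hk⟩ := hodd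
    obtain ⟨c, hc⟩ := hp.out.odd_of_ne_two (by omega)
    rcases t with _ | _ | t
    · omega
    · omega
    · have : 3 * 2 ≤ ee x * (t + 1 + 1) := Nat.mul_le_mul (by omega) (by omega)
      omega

/-- Let G be a transitive permutation group of prime degree p having exactly one irreducible character of degree p. Let P be a Sylow p-subgroup and suppose N_G(P) = P·E for a subgroup E with P ∩ E = 1, such that the normalizer of E has order 2·#E and E meets each of its conjugates by elements outside its normalizer trivially. Then p is 5, 7 or 11 and G is isomorphic to PSL(2, p). -/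
theorem result {α : Type*} [Fintype α] [DecidableEq α] {p : ℕ} [Fact p.Prime] (hα : Fintype.card α = p) (G : Subgroup (Equiv.Perm α)) [MulAction.IsPretransitive G α] (huniq : ∃! χ : Cfsg.IrrCharacter G, Cfsg.charDegree (χ : G → ℂ) = p) (P : Sylow p G) (E : Subgroup G) (hPE : (P : Subgroup G) ⊔ E = Subgroup.normalizer ((P : Subgroup G) : Set G)) (hPE' : (P : Subgroup G) ⊓ E = ⊥) (hNE : Nat.card (Subgroup.normalizer (E : Set G)) = 2 * Nat.card E) (hTI : ∀ g : G, g ∉ Subgroup.normalizer (E : Set G) → E ⊓ E.map (MulAut.conj g).toMonoidHom = ⊥) : (p = 5 ∨ p = 7 ∨ p = 11) ∧ ∃ (F : Type) (_ : Field F) (_ : Fintype F), Fintype.card F = p ∧ Nonempty (G ≃* Matrix.ProjectiveSpecialLinearGroup (Fin 2) F) := by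
  obtain ⟨χ, h1, h2⟩ := huniq
  have hd : ∀ {ψ : G → ℂ}, IsIrrCharacter G ψ → charDegree ψ = p → ψ 1 = p := fun h e => by
    rw [← CfsgLib.ChDeg.deg_cast (CfsgLib.Char.isCharacter_of_isIrr h), e]
  obtain ⟨h3, h4⟩ := main (Nat.card_eq_fintype_card.trans hα) χ.2 (hd χ.2 h1) (fun ψ hψ e =>
    congrArg Subtype.val (h2 ⟨ψ, hψ⟩ (CfsgLib.ChDeg.deg_eq_of_eq e))) P E hPE hPE' hNE
    fun g a ha a1 hg => by
      by_contra hne
      have h5 := Subgroup.mem_bot.1 ((hTI g hne).le (Subgroup.mem_inf.2 ⟨hg, a, ha, rfl⟩))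
      exact a1 (by simpa using h5)
  exact ⟨h3, ZMod p, inferInstance, inferInstance, ZMod.card p, h4⟩

end Cfsg.Agent.S4724
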