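import Cfsg.Statements.S4752
import Cfsg.Agent.Lib.E27.Main

set_option autoImplicit false
open Cfsg

namespace Cfsg.Agent.S4752

/-- Let G be a finite group whose Sylow 3-subgroup P is extraspecial of order 27 and exponent 3, with N_G(P) ≤ C_G(Z(P)), and let M be a maximal ideal of the algebraic integers containing 3, B the principal 3-block of G, k its number of irreducible characters, k₀ the number of those of height zero, l its 3-regular rank (number of irreducible Brauer characters), and e the index of P·C_G(P) in N_G(P) (the order of the inertial quotient). Then e = 1 gives (k, k₀, l) = (11, 9, 1); e = 2 gives (10, 6, 2); e = 4 gives (14, 6, 4); e = 8 gives (16, 6, 5). -/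
theorem result {G : Type*} [Group G] [Finite G] (P : Sylow 3 G) (hE : Cfsg.IsExtraspecial 3 ↥(P : Subgroup G)) (h27 : Nat.card ↥(P : Subgroup G) = 27) (hexp : ∀ x ∈ (P : Subgroup G), x ^ 3 = 1) (hNC : ∀ g ∈ Subgroup.normalizer ((P : Subgroup G) : Set G), ∀ z ∈ (P : Subgroup G), (∀ y ∈ (P : Subgroup G), z * y = y * z) → g * z = z * g) (M : Ideal Cfsg.AlgInt) (hM : Cfsg.IsPModular 3 M) (k k₀ l e : ℕ) (hk : Nat.card ↥(Cfsg.principalBlock M G) = k) (hk₀ : Nat.card {χ : Cfsg.IrrCharacter G // χ ∈ Cfsg.principalBlock M G ∧ Cfsg.blockHeight 3 (Cfsg.principalBlock M G) (χ : G → ℂ) = 0} = k₀) (hl : Cfsg.blockRank 3 (Cfsg.principalBlock M G) = l) (he : ((P : Subgroup G) ⊔ Subgroup.centralizer ((P : Subgroup G) : Set G)).relIndex (Subgroup.normalizer ((P : Subgroup G) : Set G)) = e) : (e = 1 → k = 11 ∧ k₀ = 9 ∧ l = 1) ∧ (e = 2 → k = 10 ∧ k₀ = 6 ∧ l = 2) ∧ (e = 4 → k = 14 ∧ k₀ = 6 ∧ l = 4) ∧ (e = 8 → k = 16 ∧ k₀ = 6 ∧ l = 5) := by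
  obtain ⟨z, hz⟩ := (isCyclic_of_prime_card (p := 3) hE.2).exists_generator
  have hz' : ∀ x ∈ Subgroup.center (P : Subgroup G), (x : G) ∈ Subgroup.zpowers (z : G) :=
    fun x hx => by
      obtain ⟨n, hn⟩ := hz ⟨x, hx⟩
      exact ⟨n, congrArg (fun t : Subgroup.center (P : Subgroup G) => ((t : (P : Subgroup G)) : G)) hn⟩
  have hc : ∀ y ∈ (P : Subgroup G), (z : G) * y = y * z := fun y hy =>
    congrArg Subtype.val (Subgroup.mem_center_iff.1 z.2 ⟨y, hy⟩).symm
  have H : CfsgLib.E27.Hyp P z :=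
    { card := h27, exp := hexp, mem := z.1.2
      ne := fun h => by
        have h1 := orderOf_eq_card_of_forall_mem_zpowers hz
        rw [show z = 1 from Subtype.ext (Subtype.ext h), orderOf_one, hE.2] at h1
        omega
      comm := fun x hx y hy => hz' (⟨x, hx⟩ * ⟨y, hy⟩ * ⟨x, hx⟩⁻¹ * ⟨y, hy⟩⁻¹)
        (hE.1.2.2 ▸ Subgroup.commutator_mem_commutator (Subgroup.mem_top _) (Subgroup.mem_top _))
      cent := fun x hx h => hz' ⟨x, hx⟩ (Subgroup.mem_center_iff.2 fun y =>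
        Subtype.ext (CfsgLib.Blk.mem_Cu.1 (h y.2)).symm)
      norm := fun g hg => CfsgLib.Blk.mem_Cu.2 (hNC g hg _ z.1.2 hc).symm }
  obtain ⟨h1, h2⟩ := H.result hM hk₀ he
  simp only [CfsgLib.WAb.kk, CfsgLib.WAb.ll, hk, hl] at h1 h2
  refine ⟨h1, fun h => ?_, fun h => ?_, fun h => ?_⟩ <;>
  · obtain ⟨r, h3, h4, h5, h6⟩ := h2 (by omega)
    subst h
    omega

end Cfsg.Agent.S4752
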