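import Cfsg.Statements.S4756
import Cfsg.Agent.Lib.ChA.Ito
import Cfsg.Agent.Lib.Char.CommCount
import Cfsg.Agent.Lib.Coprime.Generation
import Cfsg.Agent.Lib.Core.MinNormal

set_option autoImplicit false
open Cfsg

namespace Cfsg.Agent.S4756


open CfsgLib CfsgLib.Char CfsgLib.ChDeg CfsgLib.ChA Subgroup
open scoped commutatorElement Pointwise

theorem isConj_mul {G : Type*} [Group G] [Finite G] {D : Subgroup G} [hD : D.Normal] {g : G}
    (h : ∀ d ∈ D, g * d = d * g → d = 1) : ∀ n ∈ D, IsConj g (n * g) := by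
  let f : D → D := fun d => ⟨d * (g * (d : G)⁻¹ * g⁻¹), mul_mem d.2 (hD.conj_mem _ (inv_mem d.2) g)⟩
  have hf : Function.Injective f := fun a b e => by
    have h1 : (a : G) * (g * (a : G)⁻¹ * g⁻¹) = b * (g * (b : G)⁻¹ * g⁻¹) := congrArg Subtype.val e
    refine Subtype.ext (inv_mul_eq_one.1 (h _ (mul_mem (inv_mem b.2) a.2) ?_)).symm
    calc g * ((b : G)⁻¹ * a) = (b : G)⁻¹ * (b * (g * (b : G)⁻¹ * g⁻¹)) * g * a := by group
      _ = _ := by rw [← h1]; group
  intro n hn
  obtain ⟨d, hd⟩ := Finite.surjective_of_injective hf ⟨n, hn⟩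
  exact isConj_iff.2 ⟨d, by rw [← show (d : G) * (g * (d : G)⁻¹ * g⁻¹) = n from congrArg Subtype.val hd]; group⟩

theorem eq_prime {G : Type*} [Group G] {p q a : ℕ} (hp : p.Prime) (hq : q.Prime) {x : G}
    (h1 : x ≠ 1) (hx : orderOf x = q ^ a) (h : PE p x) : q = p := by
  obtain ⟨k, hk⟩ := h
  have h2 := hx ▸ orderOf_dvd_of_pow_eq_one hk
  rcases a with _ | a
  · exact absurd (orderOf_eq_one_iff.1 hx) h1
  · exact (Nat.prime_dvd_prime_iff_eq hq hp).1 (hq.dvd_of_dvd_pow ((dvd_pow_self q a.succ_ne_zero).trans h2))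

theorem lin {G : Type*} [Group G] [Finite G] {χ : G → ℂ} (hχ : IsIrrCharacter G χ)
    (h : _root_.commutator G ≤ cker χ) (x y : G) : χ (x * y) = χ x * χ y :=
  char_mul_of_one_eq_one (isCharacter_of_isIrr hχ) (one_eq_one_of_commutator_le hχ h) x y

/-- For a finite group G the following are equivalent. (1) χ(x y) = χ(x) χ(y) for every irreducible character χ and all non-identity elements x, y of prime power orders for two different primes. (2) G is a p-group for some prime p, or G is abelian, or for some prime p: G = A P with P a normal Sylow p-subgroup and A a nontrivial cyclic subgroup of order prime to p such that, with C = C_P(A) and D = [A, P], one has P = C D, C abelian, D normal in G, C ∩ D = 1, and A acts fixed-point-freely on D (no non-identity element of A centralizes a non-identity element of D). -/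
theorem result {G : Type*} [Group G] [Finite G] : (∀ (x y : G) (χ : Cfsg.IrrCharacter G), x ≠ 1 → y ≠ 1 → (∃ p q a b : ℕ, p.Prime ∧ q.Prime ∧ p ≠ q ∧ orderOf x = p ^ a ∧ orderOf y = q ^ b) → (χ : G → ℂ) (x * y) = (χ : G → ℂ) x * (χ : G → ℂ) y) ↔ ((∃ p : ℕ, p.Prime ∧ IsPGroup p G) ∨ IsMulCommutative G ∨ ∃ (p : ℕ) (_ : Fact p.Prime) (P : Sylow p G) (A : Subgroup G), (P : Subgroup G).Normal ∧ IsCyclic ↥A ∧ A ≠ ⊥ ∧ (Nat.card ↥A).Coprime p ∧ A ⊔ (P : Subgroup G) = ⊤ ∧ IsMulCommutative ↥((P : Subgroup G) ⊓ Subgroup.centralizer (A : Set G)) ∧ (⁅A, (P : Subgroup G)⁆).Normal ∧ ((P : Subgroup G) ⊓ Subgroup.centralizer (A : Set G)) ⊔ ⁅A, (P : Subgroup G)⁆ = (P : Subgroup G) ∧ ((P : Subgroup G) ⊓ Subgroup.centralizer (A : Set G)) ⊓ ⁅A, (P : Subgroup G)⁆ = ⊥ ∧ ∀ a ∈ A, a ≠ 1 → ∀ d ∈ ⁅A, (P : Subgroup G)⁆, a * d = d * a → d = 1) := by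
  classical
  have := Fintype.ofFinite G
  constructor
  · intro h
    by_cases hc : _root_.commutator G = ⊥
    · exact .inr (.inl ⟨⟨fun a b => commutatorElement_eq_one_iff_mul_comm.1
        (mem_bot.1 (hc ▸ commutator_mem_commutator (mem_top a) (mem_top b)))⟩⟩)
    have h0 : ∀ (x y : G) (χ : G → ℂ), IsIrrCharacter G χ → ¬ _root_.commutator G ≤ cker χ →
        x ≠ 1 → y ≠ 1 → (∃ p q a b : ℕ, p.Prime ∧ q.Prime ∧ p ≠ q ∧ orderOf x = p ^ a ∧
          orderOf y = q ^ b) → χ x * χ y = 0 := by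
      rintro x y χ hχ hn hx hy ⟨p, q, a, b, hp, hq, hpq, h1, h2⟩
      have h3 := sum_irr_conj_mul hχ x y
      rw [Finset.sum_congr rfl (g := fun _ => χ x * χ y) fun g _ => (h _ y ⟨χ, hχ⟩
        (by simpa using hx) hy ⟨p, q, a, b, hp, hq, hpq, by rw [← h1]; exact (MulAut.conj g).orderOf_eq x,
          h2⟩).trans (congrArg (· * χ y) (isClassFunction_of_isIrr hχ _ _)), Finset.sum_const, Finset.card_univ,
        ← Nat.card_eq_fintype_card, nsmul_eq_mul, mul_assoc, mul_div_assoc,
        mul_right_inj' natCard_ne_zero, eq_div_iff (irr_one_ne_zero hχ)] at h3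
      by_contra h4
      exact hn ((deg_eq_one_iff_commutator_le hχ).1 ((deg_eq_one_iff (isCharacter_of_isIrr hχ)).2
        ((mul_eq_left₀ h4).1 h3)))
    obtain ⟨p, hp, hpd⟩ := Nat.exists_prime_and_dvd (card_eq_one.not.2 hc)
    have := Fact.mk hp
    have hD : IsPGroup p (_root_.commutator G) := IsPGroup.of_card
      (Nat.eq_prime_pow_of_unique_prime_dvd Nat.card_pos.ne' fun {q} hq hqd => by
        by_contra hne
        obtain ⟨x, hx, hxo⟩ := Core.exists_mem_orderOf_eq_of_dvd_card hp hpd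
        obtain ⟨y, hy, hyo⟩ := Core.exists_mem_orderOf_eq_of_dvd_card hq hqd
        have h1 : x ≠ 1 := fun e => hp.ne_one (by rw [← hxo, e, orderOf_one])
        have h2 : y ≠ 1 := fun e => hq.ne_one (by rw [← hyo, e, orderOf_one])
        have h3 : ∃ p q a b : ℕ, p.Prime ∧ q.Prime ∧ p ≠ q ∧ orderOf x = p ^ a ∧
          orderOf y = q ^ b := ⟨p, q, 1, 1, hp, hq, Ne.symm hne, by simpa, by simpa⟩
        have h4 := isConj_mul_of_forall_eq_zero (_root_.commutator G) (g := x * y) (fun χ hχ hn =>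
          (h x y ⟨χ, hχ⟩ h1 h2 h3).trans (h0 x y χ hχ hn h1 h2 h3)) (inv_mem (mul_mem hx hy))
        rw [inv_mul_cancel, isConj_one_left, mul_eq_one_iff_eq_inv] at h4
        exact hne (by rw [← hyo, ← hxo, h4, orderOf_inv]))
    by_cases hG : IsPGroup p G
    · exact .inl ⟨p, hp, hG⟩
    obtain ⟨P, hP⟩ := hD.exists_le_sylow
    have hPn : (P : Subgroup G).Normal := Normal.of_commutator_le _ hP
    obtain ⟨A, hA⟩ := exists_right_complement'_of_coprime P.card_coprime_index
    have hAp : (Nat.card A).Coprime p := by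
      rw [← hA.symm.index_eq_card]; exact (hp.coprime_iff_not_dvd.2 P.not_dvd_index).symm
    obtain ⟨k, hk⟩ := P.isPGroup'.exists_card_eq
    have hcop : (Nat.card A).Coprime (Nat.card P) := hk ▸ hAp.pow_right k
    have hA0 : A ≠ ⊥ := by
      rintro rfl
      have h1 := hA.sup_eq_top
      rw [sup_bot_eq] at h1
      exact hG ((h1 ▸ P.isPGroup' : IsPGroup p (⊤ : Subgroup G)).of_equiv topEquiv)
    have hf : ∀ a ∈ A, a ≠ 1 → ∀ d ∈ _root_.commutator G, a * d = d * a → d = 1 := by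
      intro a ha ha1 d hd hc
      obtain ⟨q, hq, hqd⟩ := Nat.exists_prime_and_dvd (orderOf_eq_one_iff.not.2 ha1)
      obtain ⟨y, ⟨i, rfl⟩, hyo⟩ := Core.exists_mem_orderOf_eq_of_dvd_card hq (Nat.card_zpowers a ▸ hqd)
      simp only at hyo
      have hqp : p ≠ q := fun e => hp.coprime_iff_not_dvd.1 hAp.symm
        (e ▸ hqd.trans (A.orderOf_dvd_natCard ha))
      have h1 := isConj_mul_of_forall_eq_zero (_root_.commutator G) (g := a ^ i) (fun χ hχ hn => by
        by_contra h1
        refine hn (hP.trans (le_cker_of_inner_res_one_ne_zero hχ _ ?_))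
        rw [classInner_one_right, Finset.sum_eq_single 1 _ (by simp)]
        · exact mul_ne_zero (inv_ne_zero natCard_ne_zero) (irr_one_ne_zero hχ)
        · intro x _ hx
          obtain ⟨c, hc⟩ := IsPGroup.iff_orderOf.1 P.isPGroup' x
          exact (mul_eq_zero.1 (h0 x _ χ hχ hn (fun e => hx (Subtype.ext e))
            (fun e => hq.ne_one (by rw [← hyo, e, orderOf_one]))
            ⟨p, q, c, 1, hp, hq, hqp, by rw [orderOf_coe, hc], by simpa⟩)).resolve_right h1) hd
      obtain ⟨u, hu⟩ := isConj_iff.1 h1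
      have h2 : (a ^ i) ^ q = 1 := hyo ▸ pow_orderOf_eq_one _
      have h3 := congrArg (· ^ q) hu
      simp only [conj_pow, h2, ((Commute.zpow_left hc i).symm.mul_pow q), mul_one, mul_inv_cancel] at h3
      exact (PE.of_mem hD hd).eq_one (mt (Nat.prime_dvd_prime_iff_eq hp hq).1 hqp) h3.symm
    have hAc : IsMulCommutative A := ⟨⟨fun a b => Subtype.ext (commutatorElement_eq_one_iff_mul_comm.1
      (mem_bot.1 (hA.disjoint.le_bot ⟨hP (commutator_mem_commutator (mem_top _) (mem_top _)),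
        (⁅a, b⁆).2⟩)))⟩⟩
    have hle : ⁅A, (P : Subgroup G)⁆ ≤ _root_.commutator G := commutator_mono le_top le_top
    obtain ⟨⟨a, ha⟩, ha1⟩ := ne_bot_iff_exists_ne_one.1 hA0
    replace ha1 : a ≠ 1 := fun e => ha1 (Subtype.ext e)
    refine .inr (.inr ⟨p, this, P, A, hPn, ?_, hA0, hAp, hA.symm.sup_eq_top, ⟨⟨fun x y => ?_⟩⟩, ?_, ?_,
      eq_bot_iff.2 fun x hx => hf a ha ha1 x (hle hx.2) (hx.1.2 a ha),
      fun a ha h1 d hd => hf a ha h1 d (hle hd)⟩)
    · by_contra hn
      obtain ⟨b, hb, hb1, h1⟩ := Coprime.exists_centralizer_ne_bot hn le_normalizer_of_normal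
        (Coprime.coprime_of_le hcop le_rfl hP) hc
      exact h1 (eq_bot_iff.2 fun d hd => hf b hb hb1 d hd.1 (mem_centralizer_singleton_iff.1 hd.2).symm)
    · exact Subtype.ext (commutatorElement_eq_one_iff_mul_comm.1 (hf a ha ha1 _
        (commutator_mem_commutator (mem_top _) (mem_top _)) ((⁅x, y⁆).2.2 a ha)))
    · exact normalizer_eq_top_iff.1 (top_le_iff.1 (hA.sup_eq_top ▸ sup_le
        (normalizer_commutator_ge_right _ _) (normalizer_commutator_ge_left _ _)))
    · rw [sup_comm, commutator_comm]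
      exact Coprime.commutator_sup_centralizer le_normalizer_of_normal hcop
        (.inr (Coprime.isSolvable_of_isPGroup P.isPGroup'))
  · rintro (⟨r, hr, hG⟩ | hG | ⟨r, hr, P, A, hP, hA, -, hAp, ht, hC, hD, hCD, -, hf⟩) x y χ hx hy
      ⟨p, q, a, b, hp, hq, hpq, h1, h2⟩
    · exact absurd ((eq_prime hr hp hx h1 (hG x)).trans (eq_prime hr hq hy h2 (hG y)).symm) hpq
    · exact char_mul_of_one_eq_one (irr_isCharacter χ) (irr_one_eq_one_of_comm χ.2) x y
    set D := ⁅A, (P : Subgroup G)⁆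
    by_cases hk : D ≤ cker (χ : G → ℂ)
    · refine lin χ.2 (le_trans ?_ hk) x y
      refine Normal.commutator_le_of_self_sup_commutative_eq_top (H := A ⊔ (P ⊓ centralizer A)) ?_
        (Core.isMulCommutative_sup (le_centralizer_iff.1 inf_le_right))
      rw [sup_comm, sup_assoc, hCD, ht]
    have key : ∀ g : G, ¬ PE r g → (χ : G → ℂ) g = 0 := fun g hg => by
      refine eq_zero_of_forall_isConj χ.2 D hk (isConj_mul fun d hd hc => ?_)
      obtain ⟨i, j, e, h3, m, hm, h4⟩ := exists_split (p := r) g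
      obtain ⟨k, hk⟩ := P.isPGroup'.exists_card_eq
      obtain ⟨u, -, h5⟩ := Coprime.exists_conj_smul_le_of_le_sup (K := P) (A := zpowers (g ^ j))
        (S := A) le_normalizer_of_normal (by rw [sup_comm, ht]; exact le_top) (by
          rw [hk, Nat.card_zpowers]
          exact ((hr.out.coprime_iff_not_dvd.2 hm).symm.coprime_dvd_left
            (orderOf_dvd_of_pow_eq_one h4)).pow_right k) (.inl (Coprime.isSolvable_zpowers _))
      have h6 := hf _ (Coprime.conj_smul_le_iff.1 h5 _ (mem_zpowers _)) (fun e' => hg (by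
        rw [e, conj_eq_one_iff.1 e', mul_one]; exact h3)) _ (hD.conj_mem d hd u) (by
          rw [conj_mul, conj_mul, (Commute.pow_left hc j).eq])
      exact conj_eq_one_iff.1 h6
    have h3 : ¬ PE r (x * y) := fun h3 => by
      have h4 := (QuotientGroup.eq_one_iff _).2 (((ns_iff P).2 hP).mem P h3)
      rw [QuotientGroup.mk_mul, mul_eq_one_iff_eq_inv] at h4
      have h5 : orderOf (x : G ⧸ (P : Subgroup G)) = 1 := Nat.eq_one_of_dvd_coprimes
        (((Nat.coprime_primes hp hq).2 hpq).pow a b)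
        (h1 ▸ orderOf_map_dvd (QuotientGroup.mk' (P : Subgroup G)) x)
        (by rw [h4, orderOf_inv, ← h2]; exact orderOf_map_dvd (QuotientGroup.mk' (P : Subgroup G)) y)
      rw [orderOf_eq_one_iff] at h5
      rw [h5, eq_comm, inv_eq_one] at h4
      exact hpq ((eq_prime hr.out hp hx h1 (PE.of_mem P.isPGroup'
        ((QuotientGroup.eq_one_iff _).1 h5))).trans (eq_prime hr.out hq hy h2
          (PE.of_mem P.isPGroup' ((QuotientGroup.eq_one_iff _).1 h4))).symm)
    rw [key _ h3]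
    by_cases h4 : PE r x
    · rw [key y fun h5 => hpq ((eq_prime hr.out hp hx h1 h4).trans
        (eq_prime hr.out hq hy h2 h5).symm), mul_zero]
    · rw [key x h4, zero_mul]

end Cfsg.Agent.S4756
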