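import Cfsg.Statements.S4759
import Cfsg.Agent.Lib.ChA.XSFin
import Cfsg.Agent.Lib.FullRam.Basic
import Cfsg.Agent.Lib.Coprime.Generation
import Cfsg.Agent.Lib.FT.OddOrder
import Cfsg.Agent.Lib.Core.MinNormal

set_option autoImplicit false
open Cfsg

namespace Cfsg.Agent.S4759


open CfsgLib CfsgLib.Char CfsgLib.ChDeg CfsgLib.CharDeep CfsgLib.ChA Subgroup
open scoped commutatorElement Pointwise

universe u

def Ext {G : Type u} [Group G] (E H : Subgroup G) (z : G) : Prop :=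
  ∃ χ : G → ℂ, (IsCharacter ↥(E ⊔ H) fun x => χ x) ∧ Gd (Nat.card E) z χ

def IH (n : ℕ) : Prop := ∀ (G : Type u) [Group G] [Finite G] (E H K : Subgroup G) (z : G),
  Cf E H K z → Nat.card E * Nat.card H < n → Ext E H z

section
variable {G : Type u} [Group G] {E H K : Subgroup G} {z : G}

theorem cf_mono (h : Cf E H K z) {E₁ E₂ H' : Subgroup G} (h1 : E₁ ⊔ E₂ = E) (hz : z ∈ E₁)
    (hc : ∀ a ∈ E₁, ∀ b ∈ E₂, a * b = b * a) (hH : H' ≤ H) (hK : K ≤ H')
    (hn : H' ≤ normalizer E₁) : Cf E₁ H' K z := by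
  have hE : E₁ ≤ E := h1 ▸ le_sup_left
  refine ⟨h.pE.to_le hE, hz, h.z2, fun a ha => h.zc a (hE ha), fun a ha => h.zH a (hH ha), hn,
    fun a ha b hb => h.cm a (hE ha) b (hE hb), fun e he hc' => h.ce e (hE he) fun a ha => ?_,
    le_bot_iff.1 (h.dj ▸ inf_le_inf hE hH), hK, hH.trans h.nK, h.odd, fun e he => h.cK e (hE he)⟩
  exact mem_centralizer_singleton_iff.1 ((sup_le
    (fun a ha => mem_centralizer_singleton_iff.2 (hc' a ha)) fun b hb =>
      mem_centralizer_singleton_iff.2 (hc e he b hb).symm : E₁ ⊔ E₂ ≤ _) (h1 ▸ ha))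

variable [Finite G]

theorem prod (h : Cf E H K z) {E₁ E₂ H' : Subgroup G} (h1 : E₁ ⊔ E₂ = E) (hz₁ : z ∈ E₁)
    (hz₂ : z ∈ E₂) (hc : ∀ a ∈ E₁, ∀ b ∈ E₂, a * b = b * a) (hH : H' ≤ H) (hK : K ≤ H')
    (hn₁ : H' ≤ normalizer E₁) (hn₂ : H' ≤ normalizer E₂) {χ₁ χ₂ : G → ℂ}
    (hχ₁ : IsCharacter ↥(E₁ ⊔ H') fun x => χ₁ x) (hχ₂ : IsCharacter ↥(E₂ ⊔ H') fun x => χ₂ x)
    (hg₁ : Gd (Nat.card E₁) z χ₁) (hg₂ : Gd (Nat.card E₂) z χ₂) :
    ∃ ψ : G → ℂ, (IsCharacter ↥(E ⊔ H') fun x => ψ x) ∧ Gd (Nat.card E) z ψ ∧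
      ∀ a ∈ E₁, ∀ b ∈ E₂, ∀ h ∈ H', ψ (a * b * h) = χ₁ (a * h) * χ₂ (b * h) := by
  have c₁ := cf_mono h h1 hz₁ hc hH hK hn₁
  have hZ : E₁ ⊓ E₂ = zpowers z := le_antisymm
    (fun a ha => c₁.ce a ha.1 fun b hb => hc b hb a ha.2) (zpowers_le.2 ⟨hz₁, hz₂⟩)
  obtain ⟨ψ, hψ, hf⟩ := exists_prod_char hn₁ hn₂ hc (le_bot_iff.1 (h.dj ▸ inf_le_inf h1.le hH))
    hχ₁ hχ₂ fun a ha hb => by
      rcases (mem_zpowers_two h.z2).1 (hZ.le (mem_inf.2 ⟨ha, inv_mem_iff.1 hb⟩)) with rfl | rfl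
      · rw [inv_one]
      · rw [inv_eq_of_mul_eq_one_left (by rw [← pow_two, ← h.z2, pow_orderOf_eq_one]), hg₁.1, hg₂.1,
          neg_mul_neg]
  have h2 := hf 1 (one_mem _) 1 (one_mem _) 1 (one_mem _)
  have h3 := hf z hz₁ 1 (one_mem _) 1 (one_mem _)
  simp only [mul_one] at h2 h3
  have h4 := Coprime.card_sup_mul_card_inf (K := E₁) (A := E₂) (le_normalizer_iff.2 fun b hb a ha =>
    by rwa [← hc a ha b hb, mul_inv_cancel_right])
  rw [h1, hZ, Nat.card_zpowers, h.z2] at h4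
  have h5 : (Nat.card E : ℂ) * 2 = Nat.card E₁ * Nat.card E₂ := by exact_mod_cast h4
  refine ⟨ψ, h1 ▸ hψ, ⟨by rw [h2, h3, hg₁.1, neg_mul], ?_⟩, hf⟩
  rw [← hg₁.2, ← hg₂.2] at h5
  rw [h2]
  linear_combination -h5 / 2

omit [Finite G] in
theorem top_of {χ : G → ℂ} {L : Subgroup G} (hL : L = ⊤) (h : IsCharacter L fun x => χ x) :
    IsCharacter G χ := by
  subst hL
  exact isCharacter_comp (topEquiv (G := G)).symm.toMonoidHom h

theorem prodCase (h : Cf E H K z) (ht : E ⊔ H = ⊤) (ih : IH.{u} (Nat.card E * Nat.card H))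
    {E₁ E₂ : Subgroup G} (h1 : E₁ ⊔ E₂ = E) (hz₁ : z ∈ E₁) (hz₂ : z ∈ E₂)
    (hc : ∀ a ∈ E₁, ∀ b ∈ E₂, a * b = b * a) (hn₁ : H ≤ normalizer E₁) (hn₂ : H ≤ normalizer E₂)
    (hp₁ : ¬ E₁ ≤ zpowers z) (hp₂ : ¬ E₂ ≤ zpowers z) :
    ∃ χ, IsCharacter G χ ∧ Gd (Nat.card E) z χ := by
  have key : ∀ {E₁ E₂ : Subgroup G}, E₁ ⊔ E₂ = E → z ∈ E₁ → (∀ a ∈ E₁, ∀ b ∈ E₂, a * b = b * a) →
      H ≤ normalizer E₁ → ¬ E₂ ≤ zpowers z → Ext E₁ H z := fun {E₁ E₂} h1 hz hc hn hp =>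
    ih G _ _ _ _ (cf_mono h h1 hz hc le_rfl h.KH hn) (Nat.mul_lt_mul_of_pos_right
      (Core.card_lt_of_lt (lt_of_le_of_ne (h1 ▸ le_sup_left) fun e => hp fun b hb =>
        h.ce b (h1.le (mem_sup_right hb)) fun a ha => hc a (e ▸ ha) b hb)) Nat.card_pos)
  obtain ⟨χ₁, a1, b1⟩ := key h1 hz₁ hc hn₁ hp₂
  obtain ⟨χ₂, a2, b2⟩ := key (sup_comm E₁ E₂ ▸ h1) hz₂ (fun a ha b hb => (hc b hb a ha).symm) hn₂ hp₁
  obtain ⟨ψ, hψ, hg, -⟩ := prod h h1 hz₁ hz₂ hc le_rfl h.KH hn₁ hn₂ a1 a2 b1 b2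
  exact ⟨ψ, top_of ht hψ, hg⟩

theorem swapCase (h : Cf E H K z) (ht : E ⊔ H = ⊤) (ih : IH.{u} (Nat.card E * Nat.card H))
    {E₁ E₂ M : Subgroup G} (hM : M.index = 2) (hEM : E ≤ M) (hKM : K ≤ M) (h1 : E₁ ⊔ E₂ = E)
    (hz₁ : z ∈ E₁) (hz₂ : z ∈ E₂) (hc : ∀ a ∈ E₁, ∀ b ∈ E₂, a * b = b * a)
    (hn₁ : M ⊓ H ≤ normalizer E₁) (hn₂ : M ⊓ H ≤ normalizer E₂)
    (hs₁ : ∀ s ∈ H, s ∉ M → ∀ a ∈ E₁, s * a * s⁻¹ ∈ E₂)
    (hs₂ : ∀ s ∈ H, s ∉ M → ∀ a ∈ E₂, s * a * s⁻¹ ∈ E₁) :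
    ∃ χ, IsCharacter G χ ∧ Gd (Nat.card E) z χ := by
  have hMn := normal_of_index_eq_two hM
  obtain ⟨s, hs, hsM⟩ : ∃ s ∈ H, s ∉ M := by
    by_contra! hh
    rw [top_le_iff.1 (ht ▸ sup_le hEM hh : ⊤ ≤ M), index_top] at hM
    omega
  have hK : K ≤ M ⊓ H := le_inf hKM h.KH
  obtain ⟨χ, hχ, hg⟩ := ih G _ _ _ _ (cf_mono h h1 hz₁ hc inf_le_right hK hn₁)
    (Nat.mul_lt_mul_of_le_of_lt (card_le_of_le (h1 ▸ le_sup_left)) (Core.card_lt_of_lt
      (lt_of_le_of_ne inf_le_right fun e => hsM (e.ge hs).1)) Nat.card_pos)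
  have hH₀ : ∀ x ∈ M ⊓ H, s * x * s⁻¹ ∈ M ⊓ H := fun x hx =>
    mem_inf.2 ⟨hMn.conj_mem x hx.1 s, mul_mem (mul_mem hs hx.2) (inv_mem hs)⟩
  let f : ↥(E₂ ⊔ M ⊓ H) →* ↥(E₁ ⊔ M ⊓ H) :=
    ((MulAut.conj s).toMonoidHom.comp (Subgroup.subtype _)).codRestrict _ fun x =>
      (sup_le (fun a ha => mem_sup_left (hs₂ s hs hsM a ha)) fun a ha => mem_sup_right (hH₀ a ha) :
        E₂ ⊔ M ⊓ H ≤ (E₁ ⊔ M ⊓ H).comap (MulAut.conj s).toMonoidHom) x.2
  have hcard : Nat.card E₁ = Nat.card E₂ := le_antisymm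
    (Coprime.card_conj_smul s E₁ ▸ card_le_of_le (Coprime.conj_smul_le_iff.2 (hs₁ s hs hsM)))
    (Coprime.card_conj_smul s E₂ ▸ card_le_of_le (Coprime.conj_smul_le_iff.2 (hs₂ s hs hsM)))
  obtain ⟨ψ, hψ, hg', hf⟩ := prod h h1 hz₁ hz₂ hc inf_le_right hK hn₁ hn₂
    (χ₂ := fun y => χ (s * y * s⁻¹)) hχ (isCharacter_comp f hχ) hg (by
      simpa only [Gd, h.zH s hs, mul_inv_cancel_right, mul_one, mul_inv_cancel, ← hcard] using hg)
  have hM' : E ⊔ M ⊓ H = M := by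
    rw [inf_comm, ← Core.sup_inf_assoc_of_le_normalizer' hEM h.nm, ht, top_inf_eq]
  have : IsCyclic (G ⧸ M) := isCyclic_of_prime_card (p := 2) hM
  rw [hM'] at hψ
  refine h.ext_cyc M hEM hψ hg' ((inv_cj_iff M fun x : M => ψ x).2 (top_le_iff.1 fun g _ => ?_))
  have hMI := le_inertia M (isClassFunction_of_isCharacter hψ)
  have hsI : s ∈ inertia M fun x : M => ψ x := (mem_inertia' M).2 fun ⟨n, hn⟩ => by
    obtain ⟨e, he, x, hx, rfl⟩ := (Core.mem_sup_of_le_normalizer_left (inf_le_right.trans h.nm)).1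
      (hM'.ge hn)
    obtain ⟨a, ha, b, hb, rfl⟩ := (Core.mem_sup_of_le_normalizer_left (le_normalizer_iff.2
      fun b hb a ha => by rwa [← hc a ha b hb, mul_inv_cancel_right])).1 (h1.ge he)
    have h2 := hf _ (hs₂ s hs hsM b hb) _ (hs₁ s hs hsM a ha) _ (hH₀ x hx)
    have h3 := isClassFunction_of_isCharacter hχ ⟨a * x, mul_mem_sup ha hx⟩ ⟨s * s, mem_sup_right
      (mem_inf.2 ⟨(mul_mem_iff_of_index_two hM).2 Iff.rfl, mul_mem hs hs⟩)⟩
    change ψ (s * (a * b * x) * s⁻¹) = ψ (a * b * x)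
    rw [hf a ha b hb x hx, hc a ha b hb, mul_comm (χ _)]
    refine (congrArg ψ (by group)).trans (h2.trans ?_)
    congr 1
    · exact congrArg χ (by group)
    · exact (congrArg χ (by simp only [coe_mul, coe_inv]; group)).trans h3
  by_cases hg : g ∈ M
  · exact hMI hg
  · rw [← inv_mul_cancel_right g s]
    exact mul_mem (hMI ((mul_mem_iff_of_index_two hM).2 (by simp [hg, hsM]))) hsI

theorem sylowCase (h : Cf E H K z) (ht : E ⊔ H = ⊤) (ih : IH.{u} (Nat.card E * Nat.card H)) :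
    (∃ a, (E ⊔ K).index = 2 ^ a) ∨ ∃ χ, IsCharacter G χ ∧ Gd (Nat.card E) z χ := by
  have hE := h.nE ht
  have hN := h.normal ht h.nK
  obtain ⟨S⟩ : Nonempty (Sylow 2 H) := inferInstance
  set S' := (S : Subgroup H).map H.subtype
  have hS : S' ≤ H := map_subtype_le _
  by_cases hKS : K ⊔ S' = H
  · obtain ⟨b, hb⟩ := (S.isPGroup'.map H.subtype).exists_card_eq
    obtain ⟨a, -, ha⟩ := (Nat.dvd_prime_pow Nat.prime_two).1 (hb ▸
      Coprime.relIndex_dvd_of_le_sup (K := E ⊔ K) (A := S') (L := ⊤) le_normalizer_of_normal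
        (by rw [sup_assoc, hKS, ht]))
    exact .inl ⟨a, relIndex_top_right (E ⊔ K) ▸ ha⟩
  right
  have hle : K ⊔ S' ≤ H := sup_le h.KH hS
  obtain ⟨θ, hθ, hg⟩ := h.xs.exists_gd
  have hθc := isCharacter_of_isIrr hθ
  have key : ∀ (L : Subgroup G) (hL : E ≤ L) (η : L → ℂ), IsCharacter L η →
      Gd (Nat.card E) ⟨z, hL h.zE⟩ η → ∀ n : E, η ⟨n, hL n.2⟩ = θ n := fun L hL η hη hg' =>
    congrFun (h.xs.uniq (isCharacter_comp (inclusion hL) hη) hθc hg' hg)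
  obtain ⟨χ, hχ, hr⟩ := exists_irr_extension_of_forall_prime E hθ (fun g => congrFun (h.xs.uniq
    (isCharacter_conjChar E g hθc) hθc (h.gd_cj ht E le_rfl hg g) hg)) fun p hp _ => by
    by_cases h2 : p = 2
    · obtain ⟨η, hη, hg'⟩ := ih G _ _ _ _ (cf_mono h (sup_bot_eq E) h.zE (by simp) hle le_sup_left
        (hle.trans h.nm)) (Nat.mul_lt_mul_of_pos_left (Core.card_lt_of_lt (hle.lt_of_ne hKS))
          Nat.card_pos)
      refine ⟨_, le_sup_left, _, fun hd => S.not_dvd_index ?_, hη, key _ _ _ hη hg'⟩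
      rw [h2, ← FullRam.relIndex_eq_index (R := H) fun g => by
        obtain ⟨e, he, x, hx, rfl⟩ := mem_sup_of_normal_left.1 (ht ▸ mem_top g : g ∈ E ⊔ H)
        exact ⟨x, hx, by simpa using mem_sup_left he⟩] at hd
      exact hd.trans (index_dvd_of_le fun x hx => mem_sup_right (mem_sup_right ⟨x, hx, rfl⟩))
    · have := Fact.mk hp
      obtain ⟨R⟩ : Nonempty (Sylow p G) := inferInstance
      obtain ⟨b, hb⟩ := R.isPGroup'.exists_card_eq
      obtain ⟨η, hη, hg', -⟩ := h.canon ht (L := E ⊔ R) le_sup_left (Odd.of_dvd_nat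
        (hb ▸ (hp.odd_of_ne_two h2).pow) (Coprime.relIndex_dvd_of_le_sup le_normalizer_of_normal le_rfl))
      exact ⟨_, le_sup_left, η, fun hd => R.not_dvd_index (hd.trans (index_dvd_of_le le_sup_right)),
        isCharacter_of_isIrr hη, key _ _ _ (isCharacter_of_isIrr hη) hg'⟩
  have h1 : χ 1 = θ 1 := hr 1
  exact ⟨χ, isCharacter_of_isIrr hχ, (hr ⟨z, _⟩).trans (h1 ▸ hg.1), h1 ▸ hg.2⟩

theorem elemCase (h : Cf E H K z) (ht : E ⊔ H = ⊤) (ih : IH.{u} (Nat.card E * Nat.card H))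
    (hE : ¬ E ≤ zpowers z) {r : ℕ} (hr : r.Prime) (hK : IsElementaryAbelian r K) (hK0 : K ≠ ⊥)
    (hmin : ∀ M : Subgroup G, H ≤ normalizer (M : Set G) → M ≤ K → M = ⊥ ∨ M = K) :
    ∃ χ, IsCharacter G χ ∧ Gd (Nat.card E) z χ := by
  refine (sylowCase h ht ih).elim (fun ⟨a, ha⟩ => ?_) id
  have := hK.1
  have hN := h.normal ht h.nK
  let Y : Set (Subgroup G) := {B | B ≤ K ∧ B.relIndex K = r}
  let D : Set (Subgroup G) → Subgroup G := fun T => zpowers z ⊔ ⨆ B ∈ T, E ⊓ centralizer (B : Set G)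
  have hz : ∀ T, z ∈ D T := fun T => mem_sup_left (mem_zpowers z)
  have hD : ∀ {T} {B : Subgroup G}, B ∈ T → E ⊓ centralizer (B : Set G) ≤ D T := fun {T B} hB =>
    (le_iSup₂_of_le (f := fun B (_ : B ∈ T) => E ⊓ centralizer (B : Set G)) B hB le_rfl).trans
      le_sup_right
  have hD' : ∀ {T : Set (Subgroup G)} {X}, z ∈ X → (∀ B : Subgroup G, B ∈ T → E ⊓ centralizer (B : Set G) ≤ X) → D T ≤ X :=
    fun h1 h2 => sup_le (zpowers_le.2 h1) (iSup₂_le h2)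
  have hDE : ∀ T, D T ≤ E := fun T => hD' h.zE fun _ _ => inf_le_left
  have hgen : ∀ X, (∀ B ∈ Y, E ⊓ centralizer (B : Set G) ≤ X) → E ≤ X := fun X hX =>
    Coprime.le_of_forall_hyperplane hr hK.2 hK0 (h.KH.trans h.nm) (h.cop le_rfl le_rfl)
      fun B h1 h2 => hX B ⟨h1, h2⟩
  have hcom : ∀ B ∈ Y, ∀ B' ∈ Y, B ≠ B' → ∀ c ∈ E ⊓ centralizer (B : Set G),
      E ⊓ centralizer (B' : Set G) ≤ centralizer {c} := by
    intro B hB B' hB' hne c hc
    have h1 : K ≤ B ⊔ B' := by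
      have h2 := relIndex_mul_relIndex B (B ⊔ B') K le_sup_left (sup_le hB.1 hB'.1)
      rw [hB.2] at h2
      rcases (Nat.Prime.eq_one_or_self_of_dvd hr _ (Dvd.intro _ h2)) with e | e
      · have h3 : B' ≤ B := le_sup_right.trans (relIndex_eq_one.1 e)
        have h4 := relIndex_mul_relIndex B' B K h3 hB.1
        rw [hB.2, hB'.2, mul_eq_right₀ hr.ne_zero] at h4
        exact absurd (le_antisymm (relIndex_eq_one.1 h4) h3) hne
      · rw [e, mul_eq_left₀ hr.ne_zero] at h2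
        exact relIndex_eq_one.1 h2
    have h2 : B ≤ normalizer (E ⊓ centralizer (B' : Set G) : Subgroup G) :=
      (le_inf (hB.1.trans (h.KH.trans h.nm)) (le_trans (le_normalizer_iff.2 fun x hx y hy => by
        rwa [show x * y = y * x from congrArg Subtype.val (mul_comm' (⟨x, hB.1 hx⟩ : K)
          ⟨y, hB'.1 hy⟩), mul_inv_cancel_right]) (Core.normalizer_le_normalizer_centralizer _))).trans
        inf_normalizer_le_normalizer_inf
    rw [← Coprime.commutator_sup_centralizer h2 (h.cop hB.1 inf_le_left) (.inr (h.solv inf_le_left))]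
    refine sup_le (h.comm inf_le_left (hB.1.trans h.KH) hc.1 hc.2) fun y hy => ?_
    refine (zpowers_le.2 (mem_centralizer_singleton_iff.2 (h.zc c hc.1).symm) : _ ≤ _)
      (h.cK y hy.1.1 fun k hk => mem_centralizer_singleton_iff.1 ((sup_le
        (fun b hb => mem_centralizer_singleton_iff.2 (hy.2 b hb))
        fun b hb => mem_centralizer_singleton_iff.2 (hy.1.2 b hb) : B ⊔ B' ≤ _) (h1 hk)))
  have hcomD : ∀ {T T'}, T ⊆ Y → T' ⊆ Y → (∀ B ∈ T, B ∉ T') → ∀ a ∈ D T, ∀ b ∈ D T',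
      a * b = b * a := fun {T T'} h1 h2 h3 a ha b hb => mem_centralizer_singleton_iff.1
    (hD' (mem_centralizer_singleton_iff.2 (h.zc b (hDE _ hb)).symm) (fun B hB c hc =>
      mem_centralizer_singleton_iff.2 (mem_centralizer_singleton_iff.1
        (hD' (mem_centralizer_singleton_iff.2 (h.zc c hc.1).symm) (fun B' hB' =>
          hcom B (h1 hB) B' (h2 hB') (fun e => h3 B hB (e ▸ hB')) c hc) hb)).symm) ha)
  have hconj : ∀ g ∈ H, ∀ {T T'}, (∀ B ∈ T, MulAut.conj g • B ∈ T') → ∀ x ∈ D T,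
      g * x * g⁻¹ ∈ D T' := fun g hg {T T'} h1 =>
    hD' (X := (D T').comap (MulAut.conj g).toMonoidHom) (by
      change g * z * g⁻¹ ∈ D T'
      rw [h.zH g hg, mul_inv_cancel_right]; exact hz _) fun B hB x hx => hD (h1 B hB)
        (mem_inf.2 ⟨le_normalizer_iff.1 h.nm g hg x hx.1, fun y hy => by
          have := hx.2 _ (Coprime.mem_conj_smul_iff.1 hy)
          change y * (g * x * g⁻¹) = g * x * g⁻¹ * y
          calc _ = g * (g⁻¹ * y * g * x) * g⁻¹ := by group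
            _ = _ := by rw [this]; group⟩)
  have hcc : ∀ (g g' : G) (B : Subgroup G),
      MulAut.conj g • MulAut.conj g' • B = MulAut.conj (g * g') • B := fun g g' B => by
    rw [map_mul, mul_smul]
  have hY : ∀ g ∈ H, ∀ B ∈ Y, MulAut.conj g • B ∈ Y := fun g hg B hB => by
    have h1 := Coprime.mem_normalizer_iff_conj_smul_eq.1 (h.nK hg)
    refine ⟨h1 ▸ pointwise_smul_le_pointwise_smul_iff.2 hB.1, ?_⟩
    rw [← hB.2]
    conv_lhs => rw [← h1]
    exact relIndex_pointwise_smul _ _ _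
  obtain ⟨A, hA, hA'⟩ : ∃ A ∈ Y, ¬ E ⊓ centralizer (A : Set G) ≤ zpowers z := by
    by_contra! hh
    exact hE (hgen _ hh)
  let O : Set G → Set (Subgroup G) := fun S => {B | ∃ g ∈ S, B = MulAut.conj g • A}
  have hO : ∀ S : Set G, S ⊆ H → O S ⊆ Y := by
    rintro S hS _ ⟨g, hg, rfl⟩; exact hY g (hS hg) A hA
  have hOc : ∀ (g : G) {S S' : Set G}, (∀ x ∈ S, g * x ∈ S') → ∀ B ∈ O S,
      MulAut.conj g • B ∈ O S' := by
    rintro g S S' h1 _ ⟨x, hx, rfl⟩; exact ⟨_, h1 x hx, hcc _ _ _⟩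
  by_cases h1 : ¬ D (Y \ O H) ≤ zpowers z
  · refine prodCase h ht ih (E₁ := D (O H)) (le_antisymm (sup_le (hDE _) (hDE _))
      (hgen _ fun B hB => ?_)) (hz _) (hz _) (hcomD (hO _ le_rfl) Set.sdiff_subset
        fun B hB hB' => hB'.2 hB)
      (le_normalizer_iff.2 fun g hg => hconj g hg (hOc g fun x => mul_mem hg))
      (le_normalizer_iff.2 fun g hg => hconj g hg fun B hB => ⟨hY g hg B hB.1, fun hh => hB.2 ?_⟩)
      (fun hh => hA' ((hD (T := O H) ⟨1, one_mem H, by simp⟩).trans hh)) h1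
    · by_cases hh : B ∈ O H
      · exact (hD hh).trans le_sup_left
      · exact (hD (T := Y \ O H) ⟨hB, hh⟩).trans le_sup_right
    · simpa [hcc] using hOc g⁻¹ (fun x => mul_mem (inv_mem hg)) _ hh
  push Not at h1
  by_cases h2 : H ≤ normalizer (A : Set G)
  · have h3 := hA.2
    rcases hmin A h2 hA.1 with rfl | rfl
    · exact h.fin ht (by rwa [← relIndex_bot_left, h3]) ha
    · exact absurd (h3.symm.trans (relIndex_self _)) hr.ne_one
  have h3 : E ⊔ K ≤ E ⊔ (H ⊓ normalizer (A : Set G)) := sup_le_sup_left (le_inf h.KH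
    (le_normalizer_iff.2 fun x hx y hy => by
      rwa [show x * y = y * x from congrArg Subtype.val (mul_comm' (⟨x, hx⟩ : K) ⟨y, hA.1 hy⟩),
        mul_inv_cancel_right])) E
  obtain ⟨M', hM', hM''⟩ := PGroup.exists_isCoatom_ge
    (H := (E ⊔ (H ⊓ normalizer (A : Set G))).map (QuotientGroup.mk' (E ⊔ K))) fun e => h2 (by
      have h4 := congrArg (comap (QuotientGroup.mk' (E ⊔ K))) e
      rw [comap_map_eq, QuotientGroup.ker_mk', sup_of_le_left h3, comap_top] at h4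
      have h5 := h.dedekind (Y := H ⊓ normalizer (A : Set G)) inf_le_left
      rw [h4, top_inf_eq] at h5
      exact h5.le.trans inf_le_right)
  set M := M'.comap (QuotientGroup.mk' (E ⊔ K))
  have hM : M.index = 2 := (index_comap_of_surjective _ (QuotientGroup.mk'_surjective _)).trans
    (PGroup.index_eq_prime_of_isCoatom (IsPGroup.of_card ha) hM')
  have h4 := map_le_iff_le_comap.1 hM''
  have hm := fun a b => mul_mem_iff_of_index_two hM (a := a) (b := b)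
  refine swapCase h ht ih hM (le_sup_left.trans h4) (le_sup_right.trans (h3.trans h4))
    (E₁ := D (O {x | x ∈ H ∧ x ∈ M})) (E₂ := D (O {x | x ∈ H ∧ x ∉ M}))
    (le_antisymm (sup_le (hDE _) (hDE _)) (hgen _ fun B hB => ?_)) (hz _) (hz _)
    (hcomD (hO _ fun _ h => h.1) (hO _ fun _ h => h.1) ?_)
    (le_normalizer_iff.2 fun g hg => hconj g hg.2 (hOc g fun x hx =>
      ⟨mul_mem hg.2 hx.1, mul_mem hg.1 hx.2⟩))
    (le_normalizer_iff.2 fun g hg => hconj g hg.2 (hOc g fun x hx =>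
      ⟨mul_mem hg.2 hx.1, fun e => hx.2 (((hm _ _).1 e).1 hg.1)⟩))
    (fun g hg hg' => hconj g hg (hOc g fun x hx =>
      ⟨mul_mem hg hx.1, fun e => hg' (((hm _ _).1 e).2 hx.2)⟩))
    (fun g hg hg' => hconj g hg (hOc g fun x hx =>
      ⟨mul_mem hg hx.1, (hm _ _).2 (iff_of_false hg' hx.2)⟩))
  · by_cases hh : B ∈ O H
    · obtain ⟨g, hg, e⟩ := hh
      by_cases hg' : g ∈ M
      · exact le_sup_of_le_left (hD ⟨g, ⟨hg, hg'⟩, e⟩)
      · exact le_sup_of_le_right (hD ⟨g, ⟨hg, hg'⟩, e⟩)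
    · exact (hD (T := Y \ O H) ⟨hB, hh⟩).trans (h1.trans (zpowers_le.2 (mem_sup_left (hz _))))
  · rintro _ ⟨g, hg, rfl⟩ ⟨g', hg', e⟩
    have h5 : g⁻¹ * g' ∈ M := h4 (mem_sup_right (mem_inf.2 ⟨mul_mem (inv_mem hg.1) hg'.1,
      Coprime.mem_normalizer_iff_conj_smul_eq.2 (by rw [← hcc, ← e, hcc]; simp)⟩))
    exact hg'.2 (((hm _ _).1 h5).1 (inv_mem hg.2))

theorem step (h : Cf E H K z) (ht : E ⊔ H = ⊤) (ih : IH.{u} (Nat.card E * Nat.card H))
    (hf : ∀ x ∈ H, (∀ e ∈ E, x * e = e * x) → x = 1) :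
    ∃ χ, IsCharacter G χ ∧ Gd (Nat.card E) z χ := by
  have hN := h.nE ht
  by_cases hE : E ≤ zpowers z
  · obtain ⟨θ, hθ, hg⟩ := h.xs.exists_gd
    have hθc := isCharacter_of_isIrr hθ
    have h1 : H = ⊥ := eq_bot_iff.2 fun x hx => hf x hx fun e he => (mem_centralizer_singleton_iff.1
      ((zpowers_le.2 (mem_centralizer_singleton_iff.2 (h.zH x hx).symm) : _ ≤ _) (hE he))).symm
    have : Subsingleton (G ⧸ E) := by
      rw [h1, sup_bot_eq] at ht
      exact (Nat.card_eq_one_iff_unique.1 (index_eq_one.2 ht)).1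
    exact h.ext_cyc E le_rfl hθc hg fun g => congrFun (h.xs.uniq
      (isCharacter_conjChar E g hθc) hθc (h.gd_cj ht E le_rfl hg g) hg)
  have := FT.odd_subgroup_solvable h.odd
  obtain ⟨r, L, hr, hn, h0, hL, he, hmin⟩ := Core.exists_elementaryAbelian_normalized_le h.nK
    (by rintro rfl; exact hE fun e he => h.cK e he (by simp))
  have hLE := hL.trans (h.KH.trans h.nm)
  by_cases h1 : E ⊓ centralizer (L : Set G) ≤ zpowers z
  · exact elemCase { h with KH := hL.trans h.KH, nK := hn, odd := h.odd.of_dvd_nat (card_dvd_of_le hL)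
                            cK := fun e he h2 => h1 ⟨he, h2⟩ } ht ih hE hr he h0 hmin
  have h2 := Coprime.commutator_le_of_le_normalizer hLE
  have h3 : zpowers z ≤ centralizer (L : Set G) :=
    zpowers_le.2 fun x hx => h.zH x (h.KH (hL hx))
  refine prodCase h ht ih (E₁ := ⁅E, L⁆ ⊔ zpowers z) (le_antisymm
    (sup_le (sup_le h2 (zpowers_le.2 h.zE)) inf_le_left) ?_) (mem_sup_right (mem_zpowers z))
    (mem_inf.2 ⟨h.zE, h3 (mem_zpowers z)⟩) (fun a ha b hb => mem_centralizer_singleton_iff.1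
      ((sup_le (h.comm le_rfl (hL.trans h.KH) hb.1 hb.2) (zpowers_le.2
        (mem_centralizer_singleton_iff.2 (h.zc b hb.1).symm)) : _ ≤ _) ha))
    ((le_inf ((le_inf h.nm hn).trans (Core.normalizer_inf_le_normalizer_commutator E L))
      (le_normalizer_iff.2 ?_)).trans (Core.normalizer_inf_le_normalizer_sup _ _))
    ((le_inf h.nm (hn.trans (Core.normalizer_le_normalizer_centralizer _))).trans
      inf_normalizer_le_normalizer_inf) (fun h4 => h0 (eq_bot_iff.2 fun x hx => ?_)) h1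
  · refine (Coprime.commutator_sup_centralizer hLE (h.cop hL le_rfl) (.inr (h.solv le_rfl))).ge.trans
      (sup_le_sup_right le_sup_left _)
  · rintro g hg _ ⟨i, rfl⟩
    rw [← conj_zpow, h.zH g hg, mul_inv_cancel_right]
    exact zpow_mem_zpowers z i
  · exact hf x (h.KH (hL hx)) fun e he => (Coprime.le_centralizer_of_commutator_le_centralizer hLE
      (h.cop hL le_rfl) (le_sup_left.trans (h4.trans h3)) hx e he).symm

omit [Finite G] in
theorem cf_sub (h : Cf E H K z) {L : Subgroup G} (hE : E ≤ L) (hH : H ≤ L) :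
    Cf (E.subgroupOf L) (H.subgroupOf L) (K.subgroupOf L) ⟨z, hE h.zE⟩ := by
  have h2 : orderOf (⟨z, hE h.zE⟩ : L) = 2 := by rw [← h.z2, orderOf_mk]
  have hm : ∀ x : L, (x : G) ∈ zpowers z → x ∈ zpowers (⟨z, hE h.zE⟩ : L) := fun x => by
    rw [mem_zpowers_two h2, mem_zpowers_two h.z2, Subtype.ext_iff, Subtype.ext_iff]; exact id
  exact ⟨h.pE.comap_subtype, h.zE, h2, fun a ha => Subtype.ext (h.zc a ha),
    fun a ha => Subtype.ext (h.zH a ha), (comap_mono h.nm).trans (le_normalizer_comap _),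
    fun a ha b hb => hm _ (h.cm a ha b hb), fun e he hc => hm _ (h.ce e he fun a ha =>
      congrArg Subtype.val (hc ⟨a, hE ha⟩ ha)), by
      rw [subgroupOf, subgroupOf, ← comap_inf, h.dj]; exact bot_subgroupOf _,
    comap_mono h.KH, (comap_mono h.nK).trans (le_normalizer_comap _),
    Nat.card_congr (subgroupOfEquivOfLe (h.KH.trans hH)).toEquiv ▸ h.odd,
    fun e he hc => hm _ (h.cK e he fun a ha => congrArg Subtype.val (hc ⟨a, hH (h.KH ha)⟩ ha))⟩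

omit [Finite G] in
theorem cf_map (h : Cf E H K z) {Q : Type u} [Group Q] (f : G →* Q) (hf : f.ker ≤ H) :
    Cf (E.map f) (H.map f) (K.map f) (f z) ∧ Nat.card (E.map f) = Nat.card E ∧
      ∀ x ∈ H, ∀ e ∈ E, f x * f e = f e * f x → x * e = e * x := by
  have h0 : ∀ e ∈ E, f e = 1 → e = 1 := fun e he h1 => mem_bot.1 (h.dj ▸ mem_inf.2 ⟨he, hf h1⟩)
  have h1 : ∀ x ∈ normalizer (E : Set G), ∀ e ∈ E, f x * f e = f e * f x → x * e = e * x :=
    fun x hx e he h2 => mul_inv_eq_iff_eq_mul.1 (mul_inv_eq_one.1 (h0 _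
      (mul_mem ((mem_normalizer_iff.1 hx e).1 he) (inv_mem he)) (by simp [h2])))
  have hm : ∀ x ∈ zpowers z, f x ∈ zpowers (f z) := fun x hx =>
    MonoidHom.map_zpowers f z ▸ mem_map_of_mem f hx
  have := Fact.mk Nat.prime_two
  refine ⟨⟨h.pE.map f, mem_map_of_mem f h.zE, orderOf_eq_prime
    (by rw [← map_pow, ← h.z2, pow_orderOf_eq_one, map_one]) fun e => ?_, ?_, ?_,
    (map_mono h.nm).trans (le_normalizer_map f), ?_, ?_, ?_, map_mono h.KH,
    (map_mono h.nK).trans (le_normalizer_map f), h.odd.of_dvd_nat (card_map_dvd K f), ?_⟩, ?_,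
    fun x hx => h1 x (h.nm hx)⟩
  · have := h.z2
    rw [h0 z h.zE e, orderOf_one] at this
    omega
  · rintro _ ⟨a, ha, rfl⟩; rw [← map_mul, h.zc a ha, map_mul]
  · rintro _ ⟨a, ha, rfl⟩; rw [← map_mul, h.zH a ha, map_mul]
  · rintro _ ⟨a, ha, rfl⟩ _ ⟨b, hb, rfl⟩; simpa using hm _ (h.cm a ha b hb)
  · rintro _ ⟨e, he, rfl⟩ hc
    exact hm _ (h.ce e he fun a ha => h1 a (le_normalizer ha) e he (hc _ ⟨a, ha, rfl⟩))
  · refine eq_bot_iff.2 ?_
    rintro _ ⟨⟨e, he, rfl⟩, x, hx, e1⟩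
    have h2 : e ∈ H := by
      simpa using mul_mem hx (hf (show x⁻¹ * e ∈ f.ker by simp [MonoidHom.mem_ker, e1]))
    rw [mem_bot.1 (h.dj ▸ mem_inf.2 ⟨he, h2⟩ : e ∈ ⊥), map_one]
    exact one_mem _
  · rintro _ ⟨e, he, rfl⟩ hc
    exact hm _ (h.cK e he fun a ha => h1 a (h.nm (h.KH ha)) e he (hc _ ⟨a, ha, rfl⟩))
  · exact (Nat.card_congr (MulEquiv.ofBijective (f.subgroupMap E) ⟨(injective_iff_map_eq_one _).2
      fun e h2 => Subtype.ext (h0 e e.2 (congrArg Subtype.val h2)),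
      f.subgroupMap_surjective E⟩).toEquiv).symm

end

theorem main (n : ℕ) : IH.{u} n := by
  induction n with
  | zero => exact fun _ _ _ _ _ _ _ _ h => absurd h (Nat.not_lt_zero _)
  | succ n ih =>
  intro G _ _ E H K z h hn
  have h1 := cf_sub h (L := E ⊔ H) le_sup_left le_sup_right
  have ht : E.subgroupOf (E ⊔ H) ⊔ H.subgroupOf (E ⊔ H) = ⊤ := by
    rw [← subgroupOf_sup le_sup_left le_sup_right, subgroupOf_self]
  have c1 := Nat.card_congr (subgroupOfEquivOfLe (le_sup_left : E ≤ E ⊔ H)).toEquiv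
  have c2 := Nat.card_congr (subgroupOfEquivOfLe (le_sup_right : H ≤ E ⊔ H)).toEquiv
  set E' := E.subgroupOf (E ⊔ H)
  set H' := H.subgroupOf (E ⊔ H)
  have : (H' ⊓ centralizer (E' : Set ↥(E ⊔ H))).Normal := normalizer_eq_top_iff.1 (top_le_iff.1
    (ht ▸ sup_le ((le_centralizer_iff.1 inf_le_right).trans (centralizer_le_normalizer _))
      ((le_inf le_normalizer (h1.nm.trans (Core.normalizer_le_normalizer_centralizer _))).trans
        inf_normalizer_le_normalizer_inf)))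
  let f := QuotientGroup.mk' (H' ⊓ centralizer (E' : Set ↥(E ⊔ H)))
  obtain ⟨h2, h3, h4⟩ := cf_map h1 f ((QuotientGroup.ker_mk' _).le.trans inf_le_left)
  obtain ⟨χ, hχ, hg⟩ := step h2 (by
    rw [← Subgroup.map_sup, ht, map_top_of_surjective _ (QuotientGroup.mk'_surjective _)])
    (fun G _ _ E H K z h hlt => ih G E H K z h (hlt.trans_le (by
      have := Nat.le_of_dvd Nat.card_pos (card_map_dvd H' f)
      rw [h3, c1]
      rw [c2] at this
      exact (Nat.mul_le_mul_left _ this).trans (Nat.lt_succ_iff.1 hn)))) (by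
    rintro _ ⟨x, hx, rfl⟩ hc
    exact (QuotientGroup.eq_one_iff x).2 ⟨hx, fun e he => (h4 x hx e he (hc _ ⟨e, he, rfl⟩)).symm⟩)
  rw [h3, c1] at hg
  refine ⟨extendByZero _ fun x => χ (f x), by
    simpa only [extendByZero_coe] using isCharacter_comp f hχ, ?_⟩
  simpa only [Gd, extendByZero_one, extendByZero_of_mem _ _ (mem_sup_left h.zE), map_one] using hg

/-- Let G be a finite group that is the semidirect product of a normal extraspecial 2-subgroup E and a complement H acting faithfully on E (no non-identity element of H centralizes E), and suppose H has a normal subgroup K of odd order with [E, K] = E. Then every faithful irreducible character θ of E (there is exactly one) extends to G: some irreducible character of G restricts to θ on E. -/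
theorem result {G : Type*} [Group G] [Finite G] (E H : Subgroup G) [E.Normal] (hE : Cfsg.IsExtraspecial 2 ↥E) (hEH : E ⊓ H = ⊥) (hEHtop : E ⊔ H = ⊤) (hfaith : ∀ h ∈ H, (∀ e ∈ E, h * e = e * h) → h = 1) (K : Subgroup G) (hKH : K ≤ H) (hKn : ∀ h ∈ H, ∀ k ∈ K, h * k * h⁻¹ ∈ K) (hKodd : Odd (Nat.card ↥K)) (hEK : ⁅E, K⁆ = E) (θ : Cfsg.IrrCharacter ↥E) (hθ : ∀ e : ↥E, (θ : ↥E → ℂ) e = (θ : ↥E → ℂ) 1 → e = 1) : ∃ χ : Cfsg.IrrCharacter G, ∀ e : ↥E, (χ : G → ℂ) e = (θ : ↥E → ℂ) e := by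
  obtain ⟨⟨hp, -, hc⟩, h2⟩ := hE
  obtain ⟨z, hzZ, hz⟩ := Core.exists_mem_orderOf_eq_of_dvd_card Nat.prime_two h2.symm.dvd
  have hZ : zpowers z = center E := eq_of_le_of_card_ge (zpowers_le.2 hzZ)
    (by rw [Nat.card_zpowers, hz, h2])
  have hz' : orderOf (z : G) = 2 := by rw [orderOf_coe, hz]
  have hm : ∀ x : E, x ∈ center E → (x : G) ∈ zpowers (z : G) := fun x hx =>
    MonoidHom.map_zpowers E.subtype z ▸ mem_map_of_mem _ (hZ ▸ hx)
  have hce : ∀ e ∈ E, (∀ a ∈ E, a * e = e * a) → e ∈ zpowers (z : G) := fun e he hc =>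
    hm ⟨e, he⟩ (mem_center_iff.2 fun a => Subtype.ext (hc a a.2))
  have hzc : ∀ a ∈ E, a * z = z * a := fun a ha =>
    congrArg Subtype.val (mem_center_iff.1 hzZ ⟨a, ha⟩)
  have hzG : ∀ g : G, g * z = z * g := fun g => by
    have h1 := hce _ (‹E.Normal›.conj_mem z z.2 g) fun a ha => by
      have := hzc _ (‹E.Normal›.conj_mem' a ha g)
      calc a * (g * z * g⁻¹) = g * (g⁻¹ * a * g * z) * g⁻¹ := by group
        _ = _ := by rw [this]; group
    rcases (mem_zpowers_two hz').1 h1 with e | e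
    · rw [conj_eq_one_iff.1 e, orderOf_one] at hz'; omega
    · exact mul_inv_eq_iff_eq_mul.1 e
  have hcm : ∀ a ∈ E, ∀ b ∈ E, a * b * a⁻¹ * b⁻¹ ∈ zpowers (z : G) := fun a ha b hb =>
    hm ⁅(⟨a, ha⟩ : E), ⟨b, hb⟩⁆ (hc ▸ commutator_mem_commutator (mem_top _) (mem_top _))
  have h : Cf E H K z := ⟨hp, z.2, hz', hzc, fun g _ => hzG g, le_normalizer_of_normal, hcm, hce, hEH,
    hKH, le_normalizer_iff.2 hKn, hKodd, fun e he hc => hce e he fun a ha => ?_⟩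
  · obtain ⟨χ, hχ, hg⟩ := main _ G E H K z h (Nat.lt_succ_self _)
    have h1 := top_of hEHtop hχ
    have h3 := h.xs.uniq (isCharacter_restrict E h1) (irr_isCharacter θ) hg (h.xs.gd θ.2 fun e => by
      rw [hθ z e, orderOf_one] at hz; omega)
    exact ⟨⟨χ, isIrr_of_comp_isIrr E.subtype h1 (h.xs.irr (isCharacter_restrict E h1) hg)⟩,
      congrFun h3⟩
  · exact mem_centralizer_singleton_iff.1
      (comm_of hzc (fun g _ => hzG g) hcm le_rfl hKH he hc (hEK.ge ha))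

end Cfsg.Agent.S4759
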