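import Cfsg.Statements.S4779
import Cfsg.Agent.Lib.RelDeg.Graph

set_option autoImplicit false
open Cfsg

namespace Cfsg.Agent.S4779

open CfsgLib.RelDeg

/-- Let N be a solvable normal subgroup of the finite group G contained in the derived subgroup of G, and consider the common-divisor graph on the relative degree set cd(G|N) (degrees of irreducible complex characters of G whose kernel does not contain N, two distinct degrees adjacent when not coprime). If this graph has two vertices that are not joined by any path, then there is a vertex a₀ such that any two distinct vertices in the component of a₀ are adjacent, and any two distinct vertices outside that component are adjacent or have a common neighbour (one component is complete, the other has diameter at most 2). -/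
theorem result {G : Type*} [Group G] [Finite G] (N : Subgroup G) [N.Normal] [Group.IsSolvable N] (hNG : N ≤ commutator G) (hdisc : ¬ (Cfsg.commonDivisorGraph.induce (Cfsg.relCharDegrees N)).Preconnected) : ∃ a₀ : ↥(Cfsg.relCharDegrees N), (∀ b c : ↥(Cfsg.relCharDegrees N), (Cfsg.commonDivisorGraph.induce (Cfsg.relCharDegrees N)).Reachable a₀ b → (Cfsg.commonDivisorGraph.induce (Cfsg.relCharDegrees N)).Reachable a₀ c → b ≠ c → (Cfsg.commonDivisorGraph.induce (Cfsg.relCharDegrees N)).Adj b c) ∧ (∀ b c : ↥(Cfsg.relCharDegrees N), ¬ (Cfsg.commonDivisorGraph.induce (Cfsg.relCharDegrees N)).Reachable a₀ b → ¬ (Cfsg.commonDivisorGraph.induce (Cfsg.relCharDegrees N)).Reachable a₀ c → b ≠ c → (Cfsg.commonDivisorGraph.induce (Cfsg.relCharDegrees N)).Adj b c ∨ ∃ d : ↥(Cfsg.relCharDegrees N), (Cfsg.commonDivisorGraph.induce (Cfsg.relCharDegrees N)).Adj b d ∧ (Cfsg.commonDivisorGraph.induce (Cfsg.relCharDegrees N)).Adj d c) := by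
  obtain ⟨⟨x, hx⟩, ⟨y, hy⟩, hxy⟩ : ∃ u v, ¬ (Cfsg.commonDivisorGraph.induce
      (Cfsg.relCharDegrees N)).Reachable u v := by
    by_contra hc
    push Not at hc
    exact hdisc hc
  have hlt : ⁅N, N⁆ < N := comm_lt (ne_bot_of_mem hx)
  obtain ⟨p, hp, hm⟩ := Nat.exists_prime_and_dvd (relIndex_ne_one hlt)
  wlog hpy : p ∣ y generalizing x y
  · exact this y hy x hx (fun h => hxy h.symm) ((claim1 hNG hx hy hxy hp hm).resolve_right hpy)
  have hpx : ¬ p ∣ x := fun hd => hxy (rch_of_iff hNG hx hy hp hm (iff_of_true hd hpy))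
  refine ⟨⟨y, hy⟩, ?_, ?_⟩
  · rintro ⟨b, hb⟩ ⟨c, hc⟩ h1 h2 hne
    have h3 : p ∣ b := by
      by_contra h
      exact hxy ((rch_of_iff hNG hx hb hp hm (iff_of_false hpx h)).trans h1.symm)
    have h4 : p ∣ c := by
      by_contra h
      exact hxy ((rch_of_iff hNG hx hc hp hm (iff_of_false hpx h)).trans h2.symm)
    exact adj_of_ncop hb hc (fun e => hne (Subtype.ext e)) (ncop_of_dvd hp.ne_one h3 h4)
  · rintro ⟨b, hb⟩ ⟨c, hc⟩ h1 h2 hne
    have hne' : b ≠ c := fun e => hne (Subtype.ext e)
    have h3 : ¬ p ∣ b := fun h => h1 (rch_of_iff hNG hy hb hp hm (iff_of_true hpy h))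
    have h4 : ¬ p ∣ c := fun h => h2 (rch_of_iff hNG hy hc hp hm (iff_of_true hpy h))
    obtain ⟨d, hd, h5, h6⟩ := near_of_disc _ N rfl hNG hx hy hxy hb hc
      (rch_of_iff hNG hb hc hp hm (iff_of_false h3 h4))
    by_cases e1 : b = d
    · subst e1; exact Or.inl (adj_of_ncop hb hc hne' h6)
    by_cases e2 : d = c
    · subst e2; exact Or.inl (adj_of_ncop hb hc hne' h5)
    exact Or.inr ⟨⟨d, hd⟩, adj_of_ncop hb hd e1 h5, adj_of_ncop hd hc e2 h6⟩

end Cfsg.Agent.S4779
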