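import Cfsg.Statements.S4780
import Cfsg.Agent.Lib.LMW.Start
import Cfsg.Agent.Lib.LMW.Star2
import Cfsg.Agent.Lib.LMW.One
import Cfsg.Agent.Lib.LMW.Two

set_option autoImplicit false
open Cfsg

namespace Cfsg.Agent.S4780

/-- Let G be a finite solvable group in which no irreducible complex character degree a with 1 < a divides a larger irreducible character degree. Then G has at most four distinct irreducible character degrees and the third derived subgroup of G is trivial. -/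
theorem result {G : Type*} [Group G] [Finite G] [Group.IsSolvable G] (hnd : ∀ a ∈ Cfsg.charDegrees G, ∀ b ∈ Cfsg.charDegrees G, 1 < a → a < b → ¬ a ∣ b) : Nat.card ↥(Cfsg.charDegrees G) ≤ 4 ∧ derivedSeries G 3 = ⊥ := by
  open CfsgLib CfsgLib.Char CfsgLib.ChDeg CfsgLib.NDiv CfsgLib.LMW Subgroup in
  have nd : ND G := fun ψ ψ' hψ hψ' h1 h2 => by_contra fun n => hnd _ ⟨⟨ψ, hψ⟩, rfl⟩ _ ⟨⟨ψ', hψ'⟩, rfl⟩
    (lt_of_le_of_ne (deg_pos hψ) (Ne.symm h1)) ((Nat.le_of_dvd (deg_pos hψ') h2).lt_of_ne n) h2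
  have four : ∀ a b c : ℕ, (∀ χ, IsIrrCharacter G χ → charDegree χ = 1 ∨ charDegree χ = a ∨
      charDegree χ = b ∨ charDegree χ = c) → Nat.card ↥(Cfsg.charDegrees G) ≤ 4 := fun a b c H => by
    rw [Nat.card_coe_set_eq]
    refine (Set.ncard_le_ncard (t := {1, a, b, c}) ?_).trans ?_
    · rintro _ ⟨χ, rfl⟩
      exact H _ χ.2
    · refine (Set.ncard_insert_le _ _).trans (Nat.succ_le_succ ((Set.ncard_insert_le _ _).trans
        (Nat.succ_le_succ ((Set.ncard_insert_le _ _).trans (by simp)))))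
  have thr : ∀ a b : ℕ, (∀ χ, IsIrrCharacter G χ → charDegree χ = 1 ∨ charDegree χ = a ∨
      charDegree χ = b) → Nat.card ↥(Cfsg.charDegrees G) ≤ 4 ∧ derivedSeries G 3 = ⊥ := fun a b H =>
    ⟨four a b b fun χ hχ => (H χ hχ).imp_right (Or.imp_right Or.inl), CfsgLib.ChDeg.derived_three_of_three_deg H⟩
  by_cases h0 : ∃ m, ∀ ψ, IsIrrCharacter G ψ → charDegree ψ = 1 ∨ charDegree ψ = m
  · obtain ⟨m, hm⟩ := h0
    exact thr m m fun χ hχ => (hm χ hχ).imp_right Or.inl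
  have hc : ¬ _root_.commutator G ≤ ⊥ := fun hc => h0 ⟨1, fun ψ hψ =>
    Or.inl ((CfsgLib.ChDeg.deg_eq_one_iff_commutator_le hψ).2 (hc.trans bot_le))⟩
  obtain ⟨K, hK, -, -, ⟨p, Z, χ, h⟩ | ⟨q, N, h⟩⟩ := CfsgLib.ChDeg.exists_cases (G := G) ⊥ hc
  · exact absurd ⟨_, CfsgLib.LMW.nilq nd h⟩ h0
  obtain ⟨g₀, hs⟩ := CfsgLib.LMW.exists_St nd h h0
  have := hs.nor
  have pr : N.index.Prime → Nat.card ↥(Cfsg.charDegrees G) ≤ 4 ∧ derivedSeries G 3 = ⊥ := fun hp => by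
    obtain ⟨m, hm⟩ := CfsgLib.LMW.three nd h hp
    exact thr _ _ hm
  have hA : ⁅N, N⁆ ≠ ⊥ := fun e => h0 ⟨N.index, fun ψ hψ =>
    hs.eq_index' hψ (CfsgLib.ChDeg.deg_dvd_index_of_commutator_le_cker hψ N (e ▸ bot_le))⟩
  by_cases hc : ((⁅N, N⁆).relIndex (_root_.commutator G)).Coprime (Nat.card ↥(⁅N, N⁆))
  · exact pr (hs.two hA hc)
  obtain ⟨r, hr, h1, h2⟩ := Nat.Prime.not_coprime_iff_dvd.1 hc
  have : Fact r.Prime := ⟨hr⟩
  rcases hs.one h1 h2 with hB | hp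
  · obtain ⟨e, a, b, H⟩ := hs.star_main hB
    exact ⟨four _ a b H, e⟩
  · exact pr hp

end Cfsg.Agent.S4780
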