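import Cfsg.Statements.S4811
import Cfsg.Agent.Lib.ChDeg.ThreeDeg

set_option autoImplicit false
open Cfsg

namespace Cfsg.Agent.S4811

open CfsgLib CfsgLib.Char CfsgLib.ChDeg Subgroup

theorem card_le_two_of {V : Type*} (Γ : SimpleGraph V) (P Q : V → Prop) (h : ∀ v, P v ∨ Q v)
    (hP : ∀ v w, P v → P w → Γ.Reachable v w) (hQ : ∀ v w, Q v → Q w → Γ.Reachable v w) :
    Nat.card Γ.ConnectedComponent ≤ 2 := by
  classical
  let f : Γ.ConnectedComponent → Bool := fun c => decide (P c.out)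
  have hf : Function.Injective f := by
    intro c d e
    have e' : P c.out ↔ P d.out := by simpa [f] using e
    rw [← c.out_eq, ← d.out_eq]
    apply SimpleGraph.ConnectedComponent.sound
    by_cases hc : P c.out
    · exact hP _ _ hc (e'.1 hc)
    · exact hQ _ _ ((h _).resolve_left hc) ((h _).resolve_left fun x => hc (e'.2 x))
  simpa using Nat.card_le_card_of_injective f hf

theorem reach {G : Type*} [Group G] (v w : degreePrimes G) {χ : G → ℂ} (hχ : IsIrrCharacter G χ)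
    (hv : v.1 ∣ charDegree χ) (hw : w.1 ∣ charDegree χ) :
    ((degreeGraph G).induce (degreePrimes G)).Reachable v w := by
  by_cases e : v = w
  · rw [e]
  · have e' : v.1 ≠ w.1 := fun h => e (Subtype.ext h)
    refine SimpleGraph.Adj.reachable ?_
    exact ⟨e', v.2.1, w.2.1, _, ⟨⟨χ, hχ⟩, rfl⟩,
      ((Nat.coprime_primes v.2.1 w.2.1).2 e').mul_dvd_of_dvd_of_dvd hv hw⟩

/-- For every finite solvable group G the character degree graph of G (vertices: the primes dividing some irreducible complex character degree; edges: distinct primes whose product divides some degree) has at most two connected components. -/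
theorem result {G : Type*} [Group G] [Finite G] [Group.IsSolvable G] : Nat.card ((Cfsg.degreeGraph G).induce (Cfsg.degreePrimes G)).ConnectedComponent ≤ 2 := by
  have := Fintype.ofFinite G
  by_cases hc : _root_.commutator G ≤ ⊥
  · refine card_le_two_of _ (fun _ => False) (fun _ => False) ?_ (by simp) (by simp)
    rintro ⟨v, hv, d, ⟨χ, rfl⟩, hd⟩
    rw [(deg_eq_one_iff_commutator_le χ.2).2 (hc.trans bot_le)] at hd
    exact absurd hd hv.not_dvd_one
  obtain ⟨K, hK, -, -, ⟨p, Z, χ, h⟩ | ⟨p, N, h⟩⟩ := exists_cases (G := G) ⊥ hc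
  · obtain ⟨-, e, he0, he⟩ := h.deg_pow
    have hpd : p ∣ charDegree χ := he ▸ dvd_pow_self p he0.ne'
    have hχ := h.2.2.2.2.2.2.1
    let v₀ : degreePrimes G := ⟨p, h.1, _, ⟨⟨χ, hχ⟩, rfl⟩, hpd⟩
    have key : ∀ v, ((degreeGraph G).induce (degreePrimes G)).Reachable v v₀ := by
      intro v
      obtain ⟨-, d, ⟨ψ, rfl⟩, hd⟩ := v.2
      by_cases h1 : p ∣ charDegree (ψ : G → ℂ)
      · exact reach v v₀ ψ.2 hd h1
      · have h2 := deg_mul (isCharacter_of_isIrr hχ) (isCharacter_of_isIrr ψ.2)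
        exact reach v v₀ (h.false_of_coprime ψ.2 h1) (h2 ▸ hd.mul_left _) (h2 ▸ hpd.mul_right _)
    exact card_le_two_of _ (fun _ => True) (fun _ => True) (by simp)
      (fun v w _ _ => (key v).trans (key w).symm) (fun v w _ _ => (key v).trans (key w).symm)
  · have h' := h
    obtain ⟨hp, hN, -, -, -, -, h1, -, -, -, ⟨χ, hχ, -, hχd⟩, -⟩ := h'
    obtain ⟨r, hr, hrd⟩ := Nat.exists_prime_and_dvd h1
    let v₀ : degreePrimes G := ⟨r, hr, _, ⟨⟨χ, hχ⟩, rfl⟩, hχd ▸ hrd⟩
    refine card_le_two_of _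
      (fun v => ((degreeGraph G).induce (degreePrimes G)).Reachable v v₀)
      (fun v => ∃ ψ, IsIrrCharacter G ψ ∧ v.1 ∣ charDegree ψ ∧ p ∣ charDegree ψ) ?_
      (fun v w a b => a.trans b.symm) ?_
    · intro v
      obtain ⟨hv, d, ⟨ψ, rfl⟩, hd⟩ := v.2
      have := Fintype.ofFinite N
      obtain ⟨θ, hθ, hi⟩ := exists_irr_under N ψ.2
      obtain ⟨e, he1, he⟩ := exists_deg_eq_mul N ψ.2 hθ hi
      rcases (Nat.Prime.dvd_mul hv).1 (he ▸ hd) with a | a
      · exact Or.inl (reach v v₀ hχ (hχd ▸ a.trans he1) (hχd ▸ hrd))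
      · rcases h.dvd_deg hθ with ⟨ξ, hξ, b⟩ | b
        · exact Or.inl (reach v v₀ hξ (b ▸ a.mul_left _) (b ▸ hrd.mul_right _))
        · exact Or.inr ⟨ψ, ψ.2, hd, he ▸ b.mul_left _⟩
    · rintro v w ⟨ψ, hψ, a, b⟩ ⟨φ, hφ, c, d⟩
      let u : degreePrimes G := ⟨p, hp, _, ⟨⟨ψ, hψ⟩, rfl⟩, b⟩
      exact (reach v u hψ a b).trans (reach u w hφ d c)

end Cfsg.Agent.S4811
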