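import Cfsg.Statements.S4781
import Cfsg.Agent.S4811
import Cfsg.Agent.Lib.NDiv.Case3

set_option autoImplicit false
open Cfsg

namespace Cfsg.Agent.S4781

open CfsgLib CfsgLib.Char CfsgLib.ChDeg CfsgLib.NDiv Subgroup

/-- Let G be a finite solvable group in which no irreducible complex character degree a with 1 < a divides a larger irreducible character degree, and suppose the character degree graph of G (primes dividing some degree, distinct primes adjacent when their product divides a degree) has exactly two connected components. Then G has exactly three distinct irreducible character degrees. -/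
theorem result {G : Type*} [Group G] [Finite G] [Group.IsSolvable G] (hnd : ∀ a ∈ Cfsg.charDegrees G, ∀ b ∈ Cfsg.charDegrees G, 1 < a → a < b → ¬ a ∣ b) (htwo : Nat.card ((Cfsg.degreeGraph G).induce (Cfsg.degreePrimes G)).ConnectedComponent = 2) : Nat.card ↥(Cfsg.charDegrees G) = 3 := by
  have := Fintype.ofFinite G
  have nd : ND G := fun ψ ψ' hψ hψ' h1 h2 => by_contra fun n => hnd _ ⟨⟨ψ, hψ⟩, rfl⟩ _ ⟨⟨ψ', hψ'⟩, rfl⟩
    (lt_of_le_of_ne (deg_pos hψ) (Ne.symm h1)) ((Nat.le_of_dvd (deg_pos hψ') h2).lt_of_ne n) h2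
  have con : ¬ ∀ v w, ((degreeGraph G).induce (degreePrimes G)).Reachable v w := fun c => by
    have := Nat.finite_of_card_ne_zero (htwo ▸ two_ne_zero)
    have : Subsingleton ((degreeGraph G).induce (degreePrimes G)).ConnectedComponent := ⟨fun a b => by
      rw [← a.out_eq, ← b.out_eq]
      exact SimpleGraph.ConnectedComponent.sound (c _ _)⟩
    exact absurd (Finite.card_le_one_iff_subsingleton.2 this) (by rw [htwo]; norm_num)
  by_cases hc : _root_.commutator G ≤ ⊥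
  · refine absurd ?_ con
    rintro ⟨v, hv, d, ⟨χ, rfl⟩, hd⟩
    rw [(deg_eq_one_iff_commutator_le χ.2).2 (hc.trans bot_le)] at hd
    exact absurd hd hv.not_dvd_one
  obtain ⟨K, hK, -, -, ⟨p, Z, χ, h⟩ | ⟨q, N, h⟩⟩ := exists_cases (G := G) ⊥ hc
  · obtain ⟨-, e, he0, he⟩ := h.deg_pow
    have hpd : p ∣ charDegree χ := he ▸ dvd_pow_self p he0.ne'
    have hχ := h.2.2.2.2.2.2.1
    let v₀ : degreePrimes G := ⟨p, h.1, _, ⟨⟨χ, hχ⟩, rfl⟩, hpd⟩
    have key : ∀ v, ((degreeGraph G).induce (degreePrimes G)).Reachable v v₀ := by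
      intro v
      obtain ⟨-, d, ⟨ψ, rfl⟩, hd⟩ := v.2
      by_cases h1 : p ∣ charDegree (ψ : G → ℂ)
      · exact S4811.reach v v₀ ψ.2 hd h1
      · have h2 := deg_mul (isCharacter_of_isIrr hχ) (isCharacter_of_isIrr ψ.2)
        exact S4811.reach v v₀ (h.false_of_coprime ψ.2 h1) (h2 ▸ hd.mul_left _) (h2 ▸ hpd.mul_right _)
    exact absurd (fun v w => (key v).trans (key w).symm) con
  have h' := h
  obtain ⟨hq, hN, -, b1, b2, -, h1, b3, b4, b5, ⟨χ, hχ, -, hχd⟩, -⟩ := h'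
  have := Fintype.ofFinite N
  have non : ∀ θ, IsIrrCharacter N θ → charDegree θ ≠ 1 → q ∣ charDegree θ := fun θ hθ n =>
    (h.dvd_deg hθ).resolve_left fun ⟨ξ, hξ, e⟩ => by
      have := nd χ ξ hχ hξ (hχd ▸ h1) (by rw [hχd, e]; exact dvd_mul_right _ _)
      rw [hχd, e, eq_comm, Nat.mul_eq_left index_ne_zero_of_finite] at this
      exact n this
  have dich : ∀ ψ, IsIrrCharacter G ψ → charDegree ψ ∣ N.index ∨ ∃ θ, IsIrrCharacter N θ ∧ charDegree θ ≠ 1 ∧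
      classInner (fun n : N => ψ n) θ ≠ 0 := fun ψ hψ => by
    obtain ⟨θ, hθ, hi⟩ := exists_irr_under N hψ
    obtain ⟨e, he1, he⟩ := exists_deg_eq_mul N hψ hθ hi
    by_cases c : charDegree θ = 1
    · exact Or.inl (by rwa [he, c, mul_one])
    · exact Or.inr ⟨θ, hθ, c, hi⟩
  have cop : ∀ ψ, IsIrrCharacter G ψ → q ∣ charDegree ψ → (charDegree ψ).Coprime N.index := fun ψ hψ a =>
    RelDeg.coprime_of_forall fun s hs s1 s2 => by
      let vq : degreePrimes G := ⟨q, hq, _, ⟨⟨ψ, hψ⟩, rfl⟩, a⟩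
      let vs : degreePrimes G := ⟨s, hs, _, ⟨⟨ψ, hψ⟩, rfl⟩, s2⟩
      have key : ∀ v, ((degreeGraph G).induce (degreePrimes G)).Reachable v vq := fun v => by
        obtain ⟨-, d, ⟨ξ, rfl⟩, hd⟩ := v.2
        rcases dich _ ξ.2 with c | ⟨θ, hθ, c, hi⟩
        · exact (S4811.reach v vs hχ (hχd ▸ hd.trans c) (hχd ▸ s1)).trans (S4811.reach vs vq hψ s2 a)
        · exact S4811.reach v vq ξ.2 hd ((non θ hθ c).trans (deg_dvd_of_over N ξ.2 hθ hi))
      exact con fun v w => (key v).trans (key w).symm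
  have ov : ∀ ψ θ, IsIrrCharacter G ψ → IsIrrCharacter N θ → charDegree θ ≠ 1 →
      classInner (fun n : N => ψ n) θ ≠ 0 → charDegree ψ = charDegree θ ∧ (charDegree θ).Coprime N.index :=
    fun ψ θ hψ hθ c hi => by
      obtain ⟨e, he1, he⟩ := exists_deg_eq_mul N hψ hθ hi
      have k := cop ψ hψ ((non θ hθ c).trans (deg_dvd_of_over N hψ hθ hi))
      rw [Nat.eq_one_of_dvd_coprimes k (he ▸ dvd_mul_right _ _) he1, one_mul] at he
      exact ⟨he, he ▸ k⟩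
  have ext : ∀ θ, IsIrrCharacter N θ → charDegree θ ≠ 1 → ∃ ψ, IsIrrCharacter G ψ ∧ (fun n : N => ψ n) = θ ∧
      charDegree ψ = charDegree θ ∧ (charDegree θ).Coprime N.index := fun θ hθ c => by
    obtain ⟨ψ, hψ, hi⟩ := exists_irr_over N hθ
    have k := ov ψ θ hψ hθ c hi
    exact ⟨ψ, hψ, res_eq_of_deg_eq N (isCharacter_of_isIrr hψ) hθ hi k.1.le, k⟩
  obtain ⟨p, hp, hpd⟩ := Nat.exists_prime_and_dvd h1
  obtain ⟨m, hm⟩ := main (I := N) (p := p) (q := q) _ N MulAut.conjNormal (K.subgroupOf N) rfl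
    ⟨hp, hq, b1, fun g hg => ⟨⟨g, hg⟩, fun x => rfl⟩, fun n => ⟨n, n.2, fun x => rfl⟩,
      fun x hx => b2 (Palfy.mem_comm.1 hx), fun x => b4 x x.2,
      fun e => hq.not_dvd_one (index_eq_one.2 e ▸ b3), fun g hg x hx c => hg (b5 x x.2 hx g c), hpd,
      fun θ hθ c g x => by
        obtain ⟨ψ, hψ, rfl, -⟩ := ext θ hθ c
        exact isClassFunction_of_isIrr hψ _ _,
      fun θ hθ c => ⟨non θ hθ c, fun k => by
        obtain ⟨-, -, -, -, e⟩ := ext θ hθ c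
        exact hp.ne_one (Nat.eq_one_of_dvd_coprimes e k hpd)⟩,
      fun θ θ' hθ hθ' c k => by
        obtain ⟨ψ, hψ, -, e, -⟩ := ext θ hθ c
        obtain ⟨ψ', hψ', -, e', -⟩ := ext θ' hθ' fun c' => c (Nat.dvd_one.1 (c' ▸ k))
        exact e ▸ e' ▸ nd ψ ψ' hψ hψ' (e ▸ c) (e ▸ e' ▸ k)⟩
  obtain ⟨θ, hθ, c⟩ : ∃ θ, IsIrrCharacter N θ ∧ charDegree θ ≠ 1 := by
    by_contra! c
    refine con fun v w => ?_
    have key : ∀ v : degreePrimes G, v.1 ∣ charDegree χ := fun v => by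
      obtain ⟨-, d, ⟨ξ, rfl⟩, hd⟩ := v.2
      exact hχd ▸ hd.trans ((dich _ ξ.2).resolve_right fun ⟨θ, hθ, k, _⟩ => k (c θ hθ))
    exact S4811.reach v w hχ (key v) (key w)
  obtain ⟨ψ, hψ, -, e1, e2⟩ := ext θ hθ c
  have em := (hm θ hθ).resolve_left c
  rw [Nat.card_coe_set_eq, Set.ncard_eq_three]
  refine ⟨1, N.index, m, h1.symm, em ▸ c.symm, fun e => h1 (Nat.eq_one_of_dvd_coprimes e2 (by rw [em, e]) dvd_rfl),
    Set.Subset.antisymm ?_ ?_⟩
  · rintro _ ⟨ξ, rfl⟩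
    by_cases k : charDegree (ξ : G → ℂ) = 1
    · exact Or.inl k
    rcases dich _ ξ.2 with a | ⟨θ', hθ', c', hi⟩
    · exact Or.inr (Or.inl (hχd ▸ nd _ χ ξ.2 hχ k (hχd ▸ a)))
    · exact Or.inr (Or.inr ((ov _ θ' ξ.2 hθ' c' hi).1.trans ((hm θ' hθ').resolve_left c')))
  · rintro _ (rfl | rfl | rfl)
    · exact ⟨⟨_, isIrr_one⟩, deg_one⟩
    · exact ⟨⟨χ, hχ⟩, hχd⟩
    · exact ⟨⟨ψ, hψ⟩, e1.trans em⟩

end Cfsg.Agent.S4781
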