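import Cfsg.Statements.S4783
import Cfsg.Agent.Lib.Garr.Two

set_option autoImplicit false
open Cfsg

namespace Cfsg.Agent.S4783

/-- A finite solvable group with exactly four distinct irreducible complex character degrees has trivial fourth derived subgroup (derived length at most 4). -/
theorem result {G : Type*} [Group G] [Finite G] [Group.IsSolvable G] (hcd : Nat.card ↥(Cfsg.charDegrees G) = 4) : derivedSeries G 4 = ⊥ := by
  obtain ⟨a, b, c, d, -, -, -, -, -, -, h⟩ := Set.ncard_eq_four.1 (show (Cfsg.charDegrees G).ncard = 4 from hcd)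
  have h2 : ∀ χ, IsIrrCharacter G χ →
      charDegree χ = a ∨ charDegree χ = b ∨ charDegree χ = c ∨ charDegree χ = d := fun χ hχ => by
    simpa using h.le (⟨⟨χ, hχ⟩, rfl⟩ : charDegree χ ∈ Cfsg.charDegrees G)
  have h3 := h2 _ CfsgLib.Char.isIrr_one
  rw [CfsgLib.ChDeg.deg_one] at h3
  rcases h3 with rfl | rfl | rfl | rfl
  · exact CfsgLib.Garr.derived_four h2
  · exact CfsgLib.Garr.derived_four (a := a) (b := c) (c := d) fun χ hχ => by have := h2 χ hχ; omega
  · exact CfsgLib.Garr.derived_four (a := a) (b := b) (c := d) fun χ hχ => by have := h2 χ hχ; omega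
  · exact CfsgLib.Garr.derived_four (a := a) (b := b) (c := c) fun χ hχ => by have := h2 χ hχ; omega

end Cfsg.Agent.S4783
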