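import Cfsg.Statements.S4803
import Cfsg.Agent.Lib.Der.Main
import Cfsg.Agent.Lib.Der.Wrap

set_option autoImplicit false
open Cfsg

namespace Cfsg.Agent.S4803

/-- If a finite group G has an element at which every irreducible complex character of degree greater than one vanishes, then G is solvable. -/
theorem result {G : Type*} [Group G] [Finite G] (g : G) (hg : ∀ χ : Cfsg.IrrCharacter G, Cfsg.charDegree (χ : G → ℂ) ≠ 1 → (χ : G → ℂ) g = 0) : Group.IsSolvable G := by
  have h : Group.IsSolvable (commutator G) :=
    CfsgLib.Der.solv_of_ds (A := ⊤) Subgroup.le_normalizer_of_normal fun Y hY x h1 h2 =>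
      CfsgLib.Der.inf_le_of_vanish hg (eq_top_iff.2 fun a ha => by
        obtain ⟨c, hc, e⟩ := hY a ha
        rw [show a = c * (c⁻¹ * a) by group]
        exact Subgroup.mul_mem _ (Subgroup.mem_sup_right hc) (Subgroup.mem_sup_left e)) ⟨h1, h2⟩
  exact Group.isSolvable_of_ker_le_range (commutator G).subtype (Abelianization.of (G := G))
    (by rw [Abelianization.ker_of, Subgroup.range_subtype])

end Cfsg.Agent.S4803
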