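import Cfsg.Statements.S4813
import Cfsg.Agent.S4466
import Cfsg.Agent.Lib.ChDeg.ThreeDeg

set_option autoImplicit false
open Cfsg

namespace Cfsg.Agent.S4813


open CfsgLib.Char CfsgLib.ChDeg Subgroup

theorem card_le_three {S : Set ℕ} {a b c : ℕ} (h : ∀ d ∈ S, d = a ∨ d = b ∨ d = c) :
    Nat.card S ≤ 3 := by
  have h1 : S ⊆ {a, b, c} := fun d hd => by simpa using h d hd
  rw [Nat.card_coe_set_eq]
  refine (Set.ncard_le_ncard h1 (Set.toFinite _)).trans ?_
  refine (Set.ncard_insert_le _ _).trans (Nat.succ_le_succ ?_)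
  refine (Set.ncard_insert_le _ _).trans (Nat.succ_le_succ ?_)
  simp

/-- If every irreducible complex character of the finite group G of degree greater than one has prime degree, then G has at most three distinct irreducible character degrees. -/
theorem result {G : Type*} [Group G] [Finite G] (hprime : ∀ d ∈ Cfsg.charDegrees G, d = 1 ∨ d.Prime) : Nat.card ↥(Cfsg.charDegrees G) ≤ 3 := by
  have H : S4466.PD G := fun χ hχ h1 => (hprime _ ⟨⟨χ, hχ⟩, rfl⟩).resolve_left h1
  have hs : Group.IsSolvable G := H.solv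
  by_cases hc : _root_.commutator G ≤ ⊥
  · refine card_le_three (a := 1) (b := 1) (c := 1) ?_
    rintro d ⟨χ, rfl⟩
    exact Or.inl ((deg_eq_one_iff_commutator_le χ.2).2 (hc.trans bot_le))
  obtain ⟨K, hK, -, -, ⟨p, Z, χ, h⟩ | ⟨p, N, h⟩⟩ := exists_cases (⊥ : Subgroup G) hc
  · refine card_le_three (a := 1) (b := p) (c := p) ?_
    rintro d ⟨ψ, rfl⟩
    by_cases h1 : charDegree (ψ : G → ℂ) = 1
    · exact Or.inl h1
    have h2 := H _ ψ.2 h1
    by_cases hp : p ∣ charDegree (ψ : G → ℂ)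
    · exact Or.inr (Or.inl ((Nat.prime_dvd_prime_iff_eq h.1 h2).1 hp).symm)
    have h3 := h.false_of_coprime ψ.2 hp
    obtain ⟨-, -, -, -, -, -, hχ, hχ1, -⟩ := h
    have h4 := deg_mul (isCharacter_of_isIrr hχ) (isCharacter_of_isIrr ψ.2)
    have h5 := H _ h3 (by rw [h4]; intro e; exact h1 (Nat.eq_one_of_mul_eq_one_left e))
    rw [h4] at h5
    exact absurd h5 (Nat.not_prime_mul hχ1 h1)
  · refine card_le_three (a := 1) (b := p) (c := N.index) ?_
    rintro d ⟨χ, rfl⟩
    have hN : N.Normal := h.2.1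
    have := Fintype.ofFinite N
    have hi : N.index ≠ 1 := h.2.2.2.2.2.2.1
    have hip : N.index.Prime := by
      obtain ⟨ξ, hξ, -, e⟩ := h.2.2.2.2.2.2.2.2.2.2.1
      exact e ▸ H ξ hξ (e ▸ hi)
    by_cases h1 : charDegree (χ : G → ℂ) = 1
    · exact Or.inl h1
    have h2 := H _ χ.2 h1
    obtain ⟨θ, hθ, hθi⟩ := exists_irr_under N χ.2
    obtain ⟨e, he, hd⟩ := exists_deg_eq_mul N χ.2 hθ hθi
    by_cases h3 : charDegree θ = 1
    · rw [h3, mul_one] at hd
      rcases (Nat.dvd_prime hip).1 he with e1 | e1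
      · exact absurd (hd.trans e1) h1
      · exact Or.inr (Or.inr (hd.trans e1))
    · rcases h.dvd_deg hθ with ⟨ξ, hξ, e1⟩ | e1
      · have h5 := H _ hξ (by rw [e1]; intro e; exact h3 (Nat.eq_one_of_mul_eq_one_left e))
        rw [e1] at h5
        exact absurd h5 (Nat.not_prime_mul hi h3)
      · exact Or.inr (Or.inl ((Nat.prime_dvd_prime_iff_eq h.1 h2).1
          (hd ▸ e1.mul_left e)).symm)

end Cfsg.Agent.S4813
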