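import Mathlib
import Cfsg.Statements.S4864
import Cfsg.Agent.Lib.McKay.RealCorr

set_option autoImplicit false
open Cfsg

namespace Cfsg.Agent.S4864

open CfsgLib.McKay CfsgLib.PComp CfsgLib.Char CfsgLib.Coprime Subgroup

theorem aux {G : Type*} [Group G] [Finite G] {p : ℕ} [Fact p.Prime]
    (hs : Group.IsSolvable (pElementClosure p (⊤ : Subgroup G))) (hr : RD p G) (P : Sylow p G)
    (hP : (P : Subgroup G) ⊓ pElementClosure 2 ⊤ = ⊥) (x : G) (hx : IsConj x x⁻¹) :
    ∃ y ∈ normalizer ((P : Subgroup G) : Set G), IsConj x y := by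
  obtain ⟨N, hN⟩ : ∃ N, N = normalizer ((P : Subgroup G) : Set G) := ⟨_, rfl⟩
  have hK := pec_normal (p := 2) (⊤ : Subgroup G)
  have hcl : ∀ {a : G}, IsConj a a⁻¹ → ∀ g, ConjClasses.mk g =
      ConjClasses.mk a → IsConj g g⁻¹ := fun {a} h g e => by
    obtain ⟨c, rfl⟩ := isConj_iff.mp (ConjClasses.mk_eq_mk_iff_isConj.mp e).symm
    obtain ⟨d, hd⟩ := isConj_iff.mp h
    exact isConj_iff.mpr ⟨c * d * c⁻¹, by rw [conj_inv (a := a), ← hd]; group⟩
  have hC : ∀ y : N, IsConj y y⁻¹ → (y : G) ∈ centralizer ((P : Subgroup G) : Set G) := by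
    intro y hy z hz
    have h1 : (y : G) ∈ pElementClosure 2 ⊤ := (QuotientGroup.eq_one_iff _).mp
      (eq_one_of_isConj_inv_of_odd (by
        simpa [← index_eq_card] using coprime_relIndex_pec (p := 2) (⊤ : Subgroup G))
      (by simpa using ((QuotientGroup.mk' (pElementClosure 2 ⊤)).comp N.subtype).map_isConj hy))
    have h2 : z * y * z⁻¹ * (y : G)⁻¹ ∈ (P : Subgroup G) ⊓ pElementClosure 2 ⊤ :=
      mem_inf.mpr ⟨by simpa only [mul_assoc] using ((P : Subgroup G).mul_mem hz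
        ((mem_normalizer_iff.mp (hN ▸ y.2) _).mp ((P : Subgroup G).inv_mem hz))),
        mul_mem (hK.conj_mem _ h1 z) (inv_mem h1)⟩
    rwa [hP, mem_bot, mul_inv_eq_one, mul_inv_eq_iff_eq_mul] at h2
  let Φ : {C : ConjClasses N // ∀ g, ConjClasses.mk g = C → IsConj g g⁻¹} →
      {C : ConjClasses G // ∀ g, ConjClasses.mk g = C → IsConj g g⁻¹} := fun C =>
    ⟨ConjClasses.map N.subtype C.1, by
      obtain ⟨C, h⟩ := C
      obtain ⟨y, rfl⟩ := ConjClasses.mk_surjective C
      exact hcl (N.subtype.map_isConj (h y rfl))⟩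
  have hΦ : Function.Injective Φ := by
    rintro ⟨C, h⟩ ⟨C', h'⟩ e
    obtain ⟨y, rfl⟩ := ConjClasses.mk_surjective C
    obtain ⟨y', rfl⟩ := ConjClasses.mk_surjective C'
    obtain ⟨c, hc⟩ := isConj_iff.mp (ConjClasses.mk_eq_mk_iff_isConj.mp (congrArg Subtype.val e))
    have hc' : c⁻¹⁻¹ * y * c⁻¹ = y' := by rw [inv_inv]; exact hc
    obtain ⟨n, hn, h1⟩ := P.conj_eq_normalizer_conj_of_mem_centralizer y c⁻¹ (hC y (h y rfl))
      (hc' ▸ hC y' (h' y' rfl))
    exact Subtype.ext (ConjClasses.mk_eq_mk_iff_isConj.mpr (isConj_iff.mpr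
      ⟨⟨n, hN ▸ hn⟩⁻¹, Subtype.ext (by simpa using h1.symm.trans hc')⟩))
  obtain ⟨f, hf, -⟩ := real_bij hs hr P hN
  obtain ⟨⟨C, h⟩, e⟩ := (hΦ.bijective_of_nat_card_le (by
    rw [← card_real_irr, ← card_real_irr, Nat.card_eq_of_bijective f hf]
    exact Nat.card_le_card_of_injective (fun ξ => ⟨ξ.1, ξ.2.1⟩) fun _ _ e =>
      Subtype.ext (congrArg Subtype.val e :))).2 ⟨ConjClasses.mk x, hcl hx⟩
  obtain ⟨y, rfl⟩ := ConjClasses.mk_surjective C
  exact ⟨y, hN ▸ y.2, (ConjClasses.mk_eq_mk_iff_isConj.mp (congrArg Subtype.val e)).symm⟩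

/-- Let p be a prime and G a finite group such that the subgroup generated by the p-elements of G is solvable and every real-valued irreducible complex character of G has degree prime to p. Then the normalizer of a Sylow p-subgroup of G contains an element of every real conjugacy class of G: every element conjugate to its inverse is conjugate to an element of that normalizer. -/
theorem result {G : Type*} [Group G] [Finite G] (p : ℕ) [Fact p.Prime] (hsolv : Group.IsSolvable ↥(Subgroup.closure {g : G | ∃ k : ℕ, orderOf g = p ^ k})) (hreal : ∀ χ : Cfsg.IrrCharacter G, (∀ g : G, ((χ : G → ℂ) g).im = 0) → ¬ p ∣ Cfsg.charDegree (χ : G → ℂ)) (P : Sylow p G) (x : G) (hx : IsConj x x⁻¹) : ∃ y ∈ Subgroup.normalizer ((P : Subgroup G) : Set G), IsConj x y := by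
  rw [closure_eq_pec] at hsolv
  have hK := pec_normal (p := 2) (⊤ : Subgroup G)
  obtain ⟨Q, hQ⟩ := exists_sylow_map_eq (inf_le_right (a := (P : Subgroup G))
    (b := pElementClosure 2 ⊤)) (P.isPGroup'.to_le inf_le_left) (by
      rw [inf_relIndex_right, ← relIndex_sup_eq le_normalizer_of_normal]
      exact fun h => P.not_dvd_index (h.trans (relIndex_dvd_index_of_le le_sup_right)))
  have := Q.characteristic_of_normal (sylow_normal hsolv hreal _ le_rfl (a := 0) (by simp) Q)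
  have : ((P : Subgroup G) ⊓ pElementClosure 2 ⊤).Normal := hQ ▸ inferInstance
  have hf := QuotientGroup.mk'_surjective ((P : Subgroup G) ⊓ pElementClosure 2 ⊤)
  have hm : ∀ r : ℕ, r.Prime → (pElementClosure r (⊤ : Subgroup G)).map
      (QuotientGroup.mk' ((P : Subgroup G) ⊓ pElementClosure 2 ⊤)) = pElementClosure r ⊤ :=
    fun r hr => by
      have := Fact.mk hr
      rw [map_pec, map_top_of_surjective _ hf]
  obtain ⟨y, hy, h1⟩ := aux (by
      rw [← hm p Fact.out]
      exact Group.isSolvable_of_surjective (MonoidHom.subgroupMap_surjective _ _))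
    (RD.of_surjective hreal _ hf) (P.mapSurjective hf) (by
      rw [← hm 2 Nat.prime_two, eq_bot_iff]
      rintro _ ⟨⟨a, ha, e⟩, b, hb, rfl⟩
      have h1 := (P : Subgroup G).mul_mem ha (QuotientGroup.eq.mp e).1
      rw [mul_inv_cancel_left] at h1
      exact (QuotientGroup.eq_one_iff _).mpr ⟨h1, hb⟩) _ ((QuotientGroup.mk' _).map_isConj hx)
  obtain ⟨c, hc⟩ := isConj_iff.mp h1
  obtain ⟨c, rfl⟩ := hf c
  refine ⟨c * x * c⁻¹, ?_, isConj_iff.mpr ⟨c, rfl⟩⟩
  rw [← comap_map_eq_self (H := (P : Subgroup G)) ((QuotientGroup.ker_mk'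
    ((P : Subgroup G) ⊓ pElementClosure 2 ⊤)).le.trans inf_le_left),
    ← comap_normalizer_eq_of_surjective _ hf, mem_comap, map_mul, map_mul, map_inv, hc]
  exact hy

end Cfsg.Agent.S4864
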