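import Mathlib
import Cfsg.Statements.S4872
import Cfsg.Agent.Lib.McKay.FSPar
import Cfsg.Agent.Lib.Char.DefectZero

set_option autoImplicit false
open Cfsg

namespace Cfsg.Agent.S4872

open CfsgLib.Char CfsgLib.McKay CfsgLib.ChDeg CfsgLib.Glaub

/-- Let N be a normal subgroup of the finite group G with G/N a 2-group, and let φ be an irreducible complex character of N of 2-defect zero (the 2-part of #N divides φ(1)) whose complex conjugate is G-conjugate to φ. Then some irreducible character of G with Frobenius–Schur indicator +1 contains φ with multiplicity exactly one on restriction to N. -/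
theorem result {G : Type*} [Group G] [Finite G] (N : Subgroup G) [N.Normal] (h2 : IsPGroup 2 (G ⧸ N)) (φ : Cfsg.IrrCharacter ↥N) (hdef : 2 ^ (Nat.card ↥N).factorization 2 ∣ Cfsg.charDegree (φ : ↥N → ℂ)) (hconj : ∃ g : G, ∀ n n' : ↥N, (n' : G) = g * (n : G) * g⁻¹ → (φ : ↥N → ℂ) n' = (starRingEnd ℂ) ((φ : ↥N → ℂ) n)) : ∃ χ : Cfsg.IrrCharacter G, (Nat.card G : ℂ)⁻¹ * ∑ᶠ g : G, (χ : G → ℂ) (g * g) = 1 ∧ (Nat.card ↥N : ℂ)⁻¹ * ∑ᶠ n : ↥N, (χ : G → ℂ) n * (starRingEnd ℂ) ((φ : ↥N → ℂ) n) = 1 := by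
  classical
  have := Fintype.ofFinite G
  simp only [finsum_eq_sum_of_fintype]
  obtain ⟨S⟩ : Nonempty (Sylow 2 G) := inferInstance
  obtain ⟨g, hg⟩ := hconj
  obtain ⟨d, hd⟩ := hdef
  obtain ⟨k, hk⟩ := h2.exists_card_eq
  rw [← Subgroup.index_eq_card] at hk
  have hc := irr_isCharacter φ
  have ha := Nat.pow_succ_factorization_not_dvd (Nat.card_pos (α := N)).ne' Nat.prime_two
  have hodd : Odd d := Nat.not_even_iff_odd.mp fun h => ha (Dvd.dvd.trans (by
    rw [hd, pow_succ]; exact mul_dvd_mul_left _ h.two_dvd) (deg_dvd_card φ.2))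
  have hS : Nat.card S = 2 ^ (Nat.card N).factorization 2 * N.index := by
    rw [S.card_eq_multiplicity, ← N.card_mul_index, Nat.factorization_mul Nat.card_pos.ne'
      Subgroup.index_ne_zero_of_finite, Finsupp.add_apply, pow_add, hk]
    simp [Nat.prime_two.factorization]
  have h1 : mult (S : Subgroup G).subtype (indFun N φ) (fun _ => 1) = d := by
    refine mult_eq_of_eq _ ?_
    rw [classInner_one_right, Finset.sum_eq_single 1 (fun s _ hs => indFun_eq_zero_of_forall N _
      fun x hx => irr_eq_zero_of_defect_zero φ.2 Nat.prime_two (Nat.ordProj_dvd _ _) ha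
        (deg_cast hc).symm ⟨d, hd⟩ (by
          obtain ⟨j, hj⟩ := IsPGroup.iff_orderOf.mp S.isPGroup' s
          have : orderOf (x * s * x⁻¹) = 2 ^ j := by
            rw [← hj, ← Subgroup.orderOf_coe, ← MulAut.conj_apply, MulEquiv.orderOf_eq]
          rw [← Subgroup.orderOf_coe]
          exact this ▸ dvd_pow_self 2 (by rintro rfl; exact hs (by simpa using hj)))) (by simp),
      map_one, indFun_one, ← deg_cast hc, hd, hS]
    have : (N.index : ℂ) ≠ 0 := Nat.cast_ne_zero.mpr Subgroup.index_ne_zero_of_finite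
    push_cast
    field_simp
  have h3 := mult_comp (MonoidHom.id G) (S : Subgroup G).subtype (isCharacter_indFun N hc)
    isCharacter_one
  have h4 : ∀ χ : IrrCharacter G, mult (MonoidHom.id G) (indFun N φ) χ = mult N.subtype χ φ :=
    fun χ => mult_eq_of_eq _ (by
      rw [← mult_spec _ (irr_isCharacter χ) hc, classInner_comm_char (isCharacter_comp _
        (irr_isCharacter χ)) hc]
      exact classInner_indFun_left N _ (irr_isClassFunction χ))
  simp only [h4] at h3
  obtain ⟨χ, hr, h5⟩ := exists_real_odd _ (fun χ => by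
    have e1 := S4911.mult_conj (S : Subgroup G).subtype (irr_isCharacter χ) isCharacter_one
    have e2 := S4911.mult_conj N.subtype (irr_isCharacter χ) (isCharacter_conj hc)
    simp only [map_one, Complex.conj_conj] at e1 e2
    rw [e1, e2, ← show conjChar N g φ = _ from funext fun n => hg n _ rfl]
    congr 1
    exact congrArg (fun z : ℂ => ⌊z.re⌋₊) (classInner_res_conjChar N g (irr_isClassFunction χ) φ))
    (h3 ▸ h1 ▸ hodd)
  rw [Nat.odd_mul] at h5
  refine ⟨χ, fsInd_eq_of_odd_mult _ χ.2 isIrr_one hr fsInd_one h5.2, ?_⟩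
  have h6 := (mult_ne_zero_iff _ (irr_isCharacter χ) hc).mp h5.1.pos.ne'
  obtain ⟨e, -, h7, h8⟩ := exists_deg_clifford N χ.2 φ.2 h6
  obtain ⟨e', h9, h10⟩ := exists_deg_eq_mul N χ.2 φ.2 h6
  rw [mult_eq_of_eq N.subtype h7] at h5
  rw [h8, mul_left_inj' (deg_pos φ.2).ne'] at h10
  rw [Nat.eq_one_of_dvd_coprimes (Nat.Coprime.pow_right k (Nat.coprime_two_right.mpr h5.1)) dvd_rfl
    (hk ▸ (Dvd.intro _ h10).trans h9), Nat.cast_one] at h7
  exact h7

end Cfsg.Agent.S4872
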