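import Mathlib
import Cfsg.Statements.S4871
import Cfsg.Agent.S4872
import Cfsg.Agent.Lib.Char.PermLemma
import Cfsg.Agent.Lib.Coprime.Action

set_option autoImplicit false
open Cfsg

namespace Cfsg.Agent.S4871

open CfsgLib.Char CfsgLib.McKay CfsgLib.ChDeg CfsgLib.Glaub CfsgLib.Coprime Subgroup

theorem count {α : Type*} [Fintype α] (f : α → ℕ) (p : α → Prop) (hf : ∀ a, 0 < f a) {d : ℕ}
    (hd : 2 ∣ d) (hd0 : d ≠ 0)
    (h : Nat.card {a // f a = 1 ∧ p a} ≤ d * Nat.card {a // f a = d ∧ p a}) :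
    4 * Nat.card {a // (f a = 1 ∨ 2 ∣ f a) ∧ p a} ≤
      3 * ∑ᶠ a : {a // (f a = 1 ∨ 2 ∣ f a) ∧ p a}, f a.1 := by
  classical
  rw [finsum_eq_sum_of_fintype, ← Finset.sum_subtype
    (Finset.univ.filter fun a => (f a = 1 ∨ 2 ∣ f a) ∧ p a) (by simp), Finset.sum_filter]
  simp only [Nat.card_eq_fintype_card, Fintype.card_subtype, Finset.card_filter,
    Finset.mul_sum] at h ⊢
  refine Nat.le_of_add_le_add_right ((Nat.add_le_add_left h _).trans ?_)
  rw [← Finset.sum_add_distrib, ← Finset.sum_add_distrib]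
  refine Finset.sum_le_sum fun a _ => ?_
  have := hf a
  by_cases hp : p a
  · simp only [hp, and_true]
    split_ifs <;> omega
  · simp [hp]

/-- Let G be a finite group that is the semidirect product of a normal elementary abelian subgroup N of odd order by a non-trivial 2-subgroup P, with N the unique minimal normal subgroup of G. Consider the strongly real irreducible complex characters of G (Frobenius–Schur indicator +1) whose degree is 1 or even. Then their average degree is at least 4/3: four times their number is at most three times the sum of their degrees. -/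
theorem result {G : Type*} [Group G] [Finite G] (N P : Subgroup G) (hN : N.Normal) (q : ℕ) [Fact q.Prime] (hq : q ≠ 2) (hNel : Cfsg.IsElementaryAbelian q N) (hP : IsPGroup 2 ↥P) (hP1 : P ≠ ⊥) (hdisj : N ⊓ P = ⊥) (hprod : N ⊔ P = ⊤) (hmin : N ≠ ⊥ ∧ ∀ M : Subgroup G, M.Normal → M ≠ ⊥ → N ≤ M) : 4 * Nat.card {χ : Cfsg.IrrCharacter G // (Cfsg.charDegree (χ : G → ℂ) = 1 ∨ 2 ∣ Cfsg.charDegree (χ : G → ℂ)) ∧ (Nat.card G : ℂ)⁻¹ * ∑ᶠ g : G, (χ : G → ℂ) (g * g) = 1} ≤ 3 * (∑ᶠ χ : {χ : Cfsg.IrrCharacter G // (Cfsg.charDegree (χ : G → ℂ) = 1 ∨ 2 ∣ Cfsg.charDegree (χ : G → ℂ)) ∧ (Nat.card G : ℂ)⁻¹ * ∑ᶠ g : G, (χ : G → ℂ) (g * g) = 1}, Cfsg.charDegree (χ.1 : G → ℂ)) := by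
  classical
  have := Fintype.ofFinite G
  obtain ⟨hNc, hNq⟩ := hNel
  have hNq' : IsPGroup q N := fun x => ⟨1, Subtype.ext (by simpa using hNq x x.2)⟩
  obtain ⟨j, hj⟩ := hNq'.exists_card_eq
  have hodd : Odd (Nat.card N) := hj ▸ ((Fact.out : q.Prime).odd_of_ne_two hq).pow
  have := (nontrivial_iff_ne_bot P).mpr hP1
  have := hP.center_nontrivial
  obtain ⟨z, hz⟩ := exists_prime_orderOf_dvd_card' (G := center P) 2 (by
    obtain ⟨k, hk0, hk⟩ := (hP.to_subgroup (center P)).nontrivial_iff_card.mp inferInstance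
    exact hk ▸ dvd_pow_self 2 hk0.ne')
  have hzP : P ≤ centralizer {((z : P) : G)} := fun x hx => mem_centralizer_singleton_iff.mpr
    (congrArg Subtype.val (mem_center_iff.mp z.2 ⟨x, hx⟩))
  have hz2 : orderOf ((z : P) : G) = 2 := by rw [orderOf_coe, orderOf_coe, hz]
  obtain ⟨w, hw⟩ : ∃ w, w = ((z : P) : G) := ⟨_, rfl⟩
  have hwP : w ∈ P := hw ▸ z.1.2
  rw [← hw] at hzP hz2
  have hww : w * w = 1 := by rw [← pow_two, ← hz2, pow_orderOf_eq_one]
  have hNN : N ≤ centralizer (N : Set G) := le_centralizer N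
  have hC : N ⊓ centralizer {w} = ⊥ := by
    by_contra h
    have h1 := hmin.2 _ (normalizer_eq_top_iff.mp (eq_top_iff.mpr (hprod.ge.trans (sup_le
      ((hNN.trans (centralizer_le (by simp))).trans (centralizer_le_normalizer _))
      (CfsgLib.Coprime.le_normalizer_inf le_normalizer_of_normal (hzP.trans le_normalizer)))))) h
    have h2 : w ∈ center G := mem_center_iff.mpr fun g => mem_centralizer_singleton_iff.mp
      ((sup_le (h1.trans inf_le_right) hzP) (hprod.ge (mem_top g)))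
    have h3 := hmin.2 (zpowers w) ⟨fun x hx g => by
      rwa [mem_center_iff.mp (zpowers_le.mpr h2 hx) g, mul_inv_cancel_right]⟩ (by
      rw [Ne, zpowers_eq_bot]; rintro rfl; simp at hz2)
    exact hmin.1 (le_bot_iff.mp ((le_inf le_rfl (h3.trans (zpowers_le.mpr hwP))).trans hdisj.le))
  have hinv : ∀ n ∈ N, w * n * w⁻¹ = n⁻¹ := fun n hn => by
    have h1 := hN.conj_mem n hn w
    refine eq_inv_of_mul_eq_one_right (mem_bot.mp (hC.le ⟨N.mul_mem hn h1,
      mem_centralizer_singleton_iff.mpr ?_⟩))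
    calc _ = w * w * n * w⁻¹ * n := by rw [hww, inv_eq_of_mul_eq_one_right hww]; simp [mul_assoc, hww]
      _ = _ := by rw [hNN h1 n hn]; simp only [mul_assoc]
  obtain ⟨θ, hθ, hθ1⟩ : ∃ θ, IsIrrCharacter N θ ∧ θ ≠ fun _ => 1 := by
    by_contra h
    push Not at h
    obtain ⟨x, hx⟩ := ne_bot_iff_exists_ne_one.mp hmin.1
    exact hx (eq_one_of_forall_irr_eq fun χ hχ => by rw [h χ hχ])
  have hθc := isCharacter_of_isIrr hθ
  have hwθ : ∀ n n' : N, (n' : G) = w * n * w⁻¹ → θ n' = (starRingEnd ℂ) (θ n) := fun n n' e => by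
    rw [← char_inv hθc, show n' = n⁻¹ from Subtype.ext (e.trans (hinv n n.2))]
  have h2 : IsPGroup 2 (G ⧸ N) := hP.of_surjective ((QuotientGroup.mk' N).comp P.subtype) fun x => by
    obtain ⟨x, rfl⟩ := QuotientGroup.mk_surjective x
    obtain ⟨a, ha, b, hb, rfl⟩ := mem_sup_of_normal_left.mp (hprod.ge (mem_top x))
    exact ⟨⟨b, hb⟩, by simp [(QuotientGroup.eq_one_iff a).mpr ha]⟩
  obtain ⟨χ, h3, h4⟩ := S4872.result N h2 ⟨θ, hθ⟩ (by
    rw [Nat.factorization_eq_zero_of_not_dvd hodd.not_two_dvd_nat]; simp) ⟨w, hwθ⟩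
  rw [finsum_eq_sum_of_fintype] at h3 h4
  have h4' : classInner (fun n : N => (χ : G → ℂ) n) θ = 1 := h4
  have hNT := le_inertia N (isClassFunction_of_isIrr hθ)
  obtain ⟨ψ, hψ, h5, h6⟩ := clifford_corr N _ hNT hθ rfl χ.2 (by rw [h4']; exact one_ne_zero)
  have h7 := clifford_degree N χ.2 hθ (by rw [h4']; exact one_ne_zero)
  rw [h4', irr_one_eq_one_of_comm hθ, one_mul, mul_one] at h7
  have hi : ((inertia N θ).index : ℂ) ≠ 0 := Nat.cast_ne_zero.mpr index_ne_zero_of_finite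
  have h8 : ψ 1 = 1 := by rwa [← h5, indFun_one, mul_eq_left₀ hi] at h7
  have hNG : N ≤ commutator G := hmin.2 _ inferInstance fun h => by
    obtain ⟨⟨x, hx⟩, hx1⟩ := ne_bot_iff_exists_ne_one.mp hmin.1
    have h9 := (commutator_eq_bot_iff_le_centralizer.mp h) (mem_top x) w (mem_top w)
    exact hx1 (Subtype.ext (mem_bot.mp (hC.le ⟨hx, mem_centralizer_singleton_iff.mpr h9.symm⟩)))
  have hirr : ∀ {μ : G → ℂ}, IsIrrCharacter G μ → μ 1 = 1 →
      IsIrrCharacter _ (ψ * fun x : inertia N θ => μ x) := fun h h1 =>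
    isIrr_mul_of_one_eq_one hψ (isCharacter_restrict _ (isCharacter_of_isIrr h)) h1
  have hover : ∀ {μ : G → ℂ}, IsIrrCharacter G μ → μ 1 = 1 → classInner
      (fun n : N => (ψ * fun x : inertia N θ => μ x) ⟨n, hNT n.2⟩) θ ≠ 0 := fun h h1 => by
    simpa [fun n : N => ((mem_charKer (isCharacter_of_isIrr h)).1
      ((irr_one_eq_one_iff h).1 h1 (hNG n.2))).trans h1, h6] using h4' ▸ one_ne_zero
  have h9 := card_linear_le χ.2 h3 (inertia N θ) fun μ μ' h h' k k' _ _ e x => by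
    rw [← h5, mul_comm μ, mul_comm μ', ← indFun_mul_res _ _ (isClassFunction_of_isIrr h),
      ← indFun_mul_res _ _ (isClassFunction_of_isIrr h')] at e
    have h10 := congrFun (clifford_corr_inj N _ hNT hθ rfl (hirr h k) (hirr h' k') (hover h k)
      (hover h' k') e) x
    obtain ⟨l, hl⟩ := exists_unitsHom_of_one_eq_one (isCharacter_of_isIrr hψ) h8
    exact mul_left_cancel₀ (a := ψ x) (by rw [hl]; exact Units.ne_zero _) h10
  rw [deg_eq_of_eq h7] at h9
  simp only [fsInd, ← finsum_eq_sum_of_fintype (α := G)] at h9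
  refine count _ _ (fun χ => deg_pos χ.2) ?_ index_ne_zero_of_finite h9
  obtain ⟨k, hk⟩ := h2.exists_card_eq
  rw [← index_eq_card] at hk
  obtain ⟨i, -, hi⟩ := (Nat.dvd_prime_pow Nat.prime_two).mp (hk ▸ index_dvd_of_le hNT)
  refine hi ▸ dvd_pow_self 2 ?_
  rintro rfl
  refine hθ1 (real_irr_eq_one_of_odd hodd hθ fun n => Complex.conj_eq_iff_im.mp ?_)
  rw [← hwθ n ⟨_, hN.conj_mem _ n.2 w⟩ rfl]
  exact (mem_inertia' N).mp ((index_eq_one.mp hi).ge (mem_top w)) n

end Cfsg.Agent.S4871
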