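import Mathlib
import Cfsg.Statements.S4873
import Cfsg.Agent.S4519
import Cfsg.Agent.Lib.Char.Square
import Cfsg.Agent.Lib.McKay.Gall

set_option autoImplicit false
open Cfsg

namespace Cfsg.Agent.S4873

open CfsgLib.Char CfsgLib.McKay
open scoped ComplexConjugate

theorem fsInd_indFun {G : Type*} [Group G] [Fintype G] (N : Subgroup G) [N.Normal] [Fintype N]
    (hodd : Odd N.index) (φ : N → ℂ) : fsInd (indFun N φ) = fsInd φ := by
  have h1 : ∀ s : G, extendByZero N φ (s * s) = extendByZero N (fun n => φ (n * n)) s := fun s => by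
    by_cases hs : s ∈ N
    · rw [extendByZero_of_mem N _ hs, extendByZero_of_mem N _ (N.mul_mem hs hs)]; rfl
    · rw [extendByZero_of_not_mem N _ hs, extendByZero_of_not_mem N _ fun h => hs
        (mem_of_pow_coprime (Nat.coprime_two_left.mpr hodd) (by rwa [pow_two]) (N.pow_index_mem s))]
  have h2 : ∀ x : G, ∑ s : G, extendByZero N φ (x⁻¹ * (s * s) * x) = ∑ n : N, φ (n * n) :=
    fun x => by
      rw [← sum_extendByZero N (fun n => φ (n * n))]
      exact Fintype.sum_equiv (MulAut.conj x⁻¹).toEquiv _ _ fun s => by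
        rw [← h1]; simp [mul_assoc]
  simp only [fsInd, indFun_apply, ← Finset.mul_sum]
  rw [Finset.sum_comm]
  simp only [h2, Finset.sum_const, Finset.card_univ, nsmul_eq_mul, ← Nat.card_eq_fintype_card]
  have : (Nat.card G : ℂ) ≠ 0 := natCard_ne_zero
  field_simp

theorem fsInd_eq_sum {G : Type*} [Group G] [Fintype G] {f : G → ℂ} (hf : IsClassFunction G f) :
    fsInd f = ∑ χ : IrrCharacter G, classInner f χ * fsInd (χ : G → ℂ) := by
  simp only [fsInd, classFun_apply_eq_sum hf (_ * _), Finset.mul_sum]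
  rw [Finset.sum_comm]
  exact Finset.sum_congr rfl fun χ _ => Finset.sum_congr rfl fun s _ => by ring

theorem inv_of_fsInd {G : Type*} [Group G] [Fintype G] {χ : G → ℂ} (hχ : IsIrrCharacter G χ)
    (h : fsInd χ ≠ 0) (g : G) : χ g⁻¹ = χ g := by
  rw [char_inv (isCharacter_of_isIrr hχ)]
  exact (congrFun (not_not.mp fun h' => h (fsInd_eq_zero_of_conj_ne hχ h')) g).symm


/-- Let N be a normal subgroup of odd index in the finite group G. Then every irreducible complex character of N with Frobenius–Schur indicator +1 lies under exactly one irreducible character of G with Frobenius–Schur indicator +1. -/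
theorem result {G : Type*} [Group G] [Finite G] (N : Subgroup G) [N.Normal] (hodd : Odd N.index) (φ : Cfsg.IrrCharacter ↥N) (hφ : (Nat.card ↥N : ℂ)⁻¹ * ∑ᶠ g : ↥N, (φ : ↥N → ℂ) (g * g) = 1) : ∃! χ : Cfsg.IrrCharacter G, (Nat.card G : ℂ)⁻¹ * ∑ᶠ g : G, (χ : G → ℂ) (g * g) = 1 ∧ (∑ᶠ n : ↥N, (χ : G → ℂ) n * (starRingEnd ℂ) ((φ : ↥N → ℂ) n)) ≠ 0 := by
  classical
  have := Fintype.ofFinite G
  have := Fintype.ofFinite N
  simp only [finsum_eq_sum_of_fintype] at hφ ⊢
  obtain ⟨n, hn⟩ : ∃ n, Nat.card G = n + 1 := ⟨_, (Nat.succ_pred_eq_of_pos Nat.card_pos).symm⟩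
  have hk : ∀ g : G, g ^ n = g⁻¹ := fun g => by
    rw [eq_inv_iff_mul_eq_one, ← pow_succ, ← hn, pow_card_eq_one']
  have hov : ∀ χ : IrrCharacter G, (∑ n : N, (χ : G → ℂ) n * conj ((φ : N → ℂ) n)) ≠ 0 ↔
      classInner (fun n : N => (χ : G → ℂ) n) (φ : N → ℂ) ≠ 0 := fun χ => by
    rw [← card_mul_classInner, mul_ne_zero_iff_left natCard_ne_zero]
  obtain ⟨χ, ⟨h1, -, -⟩, h2⟩ := S4519.result N hodd n 1 (by rw [hn]; simp)
    (by
      rw [hn, pow_one]
      refine (Nat.modEq_iff_dvd).mpr ⟨1 - n, ?_⟩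
      push_cast; ring)
    (fun g _ => hk g) φ (fun m => by
      rw [show m ^ n = m⁻¹ from Subtype.ext (hk m)]
      exact inv_of_fsInd φ.2 (by rw [fsInd, hφ]; exact one_ne_zero) m)
  have h3 : ∀ χ' : IrrCharacter G, classInner (fun n : N => (χ' : G → ℂ) n) (φ : N → ℂ) ≠ 0 →
      fsInd (χ' : G → ℂ) ≠ 0 → χ' = χ := fun χ' h h' =>
    h2 χ' h fun g => by rw [hk, inv_of_fsInd χ'.2 h']
  refine ⟨χ, ⟨?_, (hov χ).mpr h1⟩, fun χ' h => h3 χ' ((hov χ').mp h.2)
    (by rw [fsInd, h.1]; exact one_ne_zero)⟩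
  have h4 := fsInd_indFun N hodd φ
  rw [fsInd_eq_sum (isClassFunction_indFun N _), Finset.sum_eq_single χ (fun χ' _ hne => by
    by_contra h
    refine hne (h3 χ' (fun h' => left_ne_zero_of_mul h ?_) (right_ne_zero_of_mul h))
    rw [classInner_indFun_left N _ (irr_isClassFunction χ'), classInner_eq_zero_symm h'])
    (by simp), fsInd.eq_1 (φ : N → ℂ), hφ] at h4
  obtain ⟨m, hm⟩ := exists_classInner_eq_nat (isCharacter_indFun N (irr_isCharacter φ))
    (irr_isCharacter χ)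
  rw [hm] at h4
  rcases fsInd_trichotomy χ.2 with h | h | h
  · rw [h] at h4; simp at h4
  · exact h
  · rw [h] at h4
    have h5 : ((m + 1 : ℕ) : ℂ) = 0 := by push_cast; linear_combination -h4
    exact absurd (Nat.cast_eq_zero.mp h5) (Nat.succ_ne_zero m)

end Cfsg.Agent.S4873
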