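import Cfsg.Statements.S4881
import Cfsg.Agent.Lib.PRg.Lin

set_option autoImplicit false
open Cfsg

namespace Cfsg.Agent.S4881

/-- Let p be a prime and G a finite p-solvable group with exactly three conjugacy classes of p-elements (counting the identity). Then twice the number of conjugacy classes of p-regular elements of G is at least p − 1, with equality if and only if p is odd, G has order p(p − 1)/2 and G embeds in the one-dimensional affine group over the field with p elements (so G is that group's subgroup of index 2: cyclic of order p extended by cyclic of order (p − 1)/2). -/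
theorem result {G : Type*} [Group G] [Finite G] (p : ℕ) [Fact p.Prime] (hsolv : Cfsg.IsPSolvable p G) (h3 : Nat.card {c : ConjClasses G // ∃ g : G, ConjClasses.mk g = c ∧ ∃ k : ℕ, orderOf g = p ^ k} = 3) : p - 1 ≤ 2 * Nat.card {c : ConjClasses G // ∃ g : G, ConjClasses.mk g = c ∧ ¬ p ∣ orderOf g} ∧ (2 * Nat.card {c : ConjClasses G // ∃ g : G, ConjClasses.mk g = c ∧ ¬ p ∣ orderOf g} = p - 1 ↔ (p ≠ 2 ∧ 2 * Nat.card G = p * (p - 1) ∧ ∃ f : G →* ↥(Cfsg.affineGroup (ZMod p)), Function.Injective f)) := by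
  have hp : p.Prime := Fact.out
  obtain ⟨h1, h2⟩ := CfsgLib.PRg.tc_of_card hp h3
  change p - 1 ≤ 2 * CfsgLib.PRg.kp p G ∧ (2 * CfsgLib.PRg.kp p G = p - 1 ↔ _)
  rcases CfsgLib.PRg.con2 hsolv h2 h1 with h4 | ⟨h4, h5⟩
  · exact ⟨h4.le, fun e => absurd e h4.ne', fun h5 =>
      absurd (CfsgLib.PRg.two_mul_kp_le hp h5.2.1 h5.1) (not_le.2 h4)⟩
  · exact ⟨h4.ge, fun _ => h5, fun _ => h4⟩

end Cfsg.Agent.S4881
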