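import Mathlib
import Cfsg.Statements.S4912
import Cfsg.Agent.Lib.McKay.FSPar

set_option autoImplicit false
open Cfsg

namespace Cfsg.Agent.S4912

open CfsgLib CfsgLib.Char CfsgLib.McKay CfsgLib.ChDeg CfsgLib.Glaub
open scoped commutatorElement

/-- Let G be a finite group with a non-abelian minimal normal subgroup N, and let φ be an irreducible complex character of N with stabilizer I in G such that φ extends to an irreducible character of I with Frobenius–Schur indicator +1. Put d = φ(1)·[G : I]. Then the number of linear characters of G with Frobenius–Schur indicator +1 is at most [G : I] times the number of irreducible characters of G of degree d with Frobenius–Schur indicator +1. -/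
theorem result {G : Type*} [Group G] [Finite G] (N : Subgroup G) (hN : N.Normal) (hN1 : N ≠ ⊥) (hmin : ∀ M : Subgroup G, M.Normal → M ≤ N → M = ⊥ ∨ M = N) (hna : ¬ IsMulCommutative ↥N) (φ : Cfsg.IrrCharacter ↥N) (I : Subgroup G) (hI : ∀ g : G, g ∈ I ↔ ∀ n n' : ↥N, (n' : G) = g * (n : G) * g⁻¹ → (φ : ↥N → ℂ) n' = (φ : ↥N → ℂ) n) (hNI : N ≤ I) (hext : ∃ ψ : Cfsg.IrrCharacter ↥I, (Nat.card ↥I : ℂ)⁻¹ * ∑ᶠ g : ↥I, (ψ : ↥I → ℂ) (g * g) = 1 ∧ ∀ n : ↥N, (ψ : ↥I → ℂ) (Subgroup.inclusion hNI n) = (φ : ↥N → ℂ) n) : Nat.card {χ : Cfsg.IrrCharacter G // Cfsg.charDegree (χ : G → ℂ) = 1 ∧ (Nat.card G : ℂ)⁻¹ * ∑ᶠ g : G, (χ : G → ℂ) (g * g) = 1} ≤ I.index * Nat.card {χ : Cfsg.IrrCharacter G // Cfsg.charDegree (χ : G → ℂ) = Cfsg.charDegree (φ : ↥N → ℂ) * I.index ∧ (Nat.card G : ℂ)⁻¹ * ∑ᶠ g : G, (χ : G → ℂ) (g * g) = 1} := by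
  classical
  have := Fintype.ofFinite G
  simp only [finsum_eq_sum_of_fintype] at hext ⊢
  obtain ⟨ψ, hψ1, hψ⟩ := hext
  have hT : I = inertia N (φ : N → ℂ) := by
    ext g
    rw [hI, mem_inertia']
    exact ⟨fun h n => h n _ rfl, fun h n n' e => (congrArg (φ : N → ℂ) (Subtype.ext e)).trans (h n)⟩
  have hp : ⁅N, N⁆ = N := (hmin _ inferInstance (Subgroup.commutator_le_left N N)).resolve_left
    fun h => hna ⟨⟨fun a b => Subtype.ext (by
      have := Subgroup.commutator_mem_commutator a.2 b.2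
      rw [h, Subgroup.mem_bot, commutatorElement_eq_one_iff_mul_comm] at this
      exact this)⟩⟩
  have hres : IsIrrCharacter (N.subgroupOf I) fun n : N.subgroupOf I => (ψ : I → ℂ) n := by
    have := isIrr_comp_mulEquiv (Subgroup.subgroupOfEquivOfLe hNI) φ.2
    convert this using 2 with n
    rw [← hψ]
    rfl
  have hlin : ∀ {μ : G → ℂ}, IsIrrCharacter G μ → μ 1 = 1 → IsIrrCharacter I fun x : I => μ x :=
    fun h h1 => isIrr_of_one_eq_one (isCharacter_restrict I (isCharacter_of_isIrr h)) h1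
  have hker : ∀ {μ : G → ℂ}, IsIrrCharacter G μ → μ 1 = 1 → ∀ n ∈ N.subgroupOf I,
      μ (n : I) = μ (1 : I) := fun h h1 n hn => (mem_charKer (isCharacter_of_isIrr h)).1
    ((irr_one_eq_one_iff h).1 h1 (Subgroup.commutator_mono le_top le_top (hp.ge hn)))
  have hirr := fun {μ : G → ℂ} (h : IsIrrCharacter G μ) (h1 : μ 1 = 1) =>
    CharDeep.gallagher_isIrr _ (irr_isCharacter ψ) hres (hlin h h1) (hker h h1)
  have hover : ∀ {μ : G → ℂ}, IsIrrCharacter G μ → μ 1 = 1 →
      classInner (fun n : N => ((fun x : I => μ x) * (ψ : I → ℂ)) ⟨n, hNI n.2⟩) (φ : N → ℂ) ≠ 0 := by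
    intro μ h h1
    have : (fun n : N => ((fun x : I => μ x) * (ψ : I → ℂ)) ⟨n, hNI n.2⟩) = (φ : N → ℂ) := by
      ext n
      rw [Pi.mul_apply, hker h h1 _ n.2, Subgroup.coe_one, h1, one_mul, ← hψ]
      rfl
    rw [this, classInner_irr_self φ.2]
    exact one_ne_zero
  have hχ : IsIrrCharacter G (indFun I ψ) := isIrr_indFun_inertia N I hNI φ.2 hT ψ.2 (by
    simpa using hover isIrr_one rfl)
  have hr := real_of_fsInd ψ.2 (by rw [fsInd, hψ1]; exact one_ne_zero)
  have h1 := card_linear_le hχ (fsInd_eq_of_odd_mult I.subtype hχ ψ.2 ((S4911.real_iff _).mpr (by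
      rw [← indFun_conj, (S4911.real_iff _).mp hr])) hψ1 (by
      rw [mult_eq_of_eq I.subtype (m := 1) (by
        rw [Nat.cast_one, ← classInner_irr_self hχ, classInner_indFun_right I _
          (isClassFunction_of_isIrr hχ)]; rfl)]
      exact odd_one)) I fun μ μ' h h' k k' _ _ e => congrFun (CharDeep.gallagher_inj _
      (irr_isCharacter ψ) hres (hlin h k) (hker h k) (hlin h' k') (hker h' k')
      (clifford_corr_inj N I hNI φ.2 hT (hirr h k) (hirr h' k') (hover h k) (hover h' k') (by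
        rw [mul_comm μ, mul_comm μ', ← indFun_mul_res I _ (isClassFunction_of_isIrr h),
          ← indFun_mul_res I _ (isClassFunction_of_isIrr h')] at e
        rw [mul_comm, mul_comm _ ψ.1]
        exact e)))
  rwa [deg_ind I (irr_isCharacter ψ), mul_comm I.index (charDegree _),
    deg_congr (((congrArg _ (map_one _)).symm.trans (hψ 1)))] at h1

end Cfsg.Agent.S4912
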