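import Cfsg.Statements.S4926
import Cfsg.Agent.Lib.Nb5.Main
import Cfsg.Agent.Lib.K04.Back
-- import your own Cfsg.Agent.* helpers here

set_option autoImplicit false
open Cfsg

namespace Cfsg.Agent.S4926

/-- Let G be a finite group, p a prime, M a maximal ideal of the algebraic integers containing p, and P a Sylow p-subgroup of G with normalizer N and centralizer C. Then the principal p-block of G contains exactly five irreducible characters of degree not divisible by p if and only if either P has order 5 and the index of C in N is 1 or 4, or P has order 7 and the index of C in N is 2 or 3. -/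
theorem result {G : Type*} [Group G] [Finite G] (p : ℕ) [Fact p.Prime] (M : Ideal Cfsg.AlgInt) (hM : Cfsg.IsPModular p M) (P : Sylow p G) :
    Nat.card {χ : Cfsg.IrrCharacter G // χ ∈ Cfsg.principalBlock M G ∧ ¬ p ∣ Cfsg.charDegree (χ : G → ℂ)} = 5 ↔
      ((Nat.card P = 5 ∧ ((Subgroup.centralizer ((P : Subgroup G) : Set G)).relIndex (Subgroup.normalizer ((P : Subgroup G) : Set G)) = 1 ∨ (Subgroup.centralizer ((P : Subgroup G) : Set G)).relIndex (Subgroup.normalizer ((P : Subgroup G) : Set G)) = 4)) ∨
        (Nat.card P = 7 ∧ ((Subgroup.centralizer ((P : Subgroup G) : Set G)).relIndex (Subgroup.normalizer ((P : Subgroup G) : Set G)) = 2 ∨ (Subgroup.centralizer ((P : Subgroup G) : Set G)).relIndex (Subgroup.normalizer ((P : Subgroup G) : Set G)) = 3))) := by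
  have hp : p.Prime := Fact.out
  obtain ⟨e, he⟩ : ∃ e, (Subgroup.centralizer ((P : Subgroup G) : Set G)).relIndex
    (Subgroup.normalizer ((P : Subgroup G) : Set G)) = e := ⟨_, rfl⟩
  rw [he]
  constructor
  · intro h
    have h5 := h
    rw [CfsgLib.Ht0.card_X] at h5
    have hd := CfsgLib.Ht0.dvd_card_of_one_lt hM (by omega : 1 < (CfsgLib.Ht0.X p M G).card)
    by_cases h2 : p = 2
    · subst h2
      by_cases h4 : 2 ^ 2 ∣ Nat.card G
      · have := CfsgLib.K04.four_dvd hM h4
        omega
      · have := CfsgLib.Ht0.bwd_two hM P (CfsgLib.Ht0.card_sylow_of_not_sq P hd h4)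
        omega
    have hP := CfsgLib.Ht0.card_sylow_of_not_sq P hd fun h4 => by
      have := CfsgLib.Nb5.six_le hM h2 h4
      omega
    obtain ⟨⟨t, ht⟩, h3⟩ := CfsgLib.K04.card_prime hM h2 P hP he
    have h1 := hp.two_le
    have he0 : 0 < e := Nat.pos_of_ne_zero fun h0 => by rw [h0, zero_mul] at ht; omega
    rw [h, ht, Nat.mul_div_cancel_left _ he0] at h3
    rw [hP]
    have h6 : e ≤ 5 := by omega
    obtain rfl : t = 5 - e := by omega
    interval_cases e <;> omega
  · have k : ∀ q : ℕ, q.Prime → Nat.card P = q → p = q := fun q hq h => by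
      obtain ⟨n, hn⟩ := P.isPGroup'.exists_card_eq
      rw [h] at hn
      exact ((Nat.Prime.pow_eq_iff hq).1 hn.symm).1
    rintro (⟨h, h1⟩ | ⟨h, h1⟩)
    · obtain rfl := k 5 (by norm_num) h
      rw [(CfsgLib.K04.card_prime hM (by norm_num) P h he).2]
      rcases h1 with rfl | rfl <;> rfl
    · obtain rfl := k 7 (by norm_num) h
      rw [(CfsgLib.K04.card_prime hM (by norm_num) P h he).2]
      rcases h1 with rfl | rfl <;> rfl

end Cfsg.Agent.S4926
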