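import Mathlib
import Cfsg.Statements.S4947
import Cfsg.Agent.Lib.DetGal.C

set_option autoImplicit false
open Cfsg

namespace Cfsg.Agent.S4947

/-- If a finite group G has exactly four irreducible complex characters of odd degree, then for a Sylow 2-subgroup P of G the commutator subgroup of P has index 4 in P. -/
theorem result {G : Type*} [Group G] [Finite G] (P : Sylow 2 G) (h4 : Nat.card {χ : Cfsg.IrrCharacter G // ¬ 2 ∣ Cfsg.charDegree (χ : G → ℂ)} = 4) : (commutator ↥P).index = 4 := by
  exact CfsgLib.DetGal.four P h4

end Cfsg.Agent.S4947
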