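import Cfsg.Statements.S4997
import Cfsg.Agent.Lib.VanP.C

set_option autoImplicit false
open Cfsg

namespace Cfsg.Agent.S4997

/-- Let p be an odd prime and G a finite solvable group with exactly one conjugacy class consisting of vanishing elements (elements at which some irreducible complex character is zero) of order divisible by p. Let P be a Sylow p-subgroup of G. Then the order of P is at most p times the order of the largest normal p-subgroup of G. -/
theorem result {G : Type*} [Group G] [Finite G] (hsolv : Group.IsSolvable G) (p : ℕ) [Fact p.Prime] (hp : p ≠ 2) (h1 : Set.ncard {C : ConjClasses G | (∀ g ∈ C.carrier, ∃ χ : Cfsg.IrrCharacter G, (χ : G → ℂ) g = 0) ∧ ∃ g ∈ C.carrier, p ∣ orderOf g} = 1) (P : Sylow p G) : Nat.card ↥(P : Subgroup G) ≤ p * Nat.card ↥(Cfsg.pCore p G) := by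
  obtain ⟨C, hC⟩ := Set.ncard_eq_one.1 h1
  have key : ∀ g : G, CfsgLib.VanP.Van g → p ∣ orderOf g → ConjClasses.mk g = C := by
    rintro g ⟨χ, hχ, e⟩ pg
    refine hC.le ⟨fun x hx => ⟨⟨χ, hχ⟩, ?_⟩, g, ConjClasses.mem_carrier_mk, pg⟩
    rw [ConjClasses.mem_carrier_iff_mk_eq, ConjClasses.mk_eq_mk_iff_isConj] at hx
    exact (CfsgLib.Char.classFun_eq_of_isConj (CfsgLib.Char.isClassFunction_of_isIrr hχ) hx).trans e
  have h := CfsgLib.VanP.main (p := p) (G := G) (fun g h vg vh pg ph => by
    obtain ⟨c, rfl⟩ := isConj_iff.1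
      (ConjClasses.mk_eq_mk_iff_isConj.1 ((key g vg pg).trans (key h vh ph).symm))
    exact ((MulAut.conj c).orderOf_eq g).symm) P
  rw [← CfsgLib.Core.card_map_mk'_mul_card_inf (P : Subgroup G) (Cfsg.pCore p G)]
  exact Nat.mul_le_mul h (Subgroup.card_le_of_le inf_le_right)

end Cfsg.Agent.S4997
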