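import Cfsg.Statements.S5052
import Cfsg.Agent.Lib.RootInv.OT9

set_option autoImplicit false
open Cfsg

namespace Cfsg.Agent.S5052

open CfsgLib CfsgLib.RootInv
open scoped commutatorElement

/-- Let G be a finite group with O₂(G) = 1 and trivial centre, generated by a class D of odd transpositions whose commuting graph is connected, with some product of two different commuting members again in D. Then for each d ∈ D the members of D with the same commuting members as d, together with 1, form a subgroup E(d); and for every x ∈ D with dx of odd order greater than 1, the subgroup generated by E(d) and x is isomorphic to L₂(q) where q is the order of E(d). -/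
theorem result {G : Type*} [Group G] [Finite G] {D : Set G} (hD : Cfsg.IsOddTranspositionSet D) (hcl : Cfsg.IsRootInvolutionClass D)
    (hO : Cfsg.pCore 2 G = ⊥) (hZ : Subgroup.center G = ⊥) (hDD : (D ∩ Cfsg.commutingProducts D).Nonempty)
    (hc : Cfsg.IsConnectedSet (Cfsg.CommAdj D) D) {d : G} (hd : d ∈ D) :
    (Cfsg.sameCommutingSubgroup D d : Set G) = Cfsg.sameCommutingClass D d ∪ {1} ∧
    ∀ x ∈ Cfsg.oddPartners D d, ∃ (F : Type) (_ : Field F) (_ : Fintype F),
      Fintype.card F = Nat.card ↥(Cfsg.sameCommutingSubgroup D d) ∧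
      Nonempty (↥(Subgroup.closure (Cfsg.sameCommutingClass D d ∪ {x})) ≃* Matrix.ProjectiveSpecialLinearGroup (Fin 2) F) := by
  have h0 := nf_of hD
  have h : OG D := ⟨h0, hD.1.generates, fun a ha b hb => (hcl.2.2 a ha b hb).imp fun g e =>
    ⟨hD.1.generates ▸ Subgroup.mem_top g, e.symm⟩, h0.ri.exists_line hDD⟩
  have e : sameCommutingClass D d = Ec D d := Set.ext fun _ => h0.mem_same_iff hd
  have e1 : (Subgroup.closure (Ec D d) : Set G) = Ec D d ∪ {1} := Set.ext fun _ => h.mem_cl_ec asch hO hd
  rw [sameCommutingSubgroup, e]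
  refine ⟨e1, fun x hx => ?_⟩
  obtain ⟨F, i1, i2, -, -, h1, h2⟩ := h.isL2 hO hc hd (mem_odd_iff.1 hx).1 (mem_odd_iff.1 hx).2
  refine ⟨F, i1, i2, h1.trans ?_, h2⟩
  rw [← SetLike.coe_sort_coe, Nat.card_coe_set_eq, e1, Set.union_singleton,
    Set.ncard_insert_of_notMem (fun h3 => h.ri.ne 1 h3.1 rfl) (Set.toFinite _)]

end Cfsg.Agent.S5052
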