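import Cfsg.Statements.S5055
import Cfsg.Agent.Lib.RootInv.RS2

set_option autoImplicit false
open Cfsg

namespace Cfsg.Agent.S5055

open CfsgLib CfsgLib.RootInv
open scoped commutatorElement

/-- The Root Structure Theorem for root involutions. Let G be a finite group with O₂(G) = 1 and trivial centre, generated by a non-degenerate class D of root involutions such that for every d ∈ D the members of D with the same commuting members as d, together with 1, form a subgroup E(d). For d ∈ D let M_d be the subgroup generated by d and the members e ≠ d of D commuting with d with ed ∈ D, let W_d be the set of members of D commuting with d that have no partner with product of odd order among the members commuting with d, and let N_d be the subgroup generated by W_d. Then N_d = M_d; the members of D in N_d are d and the e just described; the commutator subgroup of N_d is E(d); and the members of D central in N_d are exactly those with the same commuting members as d. -/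
theorem result {G : Type*} [Group G] [Finite G] {D : Set G} (hD : Cfsg.IsNondegenerateRootInvolutionSet D)
    (hcl : Cfsg.IsRootInvolutionClass D) (hO : Cfsg.pCore 2 G = ⊥) (hZ : Subgroup.center G = ⊥)
    (hE : ∀ d ∈ D, (Cfsg.sameCommutingSubgroup D d : Set G) = Cfsg.sameCommutingClass D d ∪ {1}) {d : G} (hd : d ∈ D) :
    Subgroup.closure {w | Cfsg.IsIsolatedElem (Cfsg.OddAdj (Cfsg.commutingMembers D d)) (Cfsg.commutingMembers D d) w} =
      Subgroup.closure (Cfsg.productPartners D d ∪ {d}) ∧
    D ∩ (Subgroup.closure (Cfsg.productPartners D d ∪ {d}) : Set G) = Cfsg.productPartners D d ∪ {d} ∧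
    ⁅Subgroup.closure (Cfsg.productPartners D d ∪ {d}), Subgroup.closure (Cfsg.productPartners D d ∪ {d})⁆ =
      Cfsg.sameCommutingSubgroup D d ∧
    Cfsg.sameCommutingClass D d = {e | e ∈ D ∧ e ∈ Subgroup.closure (Cfsg.productPartners D d ∪ {d}) ∧
      ∀ y ∈ Subgroup.closure (Cfsg.productPartners D d ∪ {d}), e * y = y * e} := by
  have h0 := nd_of hD hcl
  have hs : ∀ d ∈ D, sameCommutingClass D d = Ec D d := fun d hd => by
    obtain ⟨x, hx, ho⟩ := h0.exists_od hd
    exact Set.ext fun e => h0.ri.mem_same_iff h0.cl hx ho hd
  have h : RS D := ⟨h0, fun e he f hf e1 hne => by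
    have h1 : e * f ∈ (sameCommutingSubgroup D e : Set G) := Subgroup.mul_mem _
      (Subgroup.subset_closure (hs e he ▸ ⟨he, rfl⟩)) (Subgroup.subset_closure (hs e he ▸ ⟨hf, e1.symm⟩))
    rw [hE e he, hs e he] at h1
    exact h1.resolve_right fun e2 => hne (h0.ri.eq_of_mul_eq_one hf e2)⟩
  refine ⟨by rw [iso_eq, ← h.wd_eq hd, Wd], Set.ext fun p => ⟨fun hp => ?_, fun hp =>
    ⟨by rcases hp with hp | rfl; exacts [hp.1.1, hd], Subgroup.subset_closure hp⟩⟩, ?_, ?_⟩
  · exact (h.of_mem_md hd hp.1 hp.2).symm.imp (mem_prod_iff hd).2 Eq.symm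
  · refine (h.commutator_md hd).trans (SetLike.ext' ?_)
    rw [hE d hd, hs d hd]
    rfl
  · rw [hs d hd]
    exact Set.ext fun e => h.mem_ec_iff hd

end Cfsg.Agent.S5055
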