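import Mathlib
import Cfsg.Statements.S5056
import Cfsg.Agent.Lib.RootInv.RTA8
import Cfsg.Agent.Lib.RootInv.RTB3
import Cfsg.Agent.Lib.RootInv.RTB7
import Cfsg.Agent.Lib.RootInv.RTC1
import Cfsg.Agent.Lib.RootInv.RTC2
import Cfsg.Agent.S5052
-- import your own Cfsg.Agent.* helpers here

set_option autoImplicit false
open Cfsg

namespace Cfsg.Agent.S5056

open CfsgLib CfsgLib.RootInv

/-- The Root Involution Theorem. Let G be a finite group with O₂(G) = 1 and trivial centre, generated by a class D of root involutions, and suppose some product of two different commuting members of D lies in D. Then one of the following holds. (1) The commuting graph of D is disconnected and G is isomorphic to L₂(q), Sz(q) or U₃(q) for a power q > 2 of 2. (2) The commuting graph of D is connected; for every d ∈ D the members of D with the same commuting members as d form, together with 1, a subgroup E(d); and either for every d the conjugates of E(d) form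 a class of abstract k-root subgroups of G, k a field with as many elements as E(d), or D is non-degenerate, every E(d) has order 2, and for every d the members of D commuting with d generate a subgroup of order at most 2¹⁰. -/
theorem result {G : Type*} [Group G] [Finite G] {D : Set G} (hcl : Cfsg.IsRootInvolutionClass D)
    (hO : Cfsg.pCore 2 G = ⊥) (hZ : Subgroup.center G = ⊥) (hDD : (D ∩ Cfsg.commutingProducts D).Nonempty) :
    (¬ Cfsg.IsConnectedSet (Cfsg.CommAdj D) D ∧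
      ((∃ (F : Type) (_ : Field F) (_ : Fintype F), CharP F 2 ∧ 4 ≤ Fintype.card F ∧
          Nonempty (G ≃* Matrix.ProjectiveSpecialLinearGroup (Fin 2) F)) ∨
        Cfsg.Lie.IsoSuzuki G ∨
        (∃ (F : Type) (_ : Field F) (_ : Fintype F) (q : ℕ), CharP F 2 ∧ Fintype.card F = q ^ 2 ∧ 4 ≤ q ∧
          Nonempty (G ≃* Cfsg.PSU 3 F q)))) ∨
    (Cfsg.IsConnectedSet (Cfsg.CommAdj D) D ∧
      (∀ d ∈ D, (Cfsg.sameCommutingSubgroup D d : Set G) = Cfsg.sameCommutingClass D d ∪ {1}) ∧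
      ((∀ d ∈ D, ∃ (F : Type) (_ : Field F) (_ : Fintype F),
          Fintype.card F = Nat.card ↥(Cfsg.sameCommutingSubgroup D d) ∧
          Cfsg.IsKRootSubgroupSet F {A : Subgroup G | ∃ g : G, A = Cfsg.conjBy (Cfsg.sameCommutingSubgroup D d) g} ∧
          Cfsg.IsConjClassOfSubgroups {A : Subgroup G | ∃ g : G, A = Cfsg.conjBy (Cfsg.sameCommutingSubgroup D d) g}) ∨
       (Cfsg.IsNondegenerateRootInvolutionSet D ∧ ∀ d ∈ D, Nat.card ↥(Cfsg.sameCommutingSubgroup D d) = 2 ∧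
          Nat.card ↥(Subgroup.closure (Cfsg.commutingMembers D d)) ≤ 2 ^ 10))) := by
  have hr := ri_of hcl.1
  by_cases hc : IsConnectedSet (CommAdj D) D
  swap
  · have hb : twoZCore G = ⊥ := le_bot_iff.1 ((twoZCore_le_center hO).trans hZ.le)
    have e : G ≃* G ⧸ twoZCore G := (QuotientGroup.quotientBot.symm).trans (QuotientGroup.quotientMulEquivOfEq hb.symm)
    refine Or.inl ⟨hc, (isB_iff (s5044 asch hcl.1 hDD hc)).imp ?_ (Or.imp ?_ ?_)⟩
    · rintro ⟨F, i1, i2, h1, h2, ⟨f⟩⟩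
      exact ⟨F, i1, i2, h1, h2, ⟨e.trans f⟩⟩
    · rintro ⟨F, i1, i2, m, h1, h2, ⟨f⟩⟩
      exact ⟨F, i1, i2, m, h1, h2, ⟨e.trans f⟩⟩
    · rintro ⟨F, i1, i2, q, h1, h2, h3, ⟨f⟩⟩
      exact ⟨F, i1, i2, q, h1, h2, h3, ⟨e.trans f⟩⟩
  have hl := hr.exists_line hDD
  have hod : ∃ a ∈ D, ∃ b ∈ D, Od a b := by
    by_contra hn
    push Not at hn
    have h1 := hr.isPGroup hn
    rw [hcl.1.generates] at h1
    obtain ⟨a, b, hab⟩ := hl
    exact hr.ne a hab.1 (Subgroup.mem_bot.1 (hO ▸ Core.le_pCore h1 (Subgroup.mem_top a)))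
  have hex : ∀ d ∈ D, ∃ x ∈ D, Od d x := fun d hd => by
    obtain ⟨a, ha, b, hb, ho⟩ := hod
    obtain ⟨g, rfl⟩ := hcl.2.2 a ha d hd
    exact ⟨_, hcl.1.conj_mem b hb g, (od_conj g).2 ho⟩
  refine Or.inr ⟨hc, ?_⟩
  by_cases hf : ∃ a ∈ D, ∃ b ∈ D, Fo a b
  swap
  · have hD : IsOddTranspositionSet D := ⟨hcl.1, fun a ha b hb h => hf ⟨a, ha, b, hb, h⟩⟩
    have hS := fun d (hd : d ∈ D) => (S5052.result hD hcl hO hZ hDD hc hd).1
    exact ⟨hS, Or.inl fun d hd => kroot_of hcl hS hex (fun a ha b hb ho => deg_psl2 hD hcl hO hDD hc ha hb ho)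
      (fun a ha b hb h => (hf ⟨a, ha, b, hb, h⟩).elim) hd⟩
  have hN : IsNondegenerateRootInvolutionSet D :=
    ⟨hcl.1, by obtain ⟨a, b, h⟩ := hl; exact ⟨a, h.1, b, h.2.1, h.2.2.1, h.2.2.2.1⟩, hod, hf⟩
  have h := (nd_of hN hcl).rs hO hZ
  have hs : ∀ d ∈ D, ∀ e, e ∈ sameCommutingClass D d ↔ Sm D e d := fun d hd e => by
    obtain ⟨x, hx, ho⟩ := hex d hd
    exact (hr.mem_same_iff h.cl hx ho hd).trans ⟨sm_of_ec hd, Sm.ec⟩
  have hE : ∀ d ∈ D, sameCommutingSubgroup D d = h.Eg d := fun d hd => by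
    refine le_antisymm ((Subgroup.closure_le _).2 fun e he => (h.mem_eg hd).2 (Or.inl ((hs d hd e).1 he))) fun e he => ?_
    rcases (h.mem_eg hd).1 he with he | rfl
    · exact Subgroup.subset_closure ((hs d hd e).2 he)
    · exact one_mem _
  have hS : ∀ d ∈ D, (sameCommutingSubgroup D d : Set G) = sameCommutingClass D d ∪ {1} := fun d hd =>
    Set.ext fun e => by rw [hE d hd, SetLike.mem_coe, h.mem_eg hd, Set.mem_union, hs d hd, Set.mem_singleton_iff]
  refine ⟨hS, ?_⟩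
  by_cases hb : ∃ d x, Bad D d x
  · obtain ⟨d, x, hb⟩ := hb
    have h2 := h.rk2 hZ hb
    have hq : ∀ a b, Sm D a b → a = b := fun a b s => by
      by_contra hn
      refine h.no_bad h2 (fun c hc => ?_) hb
      obtain ⟨g, rfl⟩ := h.exists_conj s.2.1 hc
      exact ⟨_, h.sm_conj s g, fun e => hn (by simpa using e)⟩
    refine Or.inr ⟨hN, fun d hd => ⟨?_, h.cl_comm_eq h2 hd ▸ h.card_md h2 hq hd⟩⟩
    rw [← SetLike.coe_sort_coe, Nat.card_coe_set_eq, hS d hd, show sameCommutingClass D d = {d} from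
      Set.ext fun e => (hs d hd e).trans ⟨hq e d, fun e1 => by rw [Set.mem_singleton_iff.1 e1]; exact Sm.rfl' hd⟩]
    exact Set.ncard_pair (hr.ne d hd)
  · refine Or.inl fun d hd => kroot_of hcl hS hex (fun a ha b hb' ho => ?_) (fun a ha b hb' f => ⟨fun c hc => ?_, fun c hc => ?_⟩) hd
    · obtain ⟨c, e, hp⟩ := (h.good_or_bad ha hb' ho).resolve_right fun h1 => hb ⟨a, b, h1⟩
      obtain ⟨F, i1, i2, ⟨C⟩⟩ := h.exists_co hp
      rw [hE a ha, hE b hb']
      exact ⟨F, i1, i2, h.co_card C, h.co_psl2 C fun s => (s.od hb' ho).1 rfl⟩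
    · exact (hs _ (hr.fo_mem ha hb' f) _).2 (h.sm_cm (Sm.rfl' ha) ((hs b hb' c).1 hc).symm f).symm
    · have e1 := hr.cm_symm ha hb' f
      obtain ⟨u, s, e⟩ := h.cm_surj hb' ha f.symm (e1 ▸ (hs _ (hr.fo_mem ha hb' f) c).1 hc)
      exact ⟨u, (hs b hb' u).2 s, (hr.cm_symm s.1 ha (h.sm_fo s.symm ha f.symm)).trans e⟩

end Cfsg.Agent.S5056
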