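import Cfsg.Statements.S5109
import Cfsg.Agent.Lib.Fusion.Apps
import Cfsg.Agent.S0665

set_option autoImplicit false
open Cfsg

namespace Cfsg.Agent.S5109

open CfsgLib.Fusion CfsgLib.CFun Equiv

theorem involves_of_fSec {Ω : Type*} [Group Ω] {S : Subgroup Ω} [Finite S] {F : FusionSystem S}
    (h : FSec F k4V) : ∃ U ≤ S, Involves (Perm (Fin 3)) (F.autGroup U) := by
  obtain ⟨P, π, hP, hπ, e, hh⟩ := h
  have := finite_of_le hP
  let ι : Perm (Fin 3) →* Perm (Fin 4) := Perm.extendDomainHom (finSuccAboveEquiv 3)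
  have h1 : ∀ σ, (∀ v ∈ k4V, v = ι σ * v * (ι σ)⁻¹) → σ = 1 := by decide +kernel
  refine ⟨P, hP, hsec_involves_of_graph
    { carrier := {x | ∀ a ∈ P, π (extAut x.1.1 a) = ι x.2 * π a * (ι x.2)⁻¹}
      one_mem' := fun a _ => by simp
      mul_mem' := fun {x y} hx hy a ha => by
        simp only [Prod.fst_mul, Prod.snd_mul, Subgroup.coe_mul, map_mul, Perm.mul_apply]
        rw [hx _ (extAut_mem _ ha), hy a ha]; group
      inv_mem' := fun {x} hx a ha => by
        have := hx _ (extAut_mem x.1.1⁻¹ ha)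
        rw [← Perm.mul_apply, ← map_mul, mul_inv_cancel, map_one, Perm.one_apply] at this
        simp only [Prod.fst_inv, Prod.snd_inv, Subgroup.coe_inv, map_inv ι]
        rw [this]; group } (fun x hx h0 => Prod.ext h0 (h1 _ fun v hv => ?_)) fun σ => ?_⟩
  · obtain ⟨a, ha, rfl⟩ := hπ.mem_img.1 (e ▸ hv : v ∈ img P π)
    simpa [h0] using hx a ha
  · obtain ⟨f, hf, hm, e'⟩ := hh (ι σ)
    obtain ⟨α, hα, e''⟩ := hf.exists_aut_of_mem hm
    exact ⟨(⟨α, hα⟩, σ), fun a ha => by rw [e'' a ha, e' a ha], rfl⟩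

/-- A saturated fusion system over a finite 2-group S in which no automorphism group Aut_F(U), U ≤ S, has a section isomorphic to the symmetric group of degree 3 is constrained. -/
theorem result {Ω : Type*} [Group Ω] {S : Subgroup Ω} [Finite S] (hS : IsPGroup 2 S) (F : Cfsg.FusionSystem S) (hF : F.IsSaturated 2) (h3 : ∀ U : Subgroup Ω, U ≤ S → ¬ Cfsg.Involves (Equiv.Perm (Fin 3)) ↥(F.autGroup U)) : F.IsConstrained 2 := by
  refine ((isSolvableSystem_iff hS hF).1 ((isFClass_not_fSec k4V).isSolvableSystem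
    (fun hS hF h h1 e => ?_) hS hF fun h => ?_)).constrained hS hF
  · obtain ⟨W, -, h2, -, h4⟩ := exists_char_normal_of_not_fSec affType_k4V (fun Q _ _ _ hQ =>
      (Cfsg.Agent.S0665.result hQ).imp fun W h => ⟨h.1, h.2.2⟩) hS h1
    exact h2 (eq_bot_iff.2 (e ▸ le_core (h4 _ hF h)))
  · obtain ⟨U, hU, h⟩ := involves_of_fSec h
    exact h3 U hU h

end Cfsg.Agent.S5109
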