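import Cfsg.Statements.S5177
import Cfsg.Agent.Lib.Fus3.XP
import Cfsg.Agent.Lib.Fus3.XG2
import Cfsg.Agent.Lib.Fus3.XA3

set_option autoImplicit false
universe u
open Cfsg

namespace Cfsg.Agent.S5177

/-- Let p be an odd prime, S a finite p-group of order at least p⁶ containing an extraspecial subgroup Q of index p, and F a saturated fusion system over S whose largest subgroup normal in F is trivial. Then S is isomorphic to a Sylow p-subgroup of SL(4,p), to a Sylow p-subgroup of SU(4,p), to a Sylow p-subgroup of G₂(p) with p ≥ 5, or p ≥ 11 and S has order p^(p−1), exponent p and maximal nilpotency class. -/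
theorem result {Ω : Type u} [Group Ω] {S : Subgroup Ω} [Finite S] (p : ℕ) [Fact p.Prime] (hp : Odd p) (hS : IsPGroup p S)
    (Q : Subgroup Ω) (hQS : Q ≤ S) (hQ : Cfsg.IsExtraspecial p ↥Q) (hQi : (Q.subgroupOf S).index = p)
    (h6 : p ^ 6 ≤ Nat.card S)
    (F : Cfsg.FusionSystem S) (hF : F.IsSaturated p) (hO : F.core = ⊥) [Group.IsNilpotent ↥S] :
    (∃ P : Sylow p (Matrix.SpecialLinearGroup (Fin 4) (ZMod p)),
        Nonempty (↥S ≃* ↥(P : Subgroup (Matrix.SpecialLinearGroup (Fin 4) (ZMod p))))) ∨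
      (∃ (K : Type) (_ : Field K) (_ : Fintype K), Fintype.card K = p ^ 2 ∧
        ∃ P : Sylow p ↥(Cfsg.SU 4 K p), Nonempty (↥S ≃* ↥(P : Subgroup ↥(Cfsg.SU 4 K p)))) ∨
      (5 ≤ p ∧ ∃ P : Sylow p ↥(Cfsg.Lie.G2 (ZMod p)), Nonempty (↥S ≃* ↥(P : Subgroup ↥(Cfsg.Lie.G2 (ZMod p))))) ∨
      (11 ≤ p ∧ Nat.card S = p ^ (p - 1) ∧ (∀ x : ↥S, x ^ p = 1) ∧ Group.nilpotencyClass ↥S = p - 2) := by
  have pp : p.Prime := Fact.out
  have h2 : p ≠ 2 := by rintro rfl; exact absurd hp (by decide)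
  obtain ⟨Γ, _, _, t, S', F', h, hl⟩ := CfsgLib.Fus2.exists_LR hS hF
  obtain rfl := h.img_eq
  have := CfsgLib.Fusion.finite_of_le hQS
  have c : Nat.card S = Nat.card Q * p := by rw [← hQi, ← Subgroup.card_mul_index (Q.subgroupOf S),
    Nat.card_congr (Subgroup.subgroupOfEquivOfLe hQS).toEquiv]
  have e := CfsgLib.Fus2.facEquiv h le_rfl
  have x : CfsgLib.Fus3.XQ p (CfsgLib.Fusion.img S t) (CfsgLib.Fusion.img Q t) _ :=
    ⟨h2, hl.pS, h.img_le hQS, CfsgLib.Fus2.relIndex_eq_of_card (h.img_le hQS) (h.iso_card hQS)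
      ((h.iso_card le_rfl).trans c),
      CfsgLib.Fus3.extra_of_equiv hQ (CfsgLib.Fus2.facEquiv h hQS), by
        rw [h.iso_card hQS]
        rw [c, pow_succ] at h6
        exact Nat.le_of_mul_le_mul_right h6 pp.pos, rfl⟩
  rcases x.main hl (CfsgLib.Fus2.fac_core h hO) with ⟨w, h3, h4 | h4⟩ | ⟨h3, m, h4⟩
  · obtain ⟨h5, P, ⟨e'⟩⟩ := h3.iso_G2 h2 h4
    exact Or.inr (Or.inr (Or.inl ⟨h5, P, ⟨e.trans e'⟩⟩))
  · rcases h3.iso_A3 h2 h4 with ⟨P, ⟨e'⟩⟩ | ⟨K, _, _, hK, P, ⟨e'⟩⟩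
    · exact Or.inl ⟨P, ⟨e.trans e'⟩⟩
    · exact Or.inr (Or.inl ⟨K, _, _, hK, P, ⟨e.trans e'⟩⟩)
  · have := hl.pS.isNilpotent
    refine Or.inr (Or.inr (Or.inr ⟨h3, (h.iso_card le_rfl).symm.trans m.card,
      fun s => Subtype.ext (CfsgLib.Fus2.fac_pow h le_rfl h4 s s.2), ?_⟩))
    rw [show p - 2 = p - 1 - 1 by omega, ← m.cls]
    exact le_antisymm (nilpotencyClass_le_of_surjective e.symm.toMonoidHom e.symm.surjective)
      (nilpotencyClass_le_of_surjective e.toMonoidHom e.surjective)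

end Cfsg.Agent.S5177
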