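import Mathlib
import Cfsg.Statements.S5178
import Cfsg.Agent.Lib.Fusion.SmallCenter

set_option autoImplicit false
universe u
open Cfsg

namespace Cfsg.Agent.S5178

open CfsgLib CfsgLib.Fusion Cfsg.FusionSystem

/-- Let p be an odd prime, S a finite p-group containing an extraspecial subgroup Q of index p, and F a saturated fusion system over S whose largest subgroup normal in F is trivial. Then the centre of S equals the centre of Q. -/
theorem result {Ω : Type u} [Group Ω] {S : Subgroup Ω} [Finite S] (p : ℕ) [Fact p.Prime] (hp : Odd p) (hS : IsPGroup p S)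
    (Q : Subgroup Ω) (hQS : Q ≤ S) (hQ : Cfsg.IsExtraspecial p ↥Q) (hQi : (Q.subgroupOf S).index = p)
    (F : Cfsg.FusionSystem S) (hF : F.IsSaturated p) (hO : F.core = ⊥) :
    S ⊓ Subgroup.centralizer (S : Set Ω) = Q ⊓ Subgroup.centralizer (Q : Set Ω) := by
  obtain ⟨F', hT⟩ := exists_isTopOf F
  have hF' := hT.saturated hS hF
  have h0 := hT.core_eq_bot hO
  have hp2 : p ≠ 2 := by rintro rfl; exact absurd hp (by decide)
  obtain ⟨h1, h2⟩ := PGroup.IsExtraspecial.ambient hQ
  have hinj := S.subtype_injective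
  have hQm := Subgroup.map_subgroupOf_eq_of_le hQS
  have hn : (Q.subgroupOf S).Normal := PGroup.normal_of_index_eq_prime hS hQi
  have h3 : ⁅Q.subgroupOf S, Q.subgroupOf S⁆.map S.subtype = Q ⊓ Subgroup.centralizer (Q : Set Ω) := by
    rw [Subgroup.map_commutator, hQm, h1]
  have h4 : Nat.card (⁅Q.subgroupOf S, Q.subgroupOf S⁆ : Subgroup S) = p := by
    rw [← h2, ← h3, Subgroup.card_map_of_injective hinj]
  rw [← map_center_subtype, ← h3]
  congr 1
  by_cases hZ : Subgroup.center S ≤ Q.subgroupOf S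
  · refine le_antisymm (fun z hz => ?_) (PGroup.le_center_of_card_eq_prime hS _ h4)
    rw [← Subgroup.mem_map_iff_mem hinj, h3]
    exact ⟨hZ hz, fun y hy => congrArg Subtype.val (Subgroup.mem_center_iff.1 hz ⟨y, hQS hy⟩)⟩
  obtain ⟨z, hz, hzQ⟩ := SetLike.not_le_iff_exists.1 hZ
  have h5 : Q.subgroupOf S ⊔ Subgroup.zpowers z = ⊤ := eq_sup_zpowers_of_relIndex_prime le_top
    (by rw [Subgroup.relIndex_top_right, hQi]; exact Fact.out) trivial hzQ
  have h6 : commutator S = ⁅Q.subgroupOf S, Q.subgroupOf S⁆ := by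
    refine le_antisymm (Subgroup.commutator_le.2 fun a _ b _ => ?_)
      (Subgroup.commutator_mono le_top le_top)
    obtain ⟨a, ha, i, rfl⟩ := PGroup.mem_sup_zpowers_iff.1 (h5 ▸ Subgroup.mem_top a)
    obtain ⟨b, hb, j, rfl⟩ := PGroup.mem_sup_zpowers_iff.1 (h5 ▸ Subgroup.mem_top b)
    have c1 := Subgroup.mem_center_iff.1 (Subgroup.zpow_mem _ hz i)
    have c2 := Subgroup.mem_center_iff.1 (Subgroup.zpow_mem _ hz j)
    convert Subgroup.commutator_mem_commutator ha hb using 1
    simp only [commutatorElement_def, mul_inv_rev]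
    calc _ = a * (z ^ i * (b * z ^ j) * (z ^ i)⁻¹) * a⁻¹ * (z ^ j)⁻¹ * b⁻¹ := by group
      _ = a * b * (z ^ j * a⁻¹ * (z ^ j)⁻¹) * b⁻¹ := by rw [← c1]; group
      _ = _ := by rw [← c2]; group
  rw [← h6] at h4 ⊢
  exact center_eq_commutator_of_card hS hF' hp2 h0 h4

end Cfsg.Agent.S5178
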