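import Mathlib
import Cfsg.Statements.S5179
import Cfsg.Agent.Lib.Fusion.SmallCenter

set_option autoImplicit false
universe u
open Cfsg

namespace Cfsg.Agent.S5179

open CfsgLib CfsgLib.Fusion Cfsg.FusionSystem

/-- Let p be an odd prime, S a finite p-group of order at least p⁶ containing an extraspecial subgroup Q of index p, and F a saturated fusion system over S whose largest subgroup normal in F is trivial. Then no proper subgroup of Q is essential in F: an essential subgroup of F contained in Q equals Q. -/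
theorem result {Ω : Type u} [Group Ω] {S : Subgroup Ω} [Finite S] (p : ℕ) [Fact p.Prime] (hp : Odd p) (hS : IsPGroup p S)
    (Q : Subgroup Ω) (hQS : Q ≤ S) (hQ : Cfsg.IsExtraspecial p ↥Q) (hQi : (Q.subgroupOf S).index = p)
    (h6 : p ^ 6 ≤ Nat.card S)
    (F : Cfsg.FusionSystem S) (hF : F.IsSaturated p) (hO : F.core = ⊥)
    (E : Subgroup Ω) (hEQ : E ≤ Q) (hE : F.IsEssential p E) : E = Q := by
  by_contra hne
  have := finite_of_le hQS
  have hp1 := (Fact.out : p.Prime).one_lt
  obtain ⟨h1, h2⟩ := PGroup.IsExtraspecial.ambient hQ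
  obtain ⟨h3, h4⟩ := essential_of_commutator_prime hS hF hE hEQ hQS hne h2 inf_le_left inf_le_right h1.le
  obtain ⟨n, -, hn⟩ := PGroup.IsExtraspecial.exists_card_eq hQ
  have h5 := PGroup.IsExtraspecial.card_le_of_isMulCommutative hQ hn
    ((isMulCommutative_subgroupOf_iff hEQ).2 (isMulCommutative_iff_forall.2 h3))
  have h7 := (E.subgroupOf Q).card_mul_index
  have h8 := (Q.subgroupOf S).card_mul_index
  rw [hQi, Nat.card_congr (Subgroup.subgroupOfEquivOfLe hQS).toEquiv, hn, ← pow_succ] at h8
  rw [← h8, Nat.pow_le_pow_iff_right hp1] at h6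
  have h9 : p ^ (2 * n + 1) ≤ p ^ (n + 2) := by
    rw [← hn, ← h7, show (E.subgroupOf Q).index = p from h4, pow_succ p (n + 1)]
    gcongr
  rw [Nat.pow_le_pow_iff_right hp1] at h9
  omega

end Cfsg.Agent.S5179
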