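import Cfsg.Statements.S5180
import Cfsg.Agent.Lib.Fus2.NN2

set_option autoImplicit false
universe u
open Cfsg

namespace Cfsg.Agent.S5180

/-- Let p ≥ 5 be a prime, S a finite p-group of sectional p-rank exactly 3, and F a saturated fusion system over S. Then every essential subgroup E of F that needs three generators (the Frattini quotient E/Φ(E) has order p³) is normal in S. -/
theorem result {Ω : Type u} [Group Ω] {S : Subgroup Ω} [Finite S] (p : ℕ) [Fact p.Prime] (hp : 5 ≤ p) (hS : IsPGroup p S) (hsr : Cfsg.SectionalPRankLE p 3 ↥S ∧ ¬ Cfsg.SectionalPRankLE p 2 ↥S)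
    (F : Cfsg.FusionSystem S) (hF : F.IsSaturated p) (E : Subgroup Ω) (hE : F.IsEssential p E)
    (hrk : (frattini ↥E).index = p ^ 3) : S ≤ Subgroup.normalizer (E : Set Ω) := by
  obtain ⟨Γ, _, _, t, S', F', h, hl⟩ := CfsgLib.Fus2.exists_LR hS hF
  by_contra hn
  have := CfsgLib.Fusion.finite_of_le hE.1.1
  have hP := (hl.pearl_of_not_normal hp (CfsgLib.Fus2.fac_rk h hsr.1) (h.iso_essential hE)
    fun H => hn ((CfsgLib.Fus2.fac_norm h hE.1.1).1 H)).of_equiv (CfsgLib.Fus2.facEquiv h hE.1.1)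
  have h1 := (frattini E).card_mul_index
  have h2 : 0 < Nat.card (frattini E) := Nat.card_pos
  rw [hrk] at h1
  rcases hP with H | H
  · rw [H.2] at h1
    exact CfsgLib.Fus2.not_pow_le (p := p) (a := 3) (b := 2) (h1 ▸ Nat.le_mul_of_pos_left _ h2)
      (by omega)
  · rw [H.2.1, Nat.mul_eq_right (by positivity), Subgroup.card_eq_one,
      CfsgLib.Core.frattini_eq_bot_iff_of_isPGroup (hS.to_le hE.1.1)] at h1
    exact CfsgLib.PGroup.IsExtraspecial.not_isMulCommutative H.1 h1.1

end Cfsg.Agent.S5180
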