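import Cfsg.Statements.S5181
import Cfsg.Agent.Lib.Fus2.Norm

set_option autoImplicit false
universe u
open Cfsg

namespace Cfsg.Agent.S5181

/-- Let p be an odd prime, S a finite p-group of sectional p-rank exactly 3, and F a saturated fusion system over S whose largest subgroup normal in F is trivial. Then either S is isomorphic to a Sylow p-subgroup of Sp(4,p), or some essential subgroup of F is not normal in S. -/
theorem result {Ω : Type u} [Group Ω] {S : Subgroup Ω} [Finite S] (p : ℕ) [Fact p.Prime] (hp : Odd p) (hS : IsPGroup p S) (hsr : Cfsg.SectionalPRankLE p 3 ↥S ∧ ¬ Cfsg.SectionalPRankLE p 2 ↥S)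
    (F : Cfsg.FusionSystem S) (hF : F.IsSaturated p) (hO : F.core = ⊥) :
    (∃ P : Sylow p ↥(Matrix.symplecticGroup (Fin 2) (ZMod p)),
        Nonempty (↥S ≃* ↥(P : Subgroup ↥(Matrix.symplecticGroup (Fin 2) (ZMod p))))) ∨
      ∃ E : Subgroup Ω, F.IsEssential p E ∧ ¬ S ≤ Subgroup.normalizer (E : Set Ω) := by
  have h2 : p ≠ 2 := by rintro rfl; exact absurd hp (by decide)
  obtain ⟨Γ, _, _, t, S', F', h, hl⟩ := CfsgLib.Fus2.exists_LR hS hF
  by_contra hn
  push Not at hn
  rcases hl.all_normal h2 (CfsgLib.Fus2.fac_rk h hsr.1) (CfsgLib.Fus2.fac_core h hO)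
    (CfsgLib.Fus2.fac_ne_bot h hsr.2) (fun E' hE' => by
      obtain ⟨E, hE, rfl⟩ := h.iso_exists_img hE'.1.1
      exact (CfsgLib.Fus2.fac_norm h hE).2
        (hn.2 E ((CfsgLib.Fus2.fac_essential_iff h hE).1 hE'))) with H | ⟨U, Q, -, -, H⟩
  · exact CfsgLib.Fus2.fac_not_cube h hsr.2 H
  · obtain ⟨P, ⟨e⟩⟩ := CfsgLib.Fus2.fac_sp4 h H h2
    exact (hn.1 P).false e

end Cfsg.Agent.S5181
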