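import Cfsg.Statements.S5182
import Cfsg.Agent.Lib.Fus2.NN2

set_option autoImplicit false
universe u
open Cfsg

namespace Cfsg.Agent.S5182

/-- Let p ≥ 5 be a prime, S a finite p-group of sectional p-rank exactly 3, and F a saturated fusion system over S whose largest subgroup normal in F is trivial. Then F has an essential subgroup that is either elementary abelian of order p² or extraspecial of order p³ and exponent p. -/
theorem result {Ω : Type u} [Group Ω] {S : Subgroup Ω} [Finite S] (p : ℕ) [Fact p.Prime] (hp : 5 ≤ p) (hS : IsPGroup p S) (hsr : Cfsg.SectionalPRankLE p 3 ↥S ∧ ¬ Cfsg.SectionalPRankLE p 2 ↥S)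
    (F : Cfsg.FusionSystem S) (hF : F.IsSaturated p) (hO : F.core = ⊥) :
    ∃ E : Subgroup Ω, (F.IsEssential p E ∧ ((Cfsg.IsElementaryAbelian p E ∧ Nat.card E = p ^ 2) ∨
        (Cfsg.IsExtraspecial p ↥E ∧ Nat.card E = p ^ 3 ∧ ∀ x ∈ E, x ^ p = 1))) := by
  obtain ⟨Γ, _, _, t, S', F', h, hl⟩ := CfsgLib.Fus2.exists_LR hS hF
  have hr := CfsgLib.Fus2.fac_rk h hsr.1
  have key : ∃ E', F'.IsEssential p E' ∧ CfsgLib.Fus2.Pearl p E' := by
    by_cases hn : ∀ E', F'.IsEssential p E' → S' ≤ Subgroup.normalizer (E' : Set Γ)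
    · rcases hl.all_normal (by omega) hr (CfsgLib.Fus2.fac_core h hO)
        (CfsgLib.Fus2.fac_ne_bot h hsr.2) hn with H | ⟨U, Q, -, hQ, H⟩
      · exact (CfsgLib.Fus2.fac_not_cube h hsr.2 H).elim
      · exact ⟨Q, hQ, Or.inr ⟨H.extra, H.cardQ, H.expQ⟩⟩
    · push Not at hn
      obtain ⟨E', hE', hn⟩ := hn
      exact ⟨E', hE', hl.pearl_of_not_normal hp hr hE' hn⟩
  obtain ⟨E', hE', hP⟩ := key
  obtain ⟨E, hE, rfl⟩ := h.iso_exists_img hE'.1.1
  have := CfsgLib.Fusion.finite_of_le hE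
  exact ⟨E, (CfsgLib.Fus2.fac_essential_iff h hE).1 hE', hP.of_equiv (CfsgLib.Fus2.facEquiv h hE)⟩

end Cfsg.Agent.S5182
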