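import Mathlib
import Cfsg.Statements.S5185
import Cfsg.Agent.Lib.Fusion.Essential
import Cfsg.Agent.Lib.Fusion.EssSmall

set_option autoImplicit false
universe u
open Cfsg

namespace Cfsg.Agent.S5185

open CfsgLib.Fusion Cfsg.FusionSystem

theorem elem_of {Ω : Type u} [Group Ω] {p : ℕ} {H : Subgroup Ω}
    (h : IsMulCommutative H ∧ ∀ x : H, x ^ p = 1) : Cfsg.IsElementaryAbelian p H :=
  ⟨h.1, fun a ha => congrArg Subtype.val (h.2 ⟨a, ha⟩)⟩

/-- Let F be a saturated fusion system over a finite p-group S and H an essential subgroup of order p². Then H is elementary abelian (isomorphic to C_p × C_p) and its F-automorphism group contains a subgroup isomorphic to SL(2,p). -/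
theorem result {Ω : Type u} [Group Ω] {S : Subgroup Ω} [Finite S] (p : ℕ) [Fact p.Prime] (hS : IsPGroup p S)
    (F : Cfsg.FusionSystem S) (hF : F.IsSaturated p) (H : Subgroup Ω) (hH : F.IsEssential p H) (hcard : Nat.card H = p ^ 2) :
    Cfsg.IsElementaryAbelian p H ∧
      ∃ K : Subgroup ↥(F.autGroup H), Nonempty (↥K ≃* Matrix.SpecialLinearGroup (Fin 2) (ZMod p)) := by
  have := essential_finite hH
  obtain ⟨M, hM⟩ := essential_essAut hS hF hH
  obtain ⟨d, h2, hd, hi⟩ := hM.index_frattini_le hcard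
  obtain rfl : d = 2 := le_antisymm hd h2
  refine ⟨elem_of (elem_of_index_frattini hcard hi), ?_⟩
  obtain ⟨φ, hφ, hr⟩ := hM.exists_SL2 hcard
  exact ⟨φ.range.subgroupOf _, ⟨(Subgroup.subgroupOfEquivOfLe hr).trans
    (MonoidHom.ofInjective hφ).symm⟩⟩

end Cfsg.Agent.S5185
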