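import Mathlib
import Cfsg.Statements.S5186
import Cfsg.Agent.Lib.Fusion.Essential
import Cfsg.Agent.Lib.Fusion.EssSmall

set_option autoImplicit false
universe u
open Cfsg

namespace Cfsg.Agent.S5186

open CfsgLib.Fusion Cfsg.FusionSystem

theorem elem_of {Ω : Type u} [Group Ω] {p : ℕ} {H : Subgroup Ω}
    (h : IsMulCommutative H ∧ ∀ x : H, x ^ p = 1) : Cfsg.IsElementaryAbelian p H :=
  ⟨h.1, fun a ha => congrArg Subtype.val (h.2 ⟨a, ha⟩)⟩

/-- Let F be a saturated fusion system over a finite p-group S and H an essential subgroup of order p³. Then H is elementary abelian, or p is odd and H is extraspecial of exponent p, or p = 2 and H is the quaternion group of order 8. -/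
theorem result {Ω : Type u} [Group Ω] {S : Subgroup Ω} [Finite S] (p : ℕ) [Fact p.Prime] (hS : IsPGroup p S)
    (F : Cfsg.FusionSystem S) (hF : F.IsSaturated p) (H : Subgroup Ω) (hH : F.IsEssential p H) (hcard : Nat.card H = p ^ 3) :
    Cfsg.IsElementaryAbelian p H ∨ (Odd p ∧ Cfsg.IsExtraspecial p ↥H ∧ ∀ x ∈ H, x ^ p = 1) ∨
      (p = 2 ∧ Nonempty (↥H ≃* QuaternionGroup 2)) := by
  have := essential_finite hH
  obtain ⟨M, hM⟩ := essential_essAut hS hF hH
  rcases hM.card_cube hcard with h | ⟨h2, h, h'⟩ | h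
  · exact Or.inl (elem_of h)
  · exact Or.inr (Or.inl ⟨(Fact.out : p.Prime).odd_of_ne_two h2, h,
      fun a ha => congrArg Subtype.val (h' ⟨a, ha⟩)⟩)
  · exact Or.inr (Or.inr h)

end Cfsg.Agent.S5186
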