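import Mathlib
import Cfsg.Statements.S5187
import Cfsg.Agent.Lib.Fusion.Essential
import Cfsg.Agent.Lib.Fusion.EssSmall

set_option autoImplicit false
universe u
open Cfsg

namespace Cfsg.Agent.S5187

open CfsgLib.Fusion Cfsg.FusionSystem

theorem elem_of {Ω : Type u} [Group Ω] {p : ℕ} {H : Subgroup Ω}
    (h : IsMulCommutative H ∧ ∀ x : H, x ^ p = 1) : Cfsg.IsElementaryAbelian p H :=
  ⟨h.1, fun a ha => congrArg Subtype.val (h.2 ⟨a, ha⟩)⟩

/-- Let F be a saturated fusion system over a finite p-group S and H an abelian essential subgroup that can be generated by two elements (its Frattini quotient has order at most p²). Then H is elementary abelian of order p², or p ≤ 3 and H is homocyclic of rank two, that is isomorphic to C_{pᵏ} × C_{pᵏ} for some k. -/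
theorem result {Ω : Type u} [Group Ω] {S : Subgroup Ω} [Finite S] (p : ℕ) [Fact p.Prime] (hS : IsPGroup p S)
    (F : Cfsg.FusionSystem S) (hF : F.IsSaturated p) (H : Subgroup Ω) (hH : F.IsEssential p H) (hab : IsMulCommutative ↥H) (hrk : (frattini ↥H).index ≤ p ^ 2) :
    (Cfsg.IsElementaryAbelian p H ∧ Nat.card H = p ^ 2) ∨
      (p ≤ 3 ∧ ∃ k : ℕ, Nonempty (↥H ≃* Multiplicative (ZMod (p ^ k) × ZMod (p ^ k)))) := by
  have := essential_finite hH
  have hp : p.Prime := Fact.out
  have hE := essential_isPGroup hS hH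
  obtain ⟨M, hM⟩ := essential_essAut hS hF hH
  obtain ⟨d, h2, hi⟩ := hM.exists_index_frattini hE
  obtain rfl : d = 2 := le_antisymm ((Nat.pow_le_pow_iff_right hp.one_lt).1 (hi ▸ hrk)) h2
  have hc := isMulCommutative_iff_forall.1 hab
  obtain ⟨a, h1, h2, h3⟩ := hM.abelian_rank_two hE hc hi
  rcases h3 with rfl | h3
  · left
    have h1' : ∀ z : H, z ^ p = 1 := by simpa using h1
    refine ⟨elem_of ⟨hab, h1'⟩, ?_⟩
    have hb : frattini H = ⊥ := by
      refine eq_bot_iff.2 fun z hz => ?_
      obtain ⟨w, rfl⟩ := exists_pow_eq_of_mem_frattini (p := p) hc hz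
      exact h1' w
    rw [← hi, hb, Subgroup.index_bot]
  · exact Or.inr ⟨h3, a + 1, nonempty_equiv_homocyclic hE hc hi h1 h2⟩

end Cfsg.Agent.S5187
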