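import Mathlib
import Cfsg.Statements.S5188
import Cfsg.Agent.Lib.Fusion.Essential
import Cfsg.Agent.Lib.Fusion.EssFour

set_option autoImplicit false
universe u
open Cfsg

namespace Cfsg.Agent.S5188

open CfsgLib.Fusion Cfsg.FusionSystem

theorem exists_small (K : Type u) [Group K] [Finite K] :
    ∃ (E : Type) (_ : Group E) (_ : Finite E), Nonempty (E ≃* K) :=
  ⟨Shrink.{0} K, inferInstance, Finite.of_equiv K (equivShrink.{0} K), ⟨Shrink.mulEquiv⟩⟩

/-- Let F be a saturated fusion system over a finite p-group S and H an essential subgroup of order p⁴. Then H is isomorphic to one of: C_p⁴ or C_{p²} × C_p × C_p (any p); C_{p²} × C_{p²} with p ∈ {2, 3}; p^{1+2}_+ × C_p with p odd (the direct product of an extraspecial group of order p³ and exponent p with a group of order p); Q₈ × C₂ (p = 2); or the non-abelian group of order p⁴ of exponent p² whose centre is cyclic of order p² (the central product of an extraspecial group of order p³ with a cyclic group of order p²; for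 p = 2 this is D₈ ∘ C₄). -/
theorem result {Ω : Type u} [Group Ω] {S : Subgroup Ω} [Finite S] (p : ℕ) [Fact p.Prime] (hS : IsPGroup p S)
    (F : Cfsg.FusionSystem S) (hF : F.IsSaturated p) (H : Subgroup Ω) (hH : F.IsEssential p H) (hcard : Nat.card H = p ^ 4) :
    Cfsg.IsElementaryAbelian p H ∨
      Nonempty (↥H ≃* Multiplicative (ZMod (p ^ 2) × ZMod p × ZMod p)) ∨
      ((p = 2 ∨ p = 3) ∧ Nonempty (↥H ≃* Multiplicative (ZMod (p ^ 2) × ZMod (p ^ 2)))) ∨
      (Odd p ∧ ∃ (E : Type) (_ : Group E) (_ : Finite E), Cfsg.IsExtraspecial p E ∧ Nat.card E = p ^ 3 ∧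
        (∀ x : E, x ^ p = 1) ∧ Nonempty (↥H ≃* E × Multiplicative (ZMod p))) ∨
      (p = 2 ∧ Nonempty (↥H ≃* QuaternionGroup 2 × Multiplicative (ZMod 2))) ∨
      (¬ IsMulCommutative ↥H ∧ (∀ x ∈ H, x ^ (p ^ 2) = 1) ∧ IsCyclic ↥(Subgroup.center ↥H) ∧
        Nat.card (Subgroup.center ↥H) = p ^ 2) := by
  have := essential_finite hH
  obtain ⟨M, hM⟩ := essential_essAut hS hF hH
  rcases hM.card_four hcard with h | h | h | ⟨h2, K, hK, hc, he, ⟨e⟩⟩ | h | ⟨h1, h2, h3⟩
  · exact Or.inl ⟨h.1, fun a ha => congrArg Subtype.val (h.2 ⟨a, ha⟩)⟩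
  · exact Or.inr (Or.inl h)
  · exact Or.inr (Or.inr (Or.inl h))
  · obtain ⟨E, _, _, ⟨g⟩⟩ := exists_small K
    have hc' : Nat.card E = p ^ 3 := (Nat.card_congr g.toEquiv).trans hc
    refine Or.inr (Or.inr (Or.inr (Or.inl ⟨(Fact.out : p.Prime).odd_of_ne_two h2, E,
      inferInstance, inferInstance, isExtraspecial_of_card_cube hc' fun ha => hK ?_, hc',
      fun x => g.injective ?_, ⟨e.trans (MulEquiv.prodCongr g.symm (MulEquiv.refl _))⟩⟩)))
    · refine isMulCommutative_iff_forall.2 fun a b => g.symm.injective ?_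
      rw [map_mul, map_mul]
      exact isMulCommutative_iff_forall.1 ha _ _
    · rw [map_pow, map_one]
      exact Subtype.ext (he _)
  · exact Or.inr (Or.inr (Or.inr (Or.inr (Or.inl h))))
  · exact Or.inr (Or.inr (Or.inr (Or.inr (Or.inr
      ⟨h1, fun a ha => congrArg Subtype.val (h2 ⟨a, ha⟩), h3⟩))))

end Cfsg.Agent.S5188
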