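import Cfsg.Statements.S5189
import Cfsg.Agent.Lib.Fus2.Norm

set_option autoImplicit false
universe u
open Cfsg

namespace Cfsg.Agent.S5189

/-- Let p be an odd prime, S a finite p-group of sectional p-rank exactly 3, and F a saturated fusion system over S whose largest subgroup normal in F is trivial. Suppose S has two distinct essential subgroups E₁, E₂ each of which is invariant under every F-automorphism of S. Then S is isomorphic to a Sylow p-subgroup of Sp(4,p), and one of E₁, E₂ is extraspecial of order p³ and exponent p while the other is elementary abelian of order p³. -/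
theorem result {Ω : Type u} [Group Ω] {S : Subgroup Ω} [Finite S] (p : ℕ) [Fact p.Prime] (hp : Odd p) (hS : IsPGroup p S)
    (hsr : Cfsg.SectionalPRankLE p 3 ↥S ∧ ¬ Cfsg.SectionalPRankLE p 2 ↥S)
    (F : Cfsg.FusionSystem S) (hF : F.IsSaturated p) (hO : F.core = ⊥)
    (E₁ E₂ : Subgroup Ω) (hne : E₁ ≠ E₂) (hE₁ : F.IsEssential p E₁) (hE₂ : F.IsEssential p E₂)
    (hc₁ : (∀ φ : MulAut ↥S, φ ∈ F.autGroup S → (E₁.subgroupOf S).map φ.toMonoidHom = E₁.subgroupOf S))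
    (hc₂ : (∀ φ : MulAut ↥S, φ ∈ F.autGroup S → (E₂.subgroupOf S).map φ.toMonoidHom = E₂.subgroupOf S)) :
    (∃ P : Sylow p ↥(Matrix.symplecticGroup (Fin 2) (ZMod p)),
        Nonempty (↥S ≃* ↥(P : Subgroup ↥(Matrix.symplecticGroup (Fin 2) (ZMod p))))) ∧
      ((Cfsg.IsExtraspecial p ↥E₁ ∧ Nat.card E₁ = p ^ 3 ∧ (∀ x ∈ E₁, x ^ p = 1) ∧
          Cfsg.IsElementaryAbelian p E₂ ∧ Nat.card E₂ = p ^ 3) ∨
        (Cfsg.IsExtraspecial p ↥E₂ ∧ Nat.card E₂ = p ^ 3 ∧ (∀ x ∈ E₂, x ^ p = 1) ∧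
          Cfsg.IsElementaryAbelian p E₁ ∧ Nat.card E₁ = p ^ 3)) := by
  have h2 : p ≠ 2 := by rintro rfl; exact absurd hp (by decide)
  obtain ⟨Γ, _, _, t, S', F', h, hl⟩ := CfsgLib.Fus2.exists_LR hS hF
  have key : ∀ {U Q : Subgroup Ω}, U ≤ S → Q ≤ S →
      CfsgLib.Fus2.Sp4Cfg p S' (CfsgLib.Fusion.img U t) (CfsgLib.Fusion.img Q t) →
      Cfsg.IsExtraspecial p ↥Q ∧ Nat.card Q = p ^ 3 ∧ (∀ x ∈ Q, x ^ p = 1) ∧
          Cfsg.IsElementaryAbelian p U ∧ Nat.card U = p ^ 3 := fun hU hQ H =>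
    ⟨CfsgLib.Fus2.fac_extra h hQ H.extra H.cardQ, h.iso_card hQ ▸ H.cardQ,
      CfsgLib.Fus2.fac_pow h hQ H.expQ, CfsgLib.Fus2.fac_elem h hU H.elem, h.iso_card hU ▸ H.cardU⟩
  rcases hl.two_inv h2 (CfsgLib.Fus2.fac_rk h hsr.1) (CfsgLib.Fus2.fac_core h hO)
    (fun e => hne ((h.hom.img_inj h.injOn hE₁.1.1 hE₂.1.1).1 e)) (h.iso_essential hE₁)
    (h.iso_essential hE₂) (CfsgLib.Fus2.fac_autInv h hE₁.1.1 hc₁).norm
    (CfsgLib.Fus2.fac_autInv h hE₂.1.1 hc₂) with H | H | H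
  · exact (CfsgLib.Fus2.fac_not_cube h hsr.2 H).elim
  · exact ⟨CfsgLib.Fus2.fac_sp4 h H h2, Or.inr (key hE₁.1.1 hE₂.1.1 H)⟩
  · exact ⟨CfsgLib.Fus2.fac_sp4 h H h2, Or.inl (key hE₂.1.1 hE₁.1.1 H)⟩

end Cfsg.Agent.S5189
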