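import Cfsg.Statements.S5191
-- import your own Cfsg.Agent.* helpers here

set_option autoImplicit false
open Cfsg
open scoped Pointwise

namespace Cfsg.Agent.S5191

/-- A `p`-subgroup `Q` of `H` is conjugate by an element of `H` into any Sylow subgroup of `G` lying in `H`. -/
theorem exists_conj_le_sylow {G : Type*} [Group G] [Finite G] {p : ℕ} [Fact p.Prime]
    (S : Sylow p G) (H Q : Subgroup G) (hSH : (S : Subgroup G) ≤ H) (hQH : Q ≤ H) (hQ : IsPGroup p Q) :
    ∃ y ∈ H, ∀ x ∈ Q, y * x * y⁻¹ ∈ S := by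
  have hQ' : IsPGroup p (Q.subgroupOf H) := hQ.comap_subtype
  obtain ⟨T, hT⟩ := hQ'.exists_le_sylow
  obtain ⟨y, hy⟩ := MulAction.exists_smul_eq H T (S.subtype hSH)
  refine ⟨y, y.2, fun x hx => ?_⟩
  have h1 : (⟨x, hQH hx⟩ : H) ∈ (T : Subgroup H) := hT hx
  have h2 : y * ⟨x, hQH hx⟩ * y⁻¹ ∈ ((y • T : Sylow p H) : Subgroup H) := by
    rw [Sylow.coe_subgroup_smul]
    exact Subgroup.smul_mem_pointwise_smul _ (MulAut.conj y) _ h1
  rw [hy] at h2
  exact h2

/-- Fusion in a finite group G and in its quotient by O_{p'}(G) agree. Let S be a Sylow p-subgroup of G, N = O_{p'}(G) and P ≤ S. If an element of G/N conjugates the image of P into the image of S, then some element g of G conjugates P into S and induces the same map on P modulo N. (Together with the injectivity of S → G/N this says that g ↦ gN induces an isomorphism of the fusion system of G on S with that of G/N on SN/N.) -/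
theorem result {G : Type*} [Group G] [Finite G] {p : ℕ} [Fact p.Prime]
    [hN : (Cfsg.pPrimeCore p G).Normal] (S : Sylow p G) (P : Subgroup G) (hP : P ≤ (S : Subgroup G))
    (γ : G ⧸ Cfsg.pPrimeCore p G)
    (hγ : ∀ x ∈ P, γ * QuotientGroup.mk x * γ⁻¹ ∈ ((S : Subgroup G).map (QuotientGroup.mk' (Cfsg.pPrimeCore p G)))) :
    ∃ g : G, ∀ x ∈ P, g * x * g⁻¹ ∈ S ∧
      (QuotientGroup.mk (g * x * g⁻¹) : G ⧸ Cfsg.pPrimeCore p G) = γ * QuotientGroup.mk x * γ⁻¹ := by
  obtain ⟨h, rfl⟩ := QuotientGroup.mk_surjective γ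
  generalize Cfsg.pPrimeCore p G = N at *
  have hQ : IsPGroup p (P.map (MulAut.conj h).toMonoidHom) :=
    (S.2.to_le hP).map _
  have hle : P.map (MulAut.conj h).toMonoidHom ≤ (S : Subgroup G) ⊔ N := by
    rintro _ ⟨x, hx, rfl⟩
    obtain ⟨s, hs, hs'⟩ := hγ x hx
    have h1 : (QuotientGroup.mk s : G ⧸ N) = QuotientGroup.mk (h * x * h⁻¹) := by
      simpa using hs'
    rw [QuotientGroup.eq] at h1
    have h2 : h * x * h⁻¹ = s * (s⁻¹ * (h * x * h⁻¹)) := by group
    show h * x * h⁻¹ ∈ _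
    rw [h2]
    exact Subgroup.mul_mem_sup hs h1
  obtain ⟨y, hy, hy'⟩ := exists_conj_le_sylow S _ _ le_sup_left hle hQ
  have hy2 : y ∈ ((S : Subgroup G) : Set G) * (N : Set G) := by
    rw [← Subgroup.mul_normal]; exact hy
  obtain ⟨s, hs, n, hn, rfl⟩ := hy2
  refine ⟨n * h, fun x hx => ⟨?_, ?_⟩⟩
  · have h1 := hy' _ ⟨x, hx, rfl⟩
    have h2 : n * h * x * (n * h)⁻¹ = s⁻¹ * (s * n * (h * x * h⁻¹) * (s * n)⁻¹) * s := by group
    rw [h2]
    exact (S : Subgroup G).mul_mem ((S : Subgroup G).mul_mem ((S : Subgroup G).inv_mem hs) h1) hs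
  · have h1 : (QuotientGroup.mk n : G ⧸ N) = 1 := (QuotientGroup.eq_one_iff n).2 hn
    simp [h1]

end Cfsg.Agent.S5191
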