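import Mathlib
import Cfsg.Statements.S5200
import Cfsg.Agent.Lib.Fusion.Gross
import Cfsg.Agent.S5143

set_option autoImplicit false
open Cfsg

namespace Cfsg.Agent.S5200

open CfsgLib.Fusion Cfsg.FusionSystem



/-- Let F be a saturated fusion system over a finite p-group S and E a normal subsystem of F over T whose centralizer in S lies in T: every subgroup Y of C_S(T) such that E is contained in the centralizer fusion system of Y in F satisfies Y ≤ T. Then T·C_S(T)/T is abelian (the commutator subgroup of T·C_S(T) lies in T), and if p is odd then C_S(T) ≤ T. -/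
theorem result {Ω : Type*} [Group Ω] {S : Subgroup Ω} [Finite S] (p : ℕ) [Fact p.Prime] (hS : IsPGroup p S) (F : Cfsg.FusionSystem S) (hF : F.IsSaturated p) {T : Subgroup Ω} (E : Cfsg.FusionSystem T) (hE : E.IsNormalIn F p) (hCE : ∀ Y : Subgroup Ω, Y ≤ Cfsg.FusionSystem.centralizerIn S T → (∀ C : Cfsg.FusionSystem (Cfsg.FusionSystem.centralizerIn S Y), F.IsCentralizerSystem Y C → E.IsSubsystemOf C) → Y ≤ T) : ⁅T ⊔ Cfsg.FusionSystem.centralizerIn S T, T ⊔ Cfsg.FusionSystem.centralizerIn S T⁆ ≤ T ∧ (p ≠ 2 → Cfsg.FusionSystem.centralizerIn S T ≤ T) := by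
    have hT := normalIn_stronglyClosed hE
    have := finite_of_le_S hT.1
    refine gross_of_prodSys hS hT hCE fun R hTR hRS => ?_
    have := finite_of_le_S hRS
    obtain ⟨D, ⟨h1, h2, h3, h4⟩, -⟩ := Cfsg.Agent.S5143.result p hS F hF E hE R hTR hRS
    have hh : D.hyperfocalSubgroup p ≤ T := h3.trans_le (hyperfocal_le E p)
    refine ⟨D, h1, h2, ?_, hh⟩
    obtain ⟨D₀, -, hu⟩ := Cfsg.Agent.S5143.result p hS F hF E hE T le_rfl hT.1
    have hi := opSys_hasPPowerIndexIn hTR hh
    have e1 := hu E (normalIn_saturated hE) (normalIn_sub hE) rfl fun D₁ E₁ hD hE' P => by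
      rw [eq_of_isPResidual (hS.to_le hT.1) hD, eq_of_isPResidual (hS.to_le hT.1) hE']
    have e2 := hu (opSys D p hTR) (opSys_saturated (hS.to_le hRS) h1 hTR hh)
      (isSubsystemOf_trans hi.1 h2) ((hyperfocal_eq_of_pPowerIndex (hS.to_le hRS) hi).trans h3)
      fun D₁ E₁ hD hE' P => by
        rw [← h4 _ E₁ (isPResidual_opSys (hS.to_le hRS) h1) hE' P]
        exact hom_eq_iff.2 fun f => (mor_iff_of_isPResidual (hS.to_le hRS) hi
          (isPResidual_opSys (hS.to_le hRS) h1) hD).symm
    rw [fs_ext_hom fun P => (e1 P).trans (e2 P).symm]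
    exact hi.1

end Cfsg.Agent.S5200
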