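import Cfsg.Statements.S5215
import Cfsg.Agent.Lib.TwoGrp.FusReal
import Cfsg.Agent.Lib.Fusion.TrApps
import Cfsg.Agent.Lib.Fusion.OpRes
import Cfsg.Agent.Lib.Fusion.SubNormal

set_option autoImplicit false
open Cfsg

namespace Cfsg.Agent.S5215

open Subgroup CfsgLib.TwoGrp CfsgLib.Fusion

/-- Let S be a finite 2-group of 2-rank 2 (an elementary abelian subgroup of order 4, none of order 8) and F a simple saturated fusion system over S. Then S is dihedral, semidihedral or wreathed, and F is the fusion system of the projective special linear group PSL₂(q) for some odd prime power q ≡ ±1 (mod 8) or of PSL₃(q) for some odd prime power q: it is realized by an injective homomorphism of S into that group whose image is a Sylow 2-subgroup. -/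
theorem result {Ω : Type*} [Group Ω] {S : Subgroup Ω} [Finite S] (hS : IsPGroup 2 S) (F : Cfsg.FusionSystem S) (hF : F.IsSaturated 2) (hr : Cfsg.PRankAtLeast 2 2 ↥S ∧ ¬ Cfsg.PRankAtLeast 2 3 ↥S) (hsimple : F.IsSimple 2) : ((∃ m : ℕ, Nonempty (↥S ≃* DihedralGroup m)) ∨ Cfsg.IsQuasiDihedral ↥S ∨ Cfsg.IsWreathed ↥S) ∧ ∃ (K : Type) (_ : Field K) (_ : Fintype K) (q : ℕ), Fintype.card K = q ∧ Odd q ∧ (((q % 8 = 1 ∨ q % 8 = 7) ∧ ∃ ι : ↥S →* Matrix.ProjectiveSpecialLinearGroup (Fin 2) K, F.IsRealizedBy ι ∧ ∃ T : Sylow 2 (Matrix.ProjectiveSpecialLinearGroup (Fin 2) K), (T : Subgroup (Matrix.ProjectiveSpecialLinearGroup (Fin 2) K)) = ι.range) ∨ (∃ ι : ↥S →* Matrix.ProjectiveSpecialLinearGroup (Fin 3) K, F.IsRealizedBy ι ∧ ∃ T : Sylow 2 (Matrix.ProjectiveSpecialLinearGroup (Fin 3) K), (T : Subgroup (Matrix.ProjectiveSpecialLinearGroup (Fin 3) K)) = ι.range)) := by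
  have h1 : F.core = ⊥ := by_contra fun e => by
    obtain ⟨h1, h2⟩ := simple_of_core_ne_bot hS hsimple e
    obtain ⟨z, z1, z2, -, z3⟩ := exists_central_invol hS hsimple.2.1
    have h3 := four_le_card hr.1
    rcases h2 (zpowers z) (h1 ▸ isNormal_innerFS (zpowers_le.2 z1) fun s hs =>
      centralizer_le_normalizer _ fun _ ⟨i, e⟩ => e ▸ ((Commute.zpow_right (z3 s hs) i).symm)) with
      e | e
    · simp [zpowers_eq_bot.1 e] at z2
    · rw [← e, Nat.card_zpowers] at h3
      omega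
  have h2 : ¬ F.IsNormal S := fun e => hsimple.2.1 (eq_bot_iff.2 (h1 ▸ le_core e))
  have h3 : F.hyperfocalSubgroup 2 = S := ((hsimple.2.2 _ _ (opSys_isNormalIn hS hF
    (hyperfocal_le F 2) (le_normalizer_hyperfocal F 2) le_rfl)).resolve_left fun e => h2
      ((isNil_of_hyperfocal_eq_bot e).eq_inner hS hF ▸ isNormal_top_inner S)).1
  have h := (rank2Type_of_center_eq_bot hS hF (pRankLE_of_not hS hr.2) hsimple.2.1
    (eq_bot_iff.2 (h1 ▸ center_le_core F))).om_or.resolve_left fun e => h2 (isNormal_of_om hS hF e)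
  obtain ⟨p, _, p1, p2⟩ :=
    ((shape_main hS hF (q := False) (h.imp_right Or.inr)).2.2 h3).resolve_right id
  exact ⟨h.imp_left fun ⟨m, _, e⟩ => ⟨m, e⟩, ZMod p, inferInstance, inferInstance, p, ZMod.card p,
    p1, p2.imp_left (And.imp_left Or.inr)⟩

end Cfsg.Agent.S5215
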