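import Cfsg.Statements.S5217
import Cfsg.Agent.Lib.Bicyc3.Ex
import Cfsg.Agent.Lib.Bicyc3.Cyc

set_option autoImplicit false
open Cfsg

namespace Cfsg.Agent.S5217

open CfsgLib.Fusion CfsgLib.Bicyc3 in
theorem up {Ω : Type*} [Group Ω] {S T : Subgroup Ω} [Finite S] (hS : IsPGroup 2 S)
    (e : img (⊤ : Subgroup S) S.subtype = T) {F' : FusionSystem (⊤ : Subgroup S)}
    (hF : F'.IsSaturated 2) (hn : F' ≠ innerFusionSystem ⊤) :
    ∃ F : FusionSystem T, F.IsSaturated 2 ∧ F ≠ innerFusionSystem T := by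
  subst e
  have : Fact (Nat.Prime 2) := ⟨Nat.prime_two⟩
  obtain ⟨F, h⟩ := exists_iso_img F' (isHomOn_coe ⊤ S.subtype) S.subtype_injective.injOn
  obtain ⟨t, h', -⟩ := h.iso_symm
  exact ⟨F, h.iso_saturated (isPGroup_top hS) hF, fun e => hn (h'.iso_eq_inner e)⟩

/-- Let S be a finite bicyclic 2-group (S = ⟨x⟩⟨y⟩) that is not metacyclic. Then S supports a saturated fusion system other than its inner fusion system if and only if the commutator subgroup of S is cyclic. -/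
theorem result {Ω : Type*} [Group Ω] {S : Subgroup Ω} [Finite S] (hS : IsPGroup 2 S) (hb : ∃ x y : ↥S, ∀ g : ↥S, ∃ i j : ℤ, g = x ^ i * y ^ j) (hm : ¬ Cfsg.IsMetacyclic ↥S) : (∃ F : Cfsg.FusionSystem S, F.IsSaturated 2 ∧ ¬ ∀ P : Subgroup Ω, F.Hom P = (Cfsg.innerFusionSystem S).Hom P) ↔ IsCyclic ↥(commutator ↥S) := by
  have : Fact (Nat.Prime 2) := ⟨Nat.prime_two⟩
  obtain ⟨x, y, hb⟩ := hb
  obtain ⟨W, _, e, ρ, ξ, c, M, N, N', h⟩ := CfsgLib.Bicyc3.exists_su hS hb hm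
  constructor
  · rintro ⟨F, hF, hn⟩
    by_contra hc
    obtain ⟨F', hF'⟩ := CfsgLib.Fusion.exists_isTopOf F
    exact hn fun P => by rw [hF'.eq_inner (h.eq_inner hc (hF'.saturated hS hF))]
  · intro hc
    obtain ⟨F', h1, h2⟩ := h.exists_ne_inner hc
    obtain ⟨F, h3, h4⟩ := up hS (T := S) (by
      rw [CfsgLib.Fusion.img_coe, ← MonoidHom.range_eq_map, Subgroup.range_subtype]) h1 h2
    exact ⟨F, h3, fun hh => h4 (CfsgLib.Fusion.fs_ext_hom hh)⟩

end Cfsg.Agent.S5217
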