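import Cfsg.Statements.S5260
import Cfsg.Agent.Lib.ExSp4.Four
import Cfsg.Agent.Lib.Fusion.Model

set_option autoImplicit false
open Cfsg

namespace Cfsg.Agent.S5260

/-- Let p be a prime, K a finite field of characteristic p, and S a finite p-group isomorphic to a Sylow p-subgroup of the symplectic group Sp₄(K). Then every exotic fusion system F over S (saturated but not the fusion system of a finite group on a Sylow p-subgroup) has no nontrivial normal subgroup: O_p(F) = 1. -/
theorem result {Ω : Type*} [Group Ω] {S : Subgroup Ω} [Finite S] (p : ℕ) [Fact p.Prime] (hS : IsPGroup p S) (F : Cfsg.FusionSystem S) (hF : F.IsSaturated p) {K : Type*} [Field K] [Fintype K] [CharP K p] (T : Sylow p ↥(Matrix.symplecticGroup (Fin 2) K)) (e : ↥S ≃* ↥(T : Subgroup ↥(Matrix.symplecticGroup (Fin 2) K))) (hex : F.IsExotic p) : F.core = ⊥ := by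
  by_contra hO
  obtain ⟨e'⟩ := CfsgLib.ExSp4.U.exists_iso p T
  let θ := (e.trans e'.symm).toMonoidHom
  have hi : ∀ x ∈ S, CfsgLib.Fusion.extFun θ x = 1 ↔ x ∈ (⊥ : Subgroup Ω) := fun x hx => by
    rw [CfsgLib.Fusion.extFun_apply θ hx, Subgroup.mem_bot]
    exact ((e.trans e'.symm).map_eq_one_iff).trans Subtype.ext_iff
  obtain ⟨F', h⟩ := CfsgLib.Fusion.exists_isFactor (F := F) (S' := ⊤)
    (CfsgLib.Fusion.isHomOn_extFun θ) (CfsgLib.Fusion.stronglyClosed_bot F) hi (by
      rw [← CfsgLib.Fusion.range_eq_img_extFun, MonoidHom.range_eq_top]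
      exact (e.trans e'.symm).surjective)
  have h1 := h.iso_saturated hS hF
  have h2 : F'.core ≠ ⊥ := by
    rw [h.iso_core, Ne, h.iso_img_eq_bot (CfsgLib.Fusion.isNormal_core F).1]
    exact hO
  refine hex.2 ?_
  by_cases hp : p = 2
  · subst hp
    exact CfsgLib.TwoGrp.isRealizable_of_iso h (CfsgLib.ExSp4.main_two h1 h2)
  · have h3 : (2 : K) ≠ 0 := fun h0 => hp ((Nat.prime_dvd_prime_iff_eq Fact.out Nat.prime_two).1
      ((CharP.cast_eq_zero_iff K p 2).1 (by exact_mod_cast h0)))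
    obtain ⟨t, h4, -⟩ := h.iso_symm
    obtain ⟨G, _, ι, h5⟩ := CfsgLib.Fusion.exists_model hS
      (h4.iso_constrained CfsgLib.ExSp4.pgroup (CfsgLib.ExSp4.main_odd h3 h1 h2))
    exact ⟨G, _, h5.1, ι, h5.2.1, h5.2.2.1⟩

end Cfsg.Agent.S5260
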