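import Cfsg.Statements.S5264
import Cfsg.Agent.Lib.Fus2.P5

set_option autoImplicit false
open Cfsg

namespace Cfsg.Agent.S5264

/-- Let p be an odd prime other than 7, S a finite p-group of order p^5, and F a saturated fusion system over S with no nontrivial normal subgroup and with hyperfocal subgroup equal to S (so F is its own p-residual subsystem). Then S has an abelian subgroup of index p. -/
theorem result {Ω : Type*} [Group Ω] {S : Subgroup Ω} [Finite S] (p : ℕ) [Fact p.Prime] (hS : IsPGroup p ↥S) (F : Cfsg.FusionSystem S) (hF : F.IsSaturated p) (hp : p ≠ 2) (hp7 : p ≠ 7) (hcard : Nat.card S = p ^ 5) (hcore : F.core = ⊥) (hhyp : F.hyperfocalSubgroup p = S) : ∃ A : Subgroup Ω, A ≤ S ∧ IsMulCommutative ↥A ∧ (A.subgroupOf S).index = p := by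
  have pp : p.Prime := Fact.out
  by_contra hn
  obtain ⟨Γ, _, _, t, S', F', h, hl⟩ := CfsgLib.Fus2.exists_LR hS hF
  obtain rfl := h.img_eq
  have c5 := (h.iso_card le_rfl).trans hcard
  refine CfsgLib.Fus2.P5.false (F := F') ⟨hl, hp, c5, CfsgLib.Fus2.fac_core h hcore, ?_,
    fun A' hA' hi hc => hn ?_⟩ hp7
  · have := CfsgLib.Fusion.hyperfocal_le_focal F' p
    rwa [h.iso_hyperfocal, hhyp] at this
  · obtain ⟨A, hA, rfl⟩ := h.iso_exists_img hA'
    have := CfsgLib.Fusion.finite_of_le hA
    refine ⟨A, hA, CfsgLib.Fus2.comm_of_equiv (CfsgLib.Fus2.facEquiv h hA).symm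
      (Subgroup.le_centralizer_iff_isMulCommutative.1 hc), ?_⟩
    have e1 := CfsgLib.Core.card_mul_relIndex_of_le hA'
    have e2 := CfsgLib.Core.card_mul_relIndex_of_le hA
    rw [hi, h.iso_card hA, h.iso_card le_rfl, ← e2] at e1
    exact (Nat.eq_of_mul_eq_mul_left Nat.card_pos e1).symm

end Cfsg.Agent.S5264
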