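import Mathlib
import Cfsg.Statements.S5265
import Cfsg.Agent.Lib.Fusion.SmallCenter

set_option autoImplicit false
open Cfsg

namespace Cfsg.Agent.S5265

open CfsgLib CfsgLib.Fusion Cfsg.FusionSystem

/-- Let p be a prime, S a nontrivial finite p-group whose centre has index at most p², and F a saturated fusion system over S with no nontrivial normal subgroup and with hyperfocal subgroup equal to S. Then S is extraspecial of order p³; for odd p it has exponent p, and for p = 2 it is dihedral of order 8. -/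
theorem result {Ω : Type*} [Group Ω] {S : Subgroup Ω} [Finite S] (p : ℕ) [Fact p.Prime] (hS : IsPGroup p ↥S) (F : Cfsg.FusionSystem S) (hF : F.IsSaturated p) (hS1 : S ≠ ⊥) (hcore : F.core = ⊥) (hhyp : F.hyperfocalSubgroup p = S) (hZ : (Subgroup.center ↥S).index ≤ p ^ 2) : Cfsg.IsExtraspecial p ↥S ∧ Nat.card S = p ^ 3 ∧ (p ≠ 2 → Monoid.exponent ↥S = p) ∧ (p = 2 → Nonempty (↥S ≃* DihedralGroup 4)) := by
  obtain ⟨F', hT⟩ := exists_isTopOf F
  have hF' := hT.saturated hS hF
  have h0 := hT.core_eq_bot hcore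
  have : Nontrivial S := (Subgroup.nontrivial_iff_ne_bot S).2 hS1
  have hna := not_comm_of_core_eq_bot hS hF' h0
  by_cases hp : p = 2
  · subst hp
    obtain ⟨h1, h2⟩ := dihedral_of_index_center hS hF' h0 (hT.hyperfocal_eq_top hhyp) hZ
    exact ⟨isExtraspecial_of_card_cube h1 hna, h1, fun h => absurd rfl h, fun _ => h2⟩
  obtain ⟨h1, h2⟩ := card_commutator_of_index_center_le hS hna hZ
  have h3 : Nat.card S = p ^ 3 := by
    rw [← (Subgroup.center S).card_mul_index, h1, center_eq_commutator_of_card hS hF' hp h0 h2, h2]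
    ring
  refine ⟨isExtraspecial_of_card_cube h3 hna, h3, fun _ => ?_, fun h => absurd h hp⟩
  exact (Monoid.exponent_eq_prime_iff Fact.out).2 fun x hx =>
    orderOf_eq_prime (pow_eq_one_of_core_eq_bot hS hF' hp h0 h3 x) hx

end Cfsg.Agent.S5265
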