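import Cfsg.Statements.S5267
import Cfsg.Agent.Lib.Fus5.Main

set_option autoImplicit false
open Cfsg

namespace Cfsg.Agent.S5267

/-- Let p be a prime and S a finite p-group of maximal class of order p^n with n ≥ 4 (nilpotency class n − 1: the term γ_{n−1}(S) of its lower central series, reached from S after n − 2 commutator steps, is nontrivial), F a saturated fusion system over S and E an F-essential subgroup. Write Γ₁ for the two-step centralizer C_S([S,S]/γ₄(S)) (the elements of S whose commutators with [S,S] lie in the fourth term γ₄(S) of the lower central series) and Z₂(S) for the second centre. Then E is a pearl — elementary abelian of order p², or extraspecial of order p³ of exponent p (p odd) or quaternion of order 8 (p = 2) — or E = Γ₁, or E = C_S(Z₂(S)). Moreover, if Γ₁ ≠ C_S(Z₂(S)) then every pearl of F is elementary abelian of order p². -/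
theorem result {Ω : Type*} [Group Ω] {S : Subgroup Ω} [Finite S] (p : ℕ) [Fact p.Prime] (hS : IsPGroup p ↥S) (n : ℕ) (hn : Nat.card S = p ^ n) (h4 : 4 ≤ n) (hmax : Subgroup.lowerCentralSeries S (n - 2) ≠ ⊥) (F : Cfsg.FusionSystem S) (hF : F.IsSaturated p) (Γ₁ : Subgroup Ω) (hΓ₁ : ∀ x : Ω, x ∈ Γ₁ ↔ x ∈ S ∧ ∀ y ∈ Subgroup.lowerCentralSeries S 1, x * y * x⁻¹ * y⁻¹ ∈ Subgroup.lowerCentralSeries S 3) : (∀ E : Subgroup Ω, F.IsEssential p E → (Nat.card ↥E = p ^ 2 ∧ Cfsg.IsElementaryAbelian p E) ∨ (Nat.card ↥E = p ^ 3 ∧ Cfsg.IsExtraspecial p ↥E ∧ (p ≠ 2 → Monoid.exponent ↥E = p) ∧ (p = 2 → Nonempty (↥E ≃* QuaternionGroup 2))) ∨ E = Γ₁ ∨ E = (S ⊓ Subgroup.centralizer (((Subgroup.upperCentralSeries ↥S 2).map S.subtype) : Set Ω))) ∧ (Γ₁ ≠ (S ⊓ Subgroup.centralizer (((Subgroup.upperCentralSeries ↥S 2).map S.subtype) : Set Ω)) → ∀ E : Subgroup Ω, F.IsEssential p E → (Nat.card ↥E = p ^ 3 ∧ Cfsg.IsExtraspecial p ↥E ∧ (p ≠ 2 → Monoid.exponent ↥E = p) ∧ (p =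 2 → Nonempty (↥E ≃* QuaternionGroup 2))) → False) := by
  have pp : p.Prime := Fact.out
  have m := CfsgLib.Fusion.mc_of_lcs_ne_bot hn (by omega) hmax
  rw [← CfsgLib.Fus4.eq_kc_one hΓ₁, ← CfsgLib.Fus4.kc_last_eq m h4]
  refine ⟨fun E hE => ?_, fun hx E hE h => ?_⟩
  · have := CfsgLib.Fusion.finite_of_le hE.1.1
    obtain ⟨M, hM⟩ := CfsgLib.Fusion.essential_essAut hS hF hE
    rcases CfsgLib.Fus5.main m h4 hF hE with h | h | ⟨h, na, -⟩
    · exact Or.inr (Or.inr h.1)
    · exact Or.inl ⟨h, ⟨⟨(hM.elemTwo h).comm⟩⟩, fun a ha =>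
        congrArg Subtype.val ((hM.elemTwo h).pow ⟨a, ha⟩)⟩
    have : Nontrivial E := Finite.one_lt_card_iff_nontrivial.1 (h ▸ Nat.one_lt_pow (by omega) pp.one_lt)
    refine Or.inr (Or.inl ⟨h, CfsgLib.Fusion.isExtraspecial_of_card_cube h na, ?_⟩)
    rcases hM.card_cube h with h' | h' | h'
    · exact (na h'.1).elim
    · exact ⟨fun _ => (Monoid.exponent_eq_prime_iff pp).2 fun g => orderOf_eq_prime (h'.2.2 g),
        fun e => (h'.1 e).elim⟩
    · exact ⟨fun e => (e h'.1).elim, fun _ => h'.2⟩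
  · have k := fun a (e : Nat.card E = p ^ a) => Nat.pow_right_injective pp.two_le (h.1.symm.trans e)
    rcases CfsgLib.Fus5.main m h4 hF hE with h' | h' | h'
    · have := k _ h'.2.1
      have := h'.2.2 hx
      omega
    · have := k _ h'
      omega
    · exact hx h'.2.2

end Cfsg.Agent.S5267
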