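import Cfsg.Statements.S5269
import Cfsg.Agent.Lib.Fus4.Wrap

set_option autoImplicit false
open Cfsg

namespace Cfsg.Agent.S5269

/-- Let p ≥ 5 be a prime, S a finite p-group of maximal class of order p^n with n ≥ 4, F a saturated fusion system over S, and E an F-essential subgroup that is normal in S. Then E has index p in S; moreover E is the two-step centralizer Γ₁ = C_S([S,S]/γ₄(S)) or E = C_S(Z₂(S)), unless S has order p^4 and E is extraspecial of order p³ and exponent p. -/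
theorem result {Ω : Type*} [Group Ω] {S : Subgroup Ω} [Finite S] (p : ℕ) [Fact p.Prime] (hS : IsPGroup p ↥S) (n : ℕ) (hn : Nat.card S = p ^ n) (h4 : 4 ≤ n) (hmax : Subgroup.lowerCentralSeries S (n - 2) ≠ ⊥) (F : Cfsg.FusionSystem S) (hF : F.IsSaturated p) (hp : 5 ≤ p) (Γ₁ : Subgroup Ω) (hΓ₁ : ∀ x : Ω, x ∈ Γ₁ ↔ x ∈ S ∧ ∀ y ∈ Subgroup.lowerCentralSeries S 1, x * y * x⁻¹ * y⁻¹ ∈ Subgroup.lowerCentralSeries S 3) (E : Subgroup Ω) (hE : F.IsEssential p E) (hEn : (E.subgroupOf S).Normal) : (E.subgroupOf S).index = p ∧ (E = Γ₁ ∨ E = (S ⊓ Subgroup.centralizer (((Subgroup.upperCentralSeries ↥S 2).map S.subtype) : Set Ω)) ∨ (n = 4 ∧ Nat.card ↥E = p ^ 3 ∧ Cfsg.IsExtraspecial p ↥E ∧ Monoid.exponent ↥E = p)) := by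
  have pp : p.Prime := Fact.out
  have m := CfsgLib.Fusion.mc_of_lcs_ne_bot hn (by omega) hmax
  obtain ⟨Γ, _, _, t, S', F', h, hl⟩ := CfsgLib.Fus2.exists_LR hS hF
  obtain rfl := h.img_eq
  have hle := hE.1.1
  obtain ⟨h1, h2⟩ := CfsgLib.Fus4.LR.normal_essential hl hp (m.equiv (CfsgLib.Fus2.facEquiv h le_rfl))
    h4 (h.iso_essential hE) ((CfsgLib.Fus2.fac_norm h hle).2
      ((Subgroup.normal_subgroupOf_iff_le_normalizer hle).1 hEn))
  rw [CfsgLib.Fus4.fac_relIndex h hle] at h1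
  rw [CfsgLib.Fus4.fac_eq_kc h hle, CfsgLib.Fus4.fac_eq_kc h hle, CfsgLib.Fus4.eq_kc_one hΓ₁,
    CfsgLib.Fus4.kc_last_eq m h4] at h2
  refine ⟨h1, h2.imp_right fun h2 => h2.imp_right fun ⟨e, m', h3⟩ => ?_⟩
  have := CfsgLib.Fusion.finite_of_le hle
  have m'' := m'.equiv (CfsgLib.Fus2.facEquiv h hle).symm
  have : Nontrivial E := Finite.one_lt_card_iff_nontrivial.1 (m''.card ▸ Nat.one_lt_pow (by omega) pp.one_lt)
  exact ⟨e, m''.card, CfsgLib.PGroup.isExtraspecial_of_card_eq_cube m''.card m''.not_comm,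
    (Monoid.exponent_eq_prime_iff pp).2 fun g hg => orderOf_eq_prime
      (Subtype.ext (CfsgLib.Fus2.fac_pow h hle h3 g g.2)) hg⟩

end Cfsg.Agent.S5269
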