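import Mathlib
import Cfsg.Statements.S5296
import Cfsg.Agent.Lib.Fusion.Small

set_option autoImplicit false
universe u
open Cfsg

namespace Cfsg.Agent.S5296

open CfsgLib.Fusion Cfsg.FusionSystem



/-- Small-exponent abelian subgroups of the hyperfocal subgroup control fusion. Let E and F be saturated fusion systems over the same finite p-group S with E contained in F. Suppose that E and F have the same maps between A and B for all subgroups A, B of the hyperfocal subgroup of F that are elementary abelian when p is odd, respectively abelian of exponent dividing 4 when p = 2. Then E = F. -/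
theorem result {Ω : Type u} [Group Ω] {S : Subgroup Ω} [Finite S] (p : ℕ) [Fact p.Prime] (hS : IsPGroup p S)
    (E F : Cfsg.FusionSystem S) (hE : E.IsSaturated p) (hF : F.IsSaturated p) (hEF : E.IsSubsystemOf F)
    (hodd : p ≠ 2 → ∀ A B : Subgroup Ω, A ≤ (F.hyperfocalSubgroup p) → B ≤ (F.hyperfocalSubgroup p) →
      Cfsg.IsElementaryAbelian p A → Cfsg.IsElementaryAbelian p B → E.homSet A B = F.homSet A B)
    (htwo : p = 2 → ∀ A B : Subgroup Ω, A ≤ (F.hyperfocalSubgroup p) → B ≤ (F.hyperfocalSubgroup p) →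
      IsMulCommutative ↥A → IsMulCommutative ↥B → (∀ a ∈ A, a ^ 4 = 1) → (∀ b ∈ B, b ^ 4 = 1) → E.homSet A B = F.homSet A B) :
    ∀ P : Subgroup Ω, E.Hom P = F.Hom P := by
    refine fun P => Set.Subset.antisymm (hEF P) (isSubsystemOf_of_small hS hF hE hEF
      (fun A hA hc he f hf => ?_) P)
    have hH := stronglyClosed_hyperfocal hS hF
    have hB := hf.img_le_of_stronglyClosed hH hA
    have hc' : ∀ x ∈ img A f, ∀ y ∈ img A f, x * y = y * x := fun x hx y hy => by
      obtain ⟨a, ha, rfl⟩ := hf.mem_img.1 hx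
      obtain ⟨b, hb, rfl⟩ := hf.mem_img.1 hy
      rw [← hf.map_mul ha hb, hc a ha b hb, hf.map_mul hb ha]
    have he' : ∀ x ∈ img A f, x ^ qexp p = 1 := fun x hx => by
      obtain ⟨a, ha, rfl⟩ := hf.mem_img.1 hx
      rw [← hf.hom.map_pow ha, he a ha, hf.map_one]
    have key : E.homSet A (img A f) = F.homSet A (img A f) := by
      by_cases hp : p = 2
      · subst hp
        exact htwo rfl _ _ hA hB (CfsgLib.PGroup.isMulCommutative_iff.2 hc)
          (CfsgLib.PGroup.isMulCommutative_iff.2 hc') he he'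
      · rw [qexp_of_ne hp] at he he'
        exact hodd hp _ _ hA hB ⟨CfsgLib.PGroup.isMulCommutative_iff.2 hc, he⟩
          ⟨CfsgLib.PGroup.isMulCommutative_iff.2 hc', he'⟩
    exact ⟨_, (key.ge ⟨hf.toHom_mem, fun x => mem_img_of_mem f x.2⟩).1, fun _ => rfl⟩

end Cfsg.Agent.S5296
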