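import Mathlib
import Cfsg.Statements.S5299

set_option autoImplicit false
universe u
open Cfsg

namespace Cfsg.Agent.S5299

theorem involves_of {H G X : Type*} [Group H] [Group G] [Group X] (i : X →* G)
    (hi : Function.Injective i) (f : X →* H) (hf : Function.Surjective f) : Involves H G := by
  let e : X ≃* i.range := MonoidHom.ofInjective hi
  let f' : i.range →* H := f.comp e.symm.toMonoidHom
  have hf' : Function.Surjective f' := hf.comp e.symm.surjective
  have hk : (f'.ker.map i.range.subtype).subgroupOf i.range = f'.ker := by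
    rw [Subgroup.subgroupOf, Subgroup.comap_map_eq_self_of_injective i.range.subtype_injective]
  haveI hn : ((f'.ker.map i.range.subtype).subgroupOf i.range).Normal := by
    rw [hk]; infer_instance
  refine ⟨i.range, f'.ker.map i.range.subtype, hn, ⟨?_⟩⟩
  exact (QuotientGroup.quotientMulEquivOfEq hk).trans
    (QuotientGroup.quotientKerEquivOfSurjective f' hf')

theorem exists_of_involves {H G : Type*} [Group H] [Group G] (h : Involves H G) :
    ∃ (K : Subgroup G) (f : K →* H), Function.Surjective f := by
  obtain ⟨K, R, hn, ⟨e⟩⟩ := h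
  exact ⟨K, e.toMonoidHom.comp (QuotientGroup.mk' _), e.surjective.comp (QuotientGroup.mk'_surjective _)⟩

/-- Let F be a saturated fusion system over a finite p-group S, H a finite group and Q a p-subgroup of H. If Q is not involved in S (no section of S is isomorphic to Q), then F is H-free: H is involved in no model of the normalizer system of a fully normalized centric subgroup. -/
theorem result {Ω : Type u} [Group Ω] {S : Subgroup Ω} [Finite S] (p : ℕ) [Fact p.Prime] (hS : IsPGroup p S)
    (F : Cfsg.FusionSystem S) (hF : F.IsSaturated p) (H : Type*) [Group H] [Finite H] (Q : Subgroup H) (hQ : IsPGroup p Q)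
    (hfree : ¬ Cfsg.Involves (↥Q) (↥S)) : F.IsSectionFree p H := by
  intro Q' _ _ N _ L _ ι hL hinv
  obtain ⟨hfin, hreal, ⟨T, hT⟩, -⟩ := hL
  obtain ⟨K, f, hf⟩ := exists_of_involves hinv
  apply hfree
  -- a Sylow subgroup of the preimage of `Q`
  let K₀ : Subgroup K := Q.comap f
  let f₀ : K₀ →* Q := (f.comp K₀.subtype).codRestrict Q (fun x => x.2)
  have hf₀ : Function.Surjective f₀ := by
    rintro ⟨q, hq⟩
    obtain ⟨k, rfl⟩ := hf q
    exact ⟨⟨k, hq⟩, rfl⟩
  obtain ⟨T₀⟩ : Nonempty (Sylow p K₀) := inferInstance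
  have hsurj : (T₀ : Subgroup K₀).map f₀ = ⊤ := by
    have h1 := (T₀.mapSurjective hf₀).is_maximal' (Q := ⊤) (hQ.to_subgroup ⊤) le_top
    rw [Sylow.coe_mapSurjective] at h1
    exact h1.symm
  let j : K₀ →* L := K.subtype.comp K₀.subtype
  have hj : Function.Injective j := K.subtype_injective.comp K₀.subtype_injective
  obtain ⟨T₁, hT₁⟩ := (T₀.isPGroup'.map j).exists_le_sylow
  obtain ⟨g, hg⟩ := MulAction.exists_smul_eq L T₁ T
  let j' : (T₀ : Subgroup K₀) →* L := (MulAut.conj g).toMonoidHom.comp (j.comp (T₀ : Subgroup K₀).subtype)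
  have hj' : ∀ x, j' x ∈ ι.range := by
    intro x
    rw [← hT, ← hg, Sylow.coe_subgroup_smul]
    exact Subgroup.smul_mem_pointwise_smul _ _ _ (hT₁ ⟨x, x.2, rfl⟩)
  have hj'inj : Function.Injective j' :=
    (MulAut.conj g).injective.comp (hj.comp (T₀ : Subgroup K₀).subtype_injective)
  let e := MonoidHom.ofInjective hreal.1
  have hle : FusionSystem.normalizerIn S Q' ≤ S := inf_le_left
  let i : (T₀ : Subgroup K₀) →* S :=
    (Subgroup.inclusion hle).comp
      (e.symm.toMonoidHom.comp (j'.codRestrict _ hj'))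
  have hi : Function.Injective i :=
    (Subgroup.inclusion_injective hle).comp (e.symm.injective.comp
      ((MonoidHom.injective_codRestrict _ _ _).mpr hj'inj))
  refine involves_of i hi (f₀.comp (T₀ : Subgroup K₀).subtype) ?_
  intro q
  have : q ∈ (T₀ : Subgroup K₀).map f₀ := hsurj ▸ Subgroup.mem_top q
  obtain ⟨x, hx, rfl⟩ := this
  exact ⟨⟨x, hx⟩, rfl⟩

end Cfsg.Agent.S5299
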