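import Mathlib
import Cfsg.Statements.S5309
import Cfsg.Agent.Lib.Fusion.CentPre

set_option autoImplicit false
open Cfsg

namespace Cfsg.Agent.S5309

section Aux

open CfsgLib.Fusion Cfsg.FusionSystem
open scoped commutatorElement



end Aux

/-- Self-centralizing property of the generalized Fitting subsystem. Let F be a saturated fusion system over a finite p-group S and D a generalized Fitting subsystem of F, over U. Then the centre of D is the largest subgroup Y of C_S(U) centralized by D in F, in the sense that every map of D extends to a map of F fixing Y elementwise: the centre of D is such a subgroup, and every such Y lies in the centre of D. -/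
theorem result {Ω : Type*} [Group Ω] {S : Subgroup Ω} [Finite S] (p : ℕ) [Fact p.Prime] (hS : IsPGroup p S) (F : Cfsg.FusionSystem S) (hF : F.IsSaturated p)
    {U : Subgroup Ω} (D : Cfsg.FusionSystem U) (hD : D.IsGeneralizedFittingOf F p) :
    (D.center ≤ Cfsg.FusionSystem.centralizerIn S U ∧ ∀ P : Subgroup Ω, D.Hom P ⊆ F.centralizerHom D.center P) ∧
      ∀ Y : Subgroup Ω, Y ≤ Cfsg.FusionSystem.centralizerIn S U →
        (∀ P : Subgroup Ω, D.Hom P ⊆ F.centralizerHom Y P) → Y ≤ D.center := by
  open CfsgLib.Fusion Cfsg.FusionSystem in
  exact (have hN := genFitting_normalIn hS hD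
    have := finite_of_le (normalIn_stronglyClosed hN).1
    have h := (centBy_of_isCentral (isCentral_center D)).mono (normalIn_sub hN)
    ⟨⟨h.le', centBy_iff.1 h⟩, fun Y _ hY => (centBy_iff.2 hY).le_center_genFitting hS hD⟩)

end Cfsg.Agent.S5309
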