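import Cfsg.Statements.S5316
import Cfsg.Agent.Lib.Fus5.Main

set_option autoImplicit false
open Cfsg

namespace Cfsg.Agent.S5316

/-- Let p ≥ 5 be a prime, S a finite p-group of maximal class of order p^n with n ≥ 5 (nilpotency class n − 1), F a saturated fusion system over S, and E an F-essential subgroup that is not a pearl (not elementary abelian of order p² and not extraspecial of order p³ and exponent p). Then E has order at least p⁴. -/
theorem result {Ω : Type*} [Group Ω] {S : Subgroup Ω} [Finite S] (p : ℕ) [Fact p.Prime] (hp : 5 ≤ p) (hS : IsPGroup p ↥S) (n : ℕ) (hn : Nat.card S = p ^ n) (h5 : 5 ≤ n)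
    (hmax : Subgroup.lowerCentralSeries S (n - 2) ≠ ⊥) (F : Cfsg.FusionSystem S) (hF : F.IsSaturated p)
    (E : Subgroup Ω) (hE : F.IsEssential p E)
    (hnp : ¬ ((Nat.card ↥E = p ^ 2 ∧ Cfsg.IsElementaryAbelian p E) ∨ (Nat.card ↥E = p ^ 3 ∧ Cfsg.IsExtraspecial p ↥E ∧ Monoid.exponent ↥E = p))) :
    p ^ 4 ≤ Nat.card ↥E := by
  have pp : p.Prime := Fact.out
  have m := CfsgLib.Fusion.mc_of_lcs_ne_bot hn (by omega) hmax
  rcases CfsgLib.Fus5.main m (by omega) hF hE with h | h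
  · exact h.2.1 ▸ Nat.pow_le_pow_right pp.pos (by omega)
  have := CfsgLib.Fusion.finite_of_le hE.1.1
  obtain ⟨M, hM⟩ := CfsgLib.Fusion.essential_essAut hS hF hE
  refine (hnp (h.imp (fun h => ⟨h, ⟨⟨(hM.elemTwo h).comm⟩⟩, fun a ha =>
    congrArg Subtype.val ((hM.elemTwo h).pow ⟨a, ha⟩)⟩) fun ⟨h, na, _⟩ => ?_)).elim
  have : Nontrivial E := Finite.one_lt_card_iff_nontrivial.1 (h ▸ Nat.one_lt_pow (by omega) pp.one_lt)
  rcases hM.card_cube h with h' | h' | h'
  · exact (na h'.1).elim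
  · exact ⟨h, h'.2.1, (Monoid.exponent_eq_prime_iff pp).2 fun g => orderOf_eq_prime (h'.2.2 g)⟩
  · omega

end Cfsg.Agent.S5316
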