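import Mathlib
import Cfsg.Statements.S5343
import Cfsg.Agent.Lib.Fusion.GroupFactor

set_option autoImplicit false
universe u
open Cfsg

namespace Cfsg.Agent.S5343

section Aux

open CfsgLib.Fusion Cfsg.FusionSystem
open scoped commutatorElement

theorem aux {Ω : Type u} [Group Ω] {S : Subgroup Ω} [Finite S] (p : ℕ) [Fact p.Prime] (F : FusionSystem S)
    (hsimple : F.IsSimple p) (n : ℕ) : ∀ (G : Type u) [Group G] [Finite G] (ι : S →* G), Nat.card G = n →
    F.IsRealizedBy ι → SylIn p ι.range ⊤ →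
    ∃ (G : Type u) (_ : Group G) (_ : Finite G) (_ : IsSimpleGroup G) (ι : ↥S →* G), F.IsRealizedBy ι ∧
      ∃ T : Sylow p G, (T : Subgroup G) = ι.range := by
  induction n using Nat.strong_induction_on with
  | _ n ih =>
  intro G _ _ ι hn hι hT
  by_cases hs : IsSimpleGroup G
  · exact ⟨G, inferInstance, inferInstance, hs, ι, hι, hT.exists_sylow⟩
  have hnt : Nontrivial G := by
    have : Nontrivial S := (Subgroup.nontrivial_iff_ne_bot S).2 hsimple.2.1
    exact hι.1.nontrivial
  obtain ⟨N, hN, h1, h2⟩ : ∃ N : Subgroup G, N.Normal ∧ N ≠ ⊥ ∧ N ≠ ⊤ := by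
    by_contra h
    push Not at h
    exact hs ⟨fun N hN => or_iff_not_imp_left.2 (h N hN)⟩
  have hE := rMor_isNormalIn (H := N) hι hT
    (E := realSub hι.1 N (pre_le _ _ _) (img_pre_extFun_le ι N)) (fun P f => mor_realSub _ _ _)
  rcases hsimple.2.2 _ _ hE with h | ⟨h, h'⟩
  · obtain ⟨h3, h4⟩ := realized_comp hι hT (QuotientGroup.mk' N) (QuotientGroup.mk'_surjective N) (by
      rw [QuotientGroup.ker_mk', ← img_pre_extFun, h, (isHomOn_extFun ι).img_bot])
    refine ih _ ?_ (G ⧸ N) _ rfl h3 h4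
    rw [← hn, Subgroup.card_eq_card_quotient_mul_card_subgroup N]
    exact lt_mul_of_one_lt_right Nat.card_pos ((Subgroup.one_lt_card_iff_ne_bot N).2 h1)
  · have h3 : SylIn p (img S (extFun ι)) N := by
      have := sylIn_img_pre hT N
      rwa [h] at this
    refine ih _ ?_ N (subEmb ι le_rfl h3.le) rfl (rMor_isRealizedBy hι.1 le_rfl h3.le fun P f => ?_)
      (sylIn_range_subEmb le_rfl h3)
    · rw [← hn, ← Subgroup.card_top (G := G)]
      exact card_lt_of_lt (lt_top_iff_ne_top.2 h2)
    · rw [← hom_eq_iff.1 (h' P) f, mor_realSub, h]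

end Aux

/-- Let F be a simple saturated fusion system over a finite p-group S that is realized by some finite group on a Sylow p-subgroup. Then F is realized by a finite simple group on a Sylow p-subgroup. -/
theorem result {Ω : Type u} [Group Ω] {S : Subgroup Ω} [Finite S] (p : ℕ) [Fact p.Prime] (hS : IsPGroup p S) (F : Cfsg.FusionSystem S) (hsimple : F.IsSimple p) (hreal : F.IsRealizable p) : ∃ (G : Type u) (_ : Group G) (_ : Finite G) (_ : IsSimpleGroup G) (ι : ↥S →* G), F.IsRealizedBy ι ∧ ∃ T : Sylow p G, (T : Subgroup G) = ι.range := by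
  obtain ⟨G, _, _, ι, hι, hT⟩ := hreal
  exact aux p F hsimple _ G ι rfl hι (CfsgLib.Fusion.sylIn_top_iff.2 hT)

end Cfsg.Agent.S5343
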