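import Cfsg.Statements.S5444
import Cfsg.Agent.Lib.FiMM.MM

set_option autoImplicit false
open Cfsg

namespace Cfsg.Agent.S5444

open CfsgLib CfsgLib.FiMM CfsgLib.FiTool CfsgLib.Fi24T CfsgLib.PLocal CfsgLib.LargeExtra Subgroup


/-- Let G be a finite group of large Fischer type at the involution z: the generalized Fitting subgroup Q of H = C_G(z) is extraspecial of order 2^13, H has normal subgroups Q ≤ H₁ ≤ H₂ with H₁/Q of order 3, H₂/H₁ the projective special unitary group of dimension 4 over the field with nine elements and H₂ of index 2 in H, and some conjugate of z other than z lies in Q. Let T be a Sylow 2-subgroup of H. Then T has exactly one elementary abelian subgroup A of largest order; A has order 2^11, it meets Q in a subgroup of order 2^7, and its image in H/Q has order 16. -/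
theorem result {G : Type*} [Group G] [Finite G] (z : G) (Q : Subgroup (Subgroup.centralizer ({z} : Set G))) [Q.Normal] (hF : Cfsg.IsOfLargeFischerTypeAt z Q) (T : Sylow 2 ↥(Subgroup.centralizer ({z} : Set G))) : ∃ A : Subgroup ↥(T : Subgroup (Subgroup.centralizer ({z} : Set G))), Cfsg.maxElementaryAbelianSubgroups 2 ↥(T : Subgroup (Subgroup.centralizer ({z} : Set G))) = {A} ∧ Nat.card A = 2 ^ 11 ∧ Nat.card ↥(A.map (T : Subgroup (Subgroup.centralizer ({z} : Set G))).subtype ⊓ Q) = 2 ^ 7 ∧ Nat.card ↥((A.map (T : Subgroup (Subgroup.centralizer ({z} : Set G))).subtype).map (QuotientGroup.mk' Q)) = 16 := by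
  obtain ⟨N, M', -, -, h⟩ := lf_of_type hF
  obtain ⟨π, ρ, f, -⟩ := F24T.frame h
  obtain ⟨j, h1, h2, h3⟩ := exists_emb m24_fi h
  obtain ⟨e1, e2⟩ := elab_comap m24_fi h1 h2
  have l : (A0 _).comap j ≤ centralizer {z} := fun x hx => mem_cent.2 (h1 (by
    rw [map_mul, map_mul, h3]; exact mem_cent.1 (MS.A0_H0 m24_fi hx).2))
  obtain ⟨y, hy⟩ := SylTools.exists_conj_le_sylow (elemAb_isPGroup (elemAb_subgroupOf e1 _)) T
  let B := (((A0 Fischer.pt24).comap j).subgroupOf (centralizer {z})).map (MulAut.conj y).toMonoidHom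
  have lB : B ≤ T := map_le_iff_le_comap.2 hy
  have eB : (B.subgroupOf T).map (T : Subgroup _).subtype = B := map_subgroupOf_eq_of_le lB
  have b1 : IsElementaryAbelian 2 B := elemAb_map (elemAb_subgroupOf e1 _) _
  have b2 : Nat.card B = 2 ^ 11 := by rw [card_map_conj, Core.card_subgroupOf_of_le l, e2]
  have k := fun (A : Subgroup _) (lA : A ≤ T) (h : IsElementaryAbelian 2 A) (c : 2 ^ 11 ≤ Nat.card A) =>
    f.elab_uniq (T.isPGroup'.map _) (map_subtype_le _) (map_mono lA) (map_mono lB) (elemAb_map h _) (elemAb_map b1 _)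
      (card_amb A ▸ c) (card_amb B ▸ b2.ge)
  have c := (k B lB b1 b2.ge).2.2
  rw [← map_inf _ _ _ (subtype_injective _), card_amb] at c
  have k' : ∀ A ≤ (T : Subgroup _), IsElementaryAbelian 2 A → Nat.card B ≤ Nat.card A → A = B := fun A lA h c =>
    map_injective (subtype_injective _) (k A lA h (b2 ▸ c)).1
  refine ⟨B.subgroupOf T, Set.ext fun A => ?_, by rw [Core.card_subgroupOf_of_le lB, b2], by rwa [eB, inf_comm], ?_⟩
  · rw [← map_subtype_mem_maxElemIn, mem_maxElemIn, Set.mem_singleton_iff, ← (map_injective (subtype_injective _)).eq_iff,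
      eB]
    exact ⟨fun h => k' _ h.1 h.2.1 (h.2.2 B lB b1), fun e => e ▸ ⟨lB, b1, fun A l h =>
      (le_total _ _).elim id fun c => k' A l h c ▸ le_rfl⟩⟩
  · have := Core.card_inf_mul_relIndex Q B
    rw [c, b2] at this
    rw [eB, ← relIndex_ker, QuotientGroup.ker_mk']
    omega

end Cfsg.Agent.S5444
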