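import Cfsg.Statements.S5446
import Cfsg.Agent.Lib.FiMM.MM
import Cfsg.Agent.Lib.FiLoc.Grp

set_option autoImplicit false
open Cfsg

namespace Cfsg.Agent.S5446

open CfsgLib CfsgLib.FiMM CfsgLib.FiTool CfsgLib.Fi24T CfsgLib.PLocal CfsgLib.LargeExtra Subgroup


/-- Let G be a finite group of large Fischer type at the involution z: the generalized Fitting subgroup Q of H = C_G(z) is extraspecial of order 2^13, H has normal subgroups Q ≤ H₁ ≤ H₂ with H₁/Q of order 3, H₂/H₁ the projective special unitary group of dimension 4 over the field with nine elements and H₂ of index 2 in H, and some conjugate of z other than z lies in Q. Let T be a Sylow 2-subgroup of G, A its Thompson subgroup (generated by the elementary abelian subgroups of T of largest order) and M = N_G(A) its normalizer. Then A is elementary abelian of order 2^11 and M/A is isomorphic to the Mathieu group of degree 24 (the automorphism group of the length-24 binary Golay code). -/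
theorem result {G : Type*} [Group G] [Finite G] (z : G) (Q : Subgroup (Subgroup.centralizer ({z} : Set G))) [Q.Normal] (hF : Cfsg.IsOfLargeFischerTypeAt z Q) (T : Sylow 2 G) (A M : Subgroup G) (hA : A = Cfsg.thompsonSubgroupOf 2 (T : Subgroup G)) (hM : M = Subgroup.normalizer (A : Set G)) : Cfsg.IsElementaryAbelian 2 A ∧ Nat.card A = 2 ^ 11 ∧ ∃ _ : (A.subgroupOf M).Normal, Nonempty (↥M ⧸ A.subgroupOf M ≃* ↥Cfsg.M24) := by
  obtain ⟨j, h1, h2, -, h3, h4⟩ := exists_model m24_fi hF T
  obtain ⟨φ, -, h5, h6⟩ := exists_phi m24_fi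
  rw [h3] at hA
  rw [hA, h4] at hM
  subst hA hM
  let Φ := φ.rangeRestrict.comp (j.subgroupComap _)
  have e : Φ.ker = ((A0 Fischer.pt24).comap j).subgroupOf _ := Subgroup.ext fun x => Subtype.ext_iff.trans (h5 _)
  refine ⟨(elab_comap m24_fi h1 h2).1, (elab_comap m24_fi h1 h2).2, e ▸ Φ.normal_ker,
    h6 ▸ @FiLoc.nonempty_quot_of_ker _ _ _ _ Φ (φ.rangeRestrict_surjective.comp fun y => ?_) _ (_) e⟩
  obtain ⟨x, hx⟩ := h2.ge y.2.1
  exact ⟨⟨x, mem_comap.2 (hx ▸ y.2)⟩, Subtype.ext hx⟩

end Cfsg.Agent.S5446
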