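import Cfsg.Statements.S5447
import Cfsg.Agent.Lib.FiMM.MM

set_option autoImplicit false
open Cfsg

namespace Cfsg.Agent.S5447

open CfsgLib CfsgLib.FiMM CfsgLib.FiTool CfsgLib.Fi24T CfsgLib.PLocal CfsgLib.LargeExtra Subgroup


/-- Let G be a finite group of large Fischer type at the involution z: the generalized Fitting subgroup Q of H = C_G(z) is extraspecial of order 2^13, H has normal subgroups Q ≤ H₁ ≤ H₂ with H₁/Q of order 3, H₂/H₁ the projective special unitary group of dimension 4 over the field with nine elements and H₂ of index 2 in H, and some conjugate of z other than z lies in Q. Let T be a Sylow 2-subgroup of G, A its Thompson subgroup and M = N_G(A) its normalizer. Then M controls fusion in A (elements of A conjugate in G are conjugate in M), and M has exactly two orbits on the non-identity elements of A: those conjugate to z in G and those not. -/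
theorem result {G : Type*} [Group G] [Finite G] (z : G) (Q : Subgroup (Subgroup.centralizer ({z} : Set G))) [Q.Normal] (hF : Cfsg.IsOfLargeFischerTypeAt z Q) (T : Sylow 2 G) (A M : Subgroup G) (hA : A = Cfsg.thompsonSubgroupOf 2 (T : Subgroup G)) (hM : M = Subgroup.normalizer (A : Set G)) : (∀ a ∈ A, ∀ g : G, g * a * g⁻¹ ∈ A → ∃ m ∈ M, m * a * m⁻¹ = g * a * g⁻¹) ∧ (∃ a ∈ A, a ≠ 1 ∧ IsConj z a) ∧ (∃ a ∈ A, a ≠ 1 ∧ ¬ IsConj z a) ∧ ∀ a ∈ A, ∀ b ∈ A, a ≠ 1 → b ≠ 1 → (IsConj z a ↔ IsConj z b) → ∃ m ∈ M, m * a * m⁻¹ = b := by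
  obtain ⟨j, h1, h2, ⟨y, hy⟩, h3, h4⟩ := exists_model m24_fi hF T
  rw [h3] at hA
  rw [hA, h4] at hM
  subst hA hM
  have tr : ∀ {a b l l'}, l.Nodup → l'.Nodup → l.length = l'.length → l.length ≤ 5 → pr _ l = j a → pr _ l' = j b →
      ∃ m ∈ (M0 Fischer.pt24).comap j, m * a * m⁻¹ = b := fun n n' e h5 ea eb => by
    obtain ⟨x, hx, h⟩ := pr_conj m24_fi n n' e h5
    obtain ⟨m, rfl⟩ := h2.ge hx.1
    exact ⟨m, hx, h1 (by rw [map_mul, map_mul, map_inv, ← ea, ← eb, h])⟩
  have cj : ∀ {a l}, l.Nodup → l.length = 2 ∨ l.length = 4 → pr _ l = j a → (IsConj z a ↔ l.length = 4) :=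
    fun {a l} n h e => ⟨fun c => by
      obtain ⟨x, hx⟩ := isConj_iff.1 (j.map_isConj ((isConj_iff.2 ⟨y, rfl⟩).symm.trans c))
      have := (isCP_pr m24_fi (l := [some 0, some 1, some 3, some 11]) (by decide)).conj m24_fi.grp.2.1 x
      rw [z0_eq_pr, ← hy, hx, ← e] at this
      exact m24_fi.length_eq (by omega) le_rfl (isCP_pr m24_fi n) this, fun c => by
      obtain ⟨m, -, h⟩ := tr (l := [some 0, some 1, some 3, some 11]) (by decide) n c.symm (by decide) ((z0_eq_pr _).trans hy.symm) e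
      exact (isConj_iff.2 ⟨y, rfl⟩).trans (isConj_iff.2 ⟨m, h⟩)⟩
  have key : ∀ a ∈ (A0 Fischer.pt24).comap j, ∀ b ∈ (A0 Fischer.pt24).comap j, a ≠ 1 → b ≠ 1 →
      (IsConj z a ↔ IsConj z b) → ∃ m ∈ (M0 Fischer.pt24).comap j, m * a * m⁻¹ = b := fun a ha b hb a1 b1 h => by
    obtain ⟨l, n, c, e⟩ := A0_cases m24_fi ha ((map_ne_one_iff j h1).2 a1)
    obtain ⟨l', n', c', e'⟩ := A0_cases m24_fi hb ((map_ne_one_iff j h1).2 b1)
    rw [cj n c e, cj n' c' e'] at h
    exact tr n n' (by omega) (by omega) e e'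
  have z1 : z ≠ 1 := fun e => by simpa [e] using hF.1.1
  refine ⟨fun a ha g hg => ?_, ⟨_, mem_comap.2 (hy ▸ MS.z0_A0 m24_fi), by simpa using z1, isConj_iff.2 ⟨y, rfl⟩⟩, ?_,
    key⟩
  · by_cases a1 : a = 1
    · exact ⟨1, one_mem _, by simp [a1]⟩
    · exact key a ha _ hg a1 (by simpa using a1) ⟨fun h => h.trans (isConj_iff.2 ⟨g, rfl⟩),
        fun h => h.trans (isConj_iff.2 ⟨g, rfl⟩).symm⟩
  · have h : pr _ [none, some 0] ∈ A0 Fischer.pt24 :=
      ⟨(pr_mem m24_fi _).2 (by decide), mul_mem (bp_V _ _) (mul_mem (bp_V _ _) (one_mem _))⟩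
    obtain ⟨a, e⟩ := h2.ge h.1
    have := cj (by decide) (Or.inl rfl) e.symm
    refine ⟨a, mem_comap.2 (e ▸ h), fun a1 => ?_, by simpa using this⟩
    have := (isCP_pr m24_fi (l := []) (by decide))
    rw [show pr _ [] = j a by rw [a1, map_one]; rfl, e] at this
    exact absurd (m24_fi.length_eq (by decide) (by decide) (isCP_pr m24_fi (by decide)) this) (by decide)

end Cfsg.Agent.S5447
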