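import Cfsg.Statements.S5448
import Cfsg.Agent.Lib.FiMM.MM
import Cfsg.Agent.Lib.FiLoc.Grp

set_option autoImplicit false
open scoped Pointwise
open Cfsg

namespace Cfsg.Agent.S5448

open CfsgLib CfsgLib.FiMM CfsgLib.FiTool CfsgLib.Fi24T CfsgLib.PLocal CfsgLib.LargeExtra Subgroup


/-- Let G be a finite group of large Fischer type at the involution z: the generalized Fitting subgroup Q of H = C_G(z) is extraspecial of order 2^13, H has normal subgroups Q ≤ H₁ ≤ H₂ with H₁/Q of order 3, H₂/H₁ the projective special unitary group of dimension 4 over the field with nine elements and H₂ of index 2 in H, and some conjugate of z other than z lies in Q. Let T be a Sylow 2-subgroup of G, A its Thompson subgroup, M = N_G(A) its normalizer, and t an involution of A not conjugate to z in G. Then the centralizer of t in M, modulo A, is isomorphic to the setwise stabilizer of a two-element subset of the 24 points in the Mathieu group of degree 24 (the automorphism group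 of the smaller Mathieu group on 22 points). -/
theorem result {G : Type*} [Group G] [Finite G] (z : G) (Q : Subgroup (Subgroup.centralizer ({z} : Set G))) [Q.Normal] (hF : Cfsg.IsOfLargeFischerTypeAt z Q) (T : Sylow 2 G) (A M : Subgroup G) (hA : A = Cfsg.thompsonSubgroupOf 2 (T : Subgroup G)) (hM : M = Subgroup.normalizer (A : Set G)) (t : G) (htA : t ∈ A) (ht2 : orderOf t = 2) (ht : ¬ IsConj z t) : ∃ _ : (A.subgroupOf (M ⊓ Subgroup.centralizer ({t} : Set G))).Normal, Nonempty (↥(M ⊓ Subgroup.centralizer ({t} : Set G)) ⧸ A.subgroupOf (M ⊓ Subgroup.centralizer ({t} : Set G)) ≃* ↥(Cfsg.M24 ⊓ MulAction.stabilizer (Equiv.Perm Cfsg.GolayPt) ({none, some 0} : Set Cfsg.GolayPt))) := by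
  obtain ⟨j, h1, h2, ⟨y, hy⟩, h3, h4⟩ := exists_model m24_fi hF T
  obtain ⟨φ, h0, h5, h6⟩ := exists_phi m24_fi
  rw [h3] at hA
  rw [hA, h4] at hM
  subst hA hM
  obtain ⟨l, n, c, e⟩ := A0_cases m24_fi htA ((map_ne_one_iff j h1).2 (by rintro rfl; simp at ht2))
  rcases c with c | c
  swap
  · obtain ⟨x, hx, h⟩ := pr_conj m24_fi (l := [some 0, some 1, some 3, some 11]) (by decide) n c.symm (by decide)
    obtain ⟨m, rfl⟩ := h2.ge hx.1
    exact absurd ((isConj_iff.2 ⟨y, rfl⟩).trans (isConj_iff.2 ⟨m, h1 (by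
      rw [map_mul, map_mul, map_inv, hy, ← z0_eq_pr, h, e])⟩)) ht
  obtain ⟨p, q, rfl⟩ := List.length_eq_two.1 c
  have pq : p ≠ q := by simpa using n
  replace e : bp Fischer.pt24 p * bp Fischer.pt24 q = j t := by simpa [pr] using e
  obtain ⟨σ, hσ, s1, s2⟩ := Mathieu.trans2 (p' := none) (q' := some 0) pq (by decide)
  have k : ∀ x : M0 Fischer.pt24, Commute (x : Spor.Fi24) (j t) ↔ σ * φ x * σ⁻¹ ∈
      MulAction.stabilizer (Equiv.Perm GolayPt) ({none, some 0} : Set GolayPt) := fun x => by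
    rw [MulAction.mem_stabilizer_iff, mul_smul, mul_smul, ← eq_inv_smul_iff, ← s1, ← s2, ← Set.image_pair σ,
      show (σ '' {p, q} : Set _) = σ • ({p, q} : Set _) from rfl, inv_smul_smul, ← Set.image_smul, Set.image_pair,
      Set.pair_eq_pair_iff, Equiv.Perm.smul_def, Equiv.Perm.smul_def, ← e]
    refine ⟨fun h => ?_, fun h => mul_inv_eq_iff_eq_mul.1 ?_⟩
    · have a := conj_eq_or m24_fi (bp_mem m24_fi p) ⟨bp_mem m24_fi q, (bp_inj m24_fi).ne pq.symm, bp_comm m24_fi _ _⟩ h
      have b := conj_eq_or m24_fi (bp_mem m24_fi q) ⟨bp_mem m24_fi p, (bp_inj m24_fi).ne pq, bp_comm m24_fi _ _⟩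
        ((bp_comm m24_fi p q).eq ▸ h)
      simp only [h0, (bp_inj m24_fi).eq_iff] at a b
      have := (φ x).injective.ne pq
      rcases a with a | a <;> rcases b with b | b <;> simp_all
    · rw [← conj_mul, h0, h0]
      rcases h with h | h <;> rw [h.1, h.2]
      exact (bp_comm m24_fi _ _).eq
  let Φ := ((MulAut.conj σ).toMonoidHom.comp (φ.comp ((j.subgroupComap _).comp (inclusion
    (inf_le_left (b := centralizer {t})))))).codRestrict (M24 ⊓ MulAction.stabilizer _ ({none, some 0} : Set GolayPt))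
      fun x => ⟨mul_mem (mul_mem hσ (h6.le ⟨_, rfl⟩)) (M24.inv_mem hσ), (k _).1 (Commute.map (mem_cent.1 x.2.2) j)⟩
  have e : Φ.ker = ((A0 Fischer.pt24).comap j).subgroupOf _ :=
    Subgroup.ext fun x => Subtype.ext_iff.trans (conj_eq_one_iff.trans (h5 _))
  refine ⟨e ▸ Φ.normal_ker, @FiLoc.nonempty_quot_of_ker _ _ _ _ Φ (fun u => ?_) _ (_) e⟩
  obtain ⟨x, hx⟩ := h6.ge (mul_mem (mul_mem (inv_mem hσ) u.2.1) hσ)
  have e' : σ * φ x * σ⁻¹ = u := by rw [hx]; group
  obtain ⟨⟨_, hx'⟩, rfl⟩ : ∃ x' : M0 _, x' = x := ⟨x, rfl⟩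
  obtain ⟨x, rfl⟩ := h2.ge hx'.1
  exact ⟨⟨x, hx', mem_cent.2 (h1 (by rw [map_mul, map_mul]; exact (k _).2 (e' ▸ u.2.2)))⟩, Subtype.ext e'⟩

end Cfsg.Agent.S5448
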