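import Cfsg.Statements.S5449
import Mathlib
import Cfsg.Agent.Lib.Fi24T.Main
import Cfsg.Agent.Lib.Fi24T.Loc
import Cfsg.Agent.Lib.FiTool.MFi
import Cfsg.Agent.Lib.Invol.Four
import Cfsg.Agent.Lib.FiLoc.Loc

set_option autoImplicit false
open Cfsg

namespace Cfsg.Agent.S5449

open CfsgLib.Comput CfsgLib.FiTool CfsgLib.Fi24T CfsgLib.LargeExtra Subgroup

theorem lq_eq {F : Type*} [Group F] {D : Set F} {g pt : ℕ → F} (M : CfsgLib.FiTool.M24 D g pt) :
    lw g usQ 0 = b24 pt 4 * b24 pt 2 ∧ lw g usQ 2 = b24 pt 4 * b24 pt 1 := by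
  rw [← M.b_eq (by norm_num), ← M.b_eq (by norm_num), ← M.b_eq (by norm_num)]
  exact ⟨(CfsgLib.FiLoc.ev_app g 8 (j := 4) (by norm_num)).trans (congrArg _ (ev_letter g (m := 4) (by norm_num)).symm),
    (CfsgLib.FiLoc.ev_app g 8 (j := 2) (by norm_num)).trans (congrArg _ (ev_letter g (m := 2) (by norm_num)).symm)⟩

theorem core {G F : Type*} [Group G] [Finite G] [Group F] {D : Set F} {g pt : ℕ → F} (M : CfsgLib.FiTool.M24 D g pt)
    {z : G} {Q N M' : Subgroup G} (h : LF z Q N M') : ∃ E : Subgroup G, E ≤ Q ∧ IsElementaryAbelian 2 E ∧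
      Nat.card E = 4 ∧ z ∉ E ∧ (∃ t ∈ E, orderOf t = 2 ∧ ¬ IsConj z t) ∧ IsQuasisimple (centralizer (E : Set G)) ∧
      ∃ (_ : (E.subgroupOf (centralizer (E : Set G))).Normal) (K : Type) (_ : Field K) (_ : Fintype K),
        Fintype.card K = 4 ∧ Nonempty (centralizer (E : Set G) ⧸ E.subgroupOf (centralizer (E : Set G)) ≃* PSU 6 K 2) := by
  have := M.finite
  obtain ⟨e, he⟩ := main M h
  obtain ⟨-, ⟨N0, M0, h0⟩, -, hO⟩ := lf_model' M
  have hQ : QG.Q (lq M) ≤ Q.comap e.toMonoidHom := by
    refine (eq_of_le_of_card_ge (hO _ (fun x hx => mem_cent.2 (e.injective ?_)) (fun x hx y hy => ?_)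
      (h.pre.es.isPGroup.comap_of_injective _ e.injective)) ?_).ge
    · rw [map_mul, map_mul, he]; exact mem_cent.1 (h.pre.le_cent hx)
    · rw [mem_comap, map_mul, map_mul, map_inv]
      exact h.pre.norm _ (by rw [← he]; exact (map_mul e _ _).symm.trans ((congrArg e hx).trans (map_mul e _ _))) _ hy
    · rw [h0.cardQ, ← h.cardQ]
      rw [CfsgLib.Core.card_comap_of_surjective e.surjective, (MonoidHom.ker_eq_bot_iff _).2 e.injective, card_bot, mul_one]
  let j : G →* F := (commutator F).subtype.comp e.symm.toMonoidHom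
  have hj : Function.Injective j := (subtype_injective _).comp e.symm.injective
  have hr : j.range = commutator F := by
    rw [MonoidHom.range_comp, MonoidHom.range_eq_top.2 e.symm.surjective, ← MonoidHom.range_eq_map, range_subtype]
  have hje : ∀ x, j (e x) = x := fun x => congrArg Subtype.val (e.symm_apply_apply x)
  have hl : CL D [b24 pt 4, b24 pt 2, b24 pt 1] := M.bm.cl_map (l := [4, 2, 1]) (by decide) (by decide)
  generalize hd : b24 pt 4 = d at hl
  generalize ha : b24 pt 2 = a at hl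
  generalize hb : b24 pt 1 = b at hl
  have h1 : j (e (lq M 0)) = d * a := by rw [hje, ← hd, ← ha]; exact (lq_eq M).1
  have h2 : j (e (lq M 2)) = d * b := by rw [hje, ← hd, ← hb]; exact (lq_eq M).2
  have h3 := hQ (QG.mem (i := 0) (by norm_num))
  have h4 := hQ (QG.mem (i := 2) (by norm_num))
  change e (lq M 0) ∈ Q at h3
  change e (lq M 2) ∈ Q at h4
  generalize e (lq M 0) = s at h1 h3
  generalize e (lq M 2) = t at h2 h4
  have hz : IsCP D 4 (j z) := by rw [← he, hje]; exact isCP_iff.2 ⟨_, cl_z0 M, rfl, prod_z0 pt⟩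
  have hc : ∀ x ∈ [d, a, b], ∀ y ∈ [d, a, b], Commute x y := hl.2.2
  have hp : ∀ x ∈ [d, a, b], ∀ y ∈ [d, a, b], x ≠ y → ∀ w, j w = x * y → orderOf w = 2 ∧ ¬ IsConj z w :=
    fun x hx y hy hne w hw => by
    have h5 := CL.pair (hl.2.1 x hx) (hl.2.1 y hy) hne (hc x hx y hy)
    have h6 : IsCP D 2 (j w) := isCP_iff.2 ⟨_, h5, rfl, by simp [hw]⟩
    refine ⟨?_, fun h7 => ?_⟩
    · rw [← orderOf_injective j hj, hw]
      have h8 := h5.prod_sq M.grp.1
      have h9 := h5.prod_ne_one M.prim (by simp) (by simp)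
      exact orderOf_eq_prime (by simpa [pow_two] using h8) (by simpa using h9)
    · obtain ⟨u, rfl⟩ := isConj_iff.1 h7
      rw [map_mul, map_mul, map_inv] at h6
      exact absurd (M.length_eq (by norm_num) le_rfl h6 (hz.conj M.grp.2.1 _)) (by norm_num)
  obtain ⟨⟨-, n1, -⟩, ⟨-, n2, -⟩, n3⟩ := CL.perp_two hl
  have hs := hp d (by simp) a (by simp) n1.symm s h1
  have ht := hp d (by simp) b (by simp) n2.symm t h2
  have hst := hp a (by simp) b (by simp) n3 (s * t) (by
    rw [map_mul, h1, h2, (hc d (by simp) a (by simp)).eq, mul_assoc, ← mul_assoc d,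
      CfsgLib.ThreeTrans.sq M.grp.1 (hl.2.1 d (by simp)), one_mul])
  have c : Commute s t := hj (by
    rw [map_mul, map_mul, h1, h2]
    exact ((hc d (by simp) d (by simp)).mul_right (hc d (by simp) b (by simp))).mul_left
      ((hc a (by simp) d (by simp)).mul_right (hc a (by simp) b (by simp))))
  have sq : ∀ {w : G}, orderOf w = 2 → w * w = 1 := fun h => by rw [← pow_two, ← h, pow_orderOf_eq_one]
  have hE : closure {s, t} = (closure {d * a, d * b}).comap j := by
    rw [← h1, ← h2, ← Set.image_pair, ← MonoidHom.map_closure, comap_map_eq_self_of_injective hj]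
  let := Fintype.ofFinite (GaloisField 2 2)
  obtain ⟨k1, k2, χ, k3, k4⟩ := core_four M hl card_gf4 (j.comp (centralizer (closure {s, t} : Subgroup G)).subtype)
    (hj.comp (subtype_injective _)) (by
      rw [← cent_four_group M hl, ← hr, centralizer_closure, centralizer_closure, ← h1, ← h2]
      ext x
      constructor
      · rintro ⟨y, rfl⟩
        refine ⟨⟨y, rfl⟩, ?_⟩
        rintro _ (rfl | rfl) <;> exact (map_mul j _ _).symm.trans ((congrArg j (y.2 _ (by simp))).trans (map_mul j _ _))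
      · rintro ⟨⟨y, rfl⟩, hy⟩
        refine ⟨⟨y, ?_⟩, rfl⟩
        rintro _ (rfl | rfl) <;> exact hj ((map_mul j _ _).trans ((hy _ (by simp)).trans (map_mul j _ _).symm)))
  rw [← comap_comap, ← hE] at k2
  have e3 : χ.ker = (closure {s, t}).subgroupOf _ := k4.trans k2
  have n : ((closure {s, t}).subgroupOf (centralizer (closure {s, t} : Subgroup G))).Normal := e3 ▸ χ.normal_ker
  refine ⟨closure {s, t}, (closure_le _).2 (by rintro _ (rfl | rfl); exacts [h3, h4]),
    CfsgLib.FiLoc.closure_elab ?_ ?_, CfsgLib.Invol.card_closure_pair_of_commute hs.1 ht.1 (fun e => ?_) c,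
    fun h5 => ?_, ⟨s, subset_closure (by simp), hs⟩, k1, n, GaloisField 2 2, inferInstance,
    inferInstance, card_gf4, CfsgLib.FiLoc.nonempty_quot_of_ker k3 e3⟩
  · rintro _ (rfl | rfl) _ (rfl | rfl)
    exacts [Commute.refl _, c, c.symm, Commute.refl _]
  · rintro _ (rfl | rfl)
    exacts [(pow_two _).trans (sq hs.1), (pow_two _).trans (sq ht.1)]
  · rw [← e, sq hs.1, orderOf_one] at hst
    exact absurd hst.1 (by norm_num)
  · rcases (CfsgLib.Invol.mem_closure_pair_of_commute (sq hs.1) (sq ht.1) c z).1 h5 with e | e | e | e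
    exacts [h.pre.es.ne_one e, hs.2 (e ▸ IsConj.refl _), ht.2 (e ▸ IsConj.refl _), hst.2 (e ▸ IsConj.refl _)]

/-- Let G be a finite group of large Fischer type at the involution z: the generalized Fitting subgroup Q of H = C_G(z) is extraspecial of order 2^13, H has normal subgroups Q ≤ H₁ ≤ H₂ with H₁/Q of order 3, H₂/H₁ the projective special unitary group of dimension 4 over the field with nine elements and H₂ of index 2 in H, and some conjugate of z other than z lies in Q. Then Q contains a four-group E, not containing z and containing an involution not conjugate to z in G, whose centralizer in G is quasisimple with quotient by E isomorphic to the projective special unitary group of dimension 6 over the field with four elements. -/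
theorem result {G : Type*} [Group G] [Finite G] (z : G) (Q : Subgroup (Subgroup.centralizer ({z} : Set G))) [Q.Normal] (hF : Cfsg.IsOfLargeFischerTypeAt z Q) : ∃ E : Subgroup G, E ≤ (Q.map (Subgroup.centralizer ({z} : Set G)).subtype) ∧ Cfsg.IsElementaryAbelian 2 E ∧ Nat.card E = 4 ∧ z ∉ E ∧ (∃ t ∈ E, orderOf t = 2 ∧ ¬ IsConj z t) ∧ Cfsg.IsQuasisimple ↥(Subgroup.centralizer (E : Set G)) ∧ ∃ (_ : (E.subgroupOf (Subgroup.centralizer (E : Set G))).Normal) (K : Type) (_ : Field K) (_ : Fintype K), Fintype.card K = 4 ∧ Nonempty (↥(Subgroup.centralizer (E : Set G)) ⧸ E.subgroupOf (Subgroup.centralizer (E : Set G)) ≃* Cfsg.PSU 6 K 2) := by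
  obtain ⟨N, M', -, -, h⟩ := lf_of_type hF
  exact core m24_fi h

end Cfsg.Agent.S5449
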