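import Cfsg.Statements.S5450
import Mathlib
import Cfsg.Agent.Lib.Fi24T.Main
import Cfsg.Agent.Lib.Fi24T.Loc
import Cfsg.Agent.Lib.FiTool.MFi

set_option autoImplicit false
open Cfsg

namespace Cfsg.Agent.S5450

open CfsgLib.FiTool CfsgLib.Fi24T CfsgLib.LargeExtra Subgroup

theorem exists_pair {G F : Type*} [Group G] [Group F] {D : Set F} {g pt : ℕ → F} (M : CfsgLib.FiTool.M24 D g pt) (j : G →* F)
    (hj : Function.Injective j) (hr : j.range = commutator F) {z t : G} (hz : j z = z0 pt) (ht : orderOf t = 2)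
    (hn : ¬ IsConj z t) : ∃ d e, CL D [d, e] ∧ j t = d * e := by
  obtain ⟨m, h1, h2, h3⟩ := M.exists_isCP (j t) (by rw [orderOf_injective j hj, ht])
  have h4 : j t ∈ commutator F := hr ▸ ⟨t, rfl⟩
  interval_cases m
  · exact absurd h4 (M.not_mem_comm (isCP_one.1 h3))
  · obtain ⟨l, h5, h6, h7⟩ := isCP_iff.1 h3
    obtain ⟨d, e, rfl⟩ := List.length_eq_two.1 h6
    exact ⟨d, e, h5, by simpa using h7.symm⟩
  · obtain ⟨l, h5, h6, h7⟩ := isCP_iff.1 h3
    obtain ⟨d, e, f, rfl⟩ := List.length_eq_three.1 h6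
    rw [← h7, List.prod_cons, List.prod_cons, List.prod_singleton, Subgroup.mul_mem_cancel_right _
      (M.mul_mem_comm (h5.2.1 e (by simp)) (h5.2.1 f (by simp)))] at h4
    exact absurd h4 (M.not_mem_comm (h5.2.1 d (by simp)))
  · obtain ⟨x, hx⟩ := isConj_iff.1 (M.isConj (m := 4) (by norm_num) (isCP_iff.2 ⟨_, cl_z0 M, rfl, prod_z0 pt⟩) h3)
    have key : ∀ y ∈ commutator F, y * z0 pt * y⁻¹ = j t → False := fun y hy e => by
      obtain ⟨y, rfl⟩ := hr.ge hy
      exact hn (isConj_iff.2 ⟨y, hj (by rw [map_mul, map_mul, map_inv, hz, e])⟩)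
    by_cases h : x ∈ commutator F
    · exact (key x h hx).elim
    · refine (key _ (M.mul_mem_comm' h (M.b_mem (i := 1) (by norm_num))) ?_).elim
      have c : Commute (b24 pt 1) (z0 pt) := prod_z0 pt ▸ (cl_z0 M).commute_prod (by simp)
      rw [← hx, mul_assoc x, c.eq]
      group

/-- Let G be a finite group of large Fischer type at the involution z: the generalized Fitting subgroup Q of H = C_G(z) is extraspecial of order 2^13, H has normal subgroups Q ≤ H₁ ≤ H₂ with H₁/Q of order 3, H₂/H₁ the projective special unitary group of dimension 4 over the field with nine elements and H₂ of index 2 in H, and some conjugate of z other than z lies in Q. Let t be an involution of Q not conjugate to z in G, and K the generalized Fitting subgroup of the centralizer of t. Then K is quasisimple of index 2 in the centralizer of t, contains t, and the centralizer of t modulo the subgroup generated by t is isomorphic to the full automorphism group of the Fischer group Fi₂₂ (as presented). -/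
theorem result {G : Type*} [Group G] [Finite G] (z : G) (Q : Subgroup (Subgroup.centralizer ({z} : Set G))) [Q.Normal] (hF : Cfsg.IsOfLargeFischerTypeAt z Q) (t : G) (htQ : ∃ htc : t ∈ Subgroup.centralizer ({z} : Set G), (⟨t, htc⟩ : Subgroup.centralizer ({z} : Set G)) ∈ Q) (ht2 : orderOf t = 2) (ht : ¬ IsConj z t) (K : Subgroup ↥(Subgroup.centralizer ({t} : Set G))) (hK : K = Cfsg.generalizedFittingSubgroup ↥(Subgroup.centralizer ({t} : Set G))) [hn : ((Subgroup.zpowers t).subgroupOf (Subgroup.centralizer ({t} : Set G))).Normal] : Cfsg.IsQuasisimple ↥K ∧ K.index = 2 ∧ (∃ htc : t ∈ Subgroup.centralizer ({t} : Set G), (⟨t, htc⟩ : ↥(Subgroup.centralizer ({t} : Set G))) ∈ K) ∧ Nonempty (↥(Subgroup.centralizer ({t} : Set G)) ⧸ (Subgroup.zpowers t).subgroupOf (Subgroup.centralizer ({t} : Set G)) ≃* MulAut Cfsg.Spor.Fi22) := by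
  obtain ⟨N, M', -, -, h⟩ := lf_of_type hF
  obtain ⟨j, hj, hr, hz⟩ := exists_emb m24_fi h
  obtain ⟨d, e, hl, h1⟩ := exists_pair m24_fi j hj hr hz ht2 ht
  have h2 : (j.comp (centralizer ({t} : Set G)).subtype).range = commutator _ ⊓ centralizer {d * e} := by
    ext x
    rw [← hr, ← h1]
    constructor
    · rintro ⟨y, rfl⟩
      exact ⟨⟨y, rfl⟩, mem_cent.2 (by rw [MonoidHom.comp_apply, ← map_mul, ← map_mul]; exact congrArg j (mem_cent.1 y.2))⟩
    · rintro ⟨⟨y, rfl⟩, hy⟩
      exact ⟨⟨y, mem_cent.2 (hj (by rw [map_mul, map_mul]; exact mem_cent.1 hy))⟩, rfl⟩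
  obtain ⟨c1, c2, c3, c4⟩ := core_two m24_fi hl (j.comp (centralizer ({t} : Set G)).subtype) (hj.comp (subtype_injective _)) h2
  have h3 : (zpowers (d * e)).comap (j.comp (centralizer ({t} : Set G)).subtype) = (zpowers t).subgroupOf _ := by
    rw [← h1, ← MonoidHom.map_zpowers, ← comap_comap, comap_map_eq_self_of_injective hj, subgroupOf]
  rw [h3] at c4
  rw [hK, c1]
  refine ⟨c2, c3, ⟨mem_cent.2 rfl, ?_⟩, @c4 hn⟩
  change j t ∈ centralizer {d, e}
  rw [h1]
  rintro _ (rfl | rfl)
  exacts [(Commute.refl _).mul_right (hl.2.2 _ (by simp) _ (by simp)),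
    Commute.mul_right (hl.2.2 _ (by simp) _ (by simp)) (Commute.refl _)]

end Cfsg.Agent.S5450
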