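import Cfsg.Statements.S5451
import Cfsg.Agent.Lib.FiMM.U6
import Cfsg.Agent.Lib.FiLoc.Grp

set_option autoImplicit false
open Cfsg

namespace Cfsg.Agent.S5451

open CfsgLib CfsgLib.FiMM CfsgLib.LargeExtra

/-- Let G be a finite group of large Fischer type at the involution z: the generalized Fitting subgroup Q of H = C_G(z) is extraspecial of order 2^13, H has normal subgroups Q ≤ H₁ ≤ H₂ with H₁/Q of order 3, H₂/H₁ the projective special unitary group of dimension 4 over the field with nine elements and H₂ of index 2 in H, and some conjugate of z other than z lies in Q. Let X be a subgroup of H of order 3 whose product with Q is normal in H (X maps onto the normal subgroup of order 3 of H/Q). Then the centralizer of X in H is quasisimple with cyclic centre of order 6 and central quotient isomorphic to the projective special unitary group of dimension 4 over the field with nine elements. -/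
theorem result {G : Type*} [Group G] [Finite G] (z : G) (Q : Subgroup (Subgroup.centralizer ({z} : Set G))) [Q.Normal] (hF : Cfsg.IsOfLargeFischerTypeAt z Q) (X : Subgroup (Subgroup.centralizer ({z} : Set G))) (hX : Nat.card X = 3) (hXQ : (X ⊔ Q).Normal) : Cfsg.IsQuasisimple ↥(Subgroup.centralizer ((X : Subgroup (Subgroup.centralizer ({z} : Set G))) : Set (Subgroup.centralizer ({z} : Set G)))) ∧ IsCyclic ↥(Subgroup.center ↥(Subgroup.centralizer ((X : Subgroup (Subgroup.centralizer ({z} : Set G))) : Set (Subgroup.centralizer ({z} : Set G))))) ∧ Nat.card ↥(Subgroup.center ↥(Subgroup.centralizer ((X : Subgroup (Subgroup.centralizer ({z} : Set G))) : Set (Subgroup.centralizer ({z} : Set G))))) = 6 ∧ ∃ (K : Type) (_ : Field K) (_ : Fintype K), Fintype.card K = 9 ∧ Nonempty (↥(Subgroup.centralizer ((X : Subgroup (Subgroup.centralizer ({z} : Set G))) : Set (Subgroup.centralizer ({z} : Set G)))) ⧸ Subgroup.center ↥(Subgroup.centralizer ((X : Subgroup (Subgroup.centralizer ({z} : Set G))) : Set (Subgroup.centralizer ({z} : Set G))))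 ≃* Cfsg.PSU 4 K 3) := by
  obtain ⟨N, M, -, -, h⟩ := Fi24T.lf_of_type hF
  obtain ⟨h1, h2, h3, ψ, h4, h5⟩ := six_u43 h hX (by rwa [amb_subgroupOf]) rfl
  obtain ⟨-, _, _, _, _, -, -, -, ⟨K, _, _, hK, -⟩, -⟩ := hF
  obtain ⟨e⟩ := FiLoc.nonempty_quot_of_ker h4 h5
  obtain ⟨e'⟩ := U43.nonempty_PM_equiv_PSU K hK
  exact ⟨⟨h1, e.isSimpleGroup⟩, h2, h3, K, _, _, hK, ⟨e.trans e'⟩⟩

end Cfsg.Agent.S5451
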