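import Cfsg.Statements.S5462
import Mathlib
import Cfsg.Agent.Lib.FiLoc.Inv22
import Cfsg.Agent.Lib.FiTool.MType

set_option autoImplicit false
open Cfsg

namespace Cfsg.Agent.S5462

open CfsgLib.FiTool CfsgLib.FiLoc Subgroup


/-- Let G be a finite group with trivial centre generated by a conjugation-invariant set D of 3-transpositions on which it acts primitively, such that for some d in D the subgroup generated by the members of D other than d commuting with d has central largest normal 2- and 3-subgroups, and suppose G with D is of type M(22). Then every automorphism of G of order 2 fixes some member of D. -/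
theorem result {G : Type*} [Group G] [Finite G] {D : Set G} (hD : Cfsg.IsThreeTranspositionGroup D) (hprim : Cfsg.IsPrimitiveUnderConj D) (d₀ : G) (hd₀ : d₀ ∈ D) (h3 : Cfsg.pCore 3 ↥(Subgroup.closure {y : G | y ∈ D ∧ y ≠ d₀ ∧ Commute d₀ y}) ≤ Subgroup.center ↥(Subgroup.closure {y : G | y ∈ D ∧ y ≠ d₀ ∧ Commute d₀ y})) (h2 : Cfsg.pCore 2 ↥(Subgroup.closure {y : G | y ∈ D ∧ y ≠ d₀ ∧ Commute d₀ y}) ≤ Subgroup.center ↥(Subgroup.closure {y : G | y ∈ D ∧ y ≠ d₀ ∧ Commute d₀ y})) (h22 : Cfsg.IsOfTypeM22 G D) (φ : MulAut G) (hφ : orderOf φ = 2) : ∃ d ∈ D, φ d = d := by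
  obtain ⟨g, pt, M⟩ := m22_of_type hD hprim h22
  obtain ⟨s, S⟩ := exists_s22 M
  by_cases h : φ ∈ (MulAut.conj : G →* MulAut G).range
  · obtain ⟨x, rfl⟩ := h
    obtain ⟨m, h4, -, l, -, rfl, h5, h6, rfl⟩ := M.exists_isCP x (by rwa [orderOf_injective _ (conj_inj S.f.tm.center)] at hφ)
    obtain ⟨d, hd⟩ := List.exists_mem_of_length_pos h4
    exact ⟨d, h5 d hd, mul_inv_eq_iff_eq_mul.2 (Commute.list_prod_left _ _ fun a ha => h6 a ha d hd)⟩
  · have key : ∀ ψ : MulAut G, ψ (g 3) = g 3 → IsConj φ ψ → ∃ d ∈ D, φ d = d := fun ψ h4 h5 => by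
      obtain ⟨c, rfl⟩ := isConj_iff.1 h5
      exact ⟨c⁻¹ (g 3), M.aut_image c⁻¹ ▸ ⟨_, M.fm.letter_mem (by norm_num), rfl⟩, c.injective (by simpa using h4)⟩
    have h4 : s (g 3) = g 3 := S.fix_g (by norm_num) (by decide +kernel)
    have h5 : Commute (g 3) (g 8) := S.f.cl_pair.2.2 _ (by simp) _ (by simp)
    rcases S.classes φ (hφ ▸ pow_orderOf_eq_one φ) h with h6 | h6 | h6
    · exact key _ h4 h6
    · exact key _ (by simp [h4]) h6
    · refine key _ ?_ h6
      change s (g 3 * g 8 * g 3 * (g 3 * g 8)⁻¹) = _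
      rw [((Commute.refl _).mul_left h5.symm).eq, mul_inv_cancel_right, h4]

end Cfsg.Agent.S5462
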