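import Cfsg.Statements.S5465
import Cfsg.Agent.Lib.FiTool.MType
import Cfsg.Agent.Lib.Fi24T.Loc

set_option autoImplicit false
open Cfsg

namespace Cfsg.Agent.S5465

open CfsgLib.FiTool CfsgLib.Fi24T Subgroup


/-- Let G be a finite group with trivial centre generated by a conjugation-invariant set D of 3-transpositions on which it acts primitively, such that for some d in D the subgroup generated by the members of D other than d commuting with d has central largest normal 2- and 3-subgroups, and suppose G with D is of type M(24), and let L be the commutator subgroup of G. Let d₁, d₂ be distinct commuting members of D and j = d₁ d₂. Then K, the joint centralizer of d₁ and d₂ in L, is quasisimple, is the generalized Fitting subgroup of the centralizer of j in L, has index 2 in it and contains j, and the centralizer of j in L modulo the subgroup generated by j is isomorphic to the full automorphism group of the Fischer group Fi₂₂ (as presented). -/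
theorem result {G : Type*} [Group G] [Finite G] {D : Set G} (hD : Cfsg.IsThreeTranspositionGroup D) (hprim : Cfsg.IsPrimitiveUnderConj D) (d₀ : G) (hd₀ : d₀ ∈ D) (h3 : Cfsg.pCore 3 ↥(Subgroup.closure {y : G | y ∈ D ∧ y ≠ d₀ ∧ Commute d₀ y}) ≤ Subgroup.center ↥(Subgroup.closure {y : G | y ∈ D ∧ y ≠ d₀ ∧ Commute d₀ y})) (h2 : Cfsg.pCore 2 ↥(Subgroup.closure {y : G | y ∈ D ∧ y ≠ d₀ ∧ Commute d₀ y}) ≤ Subgroup.center ↥(Subgroup.closure {y : G | y ∈ D ∧ y ≠ d₀ ∧ Commute d₀ y})) (h24 : Cfsg.IsOfTypeM24 G D) (L : Subgroup G) (hL : L = commutator G) (d₁ d₂ : G) (h₁ : d₁ ∈ D) (h₂ : d₂ ∈ D) (hne : d₁ ≠ d₂) (hc : Commute d₁ d₂) (K CL : Subgroup G) (hK : K = L ⊓ Subgroup.centralizer ({d₁, d₂} : Set G)) (hCL : CL = L ⊓ Subgroup.centralizer ({d₁ * d₂} : Set G)) [hn : ((Subgroup.zpowers (d₁ * d₂)).subgroupOf CL).Normal] : Cfsg.IsQuasisimple ↥K ∧ K = (Cfsg.generalizedFittingSubgroup ↥CL).map CL.subtype ∧ K ≤ CL ∧ (K.subgroupOf CL).index = 2 ∧ d₁ * d₂ ∈ K ∧ Nonempty (↥CL ⧸ (Subgroup.zpowers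 (d₁ * d₂)).subgroupOf CL ≃* MulAut Cfsg.Spor.Fi22) := by
  obtain ⟨g, pt, M⟩ := m24_of_type hD hprim h24
  have hl := CfsgLib.FiTool.CL.pair h₁ h₂ hne hc
  subst hL
  have hle : K ≤ CL := by
    rw [hK, hCL]
    refine inf_le_inf_left _ fun x hx => mem_centralizer_singleton_iff.2 ?_
    exact (Commute.mul_left (hx d₁ (by simp)) (hx d₂ (by simp))).symm
  have e : (centralizer {d₁, d₂}).comap CL.subtype = K.subgroupOf CL := by
    ext x
    rw [hK, mem_subgroupOf, mem_inf]
    exact ⟨fun h => ⟨(hCL.le x.2).1, h⟩, fun h => h.2⟩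
  obtain ⟨c1, c2, c3, c4⟩ := core_two M hl CL.subtype (subtype_injective _) (CL.range_subtype.trans hCL)
  rw [e] at c1 c2 c3
  refine ⟨(CfsgLib.Comp.qs_subgroupOf_iff hle).1 c2, by rw [c1, map_subgroupOf_eq_of_le hle], hle, c3, ?_, @c4 hn⟩
  rw [hK]
  refine ⟨M.mul_mem_comm h₁ h₂, ?_⟩
  rintro _ (rfl | rfl)
  exacts [(Commute.refl _).mul_right hc, hc.symm.mul_right (Commute.refl _)]

end Cfsg.Agent.S5465
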