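import Cfsg.Statements.S5466
import Cfsg.Agent.Lib.FiTool.MType
import Cfsg.Agent.Lib.Fi24T.Loc

set_option autoImplicit false
open Cfsg

namespace Cfsg.Agent.S5466

open CfsgLib.FiTool CfsgLib.Fi24T Subgroup


/-- Let G be a finite group with trivial centre generated by a conjugation-invariant set D of 3-transpositions on which it acts primitively, such that for some d in D the subgroup generated by the members of D other than d commuting with d has central largest normal 2- and 3-subgroups, and suppose G with D is of type M(24), and let L be the commutator subgroup of G. Let d₁, d₂, d₃ be distinct pairwise commuting members of D, j their product, E the subgroup generated by d₁ d₂ and d₁ d₃ (a four-group lying in L), CL the centralizer of j in L and K its generalized Fitting subgroup. Then K is quasisimple with centre E, K is the centralizer of E in L, K modulo E is isomorphic to the projective special unitary group of dimension 6 over the field with four elements, CL/K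 is isomorphic to the symmetric group of degree 3, and CL modulo E is isomorphic to the full automorphism group of that unitary group. -/
theorem result {G : Type*} [Group G] [Finite G] {D : Set G} (hD : Cfsg.IsThreeTranspositionGroup D) (hprim : Cfsg.IsPrimitiveUnderConj D) (d₀ : G) (hd₀ : d₀ ∈ D) (h3 : Cfsg.pCore 3 ↥(Subgroup.closure {y : G | y ∈ D ∧ y ≠ d₀ ∧ Commute d₀ y}) ≤ Subgroup.center ↥(Subgroup.closure {y : G | y ∈ D ∧ y ≠ d₀ ∧ Commute d₀ y})) (h2 : Cfsg.pCore 2 ↥(Subgroup.closure {y : G | y ∈ D ∧ y ≠ d₀ ∧ Commute d₀ y}) ≤ Subgroup.center ↥(Subgroup.closure {y : G | y ∈ D ∧ y ≠ d₀ ∧ Commute d₀ y})) (h24 : Cfsg.IsOfTypeM24 G D) (L : Subgroup G) (hL : L = commutator G) (d₁ d₂ d₃ : G) (h₁ : d₁ ∈ D) (h₂ : d₂ ∈ D) (h₃ : d₃ ∈ D) (h12 : d₁ ≠ d₂) (h13 : d₁ ≠ d₃) (h23 : d₂ ≠ d₃) (c12 : Commute d₁ d₂) (c13 : Commute d₁ d₃) (c23 : Commute d₂ d₃) (E CL K : Subgroup G) (hE : E = Subgroup.closure ({d₁ * d₂, d₁ * d₃} : Set G)) (hCL : CL = L ⊓ Subgroup.centralizer ({d₁ * d₂ * d₃}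 : Set G)) (hK : K = (Cfsg.generalizedFittingSubgroup ↥CL).map CL.subtype) : Cfsg.IsQuasisimple ↥K ∧ (Subgroup.center ↥K).map K.subtype = E ∧ K = L ⊓ Subgroup.centralizer (E : Set G) ∧ (∃ (_ : (E.subgroupOf K).Normal) (F : Type) (_ : Field F) (_ : Fintype F), Fintype.card F = 4 ∧ Nonempty (↥K ⧸ E.subgroupOf K ≃* Cfsg.PSU 6 F 2)) ∧ ∃ _ : (K.subgroupOf CL).Normal, Nonempty (↥CL ⧸ K.subgroupOf CL ≃* Equiv.Perm (Fin 3)) ∧ E ≤ CL ∧ ∃ (_ : (E.subgroupOf CL).Normal) (F : Type) (_ : Field F) (_ : Fintype F), Fintype.card F = 4 ∧ Nonempty (↥CL ⧸ E.subgroupOf CL ≃* MulAut (Cfsg.PSU 6 F 2)) := by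
  obtain ⟨g, pt, M⟩ := m24_of_type hD hprim h24
  have hl := CfsgLib.FiTool.CL.triple h₁ h₂ h₃ h12 h13 h23 c12 c13 c23
  subst hL hE
  let := Fintype.ofFinite (GaloisField 2 2)
  obtain ⟨c1, ⟨φ, c2, c3⟩, c4, c5⟩ := core_three M hl card_gf4 CL.subtype (subtype_injective _) (CL.range_subtype.trans hCL)
  have hle : centralizer ({d₁, d₂, d₃} : Set G) ≤ centralizer {d₁ * d₂ * d₃} := fun x hx =>
    mem_centralizer_singleton_iff.2 (let h := mem_cent_three.1 hx; (h.1.mul_right h.2.1).mul_right h.2.2)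
  have e : K = commutator G ⊓ centralizer {d₁, d₂, d₃} := by
    rw [hK, c1, map_comap_eq, range_subtype, hCL, inf_assoc, inf_eq_right.2 hle]
  have hKC : K ≤ CL := hK ▸ map_subtype_le _
  have hEK := (four_group_le M hl).trans e.ge
  have e2 : φ.ker = K.subgroupOf CL := by rw [hK, c3, ← c1]; exact (comap_map_eq_self_of_injective CL.subtype_injective _).symm
  obtain ⟨k1, k2, χ, k3, k4⟩ := core_four M hl card_gf4 K.subtype (subtype_injective _) (K.range_subtype.trans e)
  have e3 : χ.ker = (closure {d₁ * d₂, d₁ * d₃}).subgroupOf K := k4.trans k2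
  have n1 : ((closure {d₁ * d₂, d₁ * d₃}).subgroupOf K).Normal := e3 ▸ χ.normal_ker
  have n2 : (K.subgroupOf CL).Normal := e2 ▸ φ.normal_ker
  refine ⟨k1, by rw [k2]; exact map_subgroupOf_eq_of_le hEK, by rw [e, cent_four_group M hl],
    ⟨n1, GaloisField 2 2, inferInstance, inferInstance, card_gf4,
      ⟨(QuotientGroup.quotientMulEquivOfEq e3.symm).trans (QuotientGroup.quotientKerEquivOfSurjective χ k3)⟩⟩,
    n2, ⟨(QuotientGroup.quotientMulEquivOfEq e2.symm).trans
      (QuotientGroup.quotientKerEquivOfSurjective φ c2)⟩, hEK.trans hKC, c4, GaloisField 2 2, inferInstance, inferInstance,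
    card_gf4, c5⟩

end Cfsg.Agent.S5466
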