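import Cfsg.Statements.S5472
import Mathlib
import Cfsg.Agent.Lib.FiLoc.I8
import Cfsg.Agent.Lib.FiLoc.Inv22
import Cfsg.Agent.Lib.FiTool.MType
import Cfsg.Agent.Lib.FiTool.BaseE

set_option autoImplicit false
open Cfsg

namespace Cfsg.Agent.S5472

set_option maxRecDepth 100000
set_option Elab.async false

open CfsgLib.Comput CfsgLib.FiTool CfsgLib.ThreeTrans CfsgLib.Fischer CfsgLib.FiLoc Subgroup Matrix
open scoped Pointwise

/-- transpositions generating `2 × Sp₆(2)` -/
def pwM : List ℕ := [0x4, 0x504030405, 0x809040806050403020304050608040908, 0x80506030405020304080706050403020102030405060708040302050403060508, 0x7060504030201020304050607, 0x60504030203040506, 0x80904080706050403020102030405060708040908, 0x9]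
/-- their points -/
def ptM : List ℕ := [3, 19, 101, 467, 57, 36, 135, 8]
/-- generators of `Sp₆(2)` -/
def usM : List ℕ := [0x102, 0x103, 0x104, 0x105, 0x106, 0x107, 0x108]
/-- the points labelled by vectors -/
def labM : List ℕ := [3, 8, 19, 2125, 36, 2126, 57, 2128, 150, 185, 199, 250, 301, 379, 467, 586, 101, 3088, 290, 3367, 1860, 2843, 959, 3347, 2814, 3056, 1612, 1825, 3107, 3287, 1919, 2147, 70, 3087, 2179, 3163, 461, 3368, 713, 3481, 3124, 3299, 3123, 3298, 1237, 1429, 1530, 1716, 3091, 135, 3398, 399, 3366, 642, 2351, 1464, 1899, 1697, 3065, 2823, 3358, 3204, 2355, 2108]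
/-- tables -/
def vtM : List ℕ := [0x3d3c3f3e39383b3a35343736313033322f2e2d2c2b2a292827262524232221201d1c1f1e19181b1a15141716111013120f0e0d0c0b0a09080706050403020100,
  0x2f2e3d3c2b2a393827263534232231303f3e2d2c3b3a292837362524333221200f0e1d1c0b0a191807061514030211101f1e0d0c1b1a09081716050413120100,
  0x313e333c353a373839363b343d323f302f202d222b2429262728252a232c212e1f101d121b1419161718151a131c111e010e030c050a070809060b040d020f00,
  0x3f3e3d3c3b3a3938373635343332313029282b2a2d2c2f2e212023222524272619181b1a1d1c1f1e11101312151417160f0e0d0c0b0a09080706050403020100,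
  0x3b3a39383f3e3d3c33323130373635342b2a29282f2e2d2c23222120272625241f1e1d1c1b1a191817161514131211100f0e0d0c0b0a09080706050403020100,
  0xe0f3d3c3b3a080937360405020331301e1f2d2c2b2a181927261415121321202e2f1d1c1b1a282917162425222311103e3f0d0c0b0a38390706343532330100,
  0x3e3f3c3d3a3b383937363534333231302e2f2c2d2a2b282927262524232221201e1f1c1d1a1b181917161514131211100e0f0c0d0a0b08090706050403020100]
/-- a chain -/
def lvM : LB := [(10, 3, [0x2, 0x1, 0x3, 0x4, 0x6, 0x5, 0x7]),
  (12, 3, [0x703020307, 0x1, 0x4, 0x6, 0x3, 0x5]),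
  (58, 1, [0x1, 0x5, 0x6, 0x3, 0x20403020102030402]),
  (53, 2, [0x3, 0x6, 0x506010605]),
  (17, 1, [0x4, 0x5030601060305]),
  (8, 1, [0x60306])]
/-- a chain with the base `h, c, f, d, e, b` -/
def lv6 : LB := [(7, 6, [0x1, 0x2, 0x3, 0x4, 0x5, 0x6, 0x7, 0x8, 0x9]),
  (2, 3, [0x2, 0x3, 0x20102, 0x908040809, 0x706050607, 0x9080504050809, 0x40805040304050804, 0x90806050405060809]),
  (5, 4, [0x5, 0x6, 0x7, 0x90804030203040809, 0x40805040304050804, 0x908040302010203040809]),
  (3, 3, [0x3, 0x8, 0x706050607, 0x90804030203040809, 0x908040302010203040809, 0x5040806050403040506080405, 0x50203040806050403020102030405060804030205, 0x5090804030203040809040805040304050804060509080403020304080904080504030405080405]),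
  (4, 2, [0x6, 0x90804030203040809, 0x908040302010203040809, 0x5040806050403040506080405, 0x20304080706050403020102030405060708040302, 0x7060504080903040805040302030405080403090804050607]),
  (1, 1, [0x1, 0x20304080506040503040807060504030203040506070804030504060508040302])]
/-- transpositions generating `W(E₆)` with their points -/
def lE : List (ℕ × ℕ) := [(0x4, 3), (0x706050304080904050304080605040302010203040506080403050409080403050607, 677), (0x504030405, 19), (0x809040806050403020304050608040908, 101), (0x8090408050403040508040908, 70), (0x60504030203040506, 36)]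
/-- generators of `2^6 W(E₆)` -/
def pwE : List ℕ := lE.map Prod.fst ++ [0x9]
/-- their points -/
def ptE : List ℕ := lE.map Prod.snd ++ [8]
/-- a word mapping the base to the points -/
def uE : ℕ := 0x8040908050405060504050608090408050403040508040302090804030203040809050706050607090804030201020304080905020304080605040302010203040506080403020408060504030405060804050706050408090304080504030203040508040309080405060702030408070605040302010203040506070804030206020304080506040503040807060504030203040506070804030504060508040302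
/-- the 72 points -/
def labE : List ℕ := [3, 8, 19, 36, 57, 70, 101, 135, 290, 399, 456, 458, 461, 576, 578, 642, 677, 699, 713, 822, 825, 944, 947, 959, 1126, 1129, 1464, 1831, 1840, 1860, 2043, 2049, 2125, 2126, 2128, 2179, 2199, 2276, 2351, 2438, 2454, 2496, 2586, 2638, 2647, 2820, 2830, 2843, 3053, 3055, 3087, 3088, 3091, 3163, 3180, 3239, 3329, 3337, 3347, 3355, 3363, 3366, 3367, 3368, 3387, 3388, 3398, 3412, 3419, 3451, 3460, 3481]
/-- tables -/
def tabE : List ℕ := [0x473c403b414243453f3e3d46443a37363938353433322e2d2f31302a292c2b2425262728232221201b1c1d1e1f1a151617181910111213140f0a0b0c0d0e09080706050403020100,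
  0x471d2f4443423e402a411e3c0830393806330d343632173a452e2d2c2b3f0c28271803210e2224200f3d461c1b191a2631161500011211101f2335290b0a093b0737050425021314,
  0x473130393834362d3f33262e372f44433b4135423e3246453a3c402c2b2a2928273d25242322212019181716150f1f1e1d1c1b14131211101a0e0d0c0b0a07060908050403020100,
  0x1a282744432341253f203d243b22141310110934333231302f2e2d1e1f1c1b464512403c423a213e2b2c1d2a2947191804161539382636370f0e0d0c0b0a35020706051703080100,
  0x221e1f444342411b213e1d1c3b1a393837363534333218190f1615282724252c2b17292a23473f2045463d3c403a3031262e2d14130411102f0e0d030b0a0908070605120c020100,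
  0x3538393031262e37323e34362d3a4546403c473d333f43442f413b2c2b2a291314421011122221201f1e1d1c1b0919181716152728232425070e0d050b0a1a080f060c0403020100,
  0x47403c413b4244463f3e3d45433a36373839353433322d2e2f3031292a2b2c2524262827232221201c1b1d1f1e1a161517191811101214130f0b0a0c0e0d09080706050403020100]
/-- sets of points -/
def msE : List ℕ := [0xffffffffffffffffff,
  0xfc633b07cb1c7c8fcc,
  0xe68f2c79cec4fc1e78,
  0xe513e881fa277f6e4b,
  0xfb9be7600fdb64103f,
  0xf80723983b38e7600c,
  0xe2eb34e63ee067f1b8,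
  0xe177f01e0a03e4818b,
  0x9aebc81e41df7f9147,
  0x99770ce6753cfce174,
  0x839b1b9870e47c70c0,
  0x8007df604407ff00f3,
  0x9e8fd081b1fbe47e87,
  0x9d1314798518670eb4,
  0x87ff030780c0e79f00,
  0x8463c7ffb42364ef33,
  0xe59413fe01209f1287,
  0xe608d70635c31c62b4,
  0xfce4c078301b9cf300,
  0xff78048004f81f8333,
  0xe1f00b61f10404fd47,
  0xe26ccf99c5e7878d74,
  0xf880d8e7c03f071cc0,
  0xfb1c1c1ff4dc846cf3,
  0x8080241fbf001f7c3f,
  0x831ce0e78be39c0c0c,
  0x99f0f7998e3b1c9db8,
  0x9a6c3361bad89fed8b,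
  0x84e43c804f248493ff,
  0x8778f8787bc707e3cc,
  0x9d94ef067e1f877278,
  0x9e082bfe4afc04024b,
  0x1934db1836c0e38cd8,
  0x1aa81fe0022360fceb,
  0x44089e07fbe06d5f,
  0x3d8cc663318631d6c,
  0x1d50c387c6e4786318,
  0x1ecc077ff207fb132b,
  0x4201001f7df7b829f,
  0x7bcd4f9c33cf8f2ac,
  0x7c20ecf988e063e260,
  0x7fbc2801bc03e09253,
  0x65503f7fb9db6003e7,
  0x66ccfb878d38e373d4,
  0x7844f46678c4f80da0,
  0x7bd8309e4c277b7d93,
  0x613427e049fffbec27,
  0x62a8e3187d1c789c14,
  0x35f3719c81f8361a0,
  0xc3f3e1fcfc001193,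
  0x1a2fe49ff924808027,
  0x19b32067cdc703f014,
  0x73b2f86383b188e60,
  0x4a7eb7e0cd89bfe53,
  0x1e4bfc0009001b6fe7,
  0x1dd738f83de3981fd4,
  0x664b00f8763f030f18,
  0x65d7c40042dc807f2b,
  0x7f3bd37e470400ee9f,
  0x7ca7178673e7839eac,
  0x622f1867861b98e0d8,
  0x61b3dc9fb2f81b90eb,
  0x7b5fcbe1b7209b015f,
  0x78c30f1983c318716c]
/-- tables on the vectors -/
def vtE : List ℕ := [0x233e3d20273a39242b3635282f32312c332e2d30372a29343b2625383f22213c1f02011c1b060518170a0914130e0d100f12110c0b161508071a1904031e1d00,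
  0x323e3d313b3734383a363539333f3c30222e2d212b2724282a262529232f2c20121e1d111b1714181a161519131f1c10020e0d010b0704080a060509030f0c00,
  0x3f3e25243b3a212037362d2c333229282f2e35342b2a313027263d3c2322393807061d1c030219180f0e15140b0a111017160d0c131209081f1e05041b1a0100,
  0x3f3e3d3c1a1b181937363534121310110e0f0c0d2b2a292806070405232221201f1e1d1c3a3b383917161514323330312e2f2c2d0b0a09082627242503020100,
  0x3f083d0a3b0c390e0136033405320730192e1b2c1d2a1f282710251223142116291e2b1c2d1a2f1817201522132411260f380d3a0b3c093e3106330435023700,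
  0x3f3e3d3c3b3a393815141716111013120d0c0f0e09080b0a27262524232221201f1e1d1c1b1a191835343736313033322d2c2f2e29282b2a0706050403020100,
  0x233e3d20273a39242b3635282f32312c332e2d30372a29343b2625383f22213c1f02011c1b060518170a0914130e0d100f12110c0b161508071a1904031e1d00]
/-- a chain -/
def lvE : LB := [(1, 4, [0x1, 0x2, 0x4, 0x5, 0x6, 0x301]),
  (2, 2, [0x3, 0x4, 0x10201, 0x60403, 0x502060502]),
  (4, 3, [0x4, 0x10201, 0x6010201, 0x50304020605020403]),
  (8, 1, [0x6, 0x102040201, 0x50304020605020403]),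
  (16, 1, [0x102040201, 0x50304020605020403]),
  (32, 1, [0x50403020401020605020403010204])]
/-- generators of the kernel -/
def usE : List ℕ := [0x107, 0x2010702, 0x40201070204, 0x60201070206, 0x304020107020403, 0x506020107020605]
/-- a chain -/
def lvO : LB := [(0, 1, [0x2]),
  (2, 1, [0x302]),
  (3, 1, [0x602]),
  (5, 1, [0x402]),
  (6, 1, [0x503]),
  (10, 1, [0x1])]
/-- a base -/
def bsE : List ℕ := [0, 16, 2, 6, 5, 3]

theorem pwM_ok : ptsOK ps22 (nth 0 gp22) 9 pwM ptM = true := by decide +kernel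
theorem cenM : band (subM (nth 0 fixT 1) (nth 0 fx22 3))
    (Nat.beq (cmL W22 fx22 pwM (nth 0 fixT 1)) (Nat.shiftLeft 1 3)) = true := by decide +kernel
theorem labM_ok : disOK (nth 0 labM) 3510 64 = true := by decide +kernel
theorem tabM_ok : subAll (stepW ps22 pwM) (nth 0 labM) (tabP vtM) 64 usM 0 usM.length = true := by decide +kernel
theorem linM : allI (fun m => linOK (tabP vtM m) 6) 0 vtM.length = true := by decide +kernel
theorem spM : ∀ m < vtM.length, (Matrix.of fun a b => bvec (ixH 3) (tabP vtM m (2 ^ ixH 3 b)) a) * J (Fin 3) (ZMod 2) *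
    (Matrix.of fun a b => bvec (ixH 3) (tabP vtM m (2 ^ ixH 3 b)) a)ᵀ = J (Fin 3) (ZMod 2) := by decide +kernel
theorem lvM_val : Nat.ble 1451520 (lbVal (stepS (tabP vtM) 64) 64 lvM []) = true := by decide +kernel
theorem fixM : allL (fun w => Nat.beq (act (stepW (stepH W22) pwM) w (nth 0 m3I 1)) (nth 0 m3I 1)) usM = true := by
  decide +kernel
theorem lv6_val : lbVal (stepH W22) 3510 lv6 [] = 64561751654400 := by decide +kernel
theorem pwE_ok : band (ptsOK ps22 (nth 0 gp22) 9 (lE.map Prod.fst) (lE.map Prod.snd))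
    (ptsOK ps22 (nth 0 gp22) 9 pwE ptE) = true := by decide +kernel
theorem inE : allL (fun e => tb (nth 0 fixT 2) e.2) lE = true := by decide +kernel
theorem candE : candVal 3510 (patCL W22 fx22 (nth 0 fixT 2) lE [] []) = 2 ^ 6 * 51840 := by decide +kernel
theorem baseE : allL (fun b => tb (maskL (lE.map Prod.snd)) (act ps22 uE b)) (lv6.map Prod.fst) = true := by
  decide +kernel
theorem labE_ok : labOK (nth 0 labE) 3510 72 = true := by decide +kernel
theorem tabE_ok : subAll ps22 (nth 0 labE) (tabP tabE) 72 pwE 0 pwE.length = true := by decide +kernel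
theorem msE_ok : setsOK (stepS (tabP tabE) 72) 72 64 ((List.range pwE.length).map Nat.succ) msE vtE = true := by
  decide +kernel
theorem vtE_ok : isoOK vtE 6 mQ6 = true := by decide +kernel
theorem lvE_val : Nat.ble 51840 (lbVal (stepS (tabP vtE) 64) 64 lvE []) = true := by decide +kernel
theorem usE_fix : allL (fixP (tabP vtE) (List.range 64)) usE = true := by decide +kernel
theorem elabE : elabOK (eqP (stepW (tabP tabE) usE) bsE) 2 6 0 = true := by decide +kernel
theorem lvO_val : band (Nat.ble 64 (lbVal (stepS (stepW (tabP tabE) usE) 72) 72 lvO []))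
    (allL (fun l => allL (inA (rngA 6 0)) l.2.2) lvO) = true := by decide +kernel

variable {G : Type*} [Group G] {D : Set G} {g pt : ℕ → G} {s : MulAut G}

theorem fix1_eq (S : S22 D g pt s) : fixS (s * MulAut.conj (g 3)) = fixS s ⊓ centralizer {g 3} := by
  have key : ∀ x : G, Commute x (g 3) → (s * MulAut.conj (g 3)) x = s x := fun x hx => by
    change s (g 3 * x * (g 3)⁻¹) = _
    rw [← hx.eq, mul_inv_cancel_right]
  refine le_antisymm (fun x hx => ?_) fun x hx => (key x (mem_centralizer_singleton_iff.1 hx.2)).trans hx.1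
  obtain ⟨h1, h2⟩ := band_eq_true.1 cenM
  have h3 := conj_mem_fixS S.m.grp S.fix1
  have h4 : ∀ i ∈ ptM, pt i ∈ semG 3510 pt (nth 0 fixT 1) := fun i hi => ⟨i, (S.m.fm.pts pwM_ok).lt i hi, tb_eq _ _ ▸
    (by decide +kernel : ∀ i ∈ ptM, tb (nth 0 fixT 1) i = true) i hi, rfl⟩
  have h5 : x * pt 3 * x⁻¹ ∈ semG 3510 pt (cmL W22 fx22 pwM (nth 0 fixT 1)) := by
    rw [S.m.fm.semG_cmL S.m.fx (S.m.fm.pts pwM_ok)]
    refine ⟨h3 x hx _ (h4 3 (by decide)), fun i hi => ?_⟩
    have h6 := (commute_conj_iff x _ _).2 ((S.m.fx 3 (by norm_num)).le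
      (sem_mono h1 (h3 _ (inv_mem hx) _ (h4 i hi)))).2.symm
    rwa [inv_inv, ← mul_assoc, ← mul_assoc, mul_inv_cancel, one_mul, mul_inv_cancel_right,
      ← S.f.hp 3 (by norm_num)] at h6
  rw [Nat.eq_of_beq_eq_true h2] at h5
  have h6 : Commute x (g 3) := S.f.hp 3 (by norm_num) ▸
    mul_inv_eq_iff_eq_mul.1 ((TModel.semG_single pt (by norm_num)).le h5)
  exact ⟨(key x h6).symm.trans hx, mem_centralizer_singleton_iff.2 h6⟩

theorem equiv1 (S : S22 D g pt s) :
    Nonempty ((fixS s ⊓ centralizer {g 3} : Subgroup G) ≃* Multiplicative (ZMod 2) × PSp 3 (ZMod 2)) := by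
  have := S.finite
  have P := S.m.fm.pts pwM_ok
  obtain ⟨φ, h1⟩ := onto_psp6 ((S.m.fm.pm.words pwM).tab usM vtM (disOK_sound labM_ok) rfl fun m hm =>
    subAll_sound tabM_ok m (Nat.zero_le _) hm) linM spM lvM_val
  have h2 : cl g pwM ≤ fixS s ⊓ centralizer {g 3} := by
    rw [P.cl_eq, closure_le, ← fix1_eq S]
    rintro _ ⟨i, hi, rfl⟩
    exact (S.fix1.le ⟨i, P.lt i hi, tb_eq _ _ ▸
      (by decide +kernel : ∀ i ∈ ptM, tb (nth 0 fixT 1) i = true) i hi, rfl⟩).2
  have h3 : closure (Set.range (lw (lw g pwM) usM)) ≤ fixS s ⊓ centralizer {g 3} := by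
    rw [closure_range_lw]
    exact (cl_le.2 fun w _ => ev_lw_mem_cl g pwM w).trans h2
  have h4 : g 3 ∈ fixS s ⊓ centralizer {g 3} := h2 (S.f.hp 3 (by norm_num) ▸ P.pt_mem_cl (by decide))
  have h5 : g 3 ∉ closure (Set.range (lw (lw g pwM) usM)) := fun h => by
    have h6 : closure (Set.range (lw (lw g pwM) usM)) ≤ MulAction.stabilizer G (sem 3510 (cpt pt) (nth 0 m3I 1)) := by
      rw [closure_range_lw]
      exact cl_le.2 fun w hw => by
        rw [MulAction.mem_stabilizer_iff, ← (S.f.sm.words pwM).sem_act, Nat.eq_of_beq_eq_true (allL_sound fixM w hw)]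
    have h7 := S.f.pm3.step 0 1 (by norm_num)
    rw [show lw g [4, 8] 0 = g 3 from ev_letter g (m := 3) (by norm_num), h6 h] at h7
    exact absurd (S.f.pm3.inj _ (by norm_num) _ h7.1 h7.2) (by decide +kernel)
  have h6 := Nat.card_le_card_of_surjective φ h1
  have h7 := two_mul_card_le h3 h4 h5
  have h8 := S.card_stab
  rw [card_psp6] at h6
  obtain ⟨e⟩ := nonempty_equiv_two_prod (M := (closure (Set.range (lw (lw g pwM) usM))).subgroupOf _)
    (by rw [Nat.card_congr (subgroupOfEquivOfLe h3).toEquiv]; omega) (z := ⟨g 3, h4⟩) h5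
    (Subtype.ext (S.m.fm.sq 3))
    fun x _ => Subtype.ext (mem_centralizer_singleton_iff.1 x.2.2).symm
  exact ⟨e.trans (MulEquiv.prodCongr (MulEquiv.refl _) ((subgroupOfEquivOfLe h3).trans
    (MulEquiv.ofBijective φ (h1.bijective_of_nat_card_le (by rw [card_psp6]; omega)))))⟩

theorem base6 (S : S22 D g pt s) : Base (⊤ : Subgroup G) 3510 (cpt pt) (lv6.map Prod.fst) := by
  have := S.finite
  have h1 := lb_mul_le S.f.sm (P := ⊤) (lv := lv6) fun _ _ _ _ => mem_top _
  rw [lv6_val, card_top, S.m.card, top_inf_eq] at h1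
  exact ⟨by decide, fun x _ hx => mem_bot.1 ((eq_bot_of_card_le _ (by omega) :
    ptStab G (cpt pt) (lv6.map Prod.fst) = ⊥).le hx)⟩

theorem main2 (S : S22 D g pt s) : ∃ E : Subgroup G, IsElementaryAbelian 2 E ∧ Nat.card E = 64 ∧
    E ≤ fixS (s * MulAut.conj (g 3 * g 8)) ∧ ∃ f : fixS (s * MulAut.conj (g 3 * g 8)) →* O6m,
      Function.Surjective f ∧ f.ker = E.subgroupOf _ := by
  have := S.finite
  obtain ⟨h1, h2⟩ := band_eq_true.1 pwE_ok
  have h3 := card_le_pat S.m.fm S.m.fx (conj_mem_fixS S.m.grp S.fix2) h1 inE (by decide)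
  rw [candE, card_ptStab S.m.fm.pm (base6 S) uE baseE, mul_one] at h3
  have P := S.m.fm.pts h2
  have h4 : closure (Set.range (lw g pwE)) ≤ fixS (s * MulAut.conj (g 3 * g 8)) := by
    rw [closure_range_lw, P.cl_eq, closure_le]
    rintro _ ⟨i, hi, rfl⟩
    exact (S.fix2.le ⟨i, P.lt i hi, tb_eq _ _ ▸
      (by decide +kernel : ∀ i ∈ ptE, tb (nth 0 fixT 2) i = true) i hi, rfl⟩).2
  have T := S.m.fm.pm.tab pwE tabE (labOK_sound labE_ok) rfl fun m hm => subAll_sound tabE_ok m (Nat.zero_le _) hm
  have V := pm_sets' T (by norm_num) (by decide) msE_ok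
  obtain ⟨φ, h5, h6⟩ := onto_O6m V vtE_ok lvE_val
  have B : Base (⊤ : Subgroup G) 72 (fun i => cpt pt (nth 0 labE i)) bsE := ⟨by decide, fun x _ hx =>
    eq_one_of_base S.m.fm.pm (base6 S) uE baseE fun i hi => by
      obtain ⟨b, h7, rfl⟩ := (by decide +kernel : ∀ i ∈ lE.map Prod.snd, ∃ b ∈ bsE, nth 0 labE b = i) i hi
      exact hx b h7⟩
  obtain ⟨h7, h8⟩ := band_eq_true.1 lvO_val
  obtain ⟨-, h9, h10, h11⟩ := exists_ker φ h5 h4 (mem_ker_of_fixP V usE_fix h6 6 0) (a := 64)
    ((Nat.le_of_ble_eq_true h7).trans ((Nat.le_mul_of_pos_right _ Nat.card_pos).trans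
      (lb_mul_le ((T.words usE).sm (by norm_num)) fun l hl w hw =>
        ev_mem (inA_rngA _ 6 0) (allL_sound (allL_sound h8 l hl) w hw)))) (by rw [card_O6m]; exact h3)
  exact ⟨_, elabOK_sound (fun e => (T.words usE).holds (fun _ => mem_top _) B) elabE, h10, h9, h11⟩


/-- Let G be a finite group with trivial centre generated by a conjugation-invariant set D of 3-transpositions on which it acts primitively, such that for some d in D the subgroup generated by the members of D other than d commuting with d has central largest normal 2- and 3-subgroups, and suppose G with D is of type M(22). Then G has a non-inner automorphism s of order 2 whose fixed-point subgroup is isomorphic to the full automorphism group of Ω⁺(8, 2) (the commutator subgroup of the isometry group of the hyperbolic quadratic form in dimension 8 over the field with two elements), together with distinct commuting members a, b of D fixed by s such that: s, s composed with conjugation by a, and s composed with conjugation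 by a b represent the three classes (under the automorphism group) of non-inner automorphisms of order 2; the elements fixed by the automorphism s composed with conjugation by a are exactly those fixed by s and commuting with a, and they form a group isomorphic to the direct product of a group of order 2 and the symplectic group of dimension 6 over the field with two elements; and the elements fixed by the automorphism s composed with conjugation by a b form a group whose largest normal 2-subgroup is elementary abelian of order 64 with quotient isomorphic to the full isometry group of the elliptic quadratic form in dimension 6 over the field with two elements. -/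
theorem result {G : Type*} [Group G] [Finite G] {D : Set G} (hD : Cfsg.IsThreeTranspositionGroup D) (hprim : Cfsg.IsPrimitiveUnderConj D) (d₀ : G) (hd₀ : d₀ ∈ D) (h3 : Cfsg.pCore 3 ↥(Subgroup.closure {y : G | y ∈ D ∧ y ≠ d₀ ∧ Commute d₀ y}) ≤ Subgroup.center ↥(Subgroup.closure {y : G | y ∈ D ∧ y ≠ d₀ ∧ Commute d₀ y})) (h2 : Cfsg.pCore 2 ↥(Subgroup.closure {y : G | y ∈ D ∧ y ≠ d₀ ∧ Commute d₀ y}) ≤ Subgroup.center ↥(Subgroup.closure {y : G | y ∈ D ∧ y ≠ d₀ ∧ Commute d₀ y})) (h22 : Cfsg.IsOfTypeM22 G D) : ∃ (s : MulAut G) (a b : G) (Cs : Subgroup G), orderOf s = 2 ∧ s ∉ (MulAut.conj : G →* MulAut G).range ∧ (∀ g : G, g ∈ Cs ↔ s g = g) ∧ Nonempty (↥Cs ≃* MulAut (Cfsg.Omega (ZMod 2) (Cfsg.quadFormPlus 4 (ZMod 2)))) ∧ a ∈ D ∧ b ∈ D ∧ a ≠ b ∧ Commute a b ∧ s a = a ∧ s b = b ∧ (∀ t : MulAut G, orderOf t = 2 → t ∉ (MulAut.conj : G →* MulAut G).range → (IsConj t s ∨ IsConj t (s * MulAut.conj a) ∨ IsConj t (s * MulAut.conj (a * b)))) ∧ ¬ IsConj s (s * MulAut.conj a) ∧ ¬ IsConj s (s * MulAut.conj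 (a * b)) ∧ ¬ IsConj (s * MulAut.conj a) (s * MulAut.conj (a * b)) ∧ (∀ g : G, (s * MulAut.conj a) g = g ↔ g ∈ Cs ⊓ Subgroup.centralizer ({a} : Set G)) ∧ Nonempty (↥(Cs ⊓ Subgroup.centralizer ({a} : Set G)) ≃* Multiplicative (ZMod 2) × Cfsg.PSp 3 (ZMod 2)) ∧ ∃ Csab O : Subgroup G, (∀ g : G, g ∈ Csab ↔ (s * MulAut.conj (a * b)) g = g) ∧ O = (Cfsg.pCore 2 ↥Csab).map Csab.subtype ∧ Cfsg.IsElementaryAbelian 2 O ∧ Nat.card O = 64 ∧ ∃ _ : (O.subgroupOf Csab).Normal, Nonempty (↥Csab ⧸ O.subgroupOf Csab ≃* Cfsg.isometryGroup (ZMod 2) (Cfsg.quadFormMinus 2 (ZMod 2) 1 1)) := by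
  obtain ⟨g, pt, M⟩ := m22_of_type hD hprim h22
  obtain ⟨s, S⟩ := exists_s22 M
  obtain ⟨E, h4, h5, h6, f, h7, h8⟩ := main2 S
  have h9 : pCore 2 (fixS (s * MulAut.conj (g 3 * g 8))) = E.subgroupOf _ :=
    (pCore_eq_ker f h7 (h8 ▸ (IsPGroup.of_card (n := 6) h5).of_equiv (subgroupOfEquivOfLe h6).symm) big3_O6m
      exists_three_O6m).trans h8
  have hn : (E.subgroupOf (fixS (s * MulAut.conj (g 3 * g 8)))).Normal := h8 ▸ f.normal_ker
  refine ⟨s, g 3, g 8, fixS s, orderOf_eq_prime (by rw [pow_two, S.sq]) fun h => S.not_inn (h ▸ one_mem _), S.not_inn,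
    fun _ => Iff.rfl, S.equiv_aut, S.m.fm.letter_mem (by norm_num), S.m.fm.letter_mem (by norm_num),
    by simpa using S.f.cl_pair.1, S.f.cl_pair.2.2 _ (by simp) _ (by simp), S.fix_g (by norm_num) (by decide +kernel),
    S.fix_g (by norm_num) (by decide +kernel), fun t ht => S.classes t (ht ▸ pow_orderOf_eq_one t), S.not_conj.1,
    S.not_conj.2.1, S.not_conj.2.2, fun x => by rw [← fix1_eq S]; exact Iff.rfl, equiv1 S, _, E, fun _ => Iff.rfl,
    by rw [h9, subgroupOf_map_subtype, inf_eq_left.2 h6], h4, h5, hn, nonempty_quot_of_ker h7 h8⟩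

end Cfsg.Agent.S5472
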