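import Cfsg.Statements.S5473
import Mathlib
import Cfsg.Agent.Lib.FiLoc.S22
import Cfsg.Agent.Lib.FiLoc.O8
import Cfsg.Agent.Lib.FiTool.MType
import Cfsg.Agent.Lib.LargeExtra.Setting

set_option autoImplicit false
open Cfsg

namespace Cfsg.Agent.S5473

set_option maxRecDepth 100000
set_option Elab.async false

open CfsgLib.Comput CfsgLib.FiTool CfsgLib.ThreeTrans CfsgLib.Fischer CfsgLib.FiLoc CfsgLib.LargeExtra Subgroup
open scoped commutatorElement Pointwise

/-- generators of the centraliser -/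
def ws : List ℕ := wsK ++ [0xa]
/-- the letters of the extraspecial group -/
def us : List ℕ := 0xa020305060502030506050203050605 :: usK
/-- tables -/
def tab : List ℕ := tabK ++ [0xb3b1b2afb0aeadacabaaa8a9a7a6a5a4a2a39e9fa0a19d9b9c999a9798969594939290918c8d8e8f8b898a8788858684828380817d7c7f7e7a7b787974727377757670716e6f6a6c696d6b66656867616263645f605e5a5b5c5d5758595556535451524a4b4c494e4f504d4748454643444041423b3c3a3e3f3d393738313435302f3633322d2e28272a262c2b2921201e1f252422231b1a1d1c181917151612131410110f0e0c0d090a0b070806040500010203]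
/-- tables on the vectors -/
def vt : List ℕ := vtK ++ [0x3f3b3d393e3a3c3837333531363234302f2b2d292e2a2c2827232521262224201f1b1d191e1a1c1817131511161214100f0b0d090e0a0c080703050106020400]
/-- the series -/
def ser : List (ℕ × List ℕ) := [(0x0, [0x20b, 0x3, 0x4, 0x5, 0x6, 0x7, 0x8, 0x9, 0xa0b, 0xb]),
  (0x0, [0x3, 0x4, 0x5, 0x6, 0x7, 0x8, 0x9, 0xa, 0xb]),
  (0x0, [0x40b, 0x5, 0x6, 0x7, 0x8, 0x9, 0xa, 0xb]),
  (0x0, [0x5, 0x6, 0x7, 0x8, 0x9, 0xa, 0xb]),
  (0x0, [0x60b, 0x7, 0x8, 0x9, 0xa, 0xb]),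
  (0x0, [0x7, 0x8, 0x9, 0xa, 0xb]),
  (0x0, [0x80b, 0x9, 0xa, 0xb]),
  (0x0, [0x9, 0xa, 0xb]),
  (0x0, [0xa0b, 0xb]),
  (0x0, [0xb]),
  (0x0, [])]
/-- equations -/
noncomputable abbrev eqQ : Eqn → Bool := eqP (stepW (stepW psT ws) us) (List.range 9)

theorem tab_ok : subAll psT (nth 0 labK) (tabP tab) 180 ws 0 ws.length = true := by decide +kernel
theorem ms_ok : setsOK (stepS (tabP tab) 180) 180 64 ((List.range ws.length).map Nat.succ) msK vt = true := by
  decide +kernel
theorem vt_ok : isoOK vt 6 mQ6 = true := by decide +kernel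
theorem lv_val : Nat.ble 51840 (lbVal (stepS (tabP vt) 64) 64 lvK []) = true := by decide +kernel
theorem us_fix : allL (fixP (tabP vt) (List.range 64)) us = true := by decide +kernel
theorem ser_ok : serOK eqQ 11 2 ser 0 = true := by decide +kernel
theorem cmod : cmodOK eqQ 11 0 [0, 11] = true := by decide +kernel
theorem dual : dualOK eqQ (XM.neP (stepW (stepW psT ws) us) 3510) (rngA 11 0) 11 [(0x2, 2), (0x109, 2), (0x4, 2), (0x3, 2), (0x6, 2), (0x5, 2), (0x8, 2), (0x7, 2), (0xa, 2), (0x9, 2)] 0 = true := by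
  decide +kernel
theorem cm : cmOK (eqP psT (List.range 9)) 0x409 ws = true := by decide +kernel
theorem three : band (eqP psT (List.range 9) ([1, 2, 1, 2, 1, 2], []))
    (XM.neP psT 3510 0 ([1, 2, 1, nth 0 ws 8], [1, nth 0 ws 8, 1, 2])) = true := by decide +kernel
theorem cj : band (eqP psT (List.range 9) ([0x50408060705060405030408020304010203, 0x409], [1, nth 0 ws 8, 0x50408060705060405030408020304010203]))
    (XM.neP psT 3510 1 ([1, nth 0 ws 8], [0x409])) = true := by decide +kernel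

variable {G : Type*} [Group G] {D : Set G} {g pt : ℕ → G} {s : MulAut G}

/-- the letters of the extraspecial group -/
noncomputable abbrev dQ (g : ℕ → G) (s : MulAut G) : ℕ → MulAut G := lw (lw (gS g 9 s) ws) us

theorem ev_j (g : ℕ → G) (s : MulAut G) : ev (gS g 9 s) 0x409 = MulAut.conj (g 3 * g 8) := by
  rw [ev_gS (by decide +kernel), CfsgLib.FiLoc.ev_j]

theorem dQ10 (g : ℕ → G) (s : MulAut G) : dQ g s 10 = MulAut.conj (g 3 * g 8) := by
  rw [← ev_j, show ev (gS g 9 s) 0x409 = ev (gS g 9 s) 4 * gS g 9 s 8 from ev_app _ 4 (j := 8) (by norm_num),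
    ← ev_letter (gS g 9 s) (m := 8) (by norm_num)]
  exact (ev_app (lw (gS g 9 s) ws) 7 (j := 7) (by norm_num)).trans
    (congrArg (· * _) (ev_letter (lw (gS g 9 s) ws) (m := 6) (by norm_num)))

theorem dQ4 (g : ℕ → G) (s : MulAut G) : dQ g s 4 = evL (gS g 9 s) [1, nth 0 ws 8] := by
  rw [evL_two]
  exact (ev_app (lw (gS g 9 s) ws) 1 (j := 8) (by norm_num)).trans
    (congrArg (· * _) (ev_letter (lw (gS g 9 s) ws) (m := 0) (by norm_num)))

theorem main (S : S22 D g pt s) : ∃ Q : Subgroup (MulAut G), Pre Q (MulAut.conj (g 3 * g 8)) ∧ NoOdd Q ∧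
    Nat.card Q = 2 ^ 11 ∧ ∃ f : centralizer {(MulAut.conj (g 3 * g 8) : MulAut G)} →* O6m, Function.Surjective f ∧
      f.ker = Q.subgroupOf _ := by
  have := S.finite
  have : Finite (MulAut G) := Finite.of_injective _ DFunLike.coe_injective
  have P : PM (dQ g s) 3510 pt (stepW (stepW psT ws) us) := (S.pm.words ws).words us
  have heq : ∀ e, eqQ e = true → e.Holds (dQ g s) := fun e => P.holds (fun _ => mem_top _) S.base
  have hne : ∀ {α : ℕ → MulAut G} {ps : ℕ → ℕ → ℕ}, PM α 3510 pt ps → ∀ a e, XM.neP ps 3510 a e = true → ¬ e.Holds α :=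
    fun P a e h => P.evL_ne (lt_of_blt (band_eq_true.1 h).1) (band_eq_true.1 h).2
  have T := Ser.of_ok heq (by norm_num) (by norm_num) ser_ok
  have h1 : pcSub (dQ g s) 11 10 = zpowers (MulAut.conj (g 3 * g 8)) := pcSub_last.trans (congrArg _ (dQ10 g s))
  have h2 : (MulAut.conj (g 3 * g 8) : MulAut G) ≠ 1 := fun h => (by simpa using S.f.cl_pair.1 : g 3 ≠ g 8) (by
    rw [map_eq_one_iff _ (conj_inj S.f.tm.center)] at h
    exact (eq_inv_of_mul_eq_one_left h).trans (inv_eq S.f.tm.set (S.m.fm.letter_mem (by norm_num))))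
  have h3 : Nat.card (zpowers (MulAut.conj (g 3 * g 8) : MulAut G)) = 2 := by
    have := T.pow 10 (by norm_num)
    rw [pcSub_of_le _ le_rfl, mem_bot, dQ10] at this
    rw [Nat.card_zpowers, orderOf_eq_prime this h2]
  have h4 := (dualOK_sound heq (hne P) (inA_rngA _ 11 0) dual).2
  have h5 := card_dual (j := 10) (by norm_num) (by norm_num) h4
  rw [h1, h3] at h5
  have h6 : zpowers (MulAut.conj (g 3 * g 8)) ≤ pcSub (dQ g s) 11 0 := h1 ▸ pcSub_anti _ 11 (by norm_num)
  have h7 : closure (Set.range (lw (gS g 9 s) ws)) ≤ centralizer {(MulAut.conj (g 3 * g 8) : MulAut G)} := by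
    rw [closure_range_lw, ← ev_j g s]
    exact cl_le.2 fun w hw => mem_centralizer_singleton_iff.2 (cmOK_sound S.holds cm w hw)
  have V := pm_sets' (S.pm.tab ws tab (labOK_sound labK_ok) rfl fun m hm => subAll_sound tab_ok m (Nat.zero_le _) hm)
    (by norm_num) (by decide) ms_ok
  obtain ⟨φ, h8, h9⟩ := onto_O6m V vt_ok lv_val
  obtain ⟨-, h10, h11, f, h12, h13⟩ := exists_ker φ h8 h7 (mem_ker_of_fixP V us_fix h9 11 0) (a := 2 ^ 11) h5 (by
    refine (card_le_two_mul S.f.tm.center S.f.card_aut _).trans ?_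
    have := (card_le_of_le (show (centralizer {(MulAut.conj (g 3 * g 8) : MulAut G)}).comap MulAut.conj ≤
      centralizer {g 3 * g 8} from fun x hx => mem_centralizer_singleton_iff.2 (conj_inj S.f.tm.center (by
        rw [map_mul, map_mul MulAut.conj _ x]; exact mem_centralizer_singleton_iff.1 hx)))).trans (card_cent_j S.m)
    rw [card_O6m]; omega)
  have h14 : ∀ z ∈ pcSub (dQ g s) 11 0, z ∈ centralizer (pcSub (dQ g s) 11 0 : Set (MulAut G)) →
      z ∈ zpowers (MulAut.conj (g 3 * g 8)) := fun z h h' => h1 ▸ T.center_le (j := 10) (by norm_num) (by norm_num) h4 h h'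
  have es := CfsgLib.ExtraTwo.es_of_comm (extraspecial_of (T.isPGroup 0) h3 (le_antisymm (fun z h => h14 z h.1 h.2)
    (le_inf h6 (zpowers_le_of_mem fun y hy => h10 hy _ rfl |>.symm))) (cmodOK_sound heq (h1 ▸ T.le_norm 0 10) (by
      simp only [List.forall_mem_cons]
      exact ⟨one_mem _, by rw [ev_letter _ (m := 10) (by norm_num), dQ10]; exact mem_zpowers _, by simp⟩) cmod)
    (by omega)) h2 (h6 (mem_zpowers _)) fun q hq => (h10 hq _ rfl).symm
  have h15 : dQ g s 4 ∈ pcSub (dQ g s) 11 0 := mem_pcSub _ (Nat.zero_le 4) (by norm_num)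
  have pre : Pre (pcSub (dQ g s) 11 0) (MulAut.conj (g 3 * g 8)) := by
    refine ⟨es, fun x hx => es.center x (cent_le_ker f h12 h13 h10 (T.isPGroup 0) big3_O6m
      (y := evL (gS g 9 s) [1, 2]) (h7 ?_) ?_ (fun h => hne S.pm _ _ (band_eq_true.1 three).2 ?_) x
      (mem_centralizer_singleton_iff.2 (hx _ es.mem).symm) hx) hx,
      fun x hx => le_normalizer_of_ker h13 h10 x (mem_centralizer_singleton_iff.2 hx)⟩
    · rw [evL_two]; exact mul_mem (subset_closure ⟨0, rfl⟩) (subset_closure ⟨1, rfl⟩)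
    · rw [← evL_rep]; exact S.holds _ (band_eq_true.1 three).1
    · have h16 := h _ h15
      rw [dQ4, ← evL_append, ← evL_append] at h16
      exact h16.symm
  obtain ⟨h16, h17⟩ := band_eq_true.1 cj
  have h16 : evL (gS g 9 s) _ = evL (gS g 9 s) ([1, nth 0 ws 8] ++ [_]) := S.holds _ h16
  have h17 : evL (gS g 9 s) _ ≠ evL (gS g 9 s) _ := hne S.pm _ _ h17
  rw [evL_two, ev_j, evL_append, evL_one, ← dQ4, ← mul_inv_eq_iff_eq_mul] at h16
  rw [evL_one, ev_j, ← dQ4, ← h16] at h17
  exact ⟨_, pre, pre.noOdd_of_conj_mem (by omega) (h16 ▸ h15) h17, h11, f, h12, h13⟩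



/-- Let G be a finite group with trivial centre generated by a conjugation-invariant set D of 3-transpositions on which it acts primitively, such that for some d in D the subgroup generated by the members of D other than d commuting with d has central largest normal 2- and 3-subgroups, and suppose G with D is of type M(22), and let A be the automorphism group of G. Let d₁, d₂ be distinct commuting members of D and j the inner automorphism of their product. Then the generalized Fitting subgroup Q of the centralizer of j in A is a large extraspecial 2-subgroup of A of order 2^11 (extraspecial; centralizer equal to its centre; normal in the centralizer of its centre; normalizing no non-trivial odd-order subgroup), and the centralizer of j modulo Q is isomorphic to the full automorphism group of the projective special unitary group of dimension 4 over the field with four elements. -/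
theorem result {G : Type*} [Group G] [Finite G] {D : Set G} (hD : Cfsg.IsThreeTranspositionGroup D) (hprim : Cfsg.IsPrimitiveUnderConj D) (d₀ : G) (hd₀ : d₀ ∈ D) (h3 : Cfsg.pCore 3 ↥(Subgroup.closure {y : G | y ∈ D ∧ y ≠ d₀ ∧ Commute d₀ y}) ≤ Subgroup.center ↥(Subgroup.closure {y : G | y ∈ D ∧ y ≠ d₀ ∧ Commute d₀ y})) (h2 : Cfsg.pCore 2 ↥(Subgroup.closure {y : G | y ∈ D ∧ y ≠ d₀ ∧ Commute d₀ y}) ≤ Subgroup.center ↥(Subgroup.closure {y : G | y ∈ D ∧ y ≠ d₀ ∧ Commute d₀ y})) (h22 : Cfsg.IsOfTypeM22 G D) (d₁ d₂ : G) (h₁ : d₁ ∈ D) (h₂ : d₂ ∈ D) (hne : d₁ ≠ d₂) (hc : Commute d₁ d₂) (j : MulAut G) (hj : j = MulAut.conj (d₁ * d₂)) (Q : Subgroup (MulAut G)) (hQ : Q = (Cfsg.generalizedFittingSubgroup ↥(Subgroup.centralizer ({j} : Set (MulAut G)))).map (Subgroup.centralizer ({j} : Set (MulAut G))).subtype) : Cfsg.IsLargeExtraspecial Q ∧ Nat.card Q = 2 ^ 11 ∧ Q ≤ Subgroup.centralizer ({j} : Set (MulAut G)) ∧ ∃ (_ : (Q.subgroupOf (Subgroup.centralizer ({j} : Set (MulAut G)))).Normal)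 (F : Type) (_ : Field F) (_ : Fintype F), Fintype.card F = 4 ∧ Nonempty (↥(Subgroup.centralizer ({j} : Set (MulAut G))) ⧸ Q.subgroupOf (Subgroup.centralizer ({j} : Set (MulAut G))) ≃* MulAut (Cfsg.PSU 4 F 2)) := by
  obtain ⟨g, pt, M⟩ := m22_of_type hD hprim h22
  obtain ⟨g, pt, M, rfl, rfl⟩ := exists_pair M (CL.pair h₁ h₂ hne hc)
  obtain ⟨s, S⟩ := exists_s22 M
  have : Finite (MulAut G) := Finite.of_injective _ DFunLike.coe_injective
  obtain ⟨R, h4, h5, h6, f, h7, h8⟩ := main S
  subst hj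
  have h9 : R ≤ centralizer {(MulAut.conj (g 3 * g 8) : MulAut G)} :=
    fun x hx => mem_centralizer_singleton_iff.2 (h4.es.comm_z x hx)
  obtain rfl : Q = R := by
    rw [hQ, h4.fstar_eq ((pCore_eq_ker f h7 (h8 ▸ h4.es.isPGroup.of_equiv (subgroupOfEquivOfLe h9).symm) big3_O6m
      exists_three_O6m).trans h8).le, subgroupOf_map_subtype, inf_eq_left.2 h9]
  have hn : (Q.subgroupOf (centralizer {(MulAut.conj (g 3 * g 8) : MulAut G)})).Normal := h8 ▸ f.normal_ker
  obtain ⟨e⟩ := nonempty_quot_of_ker h7 h8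
  letI := Fintype.ofFinite (GaloisField 2 2)
  obtain ⟨e'⟩ := O6m_equiv_aut CfsgLib.FiLoc.card_gf4
  exact ⟨h4.isLarge h5, h6, h9, hn, GaloisField 2 2, inferInstance, inferInstance, CfsgLib.FiLoc.card_gf4, ⟨e.trans e'⟩⟩

end Cfsg.Agent.S5473
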