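import Mathlib
import Cfsg.Statements.S5522
import Cfsg.Agent.Lib.M24E.Tools
import Cfsg.Prelude.Def_Spor_Mathieu

set_option autoImplicit false
open Cfsg

namespace Cfsg.Agent.S5522

open CfsgLib.M24E CfsgLib.Golay
open scoped Pointwise

theorem sq_eq : Cfsg.Spor.squareDodecad = ofMask 340831 := support₂_qrWord 0

theorem mem12 {x : P24} : x ∈ Cfsg.Spor.M12 ↔ x ∈ Cfsg.M24 ∧ x • ofMask 340831 = ofMask 340831 := by
  simp only [Cfsg.Spor.M12, Subgroup.mem_inf, MulAction.mem_stabilizer_iff, sq_eq]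

theorem mem11 {x : P24} : x ∈ Cfsg.Spor.M11 ↔ x ∈ Cfsg.Spor.M12 ∧ x (some 0) = some 0 := by
  simp only [Cfsg.Spor.M11, Subgroup.mem_inf, MulAction.mem_stabilizer_iff]
  rfl

theorem no3 {d : Finset Cfsg.GolayPt} (hd : d ∈ Cfsg.dodecads) (h1 : ofMask 63 ⊆ d) : pm q3a • d ≠ d := by
  refine forall_code (P := fun d => d.card = 12 → ofMask 63 ⊆ d → pm q3a • d ≠ d)
    (fun m => or (not (Nat.beq (Nat.land 63 m) 63)) (or (not (Nat.beq (pc m) 12)) (not (setTo (ap q3a) m m))))
    ?_ (by decide +kernel) hd.1 hd.2 h1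
  intro m hm h a b c
  rw [card_ofMask (lt_of_isCode hm)] at a
  rw [ofMask_subset_iff (by norm_num)] at b
  have b' : Nat.beq (Nat.land 63 m) 63 = true := beq_iff'.2 b
  rw [b', beq_iff'.2 a, ((pm_rp isM_q3a).setFix_iff m).2 c] at h
  cases h


/-- The Mathieu group M₁₁, realised as the stabiliser of one point of the dodecad of squares inside the stabiliser M₁₂ of that dodecad in M₂₄, acts on the twelve coordinate positions outside the dodecad of squares (its 3-transitive action of degree 12); in this action every element of prime order fixes a point, i.e. the action is elusive. -/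
theorem result (g : Equiv.Perm Cfsg.GolayPt) (hg : g ∈ Cfsg.Spor.M11) (hord : (orderOf g).Prime) :
    ∃ x : Cfsg.GolayPt, x ∉ Cfsg.Spor.squareDodecad ∧ g x = x := by
  rw [mem11, mem12] at hg
  rw [sq_eq]
  by_contra hcon
  push Not at hcon
  have hsub : fixS g ⊆ ofMask 340831 := fun x hx => by
    by_contra h; exact hcon x h (mem_fixS.1 hx)
  have hne : fixS g ≠ ∅ := Finset.ne_empty_of_mem (mem_fixS.2 hg.2)
  have hm : ∀ x, g x ∉ ofMask 340831 ↔ x ∉ ofMask 340831 := fun x => by
    conv_lhs => rw [← hg.1.2]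
    rw [smul_mem_smul']
  have hdvd : orderOf g ∣ 12 := by
    by_contra h
    have := Fact.mk hord
    have hc : Fintype.card {x // x ∉ ofMask 340831} = 12 := by
      rw [Fintype.card_subtype_compl, card_golayPt, Fintype.card_coe, dod0_mem.2]
    obtain ⟨a, ha⟩ := Equiv.Perm.exists_fixed_point_of_prime (p := orderOf g) (n := 1) (hc ▸ h)
      (σ := g.subtypePerm hm) (by
        rw [pow_one, Equiv.Perm.subtypePerm_pow]
        ext x
        simp [pow_orderOf_eq_one])
    exact hcon a.1 a.2 (congrArg Subtype.val ha)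
  have h23 : orderOf g = 2 ∨ orderOf g = 3 := by
    have h1 : orderOf g ∣ 2 ^ 2 * 3 := hdvd
    rcases (Nat.Prime.dvd_mul hord).1 h1 with h | h
    · exact Or.inl ((Nat.prime_dvd_prime_iff_eq hord Nat.prime_two).1 (hord.dvd_of_dvd_pow h))
    · exact Or.inr ((Nat.prime_dvd_prime_iff_eq hord Nat.prime_three).1 h)
  rcases h23 with h | h
  · obtain ⟨r, hr, rfl⟩ := conj_q2a hg.1.1 h hne
    rw [fixS_conj, fixS_q2a] at hsub
    have h1 := card_octad_inter_dodecad (smul_mem_octads hr oct0_mem) dod0_mem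
    rw [Finset.inter_eq_left.2 hsub, (smul_mem_octads hr oct0_mem).2] at h1
    omega
  · obtain ⟨r, hr, rfl⟩ := conj_q3a hg.1.1 h hne
    rw [fixS_conj, fixS_q3a] at hsub
    refine no3 (smul_mem_dodecads (inv_mem hr) dod0_mem) ?_ ?_
    · simpa using Finset.smul_finset_subset_smul_finset (a := r⁻¹) hsub
    · have h1 := hg.1.2
      rwa [mul_smul, mul_smul, smul_eq_iff_eq_inv_smul] at h1

end Cfsg.Agent.S5522
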