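import Cfsg.Statements.S5529
import Mathlib
import Cfsg.Agent.Lib.TriGen.Cyc
import Cfsg.Agent.Lib.MSub.Base
import Cfsg.Agent.Lib.Mathieu.Stab

set_option autoImplicit false
open Cfsg

namespace Cfsg.Agent.S5529

open CfsgLib.Mathieu CfsgLib.Golay CfsgLib.TriGen Subgroup MulAction

noncomputable def ordc (a p : ℕ) : Bool := and (Nat.beq (cpow a p) idc) (not (Nat.beq a idc))

theorem ord_of {g : P24} {p : ℕ} (hp : p.Prime) (h : ordc (code g) p = true) : orderOf g = p := by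
  have := Fact.mk hp
  simp only [ordc, Bool.and_eq_true, Nat.beq_eq, Bool.not_eq_true'] at h
  refine orderOf_eq_prime (code_eq_idc.1 (by rw [code_pow, h.1])) ?_
  rintro rfl
  rw [code_one] at h
  simp at h

abbrev E := ℕ × ℕ × ℕ × ℕ × ℕ × List ℕ × List ℕ

noncomputable def chk (e : E) : Bool :=
  and (inStab [] [23] e.2.2.2.1) (and (inStab [] [23] e.2.2.2.2.1) (and (ordc e.2.2.2.1 e.1)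
    (and (ordc e.2.2.2.2.1 e.2.1) (and (ordc (comp e.2.2.2.1 e.2.2.2.2.1) e.2.2.1)
      (and (Nat.beq (word [e.2.2.2.1, e.2.2.2.2.1] e.2.2.2.2.2.1) 955924082730370616340679767558923521)
        (Nat.beq (word [e.2.2.2.1, e.2.2.2.2.1] e.2.2.2.2.2.2) 980699191927330299577835990889431341))))))

theorem pos {e : E} (h : chk e = true) (hp : e.1.Prime) (hq : e.2.1.Prime) (hr : e.2.2.1.Prime) :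
    ∃ x y z : Cfsg.Spor.M23, orderOf x = e.1 ∧ orderOf y = e.2.1 ∧ orderOf z = e.2.2.1 ∧
      x * y * z = 1 ∧ Subgroup.closure {x, y} = ⊤ := by
  obtain ⟨p, q, r, a, b, v, w⟩ := e
  simp only [chk, Bool.and_eq_true, Nat.beq_eq] at h
  obtain ⟨h1, h2, h3, h4, h5, h6, h7⟩ := h
  obtain ⟨x, hx, rfl⟩ := has_M23 h1
  obtain ⟨y, hy, rfl⟩ := has_M23 h2
  rw [← code_mul] at h5
  refine ⟨⟨x, hx⟩, ⟨y, hy⟩, (⟨x, hx⟩ * ⟨y, hy⟩)⁻¹, by rw [orderOf_mk, ord_of hp h3],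
    by rw [orderOf_mk, ord_of hq h4], ?_, mul_inv_cancel _, ?_⟩
  · rw [orderOf_inv, ← orderOf_coe]; exact ord_of hr h5
  · have hl : ∀ a ∈ [code x, code y],
        Has ((closure {(⟨x, hx⟩ : Cfsg.Spor.M23), ⟨y, hy⟩}).map Cfsg.Spor.M23.subtype) a := by
      simp only [List.forall_mem_cons, List.not_mem_nil, IsEmpty.forall_iff, implies_true, and_true]
      exact ⟨⟨x, ⟨⟨x, hx⟩, subset_closure (by simp), rfl⟩, rfl⟩,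
        ⟨y, ⟨⟨y, hy⟩, subset_closure (by simp), rfl⟩, rfl⟩⟩
    have hle := M23_le (H := (closure {(⟨x, hx⟩ : Cfsg.Spor.M23), ⟨y, hy⟩}).map Cfsg.Spor.M23.subtype)
      (by
        simp only [gens23, List.forall_mem_cons, List.not_mem_nil, IsEmpty.forall_iff, implies_true,
          and_true]
        exact ⟨h6 ▸ has_word hl v, h7 ▸ has_word hl w⟩)
    rw [eq_top_iff]
    intro g _
    obtain ⟨k, hk, e⟩ := hle g.2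
    rwa [← Subtype.ext e]

def L : List E := [
  (2, 5, 11, 0xbb8b45a5f08d9029aa4d39aa403023, 0xbd8c85ca6914085a05f151c0c1baad, [0, 1, 1, 1, 0, 1, 1, 1, 0, 1, 1, 0, 1, 1, 0, 1, 0, 1, 0, 1, 1, 0, 1, 0, 1, 0, 1, 0, 1, 1, 1, 1, 0, 1, 1], [1, 1, 0, 1, 1, 1, 1, 0, 1, 0, 1, 0, 1, 0, 1, 0, 1, 1, 0, 1, 0, 1, 0, 1, 1, 1, 0, 1, 0, 1, 0, 1, 0, 1]),
  (2, 5, 23, 0xbd9ed94d28aba8128a30399641a980, 0xbd2a040dca636027c532b2e6729824, [1, 1, 0, 1, 0, 1, 0, 1, 1, 1, 1, 0, 1, 1, 1, 1, 0, 1, 1, 0, 1, 1, 1, 0, 1, 0, 1, 0, 1, 1, 1, 0], [0, 1, 1, 1, 0, 1, 1, 1, 1, 0, 1, 0, 1, 0, 1, 1, 1, 0, 1, 0, 1, 1, 1, 0, 1, 0, 1, 1, 0]),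
  (2, 7, 7, 0xbdab44822e5410c1be6d39822590b2, 0xb9dd59ad2d2c9111d036782065088c, [0, 1, 1, 0, 1, 0, 1, 1, 0, 1, 1, 1, 0, 1, 0, 1, 1, 0, 1, 0, 1, 1, 0, 1, 1, 0, 1, 0, 1, 1, 0, 1, 0], [0, 1, 1, 1, 0, 1, 0, 1, 1, 1, 0, 1, 1, 1, 0, 1, 1, 0, 1, 0, 1, 1, 0, 1, 1, 1, 0, 1, 0, 1, 1, 1, 0, 1, 1, 0]),
  (2, 7, 11, 0xbd8349c64f80d454352b0198470aa7, 0xbcd0709526a8daf8c094149d653160, [0, 1, 1, 0, 1, 0, 1, 0, 1, 1, 0, 1, 1, 0, 1, 1, 1, 0, 1, 1, 1, 1, 1, 0, 1, 0, 1, 0, 1], [0, 1, 0, 1, 0, 1, 1, 1, 1, 0, 1, 0, 1, 1, 1, 0, 1, 1, 0, 1, 1, 1, 1, 1, 0, 1, 0, 1]),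
  (2, 7, 23, 0xb898a992307b8f50d068680b24d966, 0xbda053a593446af139603106d9502a, [0, 1, 0, 1, 1, 1, 1, 0, 1, 0, 1, 0, 1, 0, 1, 0, 1, 1, 1, 1, 0, 1, 1, 0, 1, 1, 0, 1, 0, 1], [1, 0, 1, 1, 0, 1, 0, 1, 1, 1, 1, 1, 1, 0, 1, 1, 1, 1, 1, 0, 1, 0, 1, 1, 0, 1, 0, 1, 0, 1, 1, 1]),
  (2, 11, 11, 0xbda6aac980339b15d0e54bd0219030, 0xbc5c9ad84b50dec901a1a22062cce4, [1, 0, 1, 1, 0, 1, 0, 1, 1, 0, 1, 0, 1, 1, 0, 1, 0, 1, 0, 1, 1, 1, 0, 1, 1, 0, 1, 0, 1, 1], [1, 1, 1, 1, 1, 1, 1, 1, 1, 0, 1, 1, 1, 0, 1, 0, 1, 1, 1, 1, 1, 0, 1, 0, 1, 1, 1, 1, 0]),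
  (2, 11, 23, 0xb96a124a283a44a5b1d079ad31b680, 0xb859253ec95b687844089904e2d466, [1, 0, 1, 1, 1, 0, 1, 0, 1, 1, 1, 0, 1, 1, 1, 1, 1, 1, 1, 0, 1, 1, 1, 0, 1, 0, 1, 0], [0, 1, 0, 1, 1, 1, 1, 1, 1, 0, 1, 1, 1, 0, 1, 1, 0, 1, 0, 1, 1, 1, 1, 1, 1, 1, 0, 1, 0, 1, 1]),
  (2, 23, 23, 0xbd9e934980ab83119e8854ca4589b0, 0xb853620048330b280dedac4ee9d14b, [0, 1, 1, 1, 0, 1, 1, 0, 1, 1, 1, 1, 1, 1, 1, 1, 1, 1, 0, 1, 0, 1, 0, 1, 1, 0, 1, 0, 1, 1, 1], [0, 1, 0, 1, 0, 1, 1, 0, 1, 0, 1, 1, 1, 1, 0, 1, 1, 1, 0, 1, 0, 1, 1, 0, 1, 1, 1, 1, 1, 0]),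
  (3, 3, 11, 0xba4629d8d05d5aa2065489caf72180, 0xbc5a51b2167b960aa889398480d272, [0, 0, 1, 0, 1, 0, 1, 0, 1, 0, 1, 1, 0, 1, 0, 1, 0, 1, 1, 0, 0, 1, 0, 1, 1, 0, 0, 1, 0, 1, 1], [0, 1, 0, 0, 1, 1, 0, 1, 1, 0, 1, 1, 0, 1, 0, 0, 1, 0, 1, 0, 0, 1, 0, 0, 1, 0, 1, 1, 0, 0, 1, 0, 1]),
  (3, 3, 23, 0xbda910caab015cc13c69399b34408a, 0xbaab4991e9199ae904e58300b88ac8, [0, 0, 1, 0, 1, 1, 0, 1, 1, 0, 1, 1, 0, 1, 1, 0, 1, 0, 0, 1, 1, 0, 1, 1, 0, 1, 0, 0, 1, 0, 0, 1], [1, 0, 1, 1, 0, 1, 0, 1, 0, 0, 1, 0, 1, 0, 0, 1, 0, 1, 0, 1, 0, 1, 0, 1, 1, 0, 0, 1, 0, 1, 0, 0]),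
  (3, 5, 5, 0xb84763aa297b9105898034ea42ca8d, 0xbc0f4322c5a8c207292d9bc526448b, [0, 0, 1, 0, 1, 1, 1, 0, 1, 1, 0, 1, 0, 1, 1, 0, 1, 1, 0, 0, 1, 0, 1, 0, 0, 1, 1, 1], [1, 0, 1, 0, 0, 1, 0, 0, 1, 0, 1, 1, 0, 1, 0, 0, 1, 0, 0, 1, 0, 1, 0, 1, 1, 0]),
  (3, 5, 7, 0xbc1e48c8a74d14c58ea1b1a6e68808, 0xb9df198d92538c202e88805a5b2495, [1, 0, 0, 1, 1, 0, 1, 0, 1, 1, 0, 0, 1, 1, 1, 0, 1, 1, 0, 1, 0, 1, 0, 1, 1, 1, 0], [0, 1, 0, 0, 1, 1, 0, 1, 0, 1, 0, 0, 1, 1, 0, 1, 1, 1, 1, 0, 1, 0, 1]),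
  (3, 5, 11, 0xbd574425f1839a7b0cc50ca6a20980, 0xbc4e9040482b6a35b83351a84b31f2, [1, 0, 1, 0, 0, 1, 1, 0, 0, 1, 1, 1, 0, 0, 1, 0, 0, 1, 1, 0, 0, 1, 1, 1, 0], [0, 1, 0, 1, 0, 1, 0, 1, 0, 1, 0, 0, 1, 0, 0, 1, 1, 0, 1, 0, 1, 1, 1, 0, 1, 0, 1]),
  (3, 5, 23, 0xb9ecd9c10c7d1d258921a80ca19225, 0xbc646b3d10195ae12aa009d744b093, [0, 1, 1, 1, 1, 0, 1, 1, 1, 1, 0, 1, 1, 1, 0, 1, 1, 0, 1, 1, 1, 0, 1, 0, 1, 1], [0, 0, 1, 0, 1, 0, 1, 1, 0, 0, 1, 0, 1, 0, 1, 1, 0, 0, 1, 0, 1]),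
  (3, 7, 7, 0xb9ab4b3d6d748e55452384c2400988, 0xba8e293a28a59a37858b32670010b5, [0, 1, 1, 1, 1, 0, 0, 1, 1, 0, 0, 1, 1, 1, 0, 0, 1, 1, 1, 0, 0, 1, 0, 1, 1, 1, 0, 1], [0, 0, 1, 1, 0, 1, 1, 1, 0, 0, 1, 1, 0, 1, 1, 1, 0, 0, 1, 1, 0, 1]),
  (3, 7, 11, 0xbade46a2342c9930286e39ab012436, 0xbb564349532a06c8a6960bcf51020e, [1, 1, 0, 1, 1, 1, 0, 0, 1, 1, 1, 1, 0, 0, 1, 0, 1, 1, 1, 0, 1, 1, 1, 0, 1], [1, 1, 1, 0, 1, 1, 1, 1, 0, 1, 1, 0, 0, 1, 0, 0, 1, 1, 1, 1, 0]),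
  (3, 7, 23, 0xbd886ad22980d0d3adec548b313820, 0xbb175280c4a4649729a813c6784ec1, [1, 1, 1, 0, 1, 0, 1, 0, 1, 1, 1, 1, 1, 1, 0, 0, 1, 1, 1, 1, 0, 1, 0, 1, 1], [0, 0, 1, 0, 0, 1, 0, 1, 1, 0, 1, 1, 0, 1, 1, 0, 1, 0, 1, 1, 0, 1, 0, 1, 1, 0]),
  (3, 11, 11, 0xb9c6f9c9313354c13a08252b62802b, 0xb98095d8b06b0ef8a24e1cc4aa8684, [0, 1, 0, 1, 1, 1, 1, 1, 1, 1, 1, 0, 0, 1, 0, 1, 0, 0, 1, 0, 0, 1, 1, 0, 1, 1], [1, 1, 1, 0, 0, 1, 1, 1, 1, 0, 1, 1, 1, 1, 1, 1, 1, 0, 1, 0, 1, 1, 1]),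
  (3, 11, 23, 0xb8aaa006903cdb24c48f41acb1958e, 0xba27650ea4a24e271a516416f684a0, [0, 1, 1, 1, 1, 0, 1, 0, 1, 1, 1, 1, 1, 1, 1, 1, 1, 1, 0, 1, 1, 1, 1, 1, 1, 1, 0], [1, 1, 1, 0, 1, 0, 0, 1, 1, 1, 0, 1, 0, 0, 1, 1, 1, 0, 1, 1, 1, 1, 1, 0]),
  (3, 23, 23, 0xb8ded9c8d582d113d834730a950880, 0xbc4b091d4d1bd74985951592033888, [0, 1, 0, 0, 1, 1, 0, 1, 1, 1, 0, 1, 1, 1, 0, 1, 0, 1, 1, 1, 1, 1, 0, 1], [0, 0, 1, 1, 0, 1, 0, 1, 0, 1, 0, 1, 1, 1, 0, 1, 0, 1, 0, 1, 0, 0, 1, 0, 1, 1, 0]),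
  (5, 5, 5, 0xba9a4aae2f3b912a4269b180c08ca2, 0xbd8e984ca37d22c910cd100355a90e, [0, 0, 1, 0, 1, 0, 1, 1, 1, 0, 1, 1, 0, 1, 0, 0, 1, 1, 0, 0, 0, 1, 1], [1, 0, 1, 0, 0, 1, 0, 0, 1, 0, 0, 0, 1, 1, 1, 0, 0, 0, 0, 1, 1, 0, 0, 1]),
  (5, 5, 7, 0xbda72185ac3440558aae4c1e43d148, 0xb96847b6270c2664aaa240d8bb3a40, [0, 0, 1, 0, 1, 0, 0, 1, 1, 0, 1, 1, 0, 1, 1, 0, 1, 1, 1, 0, 1, 1, 1], [0, 1, 1, 0, 0, 0, 1, 0, 1, 1, 1, 0, 1, 1, 0, 1, 1, 0, 1, 1, 0, 1, 1, 0, 0]),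
  (5, 5, 11, 0xbc146a39a3654f3b122813d722a420, 0xba6ad75267186d15924f4194280185, [1, 1, 1, 1, 0, 1, 1, 0, 1, 1, 0, 0, 0, 1, 1, 1, 0, 0, 0, 0, 1, 1], [1, 1, 0, 0, 1, 1, 1, 0, 0, 0, 1, 0, 0, 0, 0, 1, 0, 1, 0, 0, 1, 0]),
  (5, 5, 23, 0xbaea3825a77494c308a4a21f698031, 0xbc2756514b236d27092f3c42530d00, [1, 1, 1, 1, 0, 0, 1, 1, 0, 1, 1, 0, 1, 1, 1, 1, 0, 1, 1, 0, 0, 1, 0], [0, 0, 0, 0, 1, 1, 0, 0, 1, 0, 0, 0, 1, 1, 0, 1, 1, 0, 1, 0, 0, 0]),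
  (5, 7, 7, 0xbc92c9ac670a808854afb19d168a84, 0xbc8d682911714e90aeaf60e646d040, [1, 0, 1, 0, 0, 0, 1, 1, 1, 1, 1, 1, 0, 0, 1, 0, 0, 1, 1, 0, 1, 0, 0, 1, 0], [1, 0, 1, 1, 1, 1, 0, 0, 1, 1, 0, 0, 0, 1, 0, 1, 1, 0, 0, 1, 0]),
  (5, 7, 11, 0xbb974aa47344851359413c0af6b004, 0xb8a7554a84b01313160878d8b685c7, [0, 0, 1, 0, 0, 0, 1, 0, 0, 1, 1, 0, 1, 0, 0, 1, 0, 1, 1, 1, 0, 0], [0, 1, 1, 1, 1, 0, 0, 0, 0, 1, 1, 1, 0, 0, 0, 1, 0, 0, 0, 1, 1, 0, 0]),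
  (5, 7, 23, 0xb88727a6658388a399a805a345b035, 0xba22f6b01509686828691596494cee, [0, 0, 1, 1, 0, 0, 1, 0, 1, 0, 0, 0, 1, 1, 1, 1, 1, 0], [1, 0, 0, 1, 1, 0, 1, 0, 0, 1, 1, 1, 1, 0, 1, 1, 1, 1, 0, 1, 1, 1, 1]),
  (5, 11, 11, 0xba6c03063379d54642441b56e40aa5, 0xbbe066494958cad3902014dd48a2d5, [0, 0, 1, 0, 0, 1, 0, 1, 1, 0, 0, 1, 0, 1, 0, 0, 0, 1, 1, 1, 1, 1], [0, 0, 0, 0, 1, 0, 0, 1, 0, 0, 0, 0, 1, 0, 0, 0, 1, 1, 0, 0]),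
  (5, 11, 23, 0xbca017c5aba254c05853a99c428d07, 0xbb6555b2863a665192c8744100bc4a, [0, 0, 1, 1, 0, 1, 0, 1, 0, 0, 1, 0, 0, 0, 1, 1, 0, 0, 0, 1, 0, 0, 1, 1], [0, 1, 0, 1, 0, 0, 0, 1, 1, 1, 1, 1, 0, 1, 0, 0, 0, 1, 1, 0, 0, 1]),
  (5, 23, 23, 0xbd91074c95080d15d1ea3a64260da5, 0xbc123110eb531e02b9130ca8d346d5, [1, 0, 0, 0, 1, 0, 1, 1, 0, 0, 1, 1, 1, 1, 0, 1, 0, 0, 1, 1, 0, 0], [0, 0, 1, 1, 0, 1, 1, 1, 0, 1, 1, 0, 0, 1, 0, 1, 1, 1, 1, 0]),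
  (7, 7, 7, 0xbae8f8182a2cd12712203d5961b449, 0xbbc743d43141925590126c1d31598a, [0, 0, 0, 0, 1, 0, 1, 0, 0, 0, 0, 1, 0, 1, 1, 0, 1, 1, 1, 0, 0, 1], [1, 0, 0, 0, 0, 0, 1, 0, 1, 1, 1, 0, 1, 1, 0, 0, 0, 1, 0, 0, 1, 0, 0, 1]),
  (7, 7, 11, 0xbb6b3729163ac0990cac899e1a1202, 0xb989442ab072620115926bd613cc76, [1, 1, 1, 1, 0, 0, 0, 0, 0, 1, 0, 0, 0, 1, 0, 0, 0, 1, 0, 1, 0, 1], [1, 1, 0, 1, 0, 1, 0, 0, 1, 1, 0, 1, 1, 0, 0, 1, 0, 1, 0, 1, 1, 0]),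
  (7, 7, 23, 0xb810133082ab86f4b691396125d953, 0xbd94e48c512928c81c0f305a8ace4b, [0, 1, 1, 0, 0, 0, 0, 0, 1, 1, 0, 1, 1, 1, 0, 1, 0, 0, 0, 0, 1, 1, 0], [1, 0, 1, 1, 0, 0, 0, 0, 0, 1, 1, 1, 0, 0, 0, 0, 0, 1, 1, 1, 0, 1]),
  (7, 11, 11, 0xbbea709ac82c6824ae6d2298383a40, 0xbca81b32636bcd039524709115540b, [0, 0, 1, 1, 0, 1, 1, 1, 1, 1, 0, 0, 1, 0, 0, 0, 0, 0, 1, 0, 1, 0, 0], [1, 1, 0, 1, 0, 0, 1, 0, 1, 1, 1, 1, 1, 0, 0, 0, 0, 1, 0, 0, 0, 1, 0]),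
  (7, 11, 23, 0xb96811d50c3820e935335aa24159e6, 0xbd4277498f012c8194c24aa6ba3611, [1, 1, 1, 0, 0, 0, 0, 0, 1, 1, 0, 0, 1, 0, 0, 1, 1, 1, 1, 1, 0, 1, 1, 0], [0, 1, 1, 1, 0, 0, 1, 1, 1, 1, 1, 0, 0, 1, 0, 1, 0, 1, 0, 1, 0, 0, 0, 0]),
  (7, 23, 23, 0xbc2856914e64df6a8ce8146404982b, 0xbc8804c066129e50ae876b233456ce, [0, 1, 1, 1, 1, 1, 0, 0, 1, 0, 0, 1, 1, 0, 1, 1, 1, 1, 0, 0, 0, 0, 0], [0, 0, 0, 1, 1, 0, 0, 0, 0, 1, 0, 1, 0, 0, 0, 0, 1, 1, 1, 1, 1, 0, 0, 1]),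
  (11, 11, 11, 0xb9a56188ab791006a675a05d03c58a, 0xbcdca158706c6a10259279d0b250a6, [0, 0, 1, 0, 1, 1, 0, 0, 1, 0, 0, 0, 1, 0, 0, 1, 0, 0, 0, 0, 1, 0, 0, 1], [1, 1, 0, 0, 1, 1, 0, 1, 0, 0, 1, 1, 1, 0, 0, 1, 1, 1, 1, 1, 1]),
  (11, 11, 23, 0xbccef1142d8110e5ca9650c1564526, 0xb9814114f622868731af4aea194613, [1, 0, 0, 1, 0, 1, 1, 0, 1, 0, 1, 0, 1, 0, 0, 0, 0, 1, 1, 0, 1, 0, 0], [1, 1, 1, 0, 0, 0, 0, 1, 1, 0, 0, 0, 0, 1, 1, 1, 1, 1, 0, 0, 0, 1]),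
  (11, 23, 23, 0xb96c811eaa60254590317a5a69c1c3, 0xbb1d150aa9b188b696409861440cef, [0, 0, 0, 1, 0, 1, 1, 1, 0, 0, 0, 1, 1, 1, 1, 1, 1, 1, 1, 1, 1, 0, 1, 0, 0], [0, 1, 1, 1, 1, 0, 1, 0, 0, 0, 1, 1, 0, 0, 1, 0, 0, 0, 1, 0, 0, 1, 1, 0, 1]),
  (23, 23, 23, 0xb8d7610512554853b1f4040ce6a633, 0xbbd754045288d46702cd6261439664, [1, 1, 1, 0, 1, 1, 1, 1, 0, 0, 0, 1, 0, 0, 0, 1, 0, 0, 1, 0, 0, 0, 0], [0, 1, 0, 1, 0, 1, 0, 1, 1, 0, 0, 1, 0, 0, 1, 1, 1, 0, 0, 0, 1, 1, 1])]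

theorem chkL : allL L chk = true := by decide +kernel

theorem cov : ∀ p ∈ [2, 3, 5, 7, 11, 23], ∀ q ∈ [2, 3, 5, 7, 11, 23], ∀ r ∈ [2, 3, 5, 7, 11, 23],
    p ≤ q → q ≤ r → ¬ (p = 2 ∧ q = 2) →
    ¬ ((p = 2 ∧ q = 3) ∨ (p = 2 ∧ q = 5 ∧ r = 5) ∨ (p = 2 ∧ q = 5 ∧ r = 7) ∨ (p = 3 ∧ q = 3 ∧ r ≤ 7)) →
    ∃ e ∈ L, e.1 = p ∧ e.2.1 = q ∧ e.2.2.1 = r := by decide +kernel

theorem mem_of_dvd {p : ℕ} (hp : p.Prime) (h : p ∣ 10200960) : p ∈ [2, 3, 5, 7, 11, 23] := by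
  have : p ∈ Nat.primeFactorsList 10200960 := (Nat.mem_primeFactorsList (by norm_num)).2 ⟨hp, h⟩
  simp only [Nat.primeFactorsList_ofNat, List.mem_cons, List.not_mem_nil] at this ⊢
  tauto

theorem no_M23 : no Cfsg.Spor.M23 GolayPt ≤ 2 := by
  refine (Nat.card_le_card_of_surjective
    (fun b : Bool => (Quotient.mk'' (cond b (pt 23) (pt 0)) : orbitRel.Quotient Cfsg.Spor.M23 GolayPt))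
    fun c => ?_).trans (by simp)
  induction c using Quotient.inductionOn' with
  | h p =>
    by_cases hp : p = pt 23
    · exact ⟨true, by simp [hp]⟩
    · obtain ⟨g, hg, e1, e2⟩ := trans2 (Ne.symm hp) (show pt 23 ≠ pt 0 by decide)
      exact ⟨false, Quotient.sound' ⟨⟨g, mem_M23.2 ⟨hg, e1⟩⟩, e2⟩⟩

open CfsgLib.M24E in
theorem card_fixed (a : Cfsg.Spor.M23) :
    Nat.card (fixedBy GolayPt a) = (fixS (a : Equiv.Perm GolayPt)).card := by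
  rw [← Nat.card_eq_finsetCard]
  exact Nat.card_congr (Equiv.subtypeEquivRight fun p => mem_fixS.symm)

open CfsgLib.M24E in
theorem ne_empty (a : Cfsg.Spor.M23) : fixS (a : Equiv.Perm GolayPt) ≠ ∅ :=
  Finset.ne_empty_of_mem (mem_fixS.2 (mem_M23.1 a.2).2)

theorem card_pt : Nat.card GolayPt = 24 := by simp [GolayPt]

theorem no2 {x : Cfsg.Spor.M23} (h : orderOf x = 2) : no (zpowers x) GolayPt = 16 := by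
  have := no_prime (X := GolayPt) (f := 8) Nat.prime_two h fun a ha => by
    obtain ⟨r, -, e⟩ := CfsgLib.M24E.conj_q2a (M23_le_M24 a.2) (by rw [orderOf_coe, ha]) (ne_empty a)
    rw [card_fixed, ← e, CfsgLib.M24E.fixS_conj, Finset.card_smul_finset, CfsgLib.M24E.fixS_q2a,
      card_ofMask (by norm_num)]
    decide +kernel
  rw [card_pt] at this
  omega

theorem no3 {x : Cfsg.Spor.M23} (h : orderOf x = 3) : no (zpowers x) GolayPt = 12 := by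
  have := no_prime (X := GolayPt) (f := 6) Nat.prime_three h fun a ha => by
    obtain ⟨r, -, e⟩ := CfsgLib.M24E.conj_q3a (M23_le_M24 a.2) (by rw [orderOf_coe, ha]) (ne_empty a)
    rw [card_fixed, ← e, CfsgLib.M24E.fixS_conj, Finset.card_smul_finset, CfsgLib.M24E.fixS_q3a,
      CfsgLib.M24E.card_ofMask_63]
  rw [card_pt] at this
  omega

theorem no5 {x : Cfsg.Spor.M23} (h : orderOf x = 5) : no (zpowers x) GolayPt = 8 := by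
  have := no_prime (X := GolayPt) (f := 4) Nat.prime_five h fun a ha => by
    rw [card_fixed]
    exact CfsgLib.MSub.fix5 (x := ⟨a, M23_le_M24 a.2⟩) (by rw [orderOf_mk, orderOf_coe, ha])
  rw [card_pt] at this
  omega

theorem no7 {x : Cfsg.Spor.M23} (h : orderOf x = 7) : no (zpowers x) GolayPt = 6 := by
  have := no_prime (X := GolayPt) (f := 3) Nat.prime_seven h fun a ha => by
    rw [card_fixed]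
    exact CfsgLib.MSub.fix7 (x := ⟨a, M23_le_M24 a.2⟩) (by rw [orderOf_mk, orderOf_coe, ha])
  rw [card_pt] at this
  omega


/-- Generation of the Mathieu group M₂₃ (the stabiliser of a point in the Mathieu group M₂₄ acting on 24 points) by triples of prime orders. Let p ≤ q ≤ r be primes dividing |M₂₃| = 10200960 = 2⁷·3²·5·7·11·23, not both p and q equal to 2. Then M₂₃ contains elements x, y, z of orders p, q, r with xyz = 1 and ⟨x, y⟩ = M₂₃ if and only if (p, q, r) is none of: (2, 3, r) for any r, (2, 5, 5), (2, 5, 7), (3, 3, 3), (3, 3, 5), (3, 3, 7). -/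
theorem result (p q r : ℕ) (hp : p.Prime) (hq : q.Prime)
    (hr : r.Prime) (hpq : p ≤ q) (hqr : q ≤ r) (hp2 : ¬ (p = 2 ∧ q = 2))
    (hdvd : p ∣ 10200960 ∧ q ∣ 10200960 ∧ r ∣ 10200960) :
    (∃ x y z : Cfsg.Spor.M23, orderOf x = p ∧ orderOf y = q ∧ orderOf z = r ∧ x * y * z = 1 ∧
        Subgroup.closure {x, y} = ⊤) ↔
      ¬ ((p = 2 ∧ q = 3) ∨ (p = 2 ∧ q = 5 ∧ r = 5) ∨ (p = 2 ∧ q = 5 ∧ r = 7) ∨ (p = 3 ∧ q = 3 ∧ r ≤ 7)) := by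
  have hp' := mem_of_dvd hp hdvd.1
  have hq' := mem_of_dvd hq hdvd.2.1
  have hr' := mem_of_dvd hr hdvd.2.2
  constructor
  · rintro ⟨x, y, z, hx, hy, hz, h1, h⟩ hc
    have hxy : orderOf (x * y) = r := by rw [eq_inv_of_mul_eq_one_left h1, orderOf_inv, hz]
    have hree := CfsgLib.TriGen.ree (X := GolayPt) h
    have h2 := no_M23
    rw [card_pt] at hree
    rcases hc with ⟨rfl, rfl⟩ | ⟨rfl, rfl, rfl⟩ | ⟨rfl, rfl, rfl⟩ | ⟨rfl, rfl, h7⟩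
    · have : 0 < no (zpowers (x * y)) GolayPt := Nat.card_pos_iff.2 ⟨⟨Quotient.mk'' none⟩, inferInstance⟩
      rw [no2 hx, no3 hy] at hree
      omega
    · rw [no2 hx, no5 hy, no5 hxy] at hree; omega
    · rw [no2 hx, no5 hy, no7 hxy] at hree; omega
    · simp only [List.mem_cons, List.not_mem_nil, or_false] at hr'
      obtain rfl | rfl | rfl : r = 3 ∨ r = 5 ∨ r = 7 := by omega
      · rw [no3 hx, no3 hy, no3 hxy] at hree; omega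
      · rw [no3 hx, no3 hy, no5 hxy] at hree; omega
      · rw [no3 hx, no3 hy, no7 hxy] at hree; omega
  · intro hc
    obtain ⟨e, he, rfl, rfl, rfl⟩ := cov p hp' q hq' r hr' hpq hqr hp2 hc
    exact pos ((allL_iff _ _).1 chkL e he) hp hq hr

end Cfsg.Agent.S5529
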