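import Cfsg.Statements.S5537
import Cfsg.Agent.Lib.Mon.CovF
import Cfsg.Agent.Lib.Mon.Ym
import Cfsg.Agent.Lib.Y333.Final
import Cfsg.Agent.Lib.MonS.Main

set_option autoImplicit false
open Cfsg

namespace Cfsg.Agent.S5537

/-- The Monster (realised inside the presented Bimonster) has a subgroup isomorphic to the Thompson sporadic group (the finitely presented group of the definitions). -/
theorem result : ∃ H : Subgroup Cfsg.Spor.Monster, Cfsg.Spor.IsoTh ↥H := by
  obtain ⟨π, τ, m, k, -⟩ := (CfsgLib.Mon.Ym.inputs CfsgLib.Y333.y333Card).exists_ms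
  exact CfsgLib.MonS.exists_isoTh k

end Cfsg.Agent.S5537
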