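import Cfsg.Statements.S5586
import Cfsg.Agent.Lib.MonRec.TrH
import Cfsg.Agent.Lib.Mon.CovF
import Cfsg.Agent.Lib.Mon.Ym
import Cfsg.Agent.Lib.Y333.Final

set_option autoImplicit false
open Cfsg

namespace Cfsg.Agent.S5586

open CfsgLib CfsgLib.MonRec

/-- The Monster is the only group generated by three subgroups C, N, L of the following kind: the largest normal 2-subgroup of C is extraspecial of order 2^25 of plus type, contains its centralizer in C, and has quotient C modulo it isomorphic to the first Conway group; N modulo its largest normal 2-subgroup is isomorphic to the direct product of the symmetric group of degree 3 and M₂₄; L modulo its largest normal 2-subgroup is the direct product of a normal subgroup isomorphic to L₃(2) and a normal subgroup B of order 2160 having a normal subgroup T of order 3 with B/T the symmetric group of degree 6, with T centralized by a subgroup of index 2 of B and with the commutator subgroup of B perfect of order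 1080 (the triple cover of the alternating group of degree 6 extended by an automorphism); and the indices [N : N ∩ C] = 3, [L : L ∩ N] = [L : L ∩ C] = 7 and [L : L ∩ N ∩ C] = 21. -/
theorem result {G : Type*} [Group G] (C N L : Subgroup G) (hgen : C ⊔ N ⊔ L = ⊤)
    (hQ : Cfsg.IsExtraspecial 2 ↥((Cfsg.pCore 2 ↥C).map C.subtype)) (hQc : Nat.card ↥((Cfsg.pCore 2 ↥C).map C.subtype) = 2 ^ 25)
    (hplus : ∃ E : Subgroup G, E ≤ ((Cfsg.pCore 2 ↥C).map C.subtype) ∧ Cfsg.IsElementaryAbelian 2 E ∧ Nat.card ↥E = 2 ^ 13)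
    (hcc : C ⊓ Subgroup.centralizer (((Cfsg.pCore 2 ↥C).map C.subtype) : Set G) ≤ ((Cfsg.pCore 2 ↥C).map C.subtype))
    (hCo : Cfsg.Spor.IsoCo1 (↥C ⧸ Cfsg.pCore 2 ↥C))
    (hN : Nonempty (↥N ⧸ Cfsg.pCore 2 ↥N ≃* Equiv.Perm (Fin 3) × ↥Cfsg.M24))
    (hL : ∃ A B : Subgroup (↥L ⧸ Cfsg.pCore 2 ↥L), A.Normal ∧ B.Normal ∧ A ⊓ B = ⊥ ∧ A ⊔ B = ⊤ ∧
      Nonempty (↥A ≃* Matrix.SpecialLinearGroup (Fin 3) (ZMod 2)) ∧ Nat.card ↥B = 2160 ∧
      ∃ (T : Subgroup ↥B) (_ : T.Normal), Nat.card ↥T = 3 ∧ Nonempty (↥B ⧸ T ≃* Equiv.Perm (Fin 6)) ∧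
        (Subgroup.centralizer (T : Set ↥B)).index = 2 ∧ Nat.card ↥(commutator ↥B) = 1080 ∧
        ⁅commutator ↥B, commutator ↥B⁆ = commutator ↥B)
    (hNC : C.relIndex N = 3) (hLN : N.relIndex L = 7) (hLC : C.relIndex L = 7) (hLNC : (N ⊓ C).relIndex L = 21) :
    Cfsg.Spor.IsoM G := by
  have : Finite C := by
    obtain ⟨i⟩ := hCo
    have : Finite (C ⧸ pCore 2 C) := Finite.of_equiv _ i.toEquiv.symm
    have : Finite (pCore 2 C) := Nat.finite_of_card_ne_zero (by
      rw [← Subgroup.card_map_of_injective C.subtype_injective, hQc]; norm_num)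
    exact Finite.of_equiv _ (Subgroup.groupEquivQuotientProdSubgroup (s := pCore 2 C)).symm
  have : Finite N := finite_of_relIndex (hNC.trans_ne (by norm_num))
  have : Finite L := finite_of_relIndex (hLC.trans_ne (by norm_num))
  obtain ⟨K, R, φ, ψ, σ, I⟩ := exists_ni hN hNC
  obtain ⟨A, B, -, _, h1, h2, ⟨e⟩, h3, -⟩ := hL
  obtain ⟨χ, h4, h5⟩ := exists_chi h1 h2 e h3
  obtain ⟨θ, h6, h7⟩ := exists_lt hQ hQc hcc hCo
  obtain ⟨θ, S⟩ := exists_su I ⟨this, h4, h5, hLN, hLC, hLNC⟩ h6 h7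
  obtain ⟨a⟩ := S.equiv hgen
  obtain ⟨b⟩ := (Mon.Ym.inputs Y333.y333Card).equiv
  exact ⟨a.symm.trans b⟩

end Cfsg.Agent.S5586
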