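import Cfsg.Statements.S5587
import Cfsg.Agent.Lib.MonRep.FinB
import Cfsg.Agent.Lib.Y333.Final
-- import your own Cfsg.Agent.* helpers here

set_option autoImplicit false
open Cfsg

namespace Cfsg.Agent.S5587

/-- Over any field F whose characteristic is not 2, the Baby Monster (the finitely presented group of the definitions) has a faithful linear representation of degree 4371; every such representation is irreducible over F, and any two are equivalent. -/
theorem result (F : Type*) [Field F] (hF : ringChar F ≠ 2) :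
    (∃ ρ : Cfsg.Spor.BabyMonster →* GL (Fin 4371) F, Function.Injective ρ) ∧
    ∀ ρ : Cfsg.Spor.BabyMonster →* GL (Fin 4371) F, Function.Injective ρ →
      (∀ W : Submodule F (Fin 4371 → F), (∀ g : Cfsg.Spor.BabyMonster, ∀ v ∈ W, (ρ g : Matrix (Fin 4371) (Fin 4371) F).mulVec v ∈ W) → W = ⊥ ∨ W = ⊤) ∧
      ∀ ρ' : Cfsg.Spor.BabyMonster →* GL (Fin 4371) F, Function.Injective ρ' →
        ∃ P : GL (Fin 4371) F, ∀ g : Cfsg.Spor.BabyMonster, ρ' g = P * ρ g * P⁻¹ := by
  have I := CfsgLib.Mon.Ym.inputs CfsgLib.Y333.y333Card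
  obtain ⟨e, h1, h2⟩ := I.babyU
  have := I.isB.1
  have : Finite Cfsg.Spor.BabyMonster := Nat.finite_of_card_ne_zero (by rw [I.isB.2]; norm_num)
  exact CfsgLib.MonRep.core5587 h1 h2 hF

end Cfsg.Agent.S5587
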