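import Mathlib
import Cfsg.Statements.S5610
import Cfsg.Agent.Lib.M24E.Pairs

set_option autoImplicit false
open scoped Pointwise
open Cfsg

namespace Cfsg.Agent.S5610

open CfsgLib.M24E CfsgLib.Golay

theorem a_64 : {b | b ∈ Cfsg.trios ∧ (f1 (ofMask 5279)) b = 64}.ncard = 14 + 1 :=
  (level_trios (f1 (ofMask 5279)) (f1K 5279) (fun _ => f1_mask (show 5279 < 2 ^ 24 by norm_num)) 64).trans (by decide +kernel)

theorem a_32 : {b | b ∈ Cfsg.trios ∧ (f1 (ofMask 5279)) b = 32}.ncard = 419 + 1 :=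
  (level_trios (f1 (ofMask 5279)) (f1K 5279) (fun _ => f1_mask (show 5279 < 2 ^ 24 by norm_num)) 32).trans (by decide +kernel)

theorem a_24 : {b | b ∈ Cfsg.trios ∧ (f1 (ofMask 5279)) b = 24}.ncard = 3359 + 1 :=
  (level_trios (f1 (ofMask 5279)) (f1K 5279) (fun _ => f1_mask (show 5279 < 2 ^ 24 by norm_num)) 24).trans (by decide +kernel)

theorem a_vals : ∀ b ∈ Cfsg.trios, (f1 (ofMask 5279)) b = 64 ∨ (f1 (ofMask 5279)) b = 32 ∨ (f1 (ofMask 5279)) b = 24 := fun b hb => by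
  simpa using vals_trios (f1 (ofMask 5279)) (f1K 5279) (fun _ => f1_mask (show 5279 < 2 ^ 24 by norm_num))
    [64, 32, 24] (by decide +kernel) b hb

theorem b_32 : {b | b ∈ Cfsg.sextets ∧ (f1 (ofMask 5279)) b = 32}.ncard = 34 + 1 :=
  (level_sextets (f1 (ofMask 5279)) (f1K 5279) (fun _ => f1_mask (show 5279 < 2 ^ 24 by norm_num)) 32).trans (by decide +kernel)

theorem b_16 : {b | b ∈ Cfsg.sextets ∧ (f1 (ofMask 5279)) b = 16}.ncard = 839 + 1 :=
  (level_sextets (f1 (ofMask 5279)) (f1K 5279) (fun _ => f1_mask (show 5279 < 2 ^ 24 by norm_num)) 16).trans (by decide +kernel)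

theorem b_14 : {b | b ∈ Cfsg.sextets ∧ (f1 (ofMask 5279)) b = 14}.ncard = 895 + 1 :=
  (level_sextets (f1 (ofMask 5279)) (f1K 5279) (fun _ => f1_mask (show 5279 < 2 ^ 24 by norm_num)) 14).trans (by decide +kernel)

theorem b_vals : ∀ b ∈ Cfsg.sextets, (f1 (ofMask 5279)) b = 32 ∨ (f1 (ofMask 5279)) b = 16 ∨ (f1 (ofMask 5279)) b = 14 := fun b hb => by
  simpa using vals_sextets (f1 (ofMask 5279)) (f1K 5279) (fun _ => f1_mask (show 5279 < 2 ^ 24 by norm_num))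
    [32, 16, 14] (by decide +kernel) b hb


/-- The stabiliser of an octad in the group of the length-24 code has exactly three orbits on the 3795 trios, of sizes 15, 420 and 3360, and exactly three orbits on the 1771 sextets, of sizes 35, 840 and 896. -/
theorem result (o : Finset Cfsg.GolayPt) (ho : o ∈ Cfsg.octads) : (∃ X₁ ∈ Cfsg.trios, ∃ X₂ ∈ Cfsg.trios, ∃ X₃ ∈ Cfsg.trios, (MulAction.orbit ↥(MulAction.stabilizer Cfsg.M24 o) X₁).ncard = 15 ∧ (MulAction.orbit ↥(MulAction.stabilizer Cfsg.M24 o) X₂).ncard = 420 ∧ (MulAction.orbit ↥(MulAction.stabilizer Cfsg.M24 o) X₃).ncard = 3360 ∧ Cfsg.trios = MulAction.orbit ↥(MulAction.stabilizer Cfsg.M24 o) X₁ ∪ MulAction.orbit ↥(MulAction.stabilizer Cfsg.M24 o) X₂ ∪ MulAction.orbit ↥(MulAction.stabilizer Cfsg.M24 o) X₃) ∧ (∃ Y₁ ∈ Cfsg.sextets, ∃ Y₂ ∈ Cfsg.sextets, ∃ Y₃ ∈ Cfsg.sextets, (MulAction.orbit ↥(MulAction.stabilizer Cfsg.M24 o) Y₁).ncard = 35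 ∧ (MulAction.orbit ↥(MulAction.stabilizer Cfsg.M24 o) Y₂).ncard = 840 ∧ (MulAction.orbit ↥(MulAction.stabilizer Cfsg.M24 o) Y₃).ncard = 896 ∧ Cfsg.sextets = MulAction.orbit ↥(MulAction.stabilizer Cfsg.M24 o) Y₁ ∪ MulAction.orbit ↥(MulAction.stabilizer Cfsg.M24 o) Y₂ ∪ MulAction.orbit ↥(MulAction.stabilizer Cfsg.M24 o) Y₃) := by
  exact ⟨PT.orbits3 pt_trio_octad.swap inv_trios inv2_f1 octad_trans a_64 a_32 a_24 a_vals ho,
    PT.orbits3 pt_octad_sextet inv_sextets inv2_f1 octad_trans b_32 b_16 b_14 b_vals ho⟩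

end Cfsg.Agent.S5610
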