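import Mathlib
import Cfsg.Statements.S5611
import Cfsg.Agent.Lib.M24E.Pairs

set_option autoImplicit false
open scoped Pointwise
open Cfsg

namespace Cfsg.Agent.S5611

open CfsgLib.M24E CfsgLib.Golay

def sx0 : List ℕ := [8388615, 147496, 4268048, 2621632, 268544, 1082880]

theorem sx0_good : Good sx0 := by decide +kernel

theorem sx0_mem : fam sx0 ∈ Cfsg.sextets := (isSx_spec sx0_good.2 rfl (by decide +kernel)).2

theorem a_32 : {b | b ∈ Cfsg.octads ∧ (fun o => f1 o (fam sx0)) b = 32}.ncard = 14 + 1 :=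
  (level_octads (fun o => f1 o (fam sx0)) (fun m => f1K m sx0) (fun _ hm => f1_mask hm sx0_good) 32).trans (by decide +kernel)

theorem a_16 : {b | b ∈ Cfsg.octads ∧ (fun o => f1 o (fam sx0)) b = 16}.ncard = 359 + 1 :=
  (level_octads (fun o => f1 o (fam sx0)) (fun m => f1K m sx0) (fun _ hm => f1_mask hm sx0_good) 16).trans (by decide +kernel)

theorem a_14 : {b | b ∈ Cfsg.octads ∧ (fun o => f1 o (fam sx0)) b = 14}.ncard = 383 + 1 :=
  (level_octads (fun o => f1 o (fam sx0)) (fun m => f1K m sx0) (fun _ hm => f1_mask hm sx0_good) 14).trans (by decide +kernel)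

theorem a_vals : ∀ b ∈ Cfsg.octads, (fun o => f1 o (fam sx0)) b = 32 ∨ (fun o => f1 o (fam sx0)) b = 16 ∨ (fun o => f1 o (fam sx0)) b = 14 := fun b hb => by
  simpa using vals_octads (fun o => f1 o (fam sx0)) (fun m => f1K m sx0) (fun _ hm => f1_mask hm sx0_good)
    [32, 16, 14] (by decide +kernel) b hb

theorem b_96 : {b | b ∈ Cfsg.trios ∧ (fun T => f2 T (fam sx0)) b = 96}.ncard = 14 + 1 :=
  (level_trios (fun T => f2 T (fam sx0)) (fun l => f2K l sx0) (fun _ hl => f2_mask hl sx0_good) 96).trans (by decide +kernel)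

theorem b_64 : {b | b ∈ Cfsg.trios ∧ (fun T => f2 T (fam sx0)) b = 64}.ncard = 179 + 1 :=
  (level_trios (fun T => f2 T (fam sx0)) (fun l => f2K l sx0) (fun _ hl => f2_mask hl sx0_good) 64).trans (by decide +kernel)

theorem b_48 : {b | b ∈ Cfsg.trios ∧ (fun T => f2 T (fam sx0)) b = 48}.ncard = 719 + 1 :=
  (level_trios (fun T => f2 T (fam sx0)) (fun l => f2K l sx0) (fun _ hl => f2_mask hl sx0_good) 48).trans (by decide +kernel)

theorem b_44 : {b | b ∈ Cfsg.trios ∧ (fun T => f2 T (fam sx0)) b = 44}.ncard = 2879 + 1 :=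
  (level_trios (fun T => f2 T (fam sx0)) (fun l => f2K l sx0) (fun _ hl => f2_mask hl sx0_good) 44).trans (by decide +kernel)

theorem b_vals : ∀ b ∈ Cfsg.trios, (fun T => f2 T (fam sx0)) b = 96 ∨ (fun T => f2 T (fam sx0)) b = 64 ∨ (fun T => f2 T (fam sx0)) b = 48 ∨ (fun T => f2 T (fam sx0)) b = 44 := fun b hb => by
  simpa using vals_trios (fun T => f2 T (fam sx0)) (fun l => f2K l sx0) (fun _ hl => f2_mask hl sx0_good)
    [96, 64, 48, 44] (by decide +kernel) b hb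


/-- The stabiliser of a sextet in the group of the length-24 code has exactly three orbits on the 759 octads, of sizes 15, 360 and 384, and exactly four orbits on the 3795 trios, of sizes 15, 180, 720 and 2880. -/
theorem result (S : Finset (Finset Cfsg.GolayPt)) (hS : S ∈ Cfsg.sextets) : (∃ X₁ ∈ Cfsg.octads, ∃ X₂ ∈ Cfsg.octads, ∃ X₃ ∈ Cfsg.octads, (MulAction.orbit ↥(MulAction.stabilizer Cfsg.M24 S) X₁).ncard = 15 ∧ (MulAction.orbit ↥(MulAction.stabilizer Cfsg.M24 S) X₂).ncard = 360 ∧ (MulAction.orbit ↥(MulAction.stabilizer Cfsg.M24 S) X₃).ncard = 384 ∧ Cfsg.octads = MulAction.orbit ↥(MulAction.stabilizer Cfsg.M24 S) X₁ ∪ MulAction.orbit ↥(MulAction.stabilizer Cfsg.M24 S) X₂ ∪ MulAction.orbit ↥(MulAction.stabilizer Cfsg.M24 S) X₃) ∧ (∃ Y₁ ∈ Cfsg.trios, ∃ Y₂ ∈ Cfsg.trios, ∃ Y₃ ∈ Cfsg.trios, ∃ Y₄ ∈ Cfsg.trios, (MulAction.orbit ↥(MulAction.stabilizer Cfsg.M24 S) Y₁).ncard = 15 ∧ (MulAction.orbit ↥(MulAction.stabilizer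 Cfsg.M24 S) Y₂).ncard = 180 ∧ (MulAction.orbit ↥(MulAction.stabilizer Cfsg.M24 S) Y₃).ncard = 720 ∧ (MulAction.orbit ↥(MulAction.stabilizer Cfsg.M24 S) Y₄).ncard = 2880 ∧ Cfsg.trios = MulAction.orbit ↥(MulAction.stabilizer Cfsg.M24 S) Y₁ ∪ MulAction.orbit ↥(MulAction.stabilizer Cfsg.M24 S) Y₂ ∪ MulAction.orbit ↥(MulAction.stabilizer Cfsg.M24 S) Y₃ ∪ MulAction.orbit ↥(MulAction.stabilizer Cfsg.M24 S) Y₄) := by
  exact ⟨PT.orbits3 pt_octad_sextet.swap inv_octads inv2_f1.swap (fun _ h => sextet_trans sx0_mem h) a_32 a_16 a_14 a_vals hS,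
    PT.orbits4 pt_trio_sextet.swap inv_trios inv2_f2.swap (fun _ h => sextet_trans sx0_mem h) b_96 b_64 b_48 b_44 b_vals hS⟩

end Cfsg.Agent.S5611
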