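import Mathlib
import Cfsg.Statements.S5612
import Cfsg.Agent.Lib.M24E.Pairs

set_option autoImplicit false
open scoped Pointwise
open Cfsg

namespace Cfsg.Agent.S5612

open CfsgLib.M24E CfsgLib.Golay

set_option maxRecDepth 100000

theorem a_64 : {b | b ∈ Cfsg.octads ∧ (fun o => f1 o (fam tr0)) b = 64}.ncard = 2 + 1 :=
  (level_octads (fun o => f1 o (fam tr0)) (fun m => f1K m tr0) (fun _ hm => f1_mask hm tr0_good) 64).trans (by decide +kernel)

theorem a_32 : {b | b ∈ Cfsg.octads ∧ (fun o => f1 o (fam tr0)) b = 32}.ncard = 83 + 1 :=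
  (level_octads (fun o => f1 o (fam tr0)) (fun m => f1K m tr0) (fun _ hm => f1_mask hm tr0_good) 32).trans (by decide +kernel)

theorem a_24 : {b | b ∈ Cfsg.octads ∧ (fun o => f1 o (fam tr0)) b = 24}.ncard = 671 + 1 :=
  (level_octads (fun o => f1 o (fam tr0)) (fun m => f1K m tr0) (fun _ hm => f1_mask hm tr0_good) 24).trans (by decide +kernel)

theorem a_vals : ∀ b ∈ Cfsg.octads, (fun o => f1 o (fam tr0)) b = 64 ∨ (fun o => f1 o (fam tr0)) b = 32 ∨ (fun o => f1 o (fam tr0)) b = 24 := fun b hb => by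
  simpa using vals_octads (fun o => f1 o (fam tr0)) (fun m => f1K m tr0) (fun _ hm => f1_mask hm tr0_good)
    [64, 32, 24] (by decide +kernel) b hb

theorem b_96 : {b | b ∈ Cfsg.sextets ∧ (f2 (fam tr0)) b = 96}.ncard = 6 + 1 :=
  (level_sextets (f2 (fam tr0)) (f2K tr0) (fun _ hl => f2_mask tr0_good hl) 96).trans (by decide +kernel)

theorem b_64 : {b | b ∈ Cfsg.sextets ∧ (f2 (fam tr0)) b = 64}.ncard = 83 + 1 :=
  (level_sextets (f2 (fam tr0)) (f2K tr0) (fun _ hl => f2_mask tr0_good hl) 64).trans (by decide +kernel)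

theorem b_48 : {b | b ∈ Cfsg.sextets ∧ (f2 (fam tr0)) b = 48}.ncard = 335 + 1 :=
  (level_sextets (f2 (fam tr0)) (f2K tr0) (fun _ hl => f2_mask tr0_good hl) 48).trans (by decide +kernel)

theorem b_44 : {b | b ∈ Cfsg.sextets ∧ (f2 (fam tr0)) b = 44}.ncard = 1343 + 1 :=
  (level_sextets (f2 (fam tr0)) (f2K tr0) (fun _ hl => f2_mask tr0_good hl) 44).trans (by decide +kernel)

theorem b_vals : ∀ b ∈ Cfsg.sextets, (f2 (fam tr0)) b = 96 ∨ (f2 (fam tr0)) b = 64 ∨ (f2 (fam tr0)) b = 48 ∨ (f2 (fam tr0)) b = 44 := fun b hb => by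
  simpa using vals_sextets (f2 (fam tr0)) (f2K tr0) (fun _ hl => f2_mask tr0_good hl)
    [96, 64, 48, 44] (by decide +kernel) b hb


/-- The stabiliser of a trio in the group of the length-24 code has exactly three orbits on the 759 octads, of sizes 3, 84 and 672, and exactly four orbits on the 1771 sextets, of sizes 7, 84, 336 and 1344. -/
theorem result (T : Finset (Finset Cfsg.GolayPt)) (hT : T ∈ Cfsg.trios) : (∃ X₁ ∈ Cfsg.octads, ∃ X₂ ∈ Cfsg.octads, ∃ X₃ ∈ Cfsg.octads, (MulAction.orbit ↥(MulAction.stabilizer Cfsg.M24 T) X₁).ncard = 3 ∧ (MulAction.orbit ↥(MulAction.stabilizer Cfsg.M24 T) X₂).ncard = 84 ∧ (MulAction.orbit ↥(MulAction.stabilizer Cfsg.M24 T) X₃).ncard = 672 ∧ Cfsg.octads = MulAction.orbit ↥(MulAction.stabilizer Cfsg.M24 T) X₁ ∪ MulAction.orbit ↥(MulAction.stabilizer Cfsg.M24 T) X₂ ∪ MulAction.orbit ↥(MulAction.stabilizer Cfsg.M24 T) X₃) ∧ (∃ Y₁ ∈ Cfsg.sextets, ∃ Y₂ ∈ Cfsg.sextets,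 ∃ Y₃ ∈ Cfsg.sextets, ∃ Y₄ ∈ Cfsg.sextets, (MulAction.orbit ↥(MulAction.stabilizer Cfsg.M24 T) Y₁).ncard = 7 ∧ (MulAction.orbit ↥(MulAction.stabilizer Cfsg.M24 T) Y₂).ncard = 84 ∧ (MulAction.orbit ↥(MulAction.stabilizer Cfsg.M24 T) Y₃).ncard = 336 ∧ (MulAction.orbit ↥(MulAction.stabilizer Cfsg.M24 T) Y₄).ncard = 1344 ∧ Cfsg.sextets = MulAction.orbit ↥(MulAction.stabilizer Cfsg.M24 T) Y₁ ∪ MulAction.orbit ↥(MulAction.stabilizer Cfsg.M24 T) Y₂ ∪ MulAction.orbit ↥(MulAction.stabilizer Cfsg.M24 T) Y₃ ∪ MulAction.orbit ↥(MulAction.stabilizer Cfsg.M24 T) Y₄) := by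
  exact ⟨PT.orbits3 pt_trio_octad inv_octads inv2_f1.swap (fun _ h => trio_trans tr0_mem h) a_64 a_32 a_24 a_vals hT,
    PT.orbits4 pt_trio_sextet inv_sextets inv2_f2 (fun _ h => trio_trans tr0_mem h) b_96 b_64 b_48 b_44 b_vals hT⟩

end Cfsg.Agent.S5612
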