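import Cfsg.Statements.S5629
import Cfsg.Agent.Lib.J4T.Iso
import Cfsg.Agent.Lib.J4.Simple
import Cfsg.Agent.Lib.Core.MinNormal

set_option autoImplicit false
open Cfsg

namespace Cfsg.Agent.S5629

open CfsgLib.DCE in
theorem mem_orbit {J G : Type*} [Group J] [Group G] (ψ : J ≃* G) {Λ : Subgroup J} {N : Subgroup G}
    (h : ∀ x, ψ x ∈ N ↔ x ∈ Λ) (w x : J) :
    ((ψ x : G) : G ⧸ N) ∈ MulAction.orbit N ((ψ w : G) : G ⧸ N) ↔ x ∈ DCs Λ.subtype w := by
  constructor
  · rintro ⟨⟨n, hn⟩, e⟩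
    obtain ⟨n, rfl⟩ := ψ.surjective n
    have e1 : (ψ n * ψ w)⁻¹ * ψ x ∈ N := QuotientGroup.eq.1 e
    rw [← map_mul, ← map_inv, ← map_mul, h] at e1
    exact ⟨⟨n, (h n).1 hn⟩, ⟨_, e1⟩, by simp [mul_assoc]⟩
  · rintro ⟨a, b, rfl⟩
    refine ⟨⟨ψ a, (h _).2 a.2⟩, QuotientGroup.eq.2 ?_⟩
    change (ψ a * ψ w)⁻¹ * _ ∈ N
    rw [← map_mul, ← map_inv, ← map_mul, h]
    simp [mul_assoc]

open CfsgLib.DCE in
theorem ncard_orbit {J G : Type*} [Group J] [Group G] (ψ : J ≃* G) {Λ : Subgroup J} {N : Subgroup G}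
    (h : ∀ x, ψ x ∈ N ↔ x ∈ Λ) (w : J) :
    (MulAction.orbit N ((ψ w : G) : G ⧸ N)).ncard = (Orb Λ.subtype w).ncard := by
  let β : J ⧸ Λ.subtype.range ≃ G ⧸ N := Quotient.congr ψ.toEquiv fun a b => by
    rw [QuotientGroup.leftRel_apply, QuotientGroup.leftRel_apply, Subgroup.range_subtype, ← h]
    simp
  rw [← Set.ncard_image_of_injective _ β.injective]
  congr 1
  ext y
  obtain ⟨y, rfl⟩ := β.surjective y
  obtain ⟨y, rfl⟩ := QuotientGroup.mk_surjective y
  rw [β.injective.mem_set_image, mk_mem_Orb]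
  exact mem_orbit ψ h w y

open CfsgLib.J4 in
theorem cover (q : Spor.J4) : ∃ i < 7, q ∈ CfsgLib.DCE.DCs LamJ.subtype (WJ i) := tab.cover q


/-- Let G be a finite non-abelian simple group of Janko-four type (an involution z whose centralizer H has an extraspecial largest normal 2-subgroup E of order 2^13 containing its centralizer in H, a normal subgroup N ≥ E of H with N/E of order 3 and H/N the automorphism group of M₂₂, and a subgroup P ≤ N of order 3 with C_E(P) = ⟨z⟩, N_H(P) ≠ C_H(P) and P ≤ C_H(P)′), and let V be an elementary abelian subgroup of G of order 2^11. Then the normalizer of V has index 173067389 in G, and in the action of G on the cosets of this normalizer the normalizer itself has exactly seven orbits, of sizes 1, 15180, 28336, 3400320, 32643072, 54405120 and 82575360 (a rank-7 permutation representation). -/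
theorem result {G : Type*} [Group G] [Finite G] [IsSimpleGroup G] (hG : ¬ IsMulCommutative G) (z : G) (hJ : Cfsg.IsOfJankoFourTypeAt z) (V : Subgroup G) (hV : Cfsg.IsElementaryAbelian 2 V) (hcard : Nat.card ↥V = 2 ^ 11) : (Subgroup.normalizer (V : Set G)).index = 173067389 ∧ ∃ c : Fin 7 → G ⧸ Subgroup.normalizer (V : Set G), (∀ i j : Fin 7, i ≠ j → MulAction.orbit ↥(Subgroup.normalizer (V : Set G)) (c i) ≠ MulAction.orbit ↥(Subgroup.normalizer (V : Set G)) (c j)) ∧ (∀ q : G ⧸ Subgroup.normalizer (V : Set G), ∃ i : Fin 7, q ∈ MulAction.orbit ↥(Subgroup.normalizer (V : Set G)) (c i)) ∧ (List.ofFn fun i => (MulAction.orbit ↥(Subgroup.normalizer (V : Set G)) (c i)).ncard) = [1, 15180, 28336, 3400320, 32643072, 54405120, 82575360] := by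
  obtain ⟨j, hj, -⟩ := CfsgLib.J4T.good_of_at hG hJ
  obtain ⟨e⟩ := hj.isoJ4
  obtain ⟨g, hg⟩ := hj.full.uniq V hV hcard
  obtain ⟨k, hk⟩ := hj.full.uniq (CfsgLib.J4.hypJ.Q.map e.symm.toMonoidHom)
    (CfsgLib.Core.isElementaryAbelian_map ⟨⟨⟨fun a b => Subtype.ext (CfsgLib.J4.hypJ.Q_comm a.2 b.2)⟩⟩, by
      rintro _ ⟨a, ha, rfl⟩
      rw [pow_two]; exact CfsgLib.J4.hypJ.phi_sq a⟩ _)
    (by rw [Subgroup.card_map_of_injective e.symm.injective, CfsgLib.J4.hypJ.card_Q CfsgLib.J4.uu_ne]; rfl)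
  let ψ : Spor.J4 ≃* G := e.symm.trans (MulAut.conj (g * k⁻¹))
  have h1 : CfsgLib.J4.hypJ.Q.map ψ.toMonoidHom = V := by
    rw [show ψ.toMonoidHom = (MulAut.conj (g * k⁻¹)).toMonoidHom.comp e.symm.toMonoidHom from rfl,
      ← Subgroup.map_map, hk, hg, Subgroup.map_map]
    congr 1
    ext x
    simp [mul_assoc]
  have h2 : CfsgLib.J4.LamJ.map ψ.toMonoidHom = Subgroup.normalizer (V : Set G) := by
    rw [← CfsgLib.J4.normalizer_Q, ← h1]
    exact Subgroup.map_equiv_normalizer_eq _ ψ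
  have h : ∀ x, ψ x ∈ Subgroup.normalizer (V : Set G) ↔ x ∈ CfsgLib.J4.LamJ := fun x => by
    rw [← h2]; exact Subgroup.mem_map_iff_mem (f := ψ.toMonoidHom) ψ.injective
  have h3 : ∀ i : Fin 7, (MulAction.orbit (Subgroup.normalizer (V : Set G))
      ((ψ (CfsgLib.J4.WJ (![0, 1, 4, 2, 3, 5, 6] i)) : G) : G ⧸ Subgroup.normalizer (V : Set G))).ncard =
      ![1, 15180, 28336, 3400320, 32643072, 54405120, 82575360] i := fun i => by
    rw [ncard_orbit ψ h, CfsgLib.J4.ncard_Orb _ (by decide +revert)]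
    decide +revert
  refine ⟨by rw [← h2, Subgroup.index_map_of_bijective ψ.bijective, CfsgLib.J4.index_Lam],
    fun i => (ψ (CfsgLib.J4.WJ (![0, 1, 4, 2, 3, 5, 6] i)) : G), fun i j hij e => hij ?_, fun q => ?_, ?_⟩
  · have h4 := congrArg Set.ncard e
    rw [h3, h3] at h4
    clear * - h4
    decide +revert
  · obtain ⟨q, rfl⟩ := QuotientGroup.mk_surjective q
    obtain ⟨q, rfl⟩ := ψ.surjective q
    obtain ⟨i, hi, h4⟩ := cover q
    obtain ⟨j, rfl⟩ : ∃ j : Fin 7, ![0, 1, 4, 2, 3, 5, 6] j = i := by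
      clear * - hi
      decide +revert
    exact ⟨j, (mem_orbit ψ h _ _).2 h4⟩
  · simp only [h3]
    decide

end Cfsg.Agent.S5629
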