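import Cfsg.Statements.S5728
-- import your own Cfsg.Agent.* helpers here

set_option autoImplicit false
open Cfsg

namespace Cfsg.Agent.S5728

/-- An elusive transitive action. Let p = 2^s − 1 be a prime and let F be the field with p² elements. Inside the group of affine maps x ↦ a·x + b of F (a ≠ 0), consider the subgroup of maps with both coefficients in the prime field. Then every element of prime order of the affine group is conjugate, within the affine group, to an element of that subgroup; equivalently, in the transitive action of the affine group on the cosets of that subgroup (of degree p(p + 1)) every element of prime order fixes a point. -/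
theorem result (p s : ℕ) [Fact p.Prime] (hs : p = 2 ^ s - 1)
    (g : Equiv.Perm (GaloisField p 2)) (hg : g ∈ Cfsg.affineGroup (GaloisField p 2)) (hord : (orderOf g).Prime) :
    ∃ x ∈ Cfsg.affineGroup (GaloisField p 2), ∃ a b : ZMod p, a ≠ 0 ∧
      ∀ y : GaloisField p 2, (x * g * x⁻¹) y = algebraMap (ZMod p) (GaloisField p 2) a * y + algebraMap (ZMod p) (GaloisField p 2) b := by
  have hp : p.Prime := Fact.out
  obtain ⟨a, b, hab⟩ := hg
  have mk : ∀ (c : (GaloisField p 2)ˣ) (d : GaloisField p 2),
      ∃ x ∈ Cfsg.affineGroup (GaloisField p 2), (∀ y, x y = (c : GaloisField p 2) * y + d) ∧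
        ∀ y, x⁻¹ y = (c⁻¹ : (GaloisField p 2)ˣ) * (y - d) := by
    intro c d
    refine ⟨(Units.mulLeft c).trans (Equiv.addRight d), ⟨c, d, fun y => rfl⟩, fun y => rfl, fun y => ?_⟩
    rw [Equiv.Perm.inv_eq_iff_eq]
    simp
  by_cases ha : (a : GaloisField p 2) = 1
  · have hb : b ≠ 0 := by
      rintro rfl
      have : g = 1 := Equiv.ext fun y => by simp [hab, ha]
      rw [this, orderOf_one] at hord
      exact Nat.not_prime_one hord
    obtain ⟨x, hx, h1, h2⟩ := mk (Units.mk0 b hb)⁻¹ 0
    refine ⟨x, hx, 1, 1, one_ne_zero, fun y => ?_⟩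
    simp only [Equiv.Perm.mul_apply, h1, h2, hab, ha]
    simp
    field_simp
  · have ha' : (a : GaloisField p 2) - 1 ≠ 0 := sub_ne_zero.2 ha
    obtain ⟨x, hx, h1, h2⟩ := mk 1 (b / (a - 1))
    have hconj : ∀ y, (x * g * x⁻¹) y = a * y := by
      intro y
      simp only [Equiv.Perm.mul_apply, h1, h2, hab]
      simp
      field_simp
      ring
    have hpow : ∀ (k : ℕ) y, ((x * g * x⁻¹) ^ k) y = (a : GaloisField p 2) ^ k * y := by
      intro k
      induction k with
      | zero => simp
      | succ k ih => intro y; rw [pow_succ', Equiv.Perm.mul_apply, ih, hconj]; ring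
    have har : (a : GaloisField p 2) ^ orderOf g = 1 := by
      have := hpow (orderOf g) 1
      rw [conj_pow, pow_orderOf_eq_one] at this
      simpa using this.symm
    have hap : (a : GaloisField p 2) ^ p = a := by
      have hcard : Nat.card (GaloisField p 2) = p ^ 2 := GaloisField.card p 2 two_ne_zero
      have hoa : orderOf a = orderOf g := by
        have := Fact.mk hord
        refine orderOf_eq_prime (Units.ext (by simpa using har)) fun h => ha (by simp [h])
      have hd : orderOf g ∣ (p + 1) * (p - 1) := by
        rw [← hoa, ← Nat.sq_sub_sq p 1, one_pow, ← hcard, ← Nat.card_units]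
        exact orderOf_dvd_natCard a
      have hs1 : p + 1 = 2 ^ s := by have := Nat.one_le_two_pow (n := s); omega
      have hd' : orderOf g ∣ p - 1 := by
        rcases (Nat.Prime.dvd_mul hord).1 hd with h | h
        · rw [hs1] at h
          have h2 := (Nat.prime_dvd_prime_iff_eq hord Nat.prime_two).1 (hord.dvd_of_dvd_pow h)
          rw [h2]
          have hs0 : s ≠ 0 := by rintro rfl; have := hp.pos; omega
          have : 2 ∣ p + 1 := hs1 ▸ dvd_pow_self 2 hs0
          have := hp.pos
          omega
        · exact h
      obtain ⟨k, hk⟩ := hd'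
      have : p = orderOf g * k + 1 := by have := hp.pos; omega
      calc (a : GaloisField p 2) ^ p = (a : GaloisField p 2) ^ (orderOf g * k + 1) :=
            congrArg (fun e => (a : GaloisField p 2) ^ e) this
        _ = a := by rw [pow_succ, pow_mul, har, one_pow, one_mul]
    have hmem := (Subfield.mem_bot_iff_pow_eq_self (GaloisField p 2) p).2 hap
    rw [← ZMod.fieldRange_castHom_eq_bot p] at hmem
    obtain ⟨c, hc⟩ := hmem
    have hc' : algebraMap (ZMod p) (GaloisField p 2) c = a := by
      rw [← hc]; exact congrFun (congrArg DFunLike.coe (Subsingleton.elim _ _)) c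
    refine ⟨x, hx, c, 0, fun h => a.ne_zero (by rw [← hc', h, map_zero]), fun y => ?_⟩
    rw [hconj, hc', map_zero, add_zero]

end Cfsg.Agent.S5728
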