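import Cfsg.Statements.S5732
import Cfsg.Agent.Lib.DIX.Main

set_option autoImplicit false
open Cfsg

namespace Cfsg.Agent.S5732

/-- There is a bound N such that for every finite group G acting faithfully and transitively on a set with n ≥ N points, either G is primitive and a Frobenius permutation group (Frobenius as a permutation group: transitive, some non-identity element fixes a point, and no non-identity element fixes two points), or the subgroup generated by the derangements of G has index at most √n − 1 in G. -/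
theorem result : ∃ N : ℕ, ∀ (G Ω : Type*) [Group G] [Finite G] [MulAction G Ω] [FaithfulSMul G Ω] [Fintype Ω],
      MulAction.IsPretransitive G Ω → N ≤ Fintype.card Ω →
      (MulAction.IsPreprimitive G Ω ∧ (MulAction.IsPretransitive G Ω ∧ (∃ g : G, g ≠ 1 ∧ ∃ ω : Ω, g • ω = ω) ∧ ∀ g : G, g ≠ 1 → Nat.card (MulAction.fixedBy Ω g) ≤ 1)) ∨
      ((Subgroup.closure {g : G | ∀ ω : Ω, g • ω ≠ ω}).index : ℝ) ≤ Real.sqrt (Fintype.card Ω) - 1 := by
  refine ⟨4, fun G Ω _ _ _ _ _ htr h4 => ?_⟩
  rw [← Nat.card_eq_fintype_card] at h4 ⊢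
  have h := CfsgLib.DIX.dat_derSub (G := G) (Ω := Ω)
  by_cases hn : ((CfsgLib.Recog.derSub G Ω).index + 1) ^ 2 ≤ Nat.card Ω
  · exact Or.inr (CfsgLib.DIX.real_bound hn)
  refine Or.inl ⟨by_contra fun hp => hn (h.imp hp), htr, ?_,
    fun g hg => h.frob (by omega) (not_le.1 hn) hg⟩
  have hD : CfsgLib.Recog.derSub G Ω ≠ ⊤ := fun e => hn (by rw [e, Subgroup.index_top]; omega)
  haveI : Nontrivial Ω := Finite.one_lt_card_iff_nontrivial.1 (by omega)
  obtain ⟨a⟩ : Nonempty Ω := inferInstance
  obtain ⟨x, hx, hxa⟩ := h.exists_stab hD a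
  exact ⟨x, fun e => hx (e ▸ Subgroup.one_mem _), a, hxa⟩

end Cfsg.Agent.S5732
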