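import Mathlib
import Cfsg.Statements.S5742
import Cfsg.Agent.Lib.ChevFold.Fi22
import Cfsg.Agent.Lib.Comput.CentExt2
import Cfsg.Agent.S2079

set_option autoImplicit false
open Cfsg

namespace Cfsg.Agent.S5742

/-- The simple group ²E₆(2) (the twisted group of type E₆ over the field with 4 elements) contains at least three pairwise non-conjugate subgroups isomorphic to the Fischer group Fi₂₂. -/
theorem result {K : Type*} [Field K] [Fintype K] (hK : Fintype.card K = 4) :
    ∃ H : Fin 3 → Subgroup (Cfsg.Lie.twistedE6 K 2),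
      (∀ i, Cfsg.Spor.IsoFi22 (H i)) ∧
      (∀ i j, i ≠ j → ∀ g : (Cfsg.Lie.twistedE6 K 2), (H i).map (MulAut.conj g).toMonoidHom ≠ H j) := by
  have : CharP K 2 := charP_of_card_eq_prime_pow (f := 2) hK
  obtain ⟨ω, hω⟩ := CfsgLib.Comput.exists_omega hK
  obtain ⟨ψ, h1, h2, h3⟩ := CfsgLib.ChevFold.exists_fi22Hom (ω := Units.mk0 ω (CfsgLib.Comput.omega_ne_zero hω)) hω
  exact CfsgLib.ChevFold.three_classes hK Cfsg.Agent.S2079.result h1 h2 fun z hz => h3 z fun x _ => hz x

end Cfsg.Agent.S5742
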