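import Mathlib
import Cfsg.Statements.S5743
import Cfsg.Agent.Lib.ChevFold.Classes

set_option autoImplicit false
open Cfsg

namespace Cfsg.Agent.S5743

open Cfsg.Lie CfsgLib.ChevFold CfsgLib.Twist CfsgLib.Lang CfsgLib.Stein CfsgLib.Weyl CfsgLib.Chev


/-- The simple group ²E₆(2) (the twisted group of type E₆ over the field with 4 elements) contains at least three pairwise non-conjugate subgroups isomorphic to the Chevalley group F₄(2). -/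
theorem result {K : Type*} [Field K] [Fintype K] (hK : Fintype.card K = 4) :
    ∃ H : Fin 3 → Subgroup (Cfsg.Lie.twistedE6 K 2),
      (∀ i, Nonempty ((H i) ≃* Cfsg.Lie.chevF4.group (ZMod 2))) ∧
      (∀ i j, i ≠ j → ∀ g : (Cfsg.Lie.twistedE6 K 2), (H i).map (MulAut.conj g).toMonoidHom ≠ H j) := by
  have : CharP K 2 := charP_of_card_eq_prime_pow (f := 2) hK
  have h3 : ∀ x : Kˣ, x ^ 3 = 1 := fun x => Units.ext <| by simpa [hK] using FiniteField.pow_card_sub_one_eq_one x.1 x.ne_zero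
  obtain ⟨a, ha⟩ : ∃ a : Kˣ, orderOf a = 3 := by
    obtain ⟨a, ha⟩ := IsCyclic.exists_ofOrder_eq_natCard (α := Kˣ)
    exact ⟨a, by rw [ha, Nat.card_units, Nat.card_eq_fintype_card, hK]⟩
  obtain ⟨ψ, h1, h2, h4⟩ := exists_f4Hom (F := ZMod 2)
  set f := ZMod.castHom (dvd_refl 2) K
  set c : Fin 3 → Fin chevE6.rank → Kˣ := fun i => vecE6 ![a ^ i.1, 1, 1, 1, 1, (a ^ i.1) ^ 2]
  set φ := fun i => (MulAut.conj (tau chevE6 K (c i))).toMonoidHom.comp ((glm chevE6 f).comp ψ)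
  have h5 : ∀ i, (φ i).range ≤ twistedE6 K 2 := by
    rintro i _ ⟨g, rfl⟩
    exact tau_conj_mem_twistedE6 _ (glm_mem_twistedE6 f (h2 ▸ ⟨g, rfl⟩))
  refine ⟨fun i => (φ i).range.subgroupOf _, fun i => ⟨(Subgroup.subgroupOfEquivOfLe (h5 i)).trans
    (MonoidHom.ofInjective (f := φ i) ((MulAut.conj _).injective.comp ((glm_injective f).comp h1))).symm⟩, fun i j hij g e => ?_⟩
  set S := stSys rtOKE6 (ZMod 2)
  have hS := stSys_nondeg (F := ZMod 2) rtOKE6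
  set u := S.x ((rootSys rtOKE6).simple (ndE6 0)) 1 * S.x ((rootSys rtOKE6).simple (ndE6 5)) 1 *
    (S.x ((rootSys rtOKE6).simple (ndE6 2)) 1 * S.x ((rootSys rtOKE6).simple (ndE6 4)) 1) *
    S.x ((rootSys rtOKE6).simple (ndE6 3)) 1 * S.x ((rootSys rtOKE6).simple (ndE6 1)) 1
  have hφ : ∀ t : ZMod 2, RingHom.id _ t = t ^ 1 := fun t => (pow_one t).symm
  obtain ⟨y, hy⟩ : u ∈ ψ.range := h2 ▸ mul_mem (mul_mem (mul_mem (x2_mem_E6 hφ (r := e6p1) (s := e6p6) (by simp) 1)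
    (x2_mem_E6 hφ (r := e6p3) (s := e6p5) (by simp) 1)) (x1_mem_E6 hφ (r := e6p4) (by simp) rfl))
    (x1_mem_E6 hφ (r := e6p2) (by simp) rfl)
  obtain ⟨v, hv⟩ : g.1 * φ i y * g.1⁻¹ ∈ (φ j).range :=
    Subgroup.mem_subgroupOf.1 (e.le ⟨⟨φ i y, h5 i ⟨y, rfl⟩⟩, ⟨y, rfl⟩, rfl⟩)
  have hx := fun i => xp_mem (S := S) (ndE6 i) 1
  have hu := mul_mem (mul_mem (hx 0) (hx 5)) (mul_mem (hx 2) (hx 4))
  have h6 := inv_of_tau_mem h3 (tau_mem_of_conj rtOKE6 f (u := u) (v := ψ v) (c := (c j)⁻¹ * c i)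
    (g := tau chevE6 K (c j)⁻¹ * g * (tau chevE6 K (c j)⁻¹)⁻¹)
    (mul_mem (mul_mem hu (hx 3)) (hx 1)) (fun k => by
      rw [hS.scoef_mul _ (mul_mem hu (hx 3)) (hx 1), hS.scoef_mul _ hu (hx 3), hS.scoef_mul _
        (mul_mem (hx 0) (hx 5)) (mul_mem (hx 2) (hx 4)), hS.scoef_mul _ (hx 0) (hx 5), hS.scoef_mul _ (hx 2) (hx 4)]
      simp only [S, congrFun (hS.scoef_x_simple _ _) k]
      revert k
      decide +kernel) (gen_le (fun w _ => wordU_mem_group w) (h2.le ⟨v, rfl⟩))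
    (tau_conj_mem rtOKE6 _ (gen_le (fun w _ => wordU_mem_group w) g.2)) (by
      simp only [φ, MonoidHom.comp_apply, MulEquiv.coe_toMonoidHom, MulAut.conj_apply, hy] at hv
      rw [map_mul, map_inv, eq_inv_mul_iff_mul_eq.2 (mul_inv_eq_iff_eq_mul.1 hv)]
      group))
  have h7 : (a ^ j.1)⁻¹ * a ^ i.1 * (1⁻¹ * 1) ^ 2 * (1⁻¹ * 1) * (((a ^ j.1) ^ 2)⁻¹ * (a ^ i.1) ^ 2) ^ 2 = 1 := h6
  rw [← inv_pow _ 2, ← mul_pow, ← pow_mul, inv_mul_cancel, one_pow, mul_one, mul_one, ← pow_succ', pow_succ', pow_succ',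
    h3, mul_one, ← sq] at h7
  have h8 := h3 ((a ^ j.1)⁻¹ * a ^ i.1)
  rw [pow_succ, h7, one_mul, inv_mul_eq_one] at h8
  exact hij (Fin.ext (pow_injOn_Iio_orderOf (i.2.trans_eq ha.symm) (j.2.trans_eq ha.symm) h8.symm))

end Cfsg.Agent.S5743
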