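import Mathlib
import Cfsg.Statements.S5744
import Cfsg.Agent.Lib.ChevFold.Fi22
import Cfsg.Agent.Lib.Comput.CentExt2
import Cfsg.Agent.Lib.Fischer.Sub22
import Cfsg.Agent.Lib.OrthE.OrderP
import Cfsg.Agent.S2604

set_option autoImplicit false
open Cfsg

namespace Cfsg.Agent.S5744

open CfsgLib.OrthE CfsgLib.Fischer CfsgLib.Comput CfsgLib.ChevFold


/-- The simple group ²E₆(2) (the twisted group of type E₆ over the field with 4 elements) contains at least three pairwise non-conjugate subgroups isomorphic to the orthogonal group Ω₇(3) (the commutator subgroup of the isometry group of x₀² + x₁y₁ + x₂y₂ + x₃y₃ over the field with 3 elements). -/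
theorem result {K : Type*} [Field K] [Fintype K] (hK : Fintype.card K = 4) :
    ∃ H : Fin 3 → Subgroup (Cfsg.Lie.twistedE6 K 2),
      (∀ i, Nonempty ((H i) ≃* Cfsg.Omega (ZMod 3) (Cfsg.quadFormOdd 3 (ZMod 3)))) ∧
      (∀ i j, i ≠ j → ∀ g : (Cfsg.Lie.twistedE6 K 2), (H i).map (MulAut.conj g).toMonoidHom ≠ H j) := by
  have : CharP K 2 := charP_of_card_eq_prime_pow (f := 2) hK
  obtain ⟨ω, hω⟩ := exists_omega hK
  obtain ⟨ψ, h1, h2, h3⟩ := exists_fi22Hom (ω := Units.mk0 ω (omega_ne_zero hω)) hω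
  obtain ⟨e⟩ := o7_22
  obtain ⟨e'⟩ := Cfsg.Agent.S2604.result (F := ZMod 3) (p := 3) (f := 1) (m := 3) le_rfl (ZMod.card 3) (by decide) le_rfl
  obtain ⟨H, h4, h5⟩ := three_classes hK (ψ := ψ.comp ((Subgroup.subtype _).comp e.symm.toMonoidHom))
    ((Nat.card_congr e'.toEquiv).trans (by simp)) (h1.comp (Subtype.val_injective.comp e.symm.injective))
    (by rintro _ ⟨x, rfl⟩; exact h2 ⟨_, rfl⟩) fun z hz => h3 z fun x hx => by simpa using hz (e ⟨x, hx⟩)
  have h6 : (2 : ZMod 3) ≠ 0 := by decide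
  have hQ := nondeg_qOdd h6 3
  have hE := hQ.E_eq_commutator_of_finite (by simp)
  obtain ⟨a, b, h⟩ := hQ.exists_hyp_of_three (by simp)
  have h7 := Subgroup.card_eq_one.1 (h.card_center_E_eq_one hQ (by simp)
    (Or.inl (hE ▸ negO_not_mem_commutator_of_odd hQ h6 (by simp; decide))))
  exact ⟨H, fun i => (h4 i).map fun f => f.trans ((pomegaEquiv (qOdd_eq 3) hE).trans
    (((QuotientGroup.quotientMulEquivOfEq h7).trans QuotientGroup.quotientBot).trans
      (omegaEquiv (qOdd_eq 3) hE).symm)), h5⟩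

end Cfsg.Agent.S5744
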