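import Cfsg.Statements.S5746
import Cfsg.Agent.Lib.Suz.G2
import Cfsg.Agent.Lib.J2.Hundred
import Cfsg.Agent.Lib.Stein.FieldMap

set_option autoImplicit false
open Cfsg

namespace Cfsg.Agent.S5746

section

set_option maxRecDepth 100000

open CfsgLib CfsgLib.CosetEnum CfsgLib.Suz Subgroup

def aO : ℕ := 0x338007f20c00000000007f00000000008000804eeb80200d31802000000000000000000000000006781e72000040000000000000080181fc0d83ce8a80048c000e3fe382258640c000000000000000000000079c81e600100200000000000000703c0fe0611c474e00140c40003f3fc23904d00262800000000000000079803a00600000000000e787fe047474601cc5000cff9d4744250000000001d034530000000247ffe3ae88d25039ffd11100000034694c00001a7ffba44444ff88800001a694800027fd111f10000d240007a2390008000691000000800000000000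
def aK : List (List ℕ) := [[0], [2], [4], [6], [8]]
def aS : List Sub := [⟨[10], 688, [1, 0, 2, 1, 3, 2, 0, 4, 1, 3, 2, 4, 1, 0, 3, 1, 2, 0, 4, 1, 2], [0, 2, 1, 3, 2, 4, 3, 0, 5, 2, 4, 1, 0, 3, 2, 0, 4, 5, 1, 3, 2, 4, 3, 2]⟩,
  ⟨[10, 2, 4, 6, 4, 2, 10], 47, [0, 3, 4, 1, 3, 2, 1, 3, 0, 4, 2, 1], [0, 1, 4, 5, 0, 2, 4, 3, 1, 2, 5, 4, 0, 1, 5, 2, 0]⟩]
def bO : ℕ := 0x338007f20c00000000007f00000000008000804eeb80200d31802000000000000000000000000006781e72000040000000000000080181fc0d83ce8a800488000c3fe3820506408000000000000000000000079c81e600000200000000000000703007e0611c454800140800003d3fc22804800240000000000000000079802800000000000000e487fe045450001c800008ff9405002000000000014030000000000207ffe28a00d20031ff40100000003060000000187ffa804400ff080000018600000007fc101e00000c00000780300000000600000000000000000000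
def bK : List (List ℕ) := [[6], [4], [8], [2, 4, 6, 4, 2, 0, 2, 0, 4, 6, 2, 4, 2, 0, 2]]
def bS : List Sub := [⟨[2], 472, [1, 3, 0, 2, 3, 0, 1, 0], [0, 2, 4, 1, 0, 3, 4, 1, 2, 0, 4, 3, 2, 0, 1, 2]⟩,
  ⟨[2, 0, 2], 901, [1, 3, 0, 2, 3, 0, 1, 0], [0, 2, 4, 1, 0, 3, 4, 1, 2, 0, 3, 4, 2, 0, 4, 1, 2]⟩,
  ⟨[2, 4, 0, 2], 471, [0, 1, 3, 0, 2, 3, 0, 3, 2, 3, 0, 1], [0, 1, 2, 4, 1, 3, 4, 0, 1, 4, 2, 1, 0, 2]⟩,
  ⟨[2, 4, 6, 4, 2], 82, [0, 2, 3, 0, 1, 3, 2, 1, 0], [0, 1, 3, 4, 1, 0, 4, 2, 1, 0, 3, 4, 0, 1]⟩,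
  ⟨[2, 0, 2, 4, 0, 2], 644, [0, 1, 2, 3, 0], [0, 0, 1, 0, 3, 4, 1, 0, 3, 4, 1, 0, 4, 3, 2, 4]⟩]
def cO : ℕ := 0x4000200000020800040000000000000000000000000000000100000000000000000000c0000000002060000044000020000110050002280000000000000000000120060000000000003000000202460004500040009424405000000000090045300000000400001248800500800910100000004094c00000200012400440080800000209480002001010110000124000022090008000091000000800000000000
def cK : List (List ℕ) := [[2], [4], [0, 2, 4, 6], [8, 6, 4, 2, 0, 2, 4, 6, 8]]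
def cS : List Sub := [⟨[6], 72, [1, 2, 3, 2, 1, 0, 3, 1, 2, 3, 0], [0, 2, 3, 0, 4, 3, 2, 0, 1, 3, 0, 3, 0]⟩,
  ⟨[8], 79, [2, 3, 1, 2, 2, 0, 3, 1, 2], [0, 3, 4, 2, 3, 0, 3, 4, 0, 3, 2]⟩]

theorem a_ok : maxB S4_nets im hs aK 995 aO aS = true := by decide +kernel
theorem b_ok : maxB S4_nets im aK (mapL (expand im aK) bK) 688 bO bS = true := by decide +kernel
theorem c_ok : maxB S4_nets im aK (mapL (expand im aK) cK) 47 cO cS = true := by decide +kernel

theorem coatom_comap {X Γ : Type*} [Group X] [Group Γ] (f : X →* Γ) (hf : Function.Injective f) {K R : Subgroup Γ}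
    (hR : f.range = R) (h1 : K ≤ R) (h2 : ¬ R ≤ K) (h : ∀ M, K ≤ M → M ≤ R → M = K ∨ M = R) :
    IsCoatom (K.comap f) := by
  subst hR
  refine ⟨fun e => h2 (by rintro _ ⟨x, rfl⟩; exact e.ge (mem_top x)), fun M hM => ?_⟩
  rcases h (M.map f) ((map_comap_eq_self h1).ge.trans (map_mono hM.le)) (map_le_range f M) with e | e
  · rw [← e, comap_map_eq_self_of_injective hf] at hM
    exact absurd hM (lt_irrefl _)
  · exact map_injective hf (e.trans (MonoidHom.range_eq_map f))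

theorem fix_a : gen g aK ≤ stabP φ 995 := S.gen_le_stabP (by decide +kernel)

theorem stab_a : gen g hs ⊓ stabP φ 995 ≤ gen g aK ∧ (gen g aK).relIndex (gen g hs) = 416 ∧
    (orbS φ (gen g hs) 995).ncard = 416 :=
  stab_le_of_relIndex fix_a (S3_idx hi (conseq_sound hi hr (hs := [1, 1025, 2049, 3073, 4097, 6145, 7169, 8193, 9217,
    11265, 12289, 13313, 15361, 16385, 18433, 21505, 23553, 25601]) (by decide +kernel)) fun _ hu => ev_mem_gen g hu)
    (S.le_ncard_orbS le_rfl (k := 11) (sched := [5, 1, 0, 2, 1, 3, 2, 0, 4, 1, 5, 3, 0, 2, 1, 5, 0, 3, 4, 1, 2, 0, 1])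
      (by decide +kernel))

theorem le_a : gen g aK ≤ gen g hs := gen_mono g (by decide)

theorem card_a : Nat.card (gen g aK) = 604800 := card_eq_of_relIndex le_a (by decide) card_hs stab_a.2.1

theorem orb_a : orbS φ (gen g hs) 995 ⊆ bset aO := S.orbS_subset (by decide +kernel) (by decide +kernel)

theorem max_of {K : List (List ℕ)} {q O : ℕ} {L : List Sub} (h : maxB S4_nets im aK (mapL (expand im aK) K) q O L = true)
    (h1 : allL (fun w => fixesP S4_nets w q) (mapL (expand im aK) K) = true) (h2 : invariantB S4_nets aK O = true)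
    (h3 : memB O q = true) {w : List ℕ} (hw : w ∈ aK) (h4 : fixesP S4_nets w q = false) {y : Spor.Suz}
    (hy : y ∈ gen g aK) : ¬ gen g aK ≤ gen g aK ⊓ stabP φ (φ y q) ∧ ∀ M, gen g aK ⊓ stabP φ (φ y q) ≤ M → M ≤ gen g aK →
      M = gen g aK ⊓ stabP φ (φ y q) ∨ M = gen g aK := by
  have h5 := S.maxB_sound hi h le_rfl (H := gen g aK ⊓ stabP φ q) (fun w hw => ⟨by
    rw [mapL_eq] at hw
    obtain ⟨v, -, rfl⟩ := List.mem_map.1 hw
    exact ev_expand_mem hi _ _, S.fixesP_sound (allL_sound h1 w hw)⟩) inf_le_left le_rfl (S.orbS_subset h2 h3)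
  have h6 : ∀ x, y * x * y⁻¹ ∈ stabP φ (φ y q) ↔ x ∈ stabP φ q := fun x => by simp [mem_stabP]
  have h7 : ∀ x, y * x * y⁻¹ ∈ gen g aK ↔ x ∈ gen g aK := fun x => by
    rw [mul_mem_cancel_right (inv_mem hy), mul_mem_cancel_left hy]
  refine ⟨fun e => S.fixesP_false h4 ((h6 _).1 (e ((h7 _).2 (ev_mem_gen g hw))).2), fun M m1 m2 => ?_⟩
  refine (h5 (M.comap (MulAut.conj y).toMonoidHom) (fun x hx => m1 ⟨(h7 x).2 hx.1, (h6 x).2 hx.2⟩)
    fun x hx => (h7 x).1 (m2 hx)).imp (fun e => ?_) fun e => ?_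
  all_goals
    ext x
    obtain ⟨x, rfl⟩ := (MulAut.conj y).surjective x
    refine (SetLike.ext_iff.1 e x).trans ?_
    simp only [mem_inf, MulAut.conj_apply, h6, h7]

def ws : List ℕ := [0x2, 0x4, 0x2010301, 0x3040204010403020104030104020103, 0x3040104030201040301040201040203]

def vs : List (List ℕ) := [[2, 4, 6, 8, 4, 6, 0, 2, 4, 6, 8, 2, 4, 6, 4, 0, 2], [0],
  [0, 2, 4, 6, 8, 6, 4, 6, 2, 4, 6, 0, 2, 4, 6, 8, 6, 4, 2, 0], [2]]

theorem ev_eq {G : Type*} [Group G] (q : ℕ → G) : ∀ r : List ℕ, (∀ x ∈ r, x % 2 = 0) →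
    ev (fun i => Comput.ev q (ws.getD i 0)) r = Comput.evL q (r.map fun x => ws.getD (x / 2) 0)
  | [], _ => rfl
  | x :: r, h => by
    rw [ev_cons, List.map_cons, Comput.evL_cons, ev_eq q r fun y hy => h y (List.mem_cons_of_mem _ hy), evL,
      if_pos (h x List.mem_cons_self)]

theorem chk1 : Comput.allL (Comput.eqChk (Comput.stepT 315 9 J2.P.W) (Comput.idTab 315 9))
    (([[0, 0], [2, 2], [4, 4], [6, 6], [8, 8], [10, 10], [12, 12]] ++ S2_rels).map fun r : List ℕ =>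
      (r.map fun x => ws.getD (x / 2) 0, [])) = true := by decide +kernel

theorem chk2 : Comput.allL (Comput.eqChk (Comput.stepT 315 9 J2.P.W) (Comput.idTab 315 9))
    ((J2.P.top.zip vs).map fun t : ℕ × List ℕ => ([t.1], t.2.map fun x => ws.getD (x / 2) 0)) = true := by
  decide +kernel

theorem chk3 : (∀ r ∈ [[0, 0], [2, 2], [4, 4], [6, 6], [8, 8], [10, 10], [12, 12]] ++ S2_rels, ∀ x ∈ r, x % 2 = 0) ∧
    (∀ i ∈ [0, 1, 2, 3, 4, 5, 6], im.testBit (2 * i) = true ∧
      [2 * i, 2 * i] ∈ [[0, 0], [2, 2], [4, 4], [6, 6], [8, 8], [10, 10], [12, 12]]) ∧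
    (∀ r ∈ S0_rels, r ∈ S2_rels) ∧ (∀ r ∈ S1_rels, r ∈ S2_rels) ∧
    ∀ w ∈ J2.P.top, ∃ v ∈ vs, (w, v) ∈ J2.P.top.zip vs ∧ (∀ x ∈ v, x % 2 = 0) ∧ expand im aK v = v := by
  decide +kernel

theorem iso_of {Γ X : Type*} [Group Γ] [Group X] [Finite X] {g : ℕ → Γ} {q : ℕ → X} (hi : InvOk g im)
    (hr : ∀ r ∈ S2_rels, ev g r = 1) (hc : Nat.card (gen g aK) = 604800)
    (W : Comput.WM q (Comput.stepT 315 9 J2.P.W) (Comput.idTab 315 9)) (ht : Comput.cl q J2.P.top = ⊤)
    (hX : Nat.card X = 604800) : Nonempty (gen g aK ≃* X) := by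
  let u : ℕ → X := fun i => Comput.ev q (ws.getD i 0)
  let γ : ℕ → Γ × X := fun i => (g i, u i)
  have h0 : ∀ r ∈ [[0, 0], [2, 2], [4, 4], [6, 6], [8, 8], [10, 10], [12, 12]] ++ S2_rels, ev u r = 1 := fun r hr =>
    (ev_eq q r (chk3.1 r hr)).trans (W.allHold chk1 _ (List.mem_map_of_mem hr))
  have hu : ∀ i ∈ [0, 1, 2, 3, 4, 5, 6], u i * u i = 1 := fun i hi' => by
    have := h0 [2 * i, 2 * i] (List.mem_append_left _ (chk3.2.1 i hi').2)
    rwa [ev_cons, ev_cons, ev_nil, mul_one, evL, if_pos (Nat.mul_mod_right 2 i), Nat.mul_div_cancel_left _ two_pos] at this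
  have h1 : InvOk γ im := invOk_imOf fun i hi' => Prod.ext (by
    have := hi (2 * i) (chk3.2.1 i hi').1
    rwa [evL, if_pos (Nat.mul_mod_right 2 i), Nat.mul_div_cancel_left _ two_pos] at this) (hu i hi')
  have h2 : ∀ r ∈ S2_rels, ev γ r = 1 := fun r hr' => Prod.ext ((map_ev (MonoidHom.fst _ _) γ r).trans (hr r hr'))
    ((map_ev (MonoidHom.snd _ _) γ r).trans (h0 r (List.mem_append_right _ hr')))
  obtain ⟨h3, h4⟩ : Bound γ aK (280 * (216 * (10 * 1))) := Bound.of_idx (Bound.of_idx (Bound.of_idx (bound_nil γ)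
    (S0_idx h1 fun r hr => h2 r (chk3.2.2.1 r hr))) (S1_idx h1 fun r hr => h2 r (chk3.2.2.2.1 r hr))) (S2_idx h1 h2)
  have h5 : (gen γ aK).map (MonoidHom.snd _ _) = ⊤ := by
    rw [map_gen, eq_top_iff, ← ht]
    refine Comput.cl_le.2 fun w hw => ?_
    obtain ⟨v, -, h7⟩ := chk3.2.2.2.2 w hw
    have h8 := W.allHold chk2 _ (List.mem_map_of_mem h7.1)
    rw [Comput.Eqn.Holds, Comput.evL_one, ← ev_eq q v h7.2.1] at h8
    have h9 := ev_expand_mem (invOk_imOf hu) aK v
    rw [h7.2.2] at h9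
    exact h8.symm ▸ h9
  have h6 : Function.Bijective ((MonoidHom.snd _ _).comp (gen γ aK).subtype) :=
    (Function.Surjective.bijective_of_nat_card_le (fun y => by
      obtain ⟨x, hx, rfl⟩ := h5.ge (mem_top y)
      exact ⟨⟨x, hx⟩, rfl⟩) (by rw [hX]; exact h4))
  have h7 : (gen γ aK).map (MonoidHom.fst _ _) = gen g aK := map_gen _ γ aK
  generalize gen γ aK = R at h6 h7
  obtain ⟨e, -⟩ := equiv_of_graph R (gen g aK) h7.ge
    (fun a _ h => congrArg (fun x : R => x.1.1) (h6.1 (a₁ := ⟨_, h⟩) (a₂ := 1) rfl)) fun _ => by rw [hX, hc]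
  exact ⟨e⟩

theorem iso_a : Nonempty (gen g aK ≃* Spor.J2) :=
  have : Finite Spor.J2 := Nat.finite_of_card_ne_zero (by rw [J2.card_J2]; norm_num)
  iso_of hi (conseq_sound hi hr (hs := [1, 1025, 2049, 3073, 6145, 7169, 8193, 11265, 12289, 15361, 21505, 25601])
    (by decide +kernel)) card_a (Comput.WM.pull J2.iso J2.P.W_ok J2.p_mem (k := 9) (by norm_num))
    (Comput.cl_pull_top J2.iso J2.p_mem le_rfl) J2.card_J2

theorem a_cov : subB aO (cover S4_nets aK aS (Nat.shiftLeft 1 995)) = true := by decide +kernel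

theorem main {X : Type*} [Group X] (e : X ≃* gen g hs) : ∃ H : Subgroup X, IsCoatom H ∧ Spor.IsoJ2 H ∧
    ∀ x : X, x ∉ H → IsCoatom ((H ⊓ H.map (MulAut.conj x).toMonoidHom).subgroupOf H) := by
  let f : X →* Spor.Suz := (gen g hs).subtype.comp e.toMonoidHom
  have hf : Function.Injective f := Subtype.val_injective.comp e.injective
  have h1 : f.range = gen g hs := by
    rw [MonoidHom.range_comp, MonoidHom.range_eq_top.2 e.surjective, ← MonoidHom.range_eq_map, range_subtype]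
  have h2 : ∀ x, f x ∈ gen g aK ↔ φ (f x) 995 = 995 := fun x =>
    ⟨fun h => fix_a h, fun h => stab_a.1 ⟨h1.le ⟨x, rfl⟩, h⟩⟩
  have h3 := map_comap_eq_self (le_a.trans h1.ge)
  refine ⟨(gen g aK).comap f, coatom_comap f hf h1 le_a (fun h => ?_) (S.maxB_sound hi a_ok le_rfl
    (fun _ hw => ev_mem_gen g hw) le_a stab_a.1 orb_a), ⟨((equivMapOfInjective _ f hf).trans
      (MulEquiv.subgroupCongr h3)).trans iso_a.some⟩, fun x hx => ?_⟩
  · exact S.fixesP_false (w := [10]) (by decide +kernel) (fix_a (h (ev_mem_gen g (by decide))))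
  have h4 : (f.comp ((gen g aK).comap f).subtype).range = gen g aK := by
    rw [MonoidHom.range_comp, range_subtype, h3]
  rw [show (_ ⊓ _ : Subgroup _).subgroupOf _ = (gen g aK ⊓ stabP φ (φ (f x) 995)).comap
      (f.comp ((gen g aK).comap f).subtype) from Subgroup.ext fun y => by
    rw [mem_subgroupOf, mem_inf, mem_map_equiv, mem_comap, mem_comap, mem_comap, mem_inf, h2 (_ : X), h2 ((MulAut.conj x).symm y),
      mem_stabP]
    simp [Equiv.symm_apply_eq, h2]]
  have h5 : ¬ gen g aK ≤ gen g aK ⊓ stabP φ (φ (f x) 995) ∧ ∀ M, gen g aK ⊓ stabP φ (φ (f x) 995) ≤ M →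
      M ≤ gen g aK → M = gen g aK ⊓ stabP φ (φ (f x) 995) ∨ M = gen g aK := by
    rcases S.cover_sound (H := gen g aK) (fun _ hw => ev_mem_gen g hw) aS _ _
      (subB_sound a_cov (orb_a ⟨f x, h1.le ⟨x, rfl⟩, rfl⟩)) with h | ⟨s, hs, y, hy, e⟩
    · have h6 : (Nat.shiftLeft 1 995).testBit (φ (f x) 995) = true := h
      rw [testBit_one_shiftLeft, decide_eq_true_eq] at h6
      exact absurd ((h2 x).2 h6.symm) hx
    rw [← e]
    simp only [aS, List.mem_cons, List.not_mem_nil, or_false] at hs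
    rcases hs with rfl | rfl
    · exact max_of b_ok (by decide +kernel) (by decide +kernel) (by decide +kernel) (w := [2]) (by decide)
        (by decide +kernel) hy
    · exact max_of c_ok (by decide +kernel) (by decide +kernel) (by decide +kernel) (w := [6]) (by decide)
        (by decide +kernel) hy
  exact coatom_comap (f.comp ((gen g aK).comap f).subtype) (hf.comp Subtype.val_injective) h4 inf_le_left h5.1 h5.2

end

/-- The Chevalley group G₂(4) (over the field with 4 elements) has a maximal subgroup H isomorphic to the Hall–Janko group J₂ such that for every x outside H the intersection H ∩ xHx⁻¹ is a maximal subgroup of H; that is, the action of G₂(4) on the cosets of H is extremely primitive. -/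
theorem result {F : Type*} [Field F] [Fintype F] (hF : Fintype.card F = 4) :
    ∃ H : Subgroup (Cfsg.Lie.chevG2.group F), IsCoatom H ∧ Cfsg.Spor.IsoJ2 H ∧
      ∀ x : Cfsg.Lie.chevG2.group F, x ∉ H → IsCoatom ((H ⊓ H.map (MulAut.conj x).toMonoidHom).subgroupOf H) := by
  exact main ((CfsgLib.Stein.groupEquiv _ (FiniteField.ringEquivOfCardEq
    (hF.trans CfsgLib.Classical.card_GF4.symm))).trans CfsgLib.Suz.hs_equiv.some.symm)

end Cfsg.Agent.S5746
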