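import Cfsg.Statements.S5788
import Cfsg.Agent.Lib.Dim4.Odd

set_option autoImplicit false
open Cfsg CfsgLib.Dim4

namespace Cfsg.Agent.S5788

/-- The maximal subgroups of Sp_4(q), q odd, in the residual class. Let F be a finite field of odd order q and characteristic p, and H a maximal subgroup of Sp_4(F) (isometries of the standard alternating form on F^4) lying in the residual class of the symplectic case. Then the perfect socle preimage P of H satisfies one of: P modulo scalars is isomorphic to A_6 and q = p with p ≥ 5 and p ≠ 7; or P modulo scalars is isomorphic to A_7 and q = 7; or P modulo scalars is isomorphic to PSL_2(F) itself, with p ≥ 5 and q > 7. -/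
theorem result {F : Type*} [Field F] [Fintype F] (hodd : Odd (Fintype.card F)) (H : Subgroup (Matrix.GeneralLinearGroup (Fin 2 ⊕ Fin 2) F)) (hH : Cfsg.Geo.IsMaximalIn (Cfsg.spGL 2 F) H) (hS : Cfsg.Geo.InSymplecticResidualClass H) :
    ∃ (P : Subgroup (Matrix.GeneralLinearGroup (Fin 2 ⊕ Fin 2) F)) (p : ℕ), Cfsg.Geo.IsResidualCore H P ∧ p.Prime ∧ CharP F p ∧
    ((Nonempty ((P ⧸ (Cfsg.Geo.scalars (Fin 2 ⊕ Fin 2) F).subgroupOf P) ≃* alternatingGroup (Fin 6)) ∧ Fintype.card F = p ∧ 5 ≤ p ∧ p ≠ 7) ∨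
     (Nonempty ((P ⧸ (Cfsg.Geo.scalars (Fin 2 ⊕ Fin 2) F).subgroupOf P) ≃* alternatingGroup (Fin 7)) ∧ Fintype.card F = 7) ∨
     (Nonempty ((P ⧸ (Cfsg.Geo.scalars (Fin 2 ⊕ Fin 2) F).subgroupOf P) ≃* Matrix.ProjectiveSpecialLinearGroup (Fin 2) F) ∧ 5 ≤ p ∧ 7 < Fintype.card F)) := by
  obtain ⟨P, hP, -, -⟩ := hS
  obtain ⟨p, hp⟩ := CharP.exists F
  haveI : Fact p.Prime := ⟨CharP.char_is_prime F p⟩
  haveI : NeZero (2 : F) := ⟨Ring.two_ne_zero fun h => by
    have := FiniteField.even_card_of_char_two h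
    rw [Nat.odd_iff] at hodd
    omega⟩
  have hle : P ≤ spGL 2 F := hP.le.trans hH.1.le
  let e := QuotientGroup.quotientMulEquivOfEq (center_eq_of_core hP).symm
  let ι : Sp4 F →* GL (Fin 2 ⊕ Fin 2) F := (Matrix.symplecticGroup (Fin 2) F).subtype.toHomUnits
  have hι : ∀ g, ι g ∈ spGL 2 F := fun g u v => by
    rw [← CfsgLib.Forms.spB_eq_sympForm, ← CfsgLib.Forms.spB_eq_sympForm]
    exact B4_smul g u v
  have hι' : ∀ {Q} (h : Q ≤ spGL 2 F) (g : Q), ι (ofSub h g) = g := fun _ _ => Units.ext rfl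
  have inj : Function.Injective ι := fun _ _ h => Subtype.ext (congrArg Units.val h)
  have hN : ∀ g : H, ofSub hH.1.le g ∈ Subgroup.normalizer ((ofSub hle).range : Set (Sp4 F)) :=
    fun g => Subgroup.mem_normalizer_fintype (by
      rintro _ ⟨x, rfl⟩
      exact ⟨⟨_, hP.normal g g.2 x x.2⟩, inj (by simp only [map_mul, map_inv, hι'])⟩)
  have := Odd.main p (qs_of_core hP) (ofSub_injective hle) (abs_of_core hP hle)
    (noSub_of_core hP hle) (fun hs => hH.1.not_ge ((le_of_surjective hle hs).trans hP.le)) (by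
      rintro ⟨T, h1, h2⟩
      rcases hH.2 (T.map ι) (fun g hg => ⟨_, h2.le (hN ⟨g, hg⟩), hι' _ _⟩)
        (by rintro _ ⟨g, -, rfl⟩; exact hι g) with k | k
      · refine h2.not_ge fun t ht => ?_
        have : ι t ∈ H := k ▸ Subgroup.mem_map_of_mem ι ht
        exact inj (hι' hH.1.le ⟨_, this⟩) ▸ hN ⟨_, this⟩
      · refine h1 (eq_top_iff.2 fun t _ => ?_)
        obtain ⟨s, hs, e⟩ : ι t ∈ T.map ι := k ▸ hι t
        exact inj e ▸ hs)
  exact ⟨P, p, hP, Fact.out, hp, this.imp (And.imp_left fun ⟨f⟩ => ⟨e.trans f⟩)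
    (Or.imp (And.imp_left fun ⟨f⟩ => ⟨e.trans f⟩) (And.imp_left fun ⟨f⟩ => ⟨e.trans f⟩))⟩

end Cfsg.Agent.S5788
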