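import Cfsg.Statements.S5791
import Cfsg.Agent.Lib.Dim4.Ev

set_option autoImplicit false
open Cfsg CfsgLib.Dim4

namespace Cfsg.Agent.S5791

/-- The maximal subgroups of Sp_4(q), q ≥ 4 even, in the residual class. Let F be a finite field of even order q ≥ 4 and H a maximal subgroup of Sp_4(F) (isometries of the standard alternating form on F^4) lying in the residual class of the symplectic case. Then q = 2^(2m+1) with m ≥ 1 and the perfect socle preimage P of H is, modulo scalars, isomorphic to the Suzuki group over F (the subgroup Sz(F, θ) of the four-dimensional symplectic group with θ(x) = x^(2^(m+1))). -/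
theorem result {F : Type*} [Field F] [Fintype F] (heven : ¬ Odd (Fintype.card F)) (h4 : 4 ≤ Fintype.card F) (H : Subgroup (Matrix.GeneralLinearGroup (Fin 2 ⊕ Fin 2) F)) (hH : Cfsg.Geo.IsMaximalIn (Cfsg.spGL 2 F) H) (hS : Cfsg.Geo.InSymplecticResidualClass H) :
    ∃ (P : Subgroup (Matrix.GeneralLinearGroup (Fin 2 ⊕ Fin 2) F)) (m : ℕ), Cfsg.Geo.IsResidualCore H P ∧ 1 ≤ m ∧ Fintype.card F = 2 ^ (2 * m + 1) ∧
    Nonempty ((P ⧸ (Cfsg.Geo.scalars (Fin 2 ⊕ Fin 2) F).subgroupOf P) ≃* Cfsg.Lie.Sz F (2 ^ (m + 1))) := by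
  obtain ⟨P, hP, hQ, -⟩ := hS
  haveI : CharP F 2 := by
    have := (FiniteField.even_card_iff_char_two (F := F)).2 (by
      rw [Nat.odd_iff] at heven; omega)
    exact this ▸ ringChar.charP F
  have hle : P ≤ spGL 2 F := hP.le.trans hH.1.le
  have hZ : (Geo.scalars (Fin 2 ⊕ Fin 2) F).subgroupOf P = ⊥ := by
    refine eq_bot_iff.2 fun x hx => Subgroup.mem_bot.2 (ofSub_injective hle ?_)
    obtain ⟨c, hc⟩ := (Geo.mem_scalars_iff _).1 hx
    have : ofSub hle x ∈ Subgroup.center (Sp4 F) :=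
      Subgroup.mem_center_iff.2 fun g => Subtype.ext (by
        have hc : (ofSub hle x).1 = _ := hc
        simp [hc])
    rw [CfsgLib.Symp.center_eq_bot_of_two_eq_zero CharTwo.two_eq_zero, Subgroup.mem_bot] at this
    rw [this, map_one]
  let e := (QuotientGroup.quotientMulEquivOfEq hZ).trans QuotientGroup.quotientBot
  haveI := hP.simple
  haveI : IsSimpleGroup P := e.symm.isSimpleGroup
  have hG : ¬ IsMulCommutative P := fun h => hP.nonabelian ⟨⟨fun a b => e.injective (by
    rw [map_mul, map_mul, mul_comm'])⟩⟩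
  obtain ⟨m, h1, h2, ⟨f⟩⟩ := Ev.main h4 hG (ofSub_injective hle) (abs_of_core hP hle)
    (noSub_of_core hP hle)
    (fun hs => hH.1.not_ge ((le_of_surjective hle hs).trans hP.le)) (by
      rintro ⟨Q, q1, q2, q3⟩
      have hp : QuadraticMap.polar Q = fun u v => B4 u v := by
        ext u v; rw [QuadraticMap.polar, q2]; ring
      refine hQ ⟨Q, ⟨q1, ?_, ?_⟩, ?_⟩
      · rw [hp]
        exact ⟨fun _ _ _ => B4_add_l _ _ _, B4_smul_l, fun _ _ _ => B4_add_r _ _ _,
          B4_smul_r⟩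
      · rw [hp]
        intro v hv
        obtain ⟨u, hu⟩ := CfsgLib.Symp.exists_spB_eq_one hv
        have : B4 u v ≠ 0 := fun h => one_ne_zero (hu.symm.trans h)
        exact ⟨⟨u, this⟩, u, fun h => this (B4_symm_zero h)⟩
      · rintro _ ⟨g, hg, rfl⟩ v
        exact q3 ⟨g, hg⟩ v)
  exact ⟨P, m, hP, h1, h2, ⟨e.trans f⟩⟩

end Cfsg.Agent.S5791
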