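import Cfsg.Statements.S5850
import Cfsg.Agent.Lib.Asch.OrthCases

set_option autoImplicit false
open Cfsg

namespace Cfsg.Agent.S5850

open CfsgLib.Asch CfsgLib.Orth Cfsg.Geo Module


/-- Every maximal subgroup of Ω_10^-(q) is of one of the listed geometric types or lies in the residual class. Let F be a finite field with q elements (characteristic p), Q a non-degenerate quadratic form on F^10 of minus type (Witt index 4: no totally singular 5-space), Ω the commutator subgroup of its isometry group, and H a maximal subgroup of Ω (inside GL_10(F)). Then H is the intersection with Ω of one of: the stabiliser of a non-zero totally singular subspace; for q odd, the stabiliser of a non-degenerate subspace of odd dimension ≠ 5; the stabiliser of a non-degenerate 2-space of minus type; for q ≥ 4, the stabiliser of a non-degenerate 2-space of plus type; the stabiliser of a non-degenerate 4-space; for q even, the stabiliser of the span of a non-singular vector;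 for q = p prime with p ≡ 3 mod 4, the stabiliser of a decomposition into 10 pairwise orthogonal, pairwise isometric non-degenerate 1-spaces; for q ≠ 3, the stabiliser of a decomposition into 5 pairwise orthogonal, pairwise isometric non-degenerate 2-spaces; for q ≡ 3 mod 4, the stabiliser of a decomposition into 2 pairwise orthogonal, pairwise isometric non-degenerate 5-spaces; for q ≡ 1 mod 4, the stabiliser of a decomposition into two orthogonal, non-isometric non-degenerate 5-spaces; for q odd, the normaliser of a degree-2 subfield of the matrix algebra, self-adjoint for the polar form; the normaliser of a degree-2 subfield K, adjoint-closed but not self-adjoint, acting by similarities of Q; a subfield group (|F| = |F₀|^r, r odd prime) whose F₀-structure carries a non-zero multiple of Q — or else H lies in the residual class of the orthogonal case (modulo scalars H is almost simple, with absolutely irreducible perfect socle preimage realisable over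 no proper subfield and fixing no non-degenerate unitary form). -/
theorem result {F : Type*} [Field F] [Fintype F] (Q : (Fin 10 → F) → F) (hQ : Cfsg.Geo.IsNondegenerateQuadraticForm Q) (hminus : ¬ Cfsg.Geo.IsPlusTypeOn Q ⊤) (H : Subgroup (Matrix.GeneralLinearGroup (Fin 10) F)) (hH : Cfsg.Geo.IsMaximalIn (Cfsg.Geo.omegaGL Q) H) :
    (∃ W : Submodule F (Fin 10 → F), W ≠ ⊥ ∧ Cfsg.Geo.IsTotallySingularQuad Q W ∧ H = Cfsg.Geo.subspaceStabilizer W ⊓ Cfsg.Geo.omegaGL Q) ∨
    (Odd (Fintype.card F) ∧ ∃ W : Submodule F (Fin 10 → F), W ≠ ⊥ ∧ W ≠ ⊤ ∧ Odd (Module.finrank F W) ∧ 2 * Module.finrank F W ≠ 10 ∧ Cfsg.Geo.IsNondegenerateOn (QuadraticMap.polar Q) W ∧ H = Cfsg.Geo.subspaceStabilizer W ⊓ Cfsg.Geo.omegaGL Q) ∨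
    (∃ W : Submodule F (Fin 10 → F), Module.finrank F W = 2 ∧ Cfsg.Geo.IsNondegenerateOn (QuadraticMap.polar Q) W ∧ ¬ Cfsg.Geo.IsPlusTypeOn Q W ∧ H = Cfsg.Geo.subspaceStabilizer W ⊓ Cfsg.Geo.omegaGL Q) ∨
    (4 ≤ Fintype.card F ∧ ∃ W : Submodule F (Fin 10 → F), Module.finrank F W = 2 ∧ Cfsg.Geo.IsNondegenerateOn (QuadraticMap.polar Q) W ∧ Cfsg.Geo.IsPlusTypeOn Q W ∧ H = Cfsg.Geo.subspaceStabilizer W ⊓ Cfsg.Geo.omegaGL Q) ∨
    (∃ W : Submodule F (Fin 10 → F), Module.finrank F W = 4 ∧ Cfsg.Geo.IsNondegenerateOn (QuadraticMap.polar Q) W ∧ H = Cfsg.Geo.subspaceStabilizer W ⊓ Cfsg.Geo.omegaGL Q) ∨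
    (¬ Odd (Fintype.card F) ∧ ∃ v : (Fin 10 → F), Q v ≠ 0 ∧ H = Cfsg.Geo.subspaceStabilizer (Submodule.span F {v}) ⊓ Cfsg.Geo.omegaGL Q) ∨
    ((∃ p : ℕ, p.Prime ∧ Fintype.card F = p ∧ (p % 4 = 3)) ∧ ∃ D : Fin 10 → Submodule F (Fin 10 → F), Cfsg.Geo.IsOrthogonalMDecomposition Q 1 D ∧ H = Cfsg.Geo.decompositionStabilizer D ⊓ Cfsg.Geo.omegaGL Q) ∨
    (Fintype.card F ≠ 3 ∧ ∃ D : Fin 5 → Submodule F (Fin 10 → F), Cfsg.Geo.IsOrthogonalMDecomposition Q 2 D ∧ H = Cfsg.Geo.decompositionStabilizer D ⊓ Cfsg.Geo.omegaGL Q) ∨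
    (Fintype.card F % 4 = 3 ∧ ∃ D : Fin 2 → Submodule F (Fin 10 → F), Cfsg.Geo.IsOrthogonalMDecomposition Q 5 D ∧ H = Cfsg.Geo.decompositionStabilizer D ⊓ Cfsg.Geo.omegaGL Q) ∨
    (Fintype.card F % 4 = 1 ∧ ∃ D : Fin 2 → Submodule F (Fin 10 → F), Cfsg.Geo.IsNondegenerateMDecomposition (QuadraticMap.polar Q) 5 D ∧ ¬ Cfsg.Geo.AreIsometricFor Q (D 0) (D 1) ∧ H = Cfsg.Geo.decompositionStabilizer D ⊓ Cfsg.Geo.omegaGL Q) ∨
    (Odd (Fintype.card F) ∧ ∃ K : Subalgebra F (Matrix (Fin 10) (Fin 10) F), Cfsg.Geo.IsFieldSubalgebra 2 K ∧ Cfsg.Geo.IsSelfAdjointFor (QuadraticMap.polar Q) K ∧ H = Cfsg.Geo.subalgebraNormalizer K ⊓ Cfsg.Geo.omegaGL Q) ∨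
    (∃ K : Subalgebra F (Matrix (Fin 10) (Fin 10) F), Cfsg.Geo.IsFieldSubalgebra 2 K ∧ Cfsg.Geo.IsAdjointClosedFor (QuadraticMap.polar Q) K ∧ ¬ Cfsg.Geo.IsSelfAdjointFor (QuadraticMap.polar Q) K ∧ (∀ k ∈ K, ∃ c : F, ∀ v : (Fin 10 → F), Q (Matrix.mulVec k v) = c * Q v) ∧ H = Cfsg.Geo.subalgebraNormalizer K ⊓ Cfsg.Geo.omegaGL Q) ∨
    (∃ (F₀ : Subfield F) (r : ℕ) (P : Matrix.GeneralLinearGroup (Fin 10) F) (ζ : F), r.Prime ∧ Odd r ∧ Fintype.card F = Nat.card F₀ ^ r ∧ ζ ≠ 0 ∧ Cfsg.Geo.IsQuadFormRationalStructure (fun v : Fin 10 → F => ζ * Q v) F₀ P ∧ H = Cfsg.Geo.subfieldSubgroup F₀ P ⊓ Cfsg.Geo.omegaGL Q) ∨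
    Cfsg.Geo.InOrthogonalResidualClass H := by
  obtain ⟨Q, hQ', rfl⟩ : ∃ Q' : QuadraticForm F (Fin 10 → F),
      (QuadraticMap.polarBilin Q').Nondegenerate ∧ ⇑Q' = Q := ⟨_, toQF_nondegenerate hQ, rfl⟩
  have hn : Fintype.card (Fin 10) = 10 := Fintype.card_fin _
  have h7 : 7 ≤ Fintype.card (Fin 10) := by omega
  have hp : ∀ a b : ℕ, 2 ≤ a → 2 ≤ b → a * b = 10 → (a = 2 ∧ b = 5) ∨ (a = 5 ∧ b = 2) :=
    fun a b ha hb h => by
      obtain ⟨h1, h3⟩ := mul_cases h ha hb
      interval_cases a <;> omega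
  have h4 : ∀ {t k : ℕ} {D : Fin t → Submodule F (Fin 10 → F)}, IsOrthogonalMDecomposition Q k D →
      Even t → Odd k → Fintype.card F % 4 = 3 := fun hD ht hk => by
    have ho := odd_of_decomp hD.decomp hk
    have h2 := odd_card_iff.1 ho
    have := (plus_iff_of_even hQ' h2 hD ht (m := 5) hn).trans
      (isSquare_neg_one_pow_iff h2 (by decide))
    have := mt this.2 hminus
    obtain ⟨c, hc⟩ := ho
    omega
  rcases oclass_or_residual hQ' h7 hH.1.le with h | h
  swap
  · iterate 13 right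
    exact h
  cases h with
  | ts W h0 hW hd hle =>
    exact Or.inl ⟨W, h0, hW, eq_stab_ts hQ' h7 hH h0 hW hle⟩
  | nd W h0 hW hd hs hle =>
    have h1 := finrank_pos_of_ne_bot h0
    have h3 := eq_stab hQ' h7 hH h0 (by omega) hle
    by_cases h5 : finrank F W = 5
    · obtain ⟨hD, hle'⟩ := decomp_of_half hQ' hH.1.le hW (by omega) h5 hn hle
      have h6 := eq_decomp hQ' h7 hH hD.decomp hle'
      iterate 8 right
      by_cases h8 : AreIsometricFor Q (![W, qperp Q W] 0) (![W, qperp Q W] 1)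
      · have h9 := orthDecomp_of_pair hD h8
        exact Or.inl ⟨h4 h9 (by decide) (by decide), _, h9, h6⟩
      · refine Or.inr (Or.inl ⟨?_, _, hD, h8, h6⟩)
        have ho := odd_of_decomp hD (by decide)
        have h2 := odd_card_iff.1 ho
        have := plus_iff_of_not_isometric hQ' h2 hD h8
        rw [isSquare_neg_one_pow_iff h2 (by decide)] at this
        exact not_not.1 (mt this.2 hminus)
    rcases Nat.even_or_odd (finrank F W) with ⟨c, hc⟩ | h
    · rcases (by omega : finrank F W = 2 ∨ finrank F W = 4) with h | h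
      · by_cases h4 : IsPlusTypeOn Q W
        · exact Or.inr (Or.inr (Or.inr (Or.inl ⟨hs h h4, W, h, hW, h4, h3⟩)))
        · exact Or.inr (Or.inr (Or.inl ⟨W, h, hW, h4, h3⟩))
      · iterate 4 right
        exact Or.inl ⟨W, h, hW, h3⟩
    · exact Or.inr (Or.inl ⟨odd_of_nondegOn hW h, W, h0, ne_top_of_finrank_lt (by omega), h,
        by omega, hW, h3⟩)
  | ns h2 v hv hle =>
    iterate 5 right
    exact Or.inl ⟨not_odd_card h2, v, hv, eq_stab_span hQ' h7 hH hv hle⟩
  | frame hq t D hD hle =>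
    obtain rfl : t = 10 := by have := card_eq_of_decomp hD.decomp.decomp; omega
    iterate 6 right
    exact Or.inl ⟨⟨_, hq, rfl, h4 hD (by decide) odd_one⟩, D, hD,
      eq_decomp hQ' h7 hH hD.decomp.decomp hle⟩
  | dec t k D hk hD h3 h5 _ hle =>
    have h6 := eq_decomp hQ' h7 hH hD.decomp.decomp hle
    iterate 7 right
    rcases hp _ _ hD.decomp.decomp.two_le hk ((card_eq_of_decomp hD.decomp.decomp).trans hn) with
      ⟨rfl, rfl⟩ | ⟨rfl, rfl⟩
    · exact Or.inr (Or.inl ⟨h4 hD (by decide) (by decide), D, hD, h6⟩)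
    · exact Or.inl ⟨h3 (by omega), D, hD, h6⟩
  | pair k D hk hD hs =>
    obtain rfl : k = 5 := by have := card_eq_of_decomp hD; omega
    exact absurd hk (by decide)
  | fieldSA r K hr hK hsa h1 h3 h2 hle =>
    obtain ⟨c, hc⟩ := field_dvd_card hK
    obtain rfl : r = 2 := by
      rcases c with _ | _ | c
      · omega
      · omega
      · have := hp _ _ hr.two_le (by omega) (hc.symm.trans hn)
        omega
    iterate 10 right
    exact Or.inl ⟨odd_card_iff.2 fun h => by have := h2 h; omega, K, hK, hsa,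
      eq_field hQ' h7 hH le_rfl hK hle⟩
  | fieldU K hK hadj hsa hsim hle =>
    iterate 11 right
    exact Or.inl ⟨K, hK, hadj, hsa, hsim, eq_field hQ' h7 hH le_rfl hK hle⟩
  | sub h =>
    obtain ⟨F₀, r, P, ζ, h1, h2, h3, h4, h5, hle⟩ := h.odd hQ' (m := 4) hn hminus
    iterate 12 right
    exact Or.inl ⟨F₀, r, P, ζ, h1, h2, h3, h4, h5, eq_subfield hQ' h7 hH h1 h3 hle⟩
  | tensorAlt n₁ n₂ e P f₁ f₂ h1 h3 _ hf₂ =>
    obtain ⟨rfl, rfl⟩ := (hp n₁ n₂ h1 (by omega)
      (by simpa using (Fintype.card_congr e).symm)).resolve_right (by omega)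
    exact absurd (even_card_of_symplectic hf₂) (by decide)
  | tensorSym _ n₁ n₂ e P f₁ f₂ h1 h3 =>
    have := hp n₁ n₂ (by omega) (by omega) (by simpa using (Fintype.card_congr e).symm)
    omega
  | wreath k t e P f₁ h1 h3 =>
    have := pow_cases' (k := k) (n := 10) (by simpa using Fintype.card_congr e) h3 (by omega)
      (by omega)
    omega
  | pow k t hk ht h1 =>
    have := pow_cases' (hn.symm.trans h1) ht (by omega) (by omega)
    omega

end Cfsg.Agent.S5850
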