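import Cfsg.Statements.S5871
import Cfsg.Agent.Lib.Asch.OrthCases

set_option autoImplicit false
open Cfsg

namespace Cfsg.Agent.S5871

open CfsgLib.Asch CfsgLib.Orth Cfsg.Geo Module


/-- Every maximal subgroup of Ω_12^+(q) is of one of the listed geometric types or lies in the residual class. Let F be a finite field with q elements (characteristic p), Q a non-degenerate quadratic form on F^12 of plus type (Witt index 6: some totally singular 6-space), Ω the commutator subgroup of its isometry group, and H a maximal subgroup of Ω (inside GL_12(F)). Then H is the intersection with Ω of one of: the stabiliser of a non-zero totally singular subspace of dimension ≠ 5; for q odd, the stabiliser of a non-degenerate subspace of odd dimension; the stabiliser of a non-degenerate 2-space of minus type; for q ≥ 4, the stabiliser of a non-degenerate 2-space of plus type; the stabiliser of a non-degenerate 4-space; for q even, the stabiliser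 of the span of a non-singular vector; for q = p an odd prime, the stabiliser of a decomposition into 12 pairwise orthogonal, pairwise isometric non-degenerate 1-spaces; for q ≥ 7, the stabiliser of a decomposition into 6 pairwise orthogonal, pairwise isometric non-degenerate 2-spaces of plus type; for q ≠ 3, the stabiliser of a decomposition into 6 pairwise orthogonal, pairwise isometric non-degenerate 2-spaces of minus type; for q odd with q ≥ 5, the stabiliser of a decomposition into 4 pairwise orthogonal, pairwise isometric non-degenerate 3-spaces; for q ≥ 3, the stabiliser of a decomposition into 3 pairwise orthogonal, pairwise isometric non-degenerate 4-spaces; the stabiliser of a decomposition into 2 pairwise orthogonal, pairwise isometric non-degenerate 6-spaces; of a decomposition into two totally singular 6-spaces; the normaliser of a degree-2 subfield of the matrix algebra; the normaliser of a degree-3 subfield of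 the matrix algebra; the normaliser of a degree-2 subfield K, adjoint-closed but not self-adjoint, acting by similarities of Q; for q ≥ 3, the stabiliser of a tensor decomposition of Q into alternating forms on F^2 and F^6 (Q vanishing on pure tensors); a subfield group (|F| = |F₀|^r, r prime) whose F₀-structure carries a non-zero multiple of Q — or else H lies in the residual class of the orthogonal case (modulo scalars H is almost simple, with absolutely irreducible perfect socle preimage realisable over no proper subfield and fixing no non-degenerate unitary form). -/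
theorem result {F : Type*} [Field F] [Fintype F] (Q : (Fin 12 → F) → F) (hQ : Cfsg.Geo.IsNondegenerateQuadraticForm Q) (hplus : Cfsg.Geo.IsPlusTypeOn Q ⊤) (H : Subgroup (Matrix.GeneralLinearGroup (Fin 12) F)) (hH : Cfsg.Geo.IsMaximalIn (Cfsg.Geo.omegaGL Q) H) :
    (∃ W : Submodule F (Fin 12 → F), W ≠ ⊥ ∧ Cfsg.Geo.IsTotallySingularQuad Q W ∧ Module.finrank F W ≠ 5 ∧ H = Cfsg.Geo.subspaceStabilizer W ⊓ Cfsg.Geo.omegaGL Q) ∨
    (Odd (Fintype.card F) ∧ ∃ W : Submodule F (Fin 12 → F), W ≠ ⊥ ∧ W ≠ ⊤ ∧ Odd (Module.finrank F W) ∧ 2 * Module.finrank F W ≠ 12 ∧ Cfsg.Geo.IsNondegenerateOn (QuadraticMap.polar Q) W ∧ H = Cfsg.Geo.subspaceStabilizer W ⊓ Cfsg.Geo.omegaGL Q) ∨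
    (∃ W : Submodule F (Fin 12 → F), Module.finrank F W = 2 ∧ Cfsg.Geo.IsNondegenerateOn (QuadraticMap.polar Q) W ∧ ¬ Cfsg.Geo.IsPlusTypeOn Q W ∧ H = Cfsg.Geo.subspaceStabilizer W ⊓ Cfsg.Geo.omegaGL Q) ∨
    (4 ≤ Fintype.card F ∧ ∃ W : Submodule F (Fin 12 → F), Module.finrank F W = 2 ∧ Cfsg.Geo.IsNondegenerateOn (QuadraticMap.polar Q) W ∧ Cfsg.Geo.IsPlusTypeOn Q W ∧ H = Cfsg.Geo.subspaceStabilizer W ⊓ Cfsg.Geo.omegaGL Q) ∨
    (∃ W : Submodule F (Fin 12 → F), Module.finrank F W = 4 ∧ Cfsg.Geo.IsNondegenerateOn (QuadraticMap.polar Q) W ∧ H = Cfsg.Geo.subspaceStabilizer W ⊓ Cfsg.Geo.omegaGL Q) ∨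
    (¬ Odd (Fintype.card F) ∧ ∃ v : (Fin 12 → F), Q v ≠ 0 ∧ H = Cfsg.Geo.subspaceStabilizer (Submodule.span F {v}) ⊓ Cfsg.Geo.omegaGL Q) ∨
    ((∃ p : ℕ, p.Prime ∧ Odd p ∧ Fintype.card F = p) ∧ ∃ D : Fin 12 → Submodule F (Fin 12 → F), Cfsg.Geo.IsOrthogonalMDecomposition Q 1 D ∧ H = Cfsg.Geo.decompositionStabilizer D ⊓ Cfsg.Geo.omegaGL Q) ∨
    (7 ≤ Fintype.card F ∧ ∃ D : Fin 6 → Submodule F (Fin 12 → F), Cfsg.Geo.IsOrthogonalMDecomposition Q 2 D ∧ (∀ i, Cfsg.Geo.IsPlusTypeOn Q (D i)) ∧ H = Cfsg.Geo.decompositionStabilizer D ⊓ Cfsg.Geo.omegaGL Q) ∨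
    (Fintype.card F ≠ 3 ∧ ∃ D : Fin 6 → Submodule F (Fin 12 → F), Cfsg.Geo.IsOrthogonalMDecomposition Q 2 D ∧ (∀ i, ¬ Cfsg.Geo.IsPlusTypeOn Q (D i)) ∧ H = Cfsg.Geo.decompositionStabilizer D ⊓ Cfsg.Geo.omegaGL Q) ∨
    (Odd (Fintype.card F) ∧ 5 ≤ Fintype.card F ∧ ∃ D : Fin 4 → Submodule F (Fin 12 → F), Cfsg.Geo.IsOrthogonalMDecomposition Q 3 D ∧ H = Cfsg.Geo.decompositionStabilizer D ⊓ Cfsg.Geo.omegaGL Q) ∨
    (3 ≤ Fintype.card F ∧ ∃ D : Fin 3 → Submodule F (Fin 12 → F), Cfsg.Geo.IsOrthogonalMDecomposition Q 4 D ∧ H = Cfsg.Geo.decompositionStabilizer D ⊓ Cfsg.Geo.omegaGL Q) ∨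
    (∃ D : Fin 2 → Submodule F (Fin 12 → F), Cfsg.Geo.IsOrthogonalMDecomposition Q 6 D ∧ H = Cfsg.Geo.decompositionStabilizer D ⊓ Cfsg.Geo.omegaGL Q) ∨
    (∃ D : Fin 2 → Submodule F (Fin 12 → F), Cfsg.Geo.IsMDecomposition 6 D ∧ (∀ i, Cfsg.Geo.IsTotallySingularQuad Q (D i)) ∧ H = Cfsg.Geo.decompositionStabilizer D ⊓ Cfsg.Geo.omegaGL Q) ∨
    (∃ K : Subalgebra F (Matrix (Fin 12) (Fin 12) F), Cfsg.Geo.IsFieldSubalgebra 2 K ∧ H = Cfsg.Geo.subalgebraNormalizer K ⊓ Cfsg.Geo.omegaGL Q) ∨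
    (∃ K : Subalgebra F (Matrix (Fin 12) (Fin 12) F), Cfsg.Geo.IsFieldSubalgebra 3 K ∧ H = Cfsg.Geo.subalgebraNormalizer K ⊓ Cfsg.Geo.omegaGL Q) ∨
    (∃ K : Subalgebra F (Matrix (Fin 12) (Fin 12) F), Cfsg.Geo.IsFieldSubalgebra 2 K ∧ Cfsg.Geo.IsAdjointClosedFor (QuadraticMap.polar Q) K ∧ ¬ Cfsg.Geo.IsSelfAdjointFor (QuadraticMap.polar Q) K ∧ (∀ k ∈ K, ∃ c : F, ∀ v : (Fin 12 → F), Q (Matrix.mulVec k v) = c * Q v) ∧ H = Cfsg.Geo.subalgebraNormalizer K ⊓ Cfsg.Geo.omegaGL Q) ∨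
    (3 ≤ Fintype.card F ∧ ∃ (e : Fin 12 ≃ Fin 2 × Fin 6) (P : Matrix.GeneralLinearGroup (Fin 12) F) (f₁ : (Fin 2 → F) → (Fin 2 → F) → F) (f₂ : (Fin 6 → F) → (Fin 6 → F) → F), Cfsg.Geo.IsSymplecticForm f₁ ∧ Cfsg.Geo.IsSymplecticForm f₂ ∧ Cfsg.Geo.IsTensorFormStructure id (QuadraticMap.polar Q) f₁ f₂ e P ∧ (∀ (x₁ : Fin 2 → F) (x₂ : Fin 6 → F), Q (Matrix.mulVec (P : Matrix (Fin 12) (Fin 12) F) ((fun a : Fin 2 × Fin 6 => x₁ a.1 * x₂ a.2) ∘ e)) = 0) ∧ H = Cfsg.Geo.tensorProductSubgroup 2 6 e P ⊓ Cfsg.Geo.omegaGL Q) ∨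
    (∃ (F₀ : Subfield F) (r : ℕ) (P : Matrix.GeneralLinearGroup (Fin 12) F) (ζ : F), r.Prime ∧ Fintype.card F = Nat.card F₀ ^ r ∧ ζ ≠ 0 ∧ Cfsg.Geo.IsQuadFormRationalStructure (fun v : Fin 12 → F => ζ * Q v) F₀ P ∧ H = Cfsg.Geo.subfieldSubgroup F₀ P ⊓ Cfsg.Geo.omegaGL Q) ∨
    Cfsg.Geo.InOrthogonalResidualClass H := by
  have hQ₀ := hQ
  obtain ⟨Q, hQ', rfl⟩ : ∃ Q' : QuadraticForm F (Fin 12 → F),
      (QuadraticMap.polarBilin Q').Nondegenerate ∧ ⇑Q' = Q := ⟨_, toQF_nondegenerate hQ, rfl⟩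
  have hn : Fintype.card (Fin 12) = 12 := Fintype.card_fin _
  have h7 : 7 ≤ Fintype.card (Fin 12) := by omega
  have hp : ∀ a b : ℕ, 2 ≤ a → 2 ≤ b → a * b = 12 → (a = 2 ∧ b = 6) ∨ (a = 3 ∧ b = 4) ∨
      (a = 4 ∧ b = 3) ∨ (a = 6 ∧ b = 2) := fun a b ha hb h => by
    obtain ⟨h1, h3⟩ := mul_cases h ha hb
    interval_cases a <;> omega
  have hf : ∀ {r : ℕ} {K : Subalgebra F (Matrix (Fin 12) (Fin 12) F)}, r.Prime →
      IsFieldSubalgebra r K → r = 2 ∨ r = 3 := fun {r K} hr hK => by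
    have h1 : r ∣ 2 ^ 2 * 3 := field_dvd_card hK
    exact ((Nat.Prime.dvd_mul hr).1 h1).imp
      (fun h => (Nat.prime_dvd_prime_iff_eq hr Nat.prime_two).1 (hr.dvd_of_dvd_pow h))
      (Nat.prime_dvd_prime_iff_eq hr Nat.prime_three).1
  rcases oclass_or_residual hQ' h7 hH.1.le with h | h
  swap
  · iterate 18 right
    exact h
  cases h with
  | ts W h0 hW hd hle =>
    exact Or.inl ⟨W, h0, hW, fun h => hd hplus (by omega), eq_stab_ts hQ' h7 hH h0 hW hle⟩
  | nd W h0 hW hd hs hle =>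
    have h1 := finrank_pos_of_ne_bot h0
    have h3 := eq_stab hQ' h7 hH h0 (by omega) hle
    by_cases h5 : finrank F W = 6
    · obtain ⟨hD, hle'⟩ := decomp_of_half hQ' hH.1.le hW (by omega) h5 hn hle
      have hW' := nondegOn_qperp hQ' hW
      iterate 11 right
      refine Or.inl ⟨_, orthDecomp_of_pair hD (isometric_of_type hW hW' (k := 2) h5
        (hD.decomp.finrank_eq 1) ⟨plus_qperp hQ' hplus hW, fun h => ?_⟩),
        eq_decomp hQ' h7 hH hD.decomp hle'⟩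
      exact qperp_qperp hQ' W ▸ plus_qperp hQ' hplus hW' h
    rcases Nat.even_or_odd (finrank F W) with ⟨c, hc⟩ | h
    · rcases (by omega : finrank F W = 2 ∨ finrank F W = 4) with h | h
      · by_cases h4 : IsPlusTypeOn Q W
        · exact Or.inr (Or.inr (Or.inr (Or.inl ⟨hs h h4, W, h, hW, h4, h3⟩)))
        · exact Or.inr (Or.inr (Or.inl ⟨W, h, hW, h4, h3⟩))
      · iterate 4 right
        exact Or.inl ⟨W, h, hW, h3⟩
    · exact Or.inr (Or.inl ⟨odd_of_nondegOn hW h, W, h0, ne_top_of_finrank_lt (by omega), h,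
        by omega, hW, h3⟩)
  | ns h2 v hv hle =>
    iterate 5 right
    exact Or.inl ⟨not_odd_card h2, v, hv, eq_stab_span hQ' h7 hH hv hle⟩
  | frame hq t D hD hle =>
    obtain rfl : t = 12 := by have := card_eq_of_decomp hD.decomp.decomp; omega
    iterate 6 right
    exact Or.inl ⟨⟨_, hq, odd_of_decomp hD.decomp odd_one, rfl⟩, D, hD,
      eq_decomp hQ' h7 hH hD.decomp.decomp hle⟩
  | dec t k D hk hD h3 h5 h4 hle =>
    have h6 := eq_decomp hQ' h7 hH hD.decomp.decomp hle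
    iterate 7 right
    rcases hp _ _ hD.decomp.decomp.two_le hk ((card_eq_of_decomp hD.decomp.decomp).trans hn) with
      ⟨rfl, rfl⟩ | ⟨rfl, rfl⟩ | ⟨rfl, rfl⟩ | ⟨rfl, rfl⟩
    · iterate 4 right
      exact Or.inl ⟨D, hD, h6⟩
    · iterate 3 right
      exact Or.inl ⟨h4 rfl 0 ((plus_iff_of_odd hQ' hD (by decide) (by decide) 0).1 hplus), D, hD, h6⟩
    · have ho := odd_of_decomp hD.decomp (by decide)
      exact Or.inr (Or.inr (Or.inl ⟨ho, five_le_card ho (h3 le_rfl), D, hD, h6⟩))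
    · by_cases h8 : IsPlusTypeOn Q (D 0)
      · exact Or.inl ⟨h5 rfl 0 h8, D, hD, fun i => plus_of_isometric (hD.isometric 0 i) h8, h6⟩
      · exact Or.inr (Or.inl ⟨h3 (by omega), D, hD,
          fun i h => h8 (plus_of_isometric (hD.isometric i 0) h), h6⟩)
  | pair k D hk hD hs hle =>
    obtain rfl : k = 6 := by have := card_eq_of_decomp hD; omega
    iterate 12 right
    exact Or.inl ⟨D, hD, hs, eq_decomp hQ' h7 hH hD hle⟩
  | fieldSA r K hr hK hsa h1 h3 h2 hle =>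
    iterate 13 right
    rcases hf hr hK with rfl | rfl
    · exact Or.inl ⟨K, hK, eq_field hQ' h7 hH le_rfl hK hle⟩
    · exact Or.inr (Or.inl ⟨K, hK, eq_field hQ' h7 hH (by omega) hK hle⟩)
  | fieldU K hK _ _ _ hle =>
    iterate 13 right
    exact Or.inl ⟨K, hK, eq_field hQ' h7 hH le_rfl hK hle⟩
  | sub h =>
    obtain ⟨F₀, r, P, ζ, h1, h3, h4, h5, hle⟩ := h
    iterate 17 right
    exact Or.inl ⟨F₀, r, P, ζ, h1, h3, h4, h5, eq_subfield hQ' h7 hH h1 h3 hle⟩
  | tensorAlt n₁ n₂ e P f₁ f₂ h1 h3 hf₁ hf₂ hT h0 hle =>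
    rcases hp n₁ n₂ h1 (by omega) (by simpa using (Fintype.card_congr e).symm) with
      ⟨rfl, rfl⟩ | ⟨rfl, rfl⟩ | h
    · have hq : 3 ≤ Fintype.card F := by
        by_contra hq
        obtain ⟨K, h4, h5⟩ := CfsgLib.NonMax.omega_tensor_symp_not_maximal
          (by have := Fintype.one_lt_card (α := F); omega) hQ₀ (by omega) hf₁ hf₂ hT h0
        have h6 := (le_inf hle hH.1.le).trans_lt h4
        rcases hH.2 K h6.le h5.le with h | h
        · exact h6.ne' h
        · exact h5.ne h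
      iterate 16 right
      exact Or.inl ⟨hq, e, P, f₁, f₂, hf₁, hf₂, hT, h0, eq_tensor hQ' h7 hH hq le_rfl (by omega) hle⟩
    · exact absurd (even_card_of_symplectic hf₁) (by decide)
    · omega
  | tensorSym h2 n₁ n₂ e P f₁ f₂ h1 h3 _ h4 hf₁ hf₂ hT =>
    obtain ⟨rfl, rfl⟩ : n₁ = 3 ∧ n₂ = 4 := by
      have := hp n₁ n₂ (by omega) (by omega) (by simpa using (Fintype.card_congr e).symm)
      omega
    exact absurd (plus_of_three_four hQ' h2 hf₁ hf₂ hT hplus) (h4 rfl rfl)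
  | wreath k t e P f₁ h1 h3 =>
    have := pow_cases' (k := k) (n := 12) (by simpa using Fintype.card_congr e) h3 (by omega)
      (by omega)
    omega
  | pow k t hk ht h1 =>
    have := pow_cases' (hn.symm.trans h1) ht (by omega) (by omega)
    omega

end Cfsg.Agent.S5871
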