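import Cfsg.Statements.S5883
import Mathlib
import Cfsg.Agent.Lib.Fi3.Nrm
import Cfsg.Agent.Lib.FiTool.MFi
import Cfsg.Agent.Lib.Char.Burnside

set_option autoImplicit false
open Cfsg

namespace Cfsg.Agent.S5883

set_option maxRecDepth 100000
set_option Elab.async false

open CfsgLib.Comput CfsgLib.FiTool CfsgLib.ThreeTrans CfsgLib.Fischer CfsgLib.FiLoc CfsgLib.Fi3 Subgroup
open scoped commutatorElement

variable {G : Type*} [Group G] {D : Set G} {g pt : ℕ → G}

/-- fixed points -/
def fzF : List ℕ := [nat_lit 6, nat_lit 9, nat_lit 17, nat_lit 573, nat_lit 584, nat_lit 632, nat_lit 762, nat_lit 777, nat_lit 840, nat_lit 1014, nat_lit 1027, nat_lit 1031, nat_lit 1082, nat_lit 1108, nat_lit 1150, nat_lit 1341, nat_lit 1400, nat_lit 1480, nat_lit 1729, nat_lit 1786, nat_lit 1871, nat_lit 2924, nat_lit 3056, nat_lit 3140, nat_lit 3150, nat_lit 3151, nat_lit 3555, nat_lit 3736, nat_lit 3832, nat_lit 3848, nat_lit 3849, nat_lit 4174, nat_lit 4289, nat_lit 4531, nat_lit 4641, nat_lit 4665, nat_lit 4666, nat_lit 4993, nat_lit 5966, nat_lit 6645, nat_lit 6998, nat_lit 7200, nat_lit 7323, nat_lit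 7456, nat_lit 7845, nat_lit 7948, nat_lit 7973, nat_lit 8257, nat_lit 8309, nat_lit 8562, nat_lit 8578, nat_lit 8720, nat_lit 8733, nat_lit 8879, nat_lit 8913, nat_lit 9237, nat_lit 9317, nat_lit 9326, nat_lit 9351, nat_lit 9775, nat_lit 9779, nat_lit 9823, nat_lit 9827, nat_lit 9828, nat_lit 9840, nat_lit 9865, nat_lit 10006, nat_lit 10037, nat_lit 10099, nat_lit 10137, nat_lit 10159, nat_lit 10209, nat_lit 10324, nat_lit 10388, nat_lit 10519, nat_lit 10548, nat_lit 10663, nat_lit 10892, nat_lit 10914, nat_lit 10973, nat_lit 11203, nat_lit 11235, nat_lit 11236, nat_lit 11326, nat_lit 11515, nat_lit 11551, nat_lit 11553, nat_lit 11569, nat_lit 11576, nat_lit 11593, nat_lit 11709, nat_lit 11738, nat_lit 11756, nat_lit 11801, nat_lit 11872, nat_lit 11945, nat_lit 11951, nat_lit 11982, nat_lit 12095, nat_lit 12140, nat_lit 12195, nat_lit 12407, nat_lit 12428, nat_lit 12514, nat_lit 12565, nat_lit 12678, nat_lit 12769, nat_lit 12802, nat_lit 12826, nat_lit 13139, nat_lit 13223, nat_lit 13240, nat_lit 13341, nat_lit 13486, nat_lit 13489, nat_lit 13505, nat_lit 13511, nat_lit 13525, nat_lit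 13663, nat_lit 13686, nat_lit 13706, nat_lit 13761, nat_lit 13818, nat_lit 13837, nat_lit 13911, nat_lit 13945, nat_lit 13975, nat_lit 14016, nat_lit 14062, nat_lit 14128, nat_lit 14133, nat_lit 14441, nat_lit 14453, nat_lit 14613, nat_lit 14730, nat_lit 14837, nat_lit 14889, nat_lit 14904, nat_lit 15288, nat_lit 15322, nat_lit 15351, nat_lit 15500, nat_lit 15643, nat_lit 15819, nat_lit 15910, nat_lit 15934, nat_lit 16054, nat_lit 16107, nat_lit 16145, nat_lit 16175, nat_lit 16197, nat_lit 16261, nat_lit 16645, nat_lit 16833, nat_lit 17068, nat_lit 17084, nat_lit 17292, nat_lit 17504, nat_lit 17725, nat_lit 17869, nat_lit 17979, nat_lit 18165, nat_lit 18540, nat_lit 18808, nat_lit 18840, nat_lit 18902, nat_lit 18908, nat_lit 19094, nat_lit 19184, nat_lit 19250, nat_lit 19336, nat_lit 19544, nat_lit 19666, nat_lit 19758, nat_lit 19848, nat_lit 19863, nat_lit 20136, nat_lit 20208, nat_lit 20311, nat_lit 20366, nat_lit 20409, nat_lit 20479, nat_lit 20625, nat_lit 20627, nat_lit 20657, nat_lit 20665, nat_lit 20676, nat_lit 20692, nat_lit 20741, nat_lit 20750, nat_lit 20836, nat_lit 20856,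 nat_lit 20875, nat_lit 20961, nat_lit 20977, nat_lit 20996, nat_lit 21041, nat_lit 21086, nat_lit 21109, nat_lit 21191, nat_lit 21200, nat_lit 21320, nat_lit 21336, nat_lit 21402, nat_lit 21404, nat_lit 21437, nat_lit 21476, nat_lit 21481, nat_lit 21511, nat_lit 21541, nat_lit 21614, nat_lit 21647, nat_lit 21657, nat_lit 21681, nat_lit 21750, nat_lit 21798, nat_lit 21875, nat_lit 21937, nat_lit 21969, nat_lit 21984, nat_lit 21996, nat_lit 22017, nat_lit 22094, nat_lit 22144, nat_lit 22257, nat_lit 22285, nat_lit 22327, nat_lit 22409, nat_lit 22431, nat_lit 22445, nat_lit 22541, nat_lit 22647, nat_lit 22773, nat_lit 22807, nat_lit 22824, nat_lit 22942, nat_lit 23123, nat_lit 23140, nat_lit 23203, nat_lit 23302, nat_lit 23369, nat_lit 23403, nat_lit 23445, nat_lit 23496, nat_lit 23581, nat_lit 23778, nat_lit 24084, nat_lit 24091, nat_lit 24395, nat_lit 24446, nat_lit 24529, nat_lit 24954, nat_lit 25855, nat_lit 26798, nat_lit 27059, nat_lit 27127, nat_lit 27299, nat_lit 27447, nat_lit 27466, nat_lit 27650, nat_lit 27793, nat_lit 27888, nat_lit 28072, nat_lit 28215, nat_lit 28241, nat_lit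 28257, nat_lit 28326, nat_lit 28403, nat_lit 28429, nat_lit 28471, nat_lit 28475, nat_lit 28529, nat_lit 28584, nat_lit 28590, nat_lit 28610, nat_lit 28620, nat_lit 28663, nat_lit 28700, nat_lit 28833, nat_lit 28843, nat_lit 28854, nat_lit 28891, nat_lit 28895, nat_lit 28902, nat_lit 28907, nat_lit 28914, nat_lit 28982, nat_lit 29047, nat_lit 29097, nat_lit 29160, nat_lit 29169, nat_lit 29219, nat_lit 29245, nat_lit 29260, nat_lit 29319, nat_lit 29369, nat_lit 29389, nat_lit 29454, nat_lit 29477, nat_lit 29514, nat_lit 29519, nat_lit 29545, nat_lit 29576, nat_lit 29599, nat_lit 29618, nat_lit 29627, nat_lit 29659, nat_lit 29690, nat_lit 29702, nat_lit 29776, nat_lit 29785, nat_lit 29791, nat_lit 29811, nat_lit 29821, nat_lit 29867, nat_lit 29883, nat_lit 29892, nat_lit 29903, nat_lit 29926, nat_lit 29959, nat_lit 29972, nat_lit 29978, nat_lit 30008, nat_lit 30048]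

/-- certificate -/
noncomputable def fzT : CfsgLib.FiTool.Tr :=
  (.node (nat_lit 11866) (.node (nat_lit 7293) (.leaf (nat_lit 2899) (nat_lit 0)) (.leaf (nat_lit 0) (nat_lit 0)))
(.node (nat_lit 1652) (.leaf (nat_lit 0) (nat_lit 0)) (.node (nat_lit 12960) (.leaf (nat_lit 0) (nat_lit 0)) (.leaf (nat_lit 0) (nat_lit 0)))))

theorem fz_ok : fixOK ps23 (nat_lit 0x30809010502040308090105020403080901050204) (fixAcc 31671 W23 [nat_lit 0x30809010502040308090105020403080901050204] 0 12 (fullM 31671)) fzF fzT = true := by decide +kernel

theorem fz (M : FM D 31671 W23 g pt ps23 10 (nth 0 gp23)) :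
    semG 31671 pt (maskL fzF) = {y | y ∈ D ∧ Commute (ev g (nat_lit 0x30809010502040308090105020403080901050204)) y} :=
  M.semG_fix ((FA.zero 31671 pt _).acc M.tm 12) fz_ok

/-- chain data -/
noncomputable def cz : Ch :=
  ⟨[nat_lit 0x30809010502040308090105020403080901050204, nat_lit 0x40205010908030402050109080304020501090803],
  [nat_lit 7, nat_lit 2, nat_lit 0x8040903080405040803090408, nat_lit 5, nat_lit 10, nat_lit 1, nat_lit 0x803040308, nat_lit 264196, nat_lit 526600, nat_lit 6],
  [nat_lit 6, nat_lit 1, nat_lit 79, nat_lit 4, nat_lit 9, nat_lit 0, nat_lit 22, nat_lit 14, nat_lit 18, nat_lit 5],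
  [nat_lit 7, nat_lit 10, nat_lit 0x2040901030508, nat_lit 0x8050301090402, nat_lit 0x304030504080304, nat_lit 0x403080405030403, nat_lit 0xa07010201030205040605040308040908030405060402030102070a, nat_lit 0xa07020103020406050403080904080304050604050203010201070a, nat_lit 0x1030403020605070608040305040809080405030408060705060203040301, nat_lit 0x206050407060508040302050406050804090801030408050604050203040809050607040506, nat_lit 0x605040706050908040302050406050804030108090408050604050203040805060704050602, nat_lit 0x1020304080409030201, nat_lit 0x1020309040804030201, nat_lit 0x20103020504080102030402030508010204030809010405020304, nat_lit 0x40302050401090803040201080503020403020108040502030102, nat_lit 0x8050607040805090306040508040302030405080403060509080407060508, nat_lit 0x905040508090403060705060405080403020304050804030605090407060804050409, nat_lit 0x8040a030502010708040503060204050809040308040506070a01090804030205040304050908, nat_lit 0x80905040304050203040809010a070605040803040908050402060305040807010205030a0408, nat_lit 0x40308090405040302010908040305040809020304050409080304,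 nat_lit 0x2080405030408010201020306050706080403020105040302060804030504060508070604050304080203040506070102030405060405, nat_lit 0xa070908040305060405080403020304050804030406050906080405040806030402010302050604030804050408030406050203010204030407090a08, nat_lit 0x80a090704030402010302050604030804050408030406050203010204030608040504080609050604030408050403020304080504060503040809070a, nat_lit 0x30204080907080304080302010504060803090205040308040506070a010607050604050804030204050804030804090806080405040806070603020104080309020403080405040803040209030804010203040a09, nat_lit 0x90a040302010408030902040308040504080304020903080401020306070608040504080608090408030408050402030408050406050706010a07060504080304050209030806040501020308040308070908040203]⟩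

theorem cz_ok : cz.ok ps23 (nth 0 gp23) 10 = true := by decide +kernel

theorem cz_z : cz.lastOK ps23 (nth 0 gp23) 10 10 [nat_lit 5, nat_lit 1, nat_lit 2566, nat_lit 184944898, nat_lit 3, nat_lit 9, nat_lit 0, nat_lit 0x90b060a02, nat_lit 151390722, nat_lit 4] = true := by decide +kernel

theorem cz_v9 : cz.lvOK 31671 W23 fx23 ps23 9 (fullM 31671) 0 [nat_lit 5, nat_lit 1, nat_lit 4, nat_lit 3, nat_lit 0, nat_lit 6, nat_lit 7, nat_lit 8]
    [] (nat_lit 0)
    [] 0 1 = true := by decide +kernel

theorem cz_d6 : band (cz.derOK ps23 [nat_lit 34079746, nat_lit 100729861, nat_lit 0x504080203] 6) (Nat.beq (Nat.add 6 [nat_lit 34079746, nat_lit 100729861, nat_lit 0x504080203].length) 9) = true := by decide +kernel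

/-- certificate -/
noncomputable def cz_t5 : CfsgLib.FiTool.Tr :=
  (.node (nat_lit 2769) (.node (nat_lit 172) (.node (nat_lit 79) (.node (nat_lit 73) (.leaf (nat_lit 55) (nat_lit 0x4080304020500000000000000000000000000000001)) (.leaf (nat_lit 0) (nat_lit 0x408030402090500000000000000000000000000000001)))
(.node (nat_lit 6) (.leaf (nat_lit 0) (nat_lit 0x408030904080500000000000000000000000000000001)) (.node (nat_lit 23) (.leaf (nat_lit 0) (nat_lit 0x40803040203010500000000000000000000000000000001)) (.leaf (nat_lit 0) (nat_lit 0x4080304020301090500000000000000000000000000000001)))))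
(.node (nat_lit 1311) (.node (nat_lit 572) (.leaf (nat_lit 0) (nat_lit 0x40803040203010902080500000000000000000000000000000001)) (.node (nat_lit 421) (.leaf (nat_lit 0) (nat_lit 67074)) (.leaf (nat_lit 0) (nat_lit 132609))))
(.node (nat_lit 389) (.leaf (nat_lit 0) (nat_lit 0x408030406050209070806040a03070506020500000000000000000000000000000001)) (.node (nat_lit 78) (.leaf (nat_lit 0) (nat_lit 67074)) (.leaf (nat_lit 0) (nat_lit 132609))))))
(.node (nat_lit 1319) (.node (nat_lit 616) (.node (nat_lit 91) (.leaf (nat_lit 0) (nat_lit 67074)) (.leaf (nat_lit 0) (nat_lit 132609)))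
(.node (nat_lit 28) (.leaf (nat_lit 0) (nat_lit 0x408030406050209070806040a0307050604050804010500000000000000000000000000000001)) (.node (nat_lit 674) (.leaf (nat_lit 0) (nat_lit 67074)) (.leaf (nat_lit 0) (nat_lit 0x408030406050209070806040a030705060405080401090500000000000000000000000000000001)))))
(.node (nat_lit 1640) (.node (nat_lit 697) (.leaf (nat_lit 0) (nat_lit 67074)) (.node (nat_lit 117) (.leaf (nat_lit 0) (nat_lit 132609)) (.leaf (nat_lit 0) (nat_lit 132609))))
(.node (nat_lit 130) (.leaf (nat_lit 0) (nat_lit 0x4080304060502030704060501090a080704060305020401080500000000000000000000000000000001)) (.node (nat_lit 76) (.leaf (nat_lit 0) (nat_lit 132609)) (.leaf (nat_lit 0) (nat_lit 67074)))))))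

theorem cz_t5_ok : allT (ref2 ps23 (nth 0 gp23) 10 (cz.us 5) (nth 0 cz.ws 5) (cz.b 5)) cz_t5 0 = true := by decide +kernel

theorem cz_v5 : cz.lvOK 31671 W23 fx23 ps23 5 (fullM 31671) (maskT cz_t5) [nat_lit 3, nat_lit 0, nat_lit 4, nat_lit 1, nat_lit 2]
    [nat_lit 20, nat_lit 24] (nat_lit 0xff0001000100)
    [] 0 6 = true := by decide +kernel

theorem cz_v4 : cz.lvOK 31671 W23 fx23 ps23 4 (maskL fzF) 0 [nat_lit 1, nat_lit 3, nat_lit 0]
    [nat_lit 1, nat_lit 21, nat_lit 22] (nat_lit 0xff0001000201000100)
    [] 0 8 = true := by decide +kernel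

/-- certificate -/
noncomputable def cz_t3 : CfsgLib.FiTool.Tr :=
  (.node (nat_lit 2538) (.node (nat_lit 632) (.node (nat_lit 230) (.node (nat_lit 8) (.node (nat_lit 6) (.leaf (nat_lit 3) (nat_lit 0x400000000000000000000000000000001)) (.leaf (nat_lit 0) (nat_lit 1)))
(.node (nat_lit 31) (.leaf (nat_lit 0) (nat_lit 0x900000000000000000000000000000001)) (.node (nat_lit 13) (.leaf (nat_lit 0) (nat_lit 0x20401080300000000000000000000000000000001)) (.leaf (nat_lit 0) (nat_lit 0x3080209010400000000000000000000000000000001)))))
(.node (nat_lit 116) (.node (nat_lit 38) (.leaf (nat_lit 0) (nat_lit 0x40803040203060907080a0500000000000000000000000000000001)) (.node (nat_lit 28) (.leaf (nat_lit 0) (nat_lit 0x4080607030a0405020901080500000000000000000000000000000001)) (.leaf (nat_lit 0) (nat_lit 0x40803040203060907080a040500000000000000000000000000000001))))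
(.node (nat_lit 14) (.leaf (nat_lit 0) (nat_lit 0x408030406050209010807040a0500000000000000000000000000000001)) (.node (nat_lit 108) (.leaf (nat_lit 0) (nat_lit 0x40803040209030804010205030500000000000000000000000000000001)) (.leaf (nat_lit 0) (nat_lit 0x4080304020903080401020503040500000000000000000000000000000001))))))
(.node (nat_lit 566) (.node (nat_lit 258) (.node (nat_lit 196) (.leaf (nat_lit 0) (nat_lit 1)) (.node (nat_lit 5) (.leaf (nat_lit 0) (nat_lit 0x40803040605020307040609050804050500000000000000000000000000000001)) (.leaf (nat_lit 0) (nat_lit 0x40803040605020304090807060409050500000000000000000000000000000001))))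
(.node (nat_lit 192) (.leaf (nat_lit 0) (nat_lit 0x408030402090308060405060407080a0500000000000000000000000000000001)) (.node (nat_lit 76) (.leaf (nat_lit 0) (nat_lit 1)) (.leaf (nat_lit 0) (nat_lit 0x408030402090308060405060407080a090500000000000000000000000000000001)))))
(.node (nat_lit 678) (.node (nat_lit 290) (.leaf (nat_lit 0) (nat_lit 0x40803040605020301020409080307040a050500000000000000000000000000000001)) (.node (nat_lit 36) (.leaf (nat_lit 0) (nat_lit 0x408030406090508070406030a02070506010500000000000000000000000000000001)) (.leaf (nat_lit 0) (nat_lit 0x4080304020903080401020503060507040a080500000000000000000000000000000001))))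
(.node (nat_lit 353) (.leaf (nat_lit 0) (nat_lit 0x4080304060905080704060503020a010704060500000000000000000000000000000001)) (.node (nat_lit 9) (.leaf (nat_lit 0) (nat_lit 0x40803040203010206090508040503060207010a0500000000000000000000000000000001)) (.leaf (nat_lit 0) (nat_lit 0x408030406050203070406050a080704060905080500000000000000000000000000000001)))))))
(.node (nat_lit 953) (.node (nat_lit 518) (.node (nat_lit 230) (.node (nat_lit 6) (.leaf (nat_lit 0) (nat_lit 0x408030402030609050804010702060305040802010500000000000000000000000000000001)) (.leaf (nat_lit 0) (nat_lit 0x408030402030609050804010702060305040802030500000000000000000000000000000001)))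
(.node (nat_lit 8) (.leaf (nat_lit 0) (nat_lit 0x40803040209030806040501020304060307020a010500000000000000000000000000000001)) (.node (nat_lit 123) (.leaf (nat_lit 0) (nat_lit 0x408030406050203070406050a08070406090508040500000000000000000000000000000001)) (.leaf (nat_lit 0) (nat_lit 0x40803040605020304010702060305090a08070406050500000000000000000000000000000001)))))
(.node (nat_lit 94) (.node (nat_lit 62) (.leaf (nat_lit 0) (nat_lit 1)) (.node (nat_lit 22) (.leaf (nat_lit 0) (nat_lit 0x40803040203060905080401070208030a05020403080500000000000000000000000000000001)) (.leaf (nat_lit 0) (nat_lit 1))))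
(.node (nat_lit 1) (.leaf (nat_lit 0) (nat_lit 1)) (.node (nat_lit 309) (.leaf (nat_lit 0) (nat_lit 1)) (.leaf (nat_lit 0) (nat_lit 0x408030406050209070806040a0307050604050804030500000000000000000000000000000001))))))
(.node (nat_lit 2423) (.node (nat_lit 356) (.node (nat_lit 105) (.leaf (nat_lit 0) (nat_lit 0x40803040605020304010702060305090a0807040605090500000000000000000000000000000001)) (.node (nat_lit 139) (.leaf (nat_lit 0) (nat_lit 0x408030402030102060905080403070502040a080409030500000000000000000000000000000001)) (.leaf (nat_lit 0) (nat_lit 0x4080304020306090508040107020603050408020109040500000000000000000000000000000001))))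
(.node (nat_lit 265) (.leaf (nat_lit 0) (nat_lit 0x4080304020306090508040107020603050408020309040500000000000000000000000000000001)) (.node (nat_lit 1642) (.leaf (nat_lit 0) (nat_lit 0x408030406050209070806040a030705060405080403090500000000000000000000000000000001)) (.leaf (nat_lit 0) (nat_lit 0x4080304060502030704060501090a080704060305020403080500000000000000000000000000000001)))))
(.node (nat_lit 3909) (.node (nat_lit 1081) (.leaf (nat_lit 0) (nat_lit 0x4080304060502030704060501090a08070406030502040308040500000000000000000000000000000001)) (.node (nat_lit 588) (.leaf (nat_lit 0) (nat_lit 0x40803040609050807040605020304010a0207030608050408050500000000000000000000000000000001)) (.leaf (nat_lit 0) (nat_lit 0x40803040609050807040605020304010a020703060805040805090500000000000000000000000000000001))))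
(.node (nat_lit 1503) (.leaf (nat_lit 0) (nat_lit 1)) (.node (nat_lit 1897) (.leaf (nat_lit 0) (nat_lit 1)) (.leaf (nat_lit 0) (nat_lit 1))))))))

theorem cz_t3_ok : allT (ref2 ps23 (nth 0 gp23) 10 (cz.us 3) (nth 0 cz.ws 3) (cz.b 3)) cz_t3 0 = true := by decide +kernel

theorem cz_v3 : cz.lvOK 31671 W23 fx23 ps23 3 (fullM 31671) (maskT cz_t3) [nat_lit 1, nat_lit 0, nat_lit 2]
    [nat_lit 12, nat_lit 14, nat_lit 16, nat_lit 18] (nat_lit 0xff0000010000000100000000010000020000000100000000010000000001000002000001000002000001000002000002000001000002000001000000010000030000010000020000020000010000020000020000010000020000)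
    [] 0 81 = true := by decide +kernel

theorem cz_d2 : band (cz.derOK ps23 [nat_lit 257] 2) (Nat.beq (Nat.add 2 [nat_lit 257].length) 3) = true := by decide +kernel

/-- certificate -/
noncomputable def cz_t1 : CfsgLib.FiTool.Tr :=
  (.node (nat_lit 627) (.node (nat_lit 120) (.node (nat_lit 6) (.leaf (nat_lit 0) (nat_lit 0x100000000000000000000000000000001)) (.node (nat_lit 21) (.leaf (nat_lit 0) (nat_lit 1)) (.leaf (nat_lit 0) (nat_lit 0x60a0700000000000000000000000000000001))))
(.node (nat_lit 453) (.leaf (nat_lit 0) (nat_lit 0x4080304060507060500000000000000000000000000000001)) (.node (nat_lit 11) (.leaf (nat_lit 0) (nat_lit 1)) (.leaf (nat_lit 0) (nat_lit 1)))))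
(.node (nat_lit 1703) (.node (nat_lit 1240) (.leaf (nat_lit 0) (nat_lit 0x40803040605070602030a040705060500000000000000000000000000000001)) (.node (nat_lit 440) (.leaf (nat_lit 0) (nat_lit 0x408030402090308060407050a060704050a060500000000000000000000000000000001)) (.leaf (nat_lit 0) (nat_lit 0x40803040203060905080704060508060a07060a0500000000000000000000000000000001))))
(.node (nat_lit 7493) (.leaf (nat_lit 0) (nat_lit 0x4080304020306090508070403050a060507060a0500000000000000000000000000000001)) (.node (nat_lit 1503) (.leaf (nat_lit 0) (nat_lit 1)) (.leaf (nat_lit 0) (nat_lit 1))))))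

theorem cz_t1_ok : allT (ref2 ps23 (nth 0 gp23) 10 (cz.us 1) (nth 0 cz.ws 1) (cz.b 1)) cz_t1 0 = true := by decide +kernel

theorem cz_v1 : cz.lvOK 31671 W23 fx23 ps23 1 (fullM 31671) (maskT cz_t1) [nat_lit 0]
    [nat_lit 3, nat_lit 5, nat_lit 7, nat_lit 9, nat_lit 10] (nat_lit 0xff0000000000000000010000000000000000000003020101000000000000000000010000000000000000000100000100000000000000000100010000000000000000000100000000000000000001000000000000000001000000000000000001000000000000000004000000000000000001000100010000000000000000010000020000000000000000010100000000000000000000010000000000000000000100000000000000000003000000000000000001010000000000000000010000000000000000000100000000000000000000010000000000000000000100000000000000000100000000000000000001000000000000000001000000000000000001000000000000000000010000000000000000010000000000000000000100000000000000000100000000000000000100000000000000000001000000000000000001000000000000000001000000000000000000010000000000000000010000000000000000010000000000000000000100000000000000000100000000000000000100000000000000000001000000000000000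00100000000000000000001000000000000000001000000000000000001000000000000000000010000000000000000010000000000000000010000000000000000020000000000000000010000000000000000000100000000000000000100000000000000000100000000000000000001000000000000000000000100000000000000000001000000000000000001000000000000000000010000000000000000010000000000000000010000000000000000000100000000000000000100000000000000000001000000000000000001000000000000000001000000000000000000010000000000000000010000000000000000010000000000000000000100000000000000000100000000000000000001000000000000000001000000000000000001000000000000000000010000000000000000010000000000000000010000000000000000000100000000000000000100000000000000000001000000000000000001000000000000000001000000000000000000010000000000000000010000000000000000010000000000000000000100000000000000000100000000000000000100000000000000000001000000000000000001000000000000000000010000000000000000010000000000000000010000000000000000000100000000000000000100000000000000000100000000000000000001000000000000000001000000000000000001000000000000000000010000000000000000010000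000000000000010000000000000000000100000000000000000100000000000000000001000000000000000001000000000000000001000000000000000000010000000000000000010000000000000000010000000000000000000100000000000000000100000000000000000100000000000000000001000000000000000001000000000000000001000000000000000000010000000000000000010000000000000000010000000000000000040000000000000000010000000000000000000200000000000000000100000000000000000001000001000000000000000001000000000000000000010000000000000000010000000000000000010000000000000000000100000000000000000200000000000000000100000000000000000001000000000000000001000000000000000001000000000000000000010000000000000000020000000000000000010001000000000000000001000000000000000000010000000000000000010000000000000000010000000000000000000300000000000000000100010000000000000000010000000000000000010000000000000000)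
    [nat_lit 1, nat_lit 3, nat_lit 4, nat_lit 5, nat_lit 6] 5 1296 = true := by decide +kernel

theorem cz_v0 : cz.lvOK 31671 W23 fx23 ps23 0 (maskL fzF) 0 []
    [nat_lit 2, nat_lit 1, nat_lit 7, nat_lit 3, nat_lit 10] (nat_lit 0xff01000203030203030200010400010001000100030100010001030100010001020002030100010001000103010001000103000100010002010001000103000100010003010001000102000100010001030001000100030001000100040001000100010003010001000103010001000102000001000100030001000100030001000100020100010001030100010001030001000100020001000100030100010001030100010001020100010001030100010001030100010001020001000100030001000100030100010001020001000100010301000100010301000100010201000100010301000100010301000100010401000300010301000203000101000300010301000200010301000300010201000100010301000100010301000100010201000300010301000200010100020300010301000300010201000100010201000300010301000200010100030001030100020001030100030001020100)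
    [] 0 324 = true := by decide +kernel

theorem cz_res (M : FM D 31671 W23 g pt ps23 10 (nth 0 gp23)) : cz.Res g 0 1632586752 := by
  have C := Ch.ok_sound M cz_ok
  have hx := fx23_ok M.tm
  have h10 : cz.Res g 10 1 := C.last M cz_z
  have h9 : cz.Res g 9 1 := C.lv M hx (C.cand_full M (by decide +kernel)) Ch.ref_zero cz_v9 h10
  have h6 : cz.Res g 6 1 := C.der M cz_d6 h9
  have h5 : cz.Res g 5 6 := C.lv M hx (C.cand_full M (by decide +kernel)) (C.ref_tree M (by decide +kernel) cz_t5_ok) cz_v5 h6
  have h4 : cz.Res g 4 48 := C.lv M hx (C.cand_fix M (nth_mem 0 cz.xs (m := 0) (by decide +kernel)) (fz M) (by decide +kernel)) Ch.ref_zero cz_v4 h5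
  have h3 : cz.Res g 3 3888 := C.lv M hx (C.cand_full M (by decide +kernel)) (C.ref_tree M (by decide +kernel) cz_t3_ok) cz_v3 h4
  have h2 : cz.Res g 2 3888 := C.der M cz_d2 h3
  have h1 : cz.Res g 1 5038848 := C.lv M hx (C.cand_full M (by decide +kernel)) (C.ref_tree M (by decide +kernel) cz_t1_ok) cz_v1 h2
  have h0 : cz.Res g 0 1632586752 := C.lv M hx (C.cand_fix M (nth_mem 0 cz.xs (m := 0) (by decide +kernel)) (fz M) (by decide +kernel)) Ch.ref_zero cz_v0 h1
  exact h0

/-- chain data -/
noncomputable def cf : Ch :=
  ⟨[],
  [nat_lit 7, nat_lit 10, nat_lit 0x6020504070a06080405030602070104080509060302040308040504080304020306090508040107020603050408060a0704050206, nat_lit 0x6040701030204080509060403080405040803040609050804020301070406, nat_lit 0x8050604070805090603020403080405040803040203060905080704060508, nat_lit 0x80607090a0504060804050306020701040805090603020403080405040803040203060905080401070206030504080604050a09070608, nat_lit 1],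
  [nat_lit 6, nat_lit 9, nat_lit 6645, nat_lit 573, nat_lit 632, nat_lit 7845, nat_lit 0],
  [nat_lit 0x30809010502040308090105020403080901050204, nat_lit 0x40205010908030402050109080304020501090803]⟩

theorem cf_ok : cf.ok ps23 (nth 0 gp23) 10 = true := by decide +kernel

theorem cf_z : cf.lastOK ps23 (nth 0 gp23) 10 7 [nat_lit 6, nat_lit 0x704020502070106010203010205020703, nat_lit 0x50302040705020402, nat_lit 0x60502070102050704020702, nat_lit 0x60507010204020507010202, nat_lit 0x4050302050204020702, nat_lit 0, nat_lit 0x6050702040507010202, nat_lit 0x30207010205020103070402050105, nat_lit 1] = true := by decide +kernel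

/-- certificate -/
noncomputable def cf_t6 : CfsgLib.FiTool.Tr :=
  (.node (nat_lit 2362) (.node (nat_lit 1787) (.node (nat_lit 1504) (.node (nat_lit 1085) (.leaf (nat_lit 686) (nat_lit 328453)) (.node (nat_lit 190) (.leaf (nat_lit 0) (nat_lit 5)) (.leaf (nat_lit 0) (nat_lit 328453))))
(.node (nat_lit 268) (.leaf (nat_lit 0) (nat_lit 0x502040205)) (.node (nat_lit 6) (.leaf (nat_lit 0) (nat_lit 5)) (.leaf (nat_lit 0) (nat_lit 328453)))))
(.node (nat_lit 285) (.node (nat_lit 155) (.leaf (nat_lit 0) (nat_lit 328453)) (.node (nat_lit 8) (.leaf (nat_lit 0) (nat_lit 328453)) (.leaf (nat_lit 0) (nat_lit 328453))))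
(.node (nat_lit 11) (.leaf (nat_lit 0) (nat_lit 4)) (.node (nat_lit 260) (.leaf (nat_lit 0) (nat_lit 328453)) (.leaf (nat_lit 0) (nat_lit 328453))))))
(.node (nat_lit 2006) (.node (nat_lit 626) (.node (nat_lit 267) (.leaf (nat_lit 0) (nat_lit 328453)) (.node (nat_lit 232) (.leaf (nat_lit 0) (nat_lit 328453)) (.leaf (nat_lit 0) (nat_lit 328453))))
(.node (nat_lit 251) (.leaf (nat_lit 0) (nat_lit 4)) (.node (nat_lit 275) (.leaf (nat_lit 0) (nat_lit 0x502040205)) (.leaf (nat_lit 0) (nat_lit 0x502040205)))))
(.node (nat_lit 704) (.node (nat_lit 34) (.leaf (nat_lit 0) (nat_lit 328453)) (.node (nat_lit 583) (.leaf (nat_lit 0) (nat_lit 328453)) (.leaf (nat_lit 0) (nat_lit 328453))))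
(.node (nat_lit 796) (.leaf (nat_lit 0) (nat_lit 328453)) (.node (nat_lit 437) (.leaf (nat_lit 0) (nat_lit 4)) (.leaf (nat_lit 0) (nat_lit 5)))))))

theorem cf_t6_ok : allT (ref2 ps23 (nth 0 gp23) 10 (cf.us 6) (nth 0 cf.ws 6) (cf.b 6)) cf_t6 0 = true := by decide +kernel

theorem cf_v6 : cf.lvOK 31671 W23 fx23 ps23 6 (fullM 31671) (maskT cf_t6) [nat_lit 0, nat_lit 1, nat_lit 5]
    [nat_lit 1] (nat_lit 16711680)
    [] 0 3 = true := by decide +kernel

theorem cf_d5 : band (cf.derOK ps23 [nat_lit 67240194] 5) (Nat.beq (Nat.add 5 [nat_lit 67240194].length) 6) = true := by decide +kernel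

theorem cf_res (M : FM D 31671 W23 g pt ps23 10 (nth 0 gp23)) : cf.Res g 5 3 := by
  have C := Ch.ok_sound M cf_ok
  have hx := fx23_ok M.tm
  have h7 : cf.Res g 7 1 := C.last M cf_z
  have h6 : cf.Res g 6 3 := C.lv M hx (C.cand_full M (by decide +kernel)) (C.ref_tree M (by decide +kernel) cf_t6_ok) cf_v6 h7
  have h5 : cf.Res g 5 3 := C.der M cf_d5 h6
  exact h5

/-- the element of order three -/
def zw : ℕ := 0x30809010502040308090105020403080901050204
/-- its inverse -/
def zi : ℕ := 0x40205010908030402050109080304020501090803
/-- an inverting element -/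
def tw : ℕ := 0x20409
/-- the generators used for the cover -/
def sel : List ℕ := [1, 0, 2, 4, 6, 9, 3, 5]
/-- words that reach the letters -/
def reach : List (List ℕ) := [[0x110103110203, 0x10a0401030803, 0xa060401030903, 0xa0301040105010903, 0x50a0401030903, 0x80e010903, 0, 0x11060301050104010803, 0x11070301050104010903, 0x203],
  [0x11010401040c01030903, 0xa01030a0203, 0xa04010c030104010803, 0xa01030903, 0xc010b030104010903, 0x80701030c030107010903, 0x0, 0xa0701030903, 0x11040601030903, 0x203]]
/-- conjugating element, its inverse, its action on `zw`, the commutator -/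
def steps : List (ℕ × ℕ × ℕ × ℕ) := [(0x1030508, 0x8050301, 2, 0x902040508030201040803090205040308040506070a0103020108040309080a0706),
  (0x2060504070605080403020105040302060508090408050603040502030408060704050602, 0x2060504070608040302050403060508040908050602030405010203040805060704050602, 2, 0x2060804070506090508030704030506040208010305040803090205040308040506070a030809040508040302060502010302050604030804050408030406050203010204020104080309020403080405040803040209030804010203080405040803040a),
  (0x1030508, 0x8050301, 2, 0x70804030604050804020806030702010408030504060803090205040308040506070a0806030203050408050903060405080403020309020103020403080405040803040203010206080904050804030605060804050408060407090107090a),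
  (0xa, 0xa, 1, 0x5040208030102050406080507030604050304020103020809040308040506070a020507060504030809040508040302030704060801050403060507030402010302050604030804050408030406050203010204030a0103),
  (0x2060504070605080403020105040302060508090408050603040502030408060704050602, 0x2060504070608040302050403060508040908050602030405010203040805060704050602, 2, 0x7090502040103020803090a0407080504060302010408030504060803090205040308040506070a03060405030208090408050302040805060703020408050903060405080403020509030604050804030409080706080405040806030201040803090204030804050408030402090308040102030409),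
  (0x7, 0x7, 1, 0x10201030504060705060809040508040302010304050608090405080403070605070201),
  (0xa020409, 0x904020a, 2, 0x608090408050706010702040302010504060803090205040308040506070a0702060403080904050804030203090405080403090608040504080603020104080309020403080405040803040209030804010203040703040201030205060403080405040803040605020301020403080405040806),
  (0x1030508, 0x8050301, 2, 0xa0401080205070403020809040803050406080302010504060803090205040308040506070a090504080302040305040607050608090405080403020504030804060705060403080904050804030508040504080906080405040807060302010408030902040308040504080304020903080401020304),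
  (0x20409, 0x90402, 2, 0x40205010908030402050109080304020501090803)]

theorem cov : coverOK (stepH W23) (sel.map (nth 0 cz.ks)) 3 [0, 1] (fullM 31671) (maskL fzF) = true := by
  decide +kernel

theorem reach_ok : allI (fun s => allI (fun m =>
    Nat.beq (act (stepW ps23 (Nat.succ s :: cz.ks)) (nth 0 (nth [] reach s) m) 6) (nth 0 gp23 m)) 0 10) 0 2 = true := by
  decide +kernel

theorem eqs : allL (eqP ps23 gp23) [([zw, zi], []), ([zw, zw, zw], []), ([tw, zw], [zw, zw, tw])] = true := by
  decide +kernel

theorem moves : Nat.beq (act ps23 zw 0) 0 = false := by decide +kernel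

theorem fixes : allI (fun j => Nat.beq (act ps23 zw (cf.b j)) (cf.b j)) 0 5 = true := by decide +kernel

/-- the test of the chain of commutators -/
noncomputable def stepsOK (l : List (ℕ × ℕ × ℕ × ℕ)) : ℕ → Bool :=
  List.rec (motive := fun _ => ℕ → Bool) (fun a => Nat.beq a zi)
    (fun e _ ih a => band (allL (eqP ps23 gp23) [([e.1, e.2.1], []), ([e.1, zw], List.replicate e.2.2.1 zw ++ [e.1]),
      ([e.2.2.2, e.1, a, e.2.1, a], [a, e.1, a, e.2.1])]) (ih e.2.2.2)) l

theorem steps_ok : stepsOK steps tw = true := by decide +kernel

/-- membership in a term of the derived series of a subgroup -/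
def InDer (H : Subgroup G) (k : ℕ) (a : G) : Prop := ∃ ha : a ∈ H, (⟨a, ha⟩ : H) ∈ derivedSeries H k

theorem InDer.step {H : Subgroup G} {k : ℕ} {a h b : G} (ha : InDer H k a) (hh : h ∈ H)
    (e : b * h * a * h⁻¹ * a = a * h * a * h⁻¹) : InDer H (k + 1) b := by
  obtain ⟨ha, hk⟩ := ha
  have h1 : (⟨h, hh⟩ : H) * ⟨a, ha⟩ * (⟨h, hh⟩ : H)⁻¹ ∈ derivedSeries H k :=
    (derivedSeries_normal H k).conj_mem _ hk _
  have h2 := commutator_mem_commutator hk h1
  have h3 : b = ((⁅(⟨a, ha⟩ : H), (⟨h, hh⟩ : H) * ⟨a, ha⟩ * (⟨h, hh⟩ : H)⁻¹⁆ : H) : G) := by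
    have : b = a * h * a * h⁻¹ * (h * a * h⁻¹ * a)⁻¹ := by rw [← e]; group
    rw [this, commutatorElement_def]
    simp only [coe_mul, coe_inv]
    group
  rw [h3]
  exact ⟨SetLike.coe_mem _, h2⟩

theorem steps_sound (M : M23 D g pt) {l : List (ℕ × ℕ × ℕ × ℕ)} {a k : ℕ} (h : stepsOK l a = true)
    (ha : InDer (normalizer (zpowers (ev g zw) : Set G)) k (ev g a)) :
    InDer (normalizer (zpowers (ev g zw) : Set G)) (k + l.length) (ev g zi) := by
  have := M.finite
  induction l generalizing a k with
  | nil => exact Nat.eq_of_beq_eq_true h ▸ ha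
  | cons e l ih =>
    obtain ⟨h1, h2⟩ := band_eq_true.1 h
    have hh : ∀ x ∈ [([e.1, e.2.1], []), ([e.1, zw], List.replicate e.2.2.1 zw ++ [e.1]),
        ([e.2.2.2, e.1, a, e.2.1, a], [a, e.1, a, e.2.1])], Eqn.Holds g x := fun x hx =>
      M.fm.pm.holds (fun _ => mem_top _) M.base (allL_sound h1 x hx)
    have e1 : evL g [e.1, e.2.1] = evL g [] := hh _ (.head _)
    have e2 : evL g [e.1, zw] = evL g (List.replicate e.2.2.1 zw ++ [e.1]) := hh _ (.tail _ (.head _))
    have e3 : evL g [e.2.2.2, e.1, a, e.2.1, a] = evL g [a, e.1, a, e.2.1] := hh _ (.tail _ (.tail _ (.head _)))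
    rw [evL_two, evL_nil] at e1
    rw [evL_two, evL_append, evL_replicate, evL_one] at e2
    simp only [evL_cons, evL_nil, mul_one, ← mul_assoc, ← eq_inv_of_mul_eq_one_right e1] at e3
    rw [List.length_cons, show k + (l.length + 1) = k + 1 + l.length by omega]
    refine ih h2 (ha.step (h := ev g e.1) (mem_normalizer_zpowers ?_) ?_)
    · rw [e2, mul_inv_cancel_right]
      exact npow_mem_zpowers _ _
    · rw [← eq_inv_of_mul_eq_one_right e1]; exact e3

theorem der_ne {H : Type*} [Group H] (hs : Group.IsSolvable H) {k : ℕ} (h : derivedSeries H k ≠ ⊥) :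
    derivedSeries H (k + 1) ≠ derivedSeries H k := by
  intro e
  have h1 : ∀ j, derivedSeries H (k + j) = derivedSeries H k := by
    intro j
    induction j with
    | zero => rfl
    | succ j ih => rw [← Nat.add_assoc, derivedSeries_succ, ih, ← derivedSeries_succ, e]
  obtain ⟨m, hm⟩ := hs.solvable
  apply h
  rw [← h1 m, eq_bot_iff, ← hm]
  exact derivedSeries_antitone H (by omega)

theorem main (M : M23 D g pt) : ∃ H : Subgroup G, IsCoatom H ∧ derivedSeries H 10 ≠ derivedSeries H 9 := by
  have := M.finite
  have hE : ∀ x ∈ [([zw, zi], []), ([zw, zw, zw], []), ([tw, zw], [zw, zw, tw])], Eqn.Holds g x := fun x hx =>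
    M.fm.pm.holds (fun _ => mem_top _) M.base (allL_sound eqs x hx)
  have e1 : evL g [zw, zi] = evL g [] := hE _ (.head _)
  have e2 : evL g [zw, zw, zw] = evL g [] := hE _ (.tail _ (.head _))
  have e3 : evL g [tw, zw] = evL g [zw, zw, tw] := hE _ (.tail _ (.tail _ (.head _)))
  rw [evL_two, evL_nil] at e1
  rw [evL_three, evL_nil] at e2
  rw [evL_two, evL_three] at e3
  have hzi : ev g zi = (ev g zw)⁻¹ := eq_inv_of_mul_eq_one_right e1
  have hne : ev g zw ≠ 1 := by
    intro e
    have h1 := (M.fm.commute_iff' zw (i := 0) (by norm_num)).1 (e ▸ Commute.one_left _)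
    have h2 := moves
    rw [h1] at h2
    exact absurd h2 (by decide)
  have : Fact (Nat.Prime 3) := ⟨by norm_num⟩
  have ho : orderOf (ev g zw) = 3 := orderOf_eq_prime (by rw [pow_three', e2]) hne
  have ht : ev g tw * ev g zw * (ev g tw)⁻¹ = ev g zw * ev g zw := by rw [e3, mul_inv_cancel_right]
  have C := Ch.ok_sound M.fm cz_ok
  have C' := Ch.ok_sound M.fm cf_ok
  have hH : cz.H g 0 = centralizer (zpowers (ev g zw) : Set G) := by
    ext x
    rw [mem_centralizer_zpowers, C.mem_H]
    constructor
    · exact fun h => (h.1 zw List.mem_cons_self).symm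
    · refine fun h => ⟨fun u hu => ?_, by simp⟩
      rcases List.mem_pair.1 hu with rfl | rfl
      · exact h.symm
      · exact (hzi ▸ h.symm.inv_right : Commute x (ev g zi))
  set N := normalizer (zpowers (ev g zw) : Set G) with hN
  have hc : Nat.card N = 3265173504 := by
    rw [card_normalizer_three ho ht, ← hH, (cz_res M.fm).2]
  have hCN : ∀ x, Commute (ev g zw) x → x ∈ N := fun x hx =>
    centralizer_le_normalizer _ (mem_centralizer_zpowers.2 hx)
  have hks : ∀ k ∈ cz.ks, ev g k ∈ N := fun k hk => hCN _ (C.comm k hk zw List.mem_cons_self).symm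
  have hF := fz M.fm
  refine ⟨N, ⟨fun e => ?_, fun K hK => ?_⟩, ?_⟩
  · rw [e, card_top, M.card] at hc
    omega
  · by_contra hKt
    have h6 : pt 6 ∈ K := hK.le (hCN _ ((M.fm.commute_iff' zw (by norm_num)).2
      (Nat.eq_of_beq_eq_true (allI_zero fixes 0 (by norm_num)))))
    have hs : ∀ s ∈ [0, 1], s < 31671 → pt s ∉ K := by
      intro s hs _ hp
      have hs2 : s < 2 := by
        rcases List.mem_pair.1 hs with rfl | rfl <;> norm_num
      have hp' : g s ∈ K := by
        rw [← (M.fm.gpt s (by omega)).2]
        rcases List.mem_pair.1 hs with rfl | rfl <;> exact hp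
      apply hKt
      rw [eq_top_iff, ← M.fm.tm.gen, closure_le]
      rintro _ ⟨m, rfl⟩
      by_cases hm : m < 10
      · rw [← (M.fm.gpt m hm).2, ← Nat.eq_of_beq_eq_true (allI_zero (allI_zero reach_ok s hs2) m hm),
          ← Ch.conj_us M.fm _ _ (by norm_num)]
        have h1 : ev (lw g (Nat.succ s :: cz.ks)) (nth 0 (nth [] reach s) m) ∈ K :=
          ev_lw_mem (List.forall_mem_cons.2 ⟨by rw [Nat.succ_eq_add_one, ev_letter g (by omega)]; exact hp',
            fun k hk => hK.le (hks k hk)⟩) _
        exact K.mul_mem (K.mul_mem h1 h6) (K.inv_mem h1)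
      · rw [M.fm.one m (by omega)]; exact K.one_mem
    have key : ∀ d ∈ D, d ∈ K → Commute (ev g zw) d := by
      intro d hd hdK
      rw [← semG_fullM M.fm.tm] at hd
      have h1 : d ∈ semG 31671 pt (maskL fzF) :=
        mem_of_cover (CfsgLib.Fischer.SM.salt M.fm.tm.sm) cov (K := K) (fun w hw => by
            obtain ⟨i, -, rfl⟩ := List.mem_map.1 hw
            exact ev_nth_mem (fun k hk => hK.le (hks k hk)) i)
          (I := fun y : CP G => (show G from y) ∈ K)
          (fun k hk y hy => (mul_mem_cancel_left hk).1 ((mul_mem_cancel_right (inv_mem hk)).1 hy)) hs (CP.mk d) hd hdK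
      rw [hF] at h1
      exact h1.2
    refine hK.not_ge fun x hx => mem_normalizer_zpowers ?_
    have h1 : x * ev g zw * x⁻¹ ∈ cf.H g 5 := by
      refine C'.mem_H.2 ⟨by simp [cf], fun j hj hj' => ?_⟩
      have h2 := (C'.spec hj').1
      have h3 : pt (cf.b j) ∈ K := hK.le (hCN _ ((M.fm.commute_iff' zw h2).2
        (Nat.eq_of_beq_eq_true (allI_zero fixes j hj))))
      have h4 := key (x⁻¹ * pt (cf.b j) * x⁻¹⁻¹) (M.grp.2.1 _ _ (M.fm.tm.pt_mem h2))
        (K.mul_mem (K.mul_mem (K.inv_mem hx) h3) (K.inv_mem (K.inv_mem hx)))
      have h5 := (commute_conj_iff x _ _).2 h4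
      simpa [mul_assoc] using h5
    refine (cl_le.2 fun w hw => ?_ : cl g cf.ks ≤ zpowers (ev g zw)) ((cf_res M.fm).1 h1)
    rcases List.mem_pair.1 hw with rfl | rfl
    · exact mem_zpowers _
    · exact (hzi ▸ inv_mem (mem_zpowers _) : ev g zi ∈ zpowers (ev g zw))
  · refine der_ne (CfsgLib.Char.isSolvable_of_card_eq_pow_mul_pow (p := 2) (q := 3) (a := 11) (b := 13)
      (by norm_num) (by norm_num) (by rw [hc]; norm_num)) fun e => ?_
    have h0 : InDer N 0 (ev g tw) :=
      ⟨mem_normalizer_zpowers (ht ▸ mul_mem (mem_zpowers _) (mem_zpowers _)), mem_top _⟩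
    obtain ⟨h1, h2⟩ : InDer N 9 (ev g zi) := steps_sound M steps_ok h0
    rw [e, mem_bot] at h2
    have h3 : ev g zi = 1 := congrArg Subtype.val h2
    rw [hzi, inv_eq_one] at h3
    exact hne h3


/-- The constant 10 in the statement that H⁽¹⁰⁾ is perfect for every maximal subgroup H of a finite almost simple group cannot be lowered to 9: there exist a finite almost simple group G (with a non-abelian simple normal subgroup of trivial centralizer) and a maximal subgroup H of G whose ninth derived subgroup H⁽⁹⁾ is not perfect, i.e. H⁽¹⁰⁾ ≠ H⁽⁹⁾. (A solvable maximal subgroup of derived length 10 in the Fischer group Fi₂₃ is such an example.) -/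
theorem result :
    ∃ (G : Type) (_ : Group G) (_ : Finite G) (S H : Subgroup G), S.Normal ∧ IsSimpleGroup S ∧ ¬ IsMulCommutative S ∧
      Subgroup.centralizer (S : Set G) = ⊥ ∧ IsCoatom H ∧ derivedSeries H 10 ≠ derivedSeries H 9 := by
  have M := m23_fi
  obtain ⟨H, h1, h2⟩ := main M
  have := M.simple
  refine ⟨Cfsg.Spor.Fi23, inferInstance, M.finite, ⊤, H, inferInstance, topEquiv.isSimpleGroup, fun hc => ?_, ?_, h1, h2⟩
  · have h3 : ev (CfsgLib.Fischer.g23) zw ∈ center Cfsg.Spor.Fi23 := by
      rw [mem_center_iff]
      intro y
      exact congrArg Subtype.val (hc.is_comm.comm (⟨y, mem_top _⟩ : (⊤ : Subgroup Cfsg.Spor.Fi23)) ⟨_, mem_top _⟩)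
    rw [M.fm.tm.center, mem_bot] at h3
    have h4 := (M.fm.commute_iff' zw (i := 0) (by norm_num)).1 (h3 ▸ Commute.one_left _)
    have h5 := moves
    rw [h4] at h5
    exact absurd h5 (by decide)
  · rw [coe_top, centralizer_univ, M.fm.tm.center]

end Cfsg.Agent.S5883
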