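import Cfsg.Statements.S5895
import Cfsg.Agent.S5914

set_option autoImplicit false
open Cfsg

namespace Cfsg.Agent.S5895

/-- For every prime p and every d ≥ 2 there is a finite group G with a maximal subgroup M of index p^d and a maximal subgroup H of M that is not second maximal in G: some maximal subgroup K of G contains H without H being maximal in K. (One may take G the affine group V ⋊ GL(V) of V = 𝔽_p^d, M = GL(V), H the stabiliser in M of a line W of V, and K = V ⋊ H, with H < W ⋊ H < K.) So the prime-index hypothesis in the second-maximality criterion cannot be relaxed to prime-power index. -/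
theorem result (p d : ℕ) (hp : p.Prime)
    (hd : 2 ≤ d) :
    ∃ (G : Type) (_ : Group G) (_ : Finite G) (M H K : Subgroup G), IsCoatom M ∧ M.index = p ^ d ∧ H ≤ M ∧
      IsCoatom (H.subgroupOf M) ∧ IsCoatom K ∧ H ≤ K ∧ ¬ IsCoatom (H.subgroupOf K) := by
  classical
  haveI : Fact p.Prime := ⟨hp⟩
  let S := Multiplicative (ZMod p)
  haveI : IsSimpleGroup S := isSimpleGroup_of_prime_card (p := p) (by simp [S])
  let V := Fin d → S
  let Irr : Subgroup (MulAut V) → Prop := fun A =>
    ∀ W : Subgroup V, (∀ a ∈ A, ∀ w ∈ W, a w ∈ W) → W = ⊥ ∨ W = ⊤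
  have hT : Irr ⊤ := fun W hW => Cfsg.Agent.S5914.aux_back d W
    (Subgroup.characteristic_iff_le_comap.2 fun φ w hw => hW φ (Subgroup.mem_top _) w hw)
  obtain ⟨A, hA, hmin⟩ := Set.exists_min_image {A : Subgroup (MulAut V) | Irr A}
    (fun A => Nat.card A) (Set.toFinite _) ⟨⊤, hT⟩
  have hA' : Irr A := hA
  have hA0 : A ≠ ⊥ := by
    intro h
    let i0 : Fin d := ⟨0, by omega⟩
    let i1 : Fin d := ⟨1, by omega⟩
    have h01 : i0 ≠ i1 := by simp [i0, i1]
    obtain ⟨s, hs⟩ := exists_ne (1 : S)
    rcases hA' (Pi.evalMonoidHom (fun _ : Fin d => S) i0).ker (fun a ha w hw => by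
      rw [h, Subgroup.mem_bot] at ha
      rw [ha]; exact hw) with h1 | h1
    · have : (Pi.mulSingle i1 s : V) ∈ (Pi.evalMonoidHom (fun _ : Fin d => S) i0).ker := by
        show (Pi.mulSingle i1 s : V) i0 = 1
        simp [h01]
      rw [h1, Subgroup.mem_bot] at this
      have := congrFun this i1
      simp at this
      exact hs this
    · have : (Pi.mulSingle i0 s : V) ∈ (Pi.evalMonoidHom (fun _ : Fin d => S) i0).ker :=
        h1 ▸ Subgroup.mem_top _
      have h2 : (Pi.mulSingle i0 s : V) i0 = 1 := this
      simp at h2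
      exact hs h2
  haveI : Nontrivial A := (Subgroup.nontrivial_iff_ne_bot A).2 hA0
  obtain ⟨H0, hH0, -⟩ := (eq_top_or_exists_le_coatom (⊥ : Subgroup A)).resolve_left bot_ne_top
  have hred : ¬ Irr (H0.map A.subtype) := by
    intro h
    have h1 := hmin _ h
    simp only [Subgroup.card_map_of_injective A.subtype_injective] at h1
    exact hH0.1 (Subgroup.eq_top_of_le_card H0 h1)
  simp only [Irr] at hred
  push Not at hred
  obtain ⟨W, hW, hW0, hW1⟩ := hred
  let G := V ⋊[A.subtype] A
  haveI : Finite G := Finite.of_equiv _ SemidirectProduct.equivProd.symm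
  let M : Subgroup G := (SemidirectProduct.inr : A →* G).range
  have hMmem : ∀ g : G, g ∈ M ↔ g.left = 1 := by
    intro g
    constructor
    · rintro ⟨a, rfl⟩; rfl
    · intro h
      exact ⟨g.right, SemidirectProduct.ext h.symm rfl⟩
  refine ⟨G, inferInstance, inferInstance, M, H0.map SemidirectProduct.inr,
    H0.comap SemidirectProduct.rightHom, ?_, ?_, ?_, ?_, ?_, ?_, ?_⟩
  · obtain ⟨v, hv⟩ : ∃ v : V, v ≠ 1 := by
      by_contra hc
      push Not at hc
      apply hW0
      rw [eq_bot_iff]
      intro x _
      exact hc x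
    refine ⟨fun h => hv ((hMmem (SemidirectProduct.inl v)).1 (h ▸ Subgroup.mem_top _)), fun L hL => ?_⟩
    obtain ⟨g, hgL, hgM⟩ := SetLike.exists_of_lt hL
    have hinr : ∀ a : A, (SemidirectProduct.inr a : G) ∈ L := fun a => hL.le ⟨a, rfl⟩
    rcases hA' (L.comap SemidirectProduct.inl) (fun a ha w hw => by
      have h1 : (SemidirectProduct.inl (a w) : G) =
          SemidirectProduct.inr ⟨a, ha⟩ * SemidirectProduct.inl w * (SemidirectProduct.inr ⟨a, ha⟩)⁻¹ := by
        rw [← map_inv]
        exact SemidirectProduct.inl_aut (φ := A.subtype) ⟨a, ha⟩ w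
      show (SemidirectProduct.inl (a w) : G) ∈ L
      rw [h1]
      exact L.mul_mem (L.mul_mem (hinr _) hw) (L.inv_mem (hinr _))) with h | h
    · exfalso
      apply hgM
      rw [hMmem]
      have : g.left ∈ L.comap (SemidirectProduct.inl : V →* G) := by
        show (SemidirectProduct.inl g.left : G) ∈ L
        have h2 : (SemidirectProduct.inl g.left : G) = g * (SemidirectProduct.inr g.right)⁻¹ := by
          rw [eq_mul_inv_iff_mul_eq]; exact SemidirectProduct.inl_left_mul_inr_right g
        rw [h2]
        exact L.mul_mem hgL (L.inv_mem (hinr _))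
      rwa [h, Subgroup.mem_bot] at this
    · rw [eq_top_iff]
      intro x _
      rw [← SemidirectProduct.inl_left_mul_inr_right x]
      have : x.left ∈ L.comap (SemidirectProduct.inl : V →* G) := h ▸ Subgroup.mem_top _
      exact L.mul_mem this (hinr _)
  · have h1 := M.index_mul_card
    have h2 : Nat.card M = Nat.card A := by
      simp only [M]
      rw [MonoidHom.range_eq_map, Subgroup.card_map_of_injective SemidirectProduct.inr_injective,
        Subgroup.card_top]
    have h3 : Nat.card G = p ^ d * Nat.card A := by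
      rw [Nat.card_congr SemidirectProduct.equivProd, Nat.card_prod]
      simp [V, S]
    rw [h2, h3] at h1
    exact Nat.eq_of_mul_eq_mul_right Nat.card_pos h1
  · rintro _ ⟨a, -, rfl⟩
    exact ⟨a, rfl⟩
  · let e : A ≃* M := MonoidHom.ofInjective SemidirectProduct.inr_injective
    rw [← Subgroup.isCoatom_comap e]
    convert hH0
    ext a
    constructor
    · rintro ⟨b, hb, h⟩
      have : b = a := SemidirectProduct.inr_injective h
      exact this ▸ hb
    · intro ha
      exact ⟨a, ha, rfl⟩
  · exact Subgroup.isCoatom_comap_of_surjective SemidirectProduct.rightHom_surjective hH0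
  · rintro _ ⟨a, ha, rfl⟩
    exact ha
  · intro hc
    let L : Subgroup (H0.comap (SemidirectProduct.rightHom : G →* A)) :=
      { carrier := {g | g.1.left ∈ W}
        mul_mem' := by
          intro a b ha hb
          exact W.mul_mem ha (hW _ ⟨a.1.right, a.2, rfl⟩ _ hb)
        one_mem' := W.one_mem
        inv_mem' := by
          intro a ha
          exact hW _ ⟨a.1.right⁻¹, H0.inv_mem a.2, rfl⟩ _ (W.inv_mem ha) }
    obtain ⟨⟨w, hw⟩, hw1⟩ := Subgroup.ne_bot_iff_exists_ne_one.1 hW0
    have hw1' : w ≠ 1 := fun e => hw1 (Subtype.ext e)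
    have hlt : (H0.map SemidirectProduct.inr).subgroupOf
        (H0.comap (SemidirectProduct.rightHom : G →* A)) < L := by
      refine lt_of_le_of_ne ?_ ?_
      · rintro ⟨g, hg⟩ ⟨a, ha, h⟩
        have h' : SemidirectProduct.inr a = g := h
        show g.left ∈ W
        rw [← h']
        exact W.one_mem
      · intro h
        have h1 : (⟨SemidirectProduct.inl w, H0.one_mem⟩ :
          H0.comap (SemidirectProduct.rightHom : G →* A)) ∈ L := hw
        rw [← h] at h1
        obtain ⟨a, -, h2⟩ := h1
        have h3 := congrArg SemidirectProduct.left h2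
        exact hw1' h3.symm
    have h1 := hc.2 L hlt
    apply hW1
    rw [eq_top_iff]
    intro v _
    have h2 : (⟨SemidirectProduct.inl v, H0.one_mem⟩ :
          H0.comap (SemidirectProduct.rightHom : G →* A)) ∈ L := h1 ▸ Subgroup.mem_top _
    exact h2

end Cfsg.Agent.S5895
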